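import Mathlib.GroupTheory.Sylow
import Mathlib.GroupTheory.Complement
import Cfsg.Prelude.Def_Transfer

/-!
Normal `p`-complements.
-/

set_option autoImplicit false
set_option linter.style.haveILetI false

namespace CfsgLib.Perm

variable {G : Type*} [Group G]

/-- A normal subgroup of order prime to `p` and of `p`-power index is a normal `p`-complement. -/
theorem hasNormalPComplement_of [Finite G] {p : ℕ} [hp : Fact p.Prime] (N : Subgroup G) [hN : N.Normal]
    (h1 : ¬ p ∣ Nat.card N) (h2 : ∃ m, N.index = p ^ m) : Cfsg.HasNormalPComplement p G := by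
  obtain ⟨P⟩ := (inferInstance : Nonempty (Sylow p G))
  obtain ⟨m, hm⟩ := h2
  obtain ⟨k, hk⟩ := IsPGroup.iff_card.1 P.2
  refine ⟨P, N, hN, Subgroup.isComplement'_of_coprime ?_ ?_⟩
  · have hG := N.card_mul_index
    have hG' := (P : Subgroup G).card_mul_index
    have e : Nat.card (P : Subgroup G) = N.index := by
      rw [hk, hm]
      have h3 : p ^ k * (P : Subgroup G).index = p ^ m * Nat.card N := by
        rw [← hk, hG', ← hm, mul_comm, hG]
      have c1 : ∀ a b : ℕ, ¬ p ∣ b → (p ^ a).Coprime b := fun a b hb =>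
        (hp.out.coprime_iff_not_dvd.2 hb).pow_left a
      exact Nat.dvd_antisymm ((c1 k _ h1).dvd_of_dvd_mul_right ⟨_, h3.symm⟩)
        ((c1 m _ P.not_dvd_index).dvd_of_dvd_mul_right ⟨_, h3⟩)
    rw [e, hG]
  · rw [hk]; exact ((hp.out.coprime_iff_not_dvd.2 h1).pow_left k).symm

/-- A normal `p`-complement has order prime to `p` and `p`-power index. -/
theorem exists_of_hasNormalPComplement [Finite G] {p : ℕ} [hp : Fact p.Prime]
    (h : Cfsg.HasNormalPComplement p G) :
    ∃ N : Subgroup G, N.Normal ∧ ¬ p ∣ Nat.card N ∧ ∃ m, N.index = p ^ m := by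
  obtain ⟨P, N, hN, hc⟩ := h
  obtain ⟨k, hk⟩ := IsPGroup.iff_card.1 P.2
  refine ⟨N, hN, ?_, k, by rw [hc.symm.index_eq_card, hk]⟩
  rw [← hc.index_eq_card]
  exact P.not_dvd_index

end CfsgLib.Perm
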