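import Mathlib

/-!
Normal subgroups of multiply transitive groups: Jordan's and Wagner's theorems.
-/

set_option autoImplicit false
set_option linter.style.haveILetI false

namespace CfsgLib.Perm

open MulAction
open scoped Pointwise

theorem exists_smul_three {G α : Type*} [Group G] [MulAction G α]
    (hG : IsMultiplyPretransitive G α 3) {a b c a' b' c' : α}
    (hab : a ≠ b) (hac : a ≠ c) (hbc : b ≠ c) (hab' : a' ≠ b') (hac' : a' ≠ c') (hbc' : b' ≠ c') :
    ∃ g : G, g • a = a' ∧ g • b = b' ∧ g • c = c' := by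
  have mkemb : ∀ {x y z : α}, x ≠ y → x ≠ z → y ≠ z → Function.Injective ![x, y, z] := by
    intro x y z h1 h2 h3 i j
    fin_cases i <;> fin_cases j <;> simp [h1, h2, h3, Ne.symm h1, Ne.symm h2, Ne.symm h3]
  obtain ⟨g, hg⟩ := hG.exists_smul_eq ⟨_, mkemb hab hac hbc⟩ ⟨_, mkemb hab' hac' hbc'⟩
  exact ⟨g, DFunLike.congr_fun hg 0, DFunLike.congr_fun hg 1, DFunLike.congr_fun hg 2⟩

theorem exists_smul_two {G α : Type*} [Group G] [MulAction G α]
    (hG : IsMultiplyPretransitive G α 2) {a b c d : α} (hab : a ≠ b) (hcd : c ≠ d) :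
    ∃ g : G, g • a = c ∧ g • b = d :=
  is_two_pretransitive_iff.1 hG hab hcd

theorem card_ofStabilizer_add_one {G α : Type*} [Group G] [MulAction G α] [Finite α] (a : α) :
    Nat.card (SubMulAction.ofStabilizer G a) + 1 = Nat.card α := by
  classical
  haveI := Fintype.ofFinite α
  have h1 : Nat.card (SubMulAction.ofStabilizer G a) = Nat.card {x : α // x ≠ a} :=
    Nat.card_congr (Equiv.subtypeEquivRight fun _ => Iff.rfl)
  have hn : 0 < Fintype.card α := Fintype.card_pos_iff.2 ⟨a⟩
  rw [h1, Nat.card_eq_fintype_card, Nat.card_eq_fintype_card, Fintype.card_subtype_compl,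
    Fintype.card_subtype_eq]
  omega

theorem faithfulSMul_ofStabilizer {G α : Type*} [Group G] [MulAction G α] [FaithfulSMul G α] (a : α) :
    FaithfulSMul (stabilizer G a) (SubMulAction.ofStabilizer G a) := by
  refine ⟨fun {g h} e => Subtype.ext (eq_of_smul_eq_smul fun x : α => ?_)⟩
  by_cases hx : x = a
  · subst hx
    exact g.2.trans h.2.symm
  · exact congrArg Subtype.val (e ⟨x, hx⟩)

/-- Transitivity of `N` and multiple transitivity of `N_a` on the other points. -/
theorem multi_succ_of_subgroupOf {G α : Type*} [Group G] [MulAction G α] (N : Subgroup G)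
    [IsPretransitive N α] (a : α) {n : ℕ}
    (h : IsMultiplyPretransitive (N.subgroupOf (stabilizer G a)) (SubMulAction.ofStabilizer G a) n) :
    IsMultiplyPretransitive N α n.succ := by
  rw [SubMulAction.ofStabilizer.isMultiplyPretransitive (a := a)]
  refine ⟨fun x y => ?_⟩
  let toG : SubMulAction.ofStabilizer N a → SubMulAction.ofStabilizer G a := fun z => ⟨z.1, z.2⟩
  have hinj : Function.Injective toG := fun z w e => Subtype.ext (congrArg (fun q : SubMulAction.ofStabilizer G a => (q : α)) e)
  obtain ⟨g, hg⟩ := h.exists_smul_eq (x.trans ⟨toG, hinj⟩) (y.trans ⟨toG, hinj⟩)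
  refine ⟨⟨⟨((g : stabilizer G a) : G), g.2⟩, (g : stabilizer G a).2⟩, ?_⟩
  ext i
  exact congrArg Subtype.val (DFunLike.congr_fun hg i)

theorem isPretransitive_of_normal {G α : Type*} [Group G] [MulAction G α] [FaithfulSMul G α]
    (hG : IsMultiplyPretransitive G α 2) (N : Subgroup G) [N.Normal] (hN : N ≠ ⊥) :
    IsPretransitive N α := by
  haveI := isPreprimitive_of_is_two_pretransitive hG
  refine IsQuasiPreprimitive.isPretransitive_of_normal (G := G) fun h => hN ((Subgroup.eq_bot_iff_forall N).2 fun n hn => ?_)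
  refine eq_of_smul_eq_smul fun x : α => ?_
  have hx : x ∈ fixedPoints N α := h ▸ Set.mem_univ x
  rw [one_smul]; exact hx ⟨n, hn⟩

/-- **Jordan's theorem** on normal subgroups of multiply transitive groups. -/
theorem jordan_normal : ∀ (k : ℕ), 2 ≤ k → ∀ {G α : Type*} [Group G] [MulAction G α] [FaithfulSMul G α]
    [Finite α] (_ : k < Nat.card α) (_ : IsMultiplyPretransitive G α k) (N : Subgroup G) [N.Normal],
    N ≠ ⊥ → IsMultiplyPretransitive N α (k - 1) ∨ (k = 3 ∧ ∀ n ∈ N, n ^ 2 = 1) := by
  intro k hk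
  induction k, hk using Nat.le_induction with
  | base =>
    intro G α _ _ _ _ _ hG N _ hN
    exact Or.inl (is_one_pretransitive_iff.2 (isPretransitive_of_normal hG N hN))
  | succ k hk ih =>
    intro G α _ _ _ _ hdeg hG N _ hN
    classical
    haveI := hG
    have h2 : IsMultiplyPretransitive G α 2 := isMultiplyPretransitive_of_le (n := k + 1) (by omega) hdeg.le
    haveI hNt : IsPretransitive N α := isPretransitive_of_normal h2 N hN
    haveI : IsPretransitive G α := isPretransitive_of_is_two_pretransitive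
    haveI : Nonempty α := (Nat.card_pos_iff.1 (by omega : 0 < Nat.card α)).1
    obtain ⟨a⟩ := (inferInstance : Nonempty α)
    have hst : IsMultiplyPretransitive (stabilizer G a) (SubMulAction.ofStabilizer G a) k :=
      (SubMulAction.ofStabilizer.isMultiplyPretransitive (n := k)).1 hG
    haveI := hst
    haveI := faithfulSMul_ofStabilizer (G := G) a
    have hc := card_ofStabilizer_add_one (G := G) a
    have hk' : k < Nat.card (SubMulAction.ofStabilizer G a) := by omega
    set N' := N.subgroupOf (stabilizer G a)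
    by_cases hN' : N' = ⊥
    · -- `N` is regular, and `G_a` acts on it by conjugation
      have hreg : ∀ n ∈ N, n • a = a → n = 1 := fun n hn he => by
        have h3 : (⟨n, he⟩ : stabilizer G a) ∈ N' := hn
        rw [hN', Subgroup.mem_bot] at h3
        exact congrArg Subtype.val h3
      have hinj : ∀ x ∈ N, ∀ y ∈ N, x • a = y • a → x = y := fun x hx y hy e => by
        refine (inv_mul_eq_one.1 (hreg _ (N.mul_mem (N.inv_mem hy) hx) ?_)).symm
        rw [mul_smul, e, inv_smul_smul]
      have hne : ∀ x ∈ N, x ≠ 1 → x • a ≠ a := fun x hx h1 e => h1 (hreg x hx e)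
      have hconj : ∀ h : G, h • a = a → ∀ x ∈ N, ∀ y ∈ N, h • (x • a) = y • a → h * x * h⁻¹ = y := by
        intro h hh x hx y hy e
        refine hinj _ (Subgroup.Normal.conj_mem inferInstance x hx h) y hy ?_
        rw [mul_smul, mul_smul, inv_smul_eq_iff.2 hh.symm]
        exact e
      have h2' : IsMultiplyPretransitive (stabilizer G a) (SubMulAction.ofStabilizer G a) 2 :=
        isMultiplyPretransitive_of_le (n := k) hk hk'.le
      have hfour : ∀ l : List G, l.length < Nat.card α → ∃ b ∈ N, b ∉ l := by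
        intro l hl
        by_contra hcon
        push Not at hcon
        have hsub : (Set.univ : Set α) ⊆ ↑((l.map (fun b => b • a)).toFinset) := by
          intro x _
          obtain ⟨⟨b, hb⟩, hbx⟩ := exists_smul_eq N a x
          simp only [List.coe_toFinset, Set.mem_setOf_eq, List.mem_map]
          exact ⟨b, hcon b hb, hbx⟩
        have := Set.ncard_le_ncard hsub
        rw [Set.ncard_univ, Set.ncard_coe_finset] at this
        have := List.toFinset_card_le (l.map (fun b => b • a))
        rw [List.length_map] at this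
        omega
      have hexp : ∀ x ∈ N, x ^ 2 = 1 := by
        intro x hx
        by_contra h1
        have hx1 : x ≠ 1 := fun e => h1 (by rw [e, one_pow])
        have hxi : x⁻¹ ≠ x := fun e => h1 (by rw [pow_two]; exact inv_eq_iff_mul_eq_one.1 e)
        obtain ⟨b, hb, hbl⟩ := hfour [1, x, x⁻¹] (by simp only [List.length_cons, List.length_nil]; omega)
        simp only [List.mem_cons, List.not_mem_nil, or_false, not_or] at hbl
        obtain ⟨h, e1, e2⟩ := exists_smul_two h2'           (a := ⟨x • a, hne x hx hx1⟩) (b := ⟨x⁻¹ • a, hne _ (N.inv_mem hx) (inv_ne_one.2 hx1)⟩)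
          (c := ⟨x • a, hne x hx hx1⟩) (d := ⟨b • a, hne b hb hbl.1⟩)
          (fun e => hxi (hinj _ (N.inv_mem hx) x hx (congrArg Subtype.val e).symm))
          (fun e => hbl.2.1 (hinj b hb x hx (congrArg Subtype.val e).symm))
        have f1 := hconj h h.2 x hx x hx (congrArg Subtype.val e1)
        have f2 := hconj h h.2 _ (N.inv_mem hx) b hb (congrArg Subtype.val e2)
        rw [← conj_inv, f1] at f2
        exact hbl.2.2 f2.symm
      rcases eq_or_lt_of_le hk with hk2 | hk3
      · exact Or.inr ⟨by omega, hexp⟩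
      · exfalso
        have h3' : IsMultiplyPretransitive (stabilizer G a) (SubMulAction.ofStabilizer G a) 3 :=
          isMultiplyPretransitive_of_le (n := k) hk3 hk'.le
        obtain ⟨x, hx, hxl⟩ := hfour [1] (by simp only [List.length_cons, List.length_nil]; omega)
        obtain ⟨y, hy, hyl⟩ := hfour [1, x] (by simp only [List.length_cons, List.length_nil]; omega)
        obtain ⟨c, hcm, hcl⟩ := hfour [1, x, y, x * y] (by simp only [List.length_cons, List.length_nil]; omega)
        simp only [List.mem_cons, List.not_mem_nil, or_false, not_or] at hxl hyl hcl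
        have hxy : x * y ∈ N := N.mul_mem hx hy
        have hxy1 : x * y ≠ 1 := fun e => hyl.2 (by
          have := hexp x hx
          rw [pow_two] at this
          exact mul_left_cancel (e.trans this.symm))
        obtain ⟨h, e1, e2, e3⟩ := exists_smul_three h3'
          (a := ⟨x • a, hne x hx hxl⟩) (b := ⟨y • a, hne y hy hyl.1⟩) (c := ⟨(x * y) • a, hne _ hxy hxy1⟩)
          (a' := ⟨x • a, hne x hx hxl⟩) (b' := ⟨y • a, hne y hy hyl.1⟩) (c' := ⟨c • a, hne c hcm hcl.1⟩)
          (fun e => hyl.2 (hinj y hy x hx (congrArg Subtype.val e).symm))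
          (fun e => hyl.1 (mul_eq_left.1 (hinj _ hxy x hx (congrArg Subtype.val e).symm)))
          (fun e => hxl (mul_eq_right.1 (hinj _ hxy y hy (congrArg Subtype.val e).symm)))
          (fun e => hyl.2 (hinj y hy x hx (congrArg Subtype.val e).symm))
          (fun e => hcl.2.1 (hinj c hcm x hx (congrArg Subtype.val e).symm))
          (fun e => hcl.2.2.1 (hinj c hcm y hy (congrArg Subtype.val e).symm))
        have f1 := hconj h h.2 x hx x hx (congrArg Subtype.val e1)
        have f2 := hconj h h.2 y hy y hy (congrArg Subtype.val e2)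
        have f3 := hconj h h.2 _ hxy c hcm (congrArg Subtype.val e3)
        rw [← conj_mul, f1, f2] at f3
        exact hcl.2.2.2 f3.symm
    · rcases ih hk' hst N' hN' with h | ⟨hk3, hexp⟩
      · refine Or.inl ?_
        have := multi_succ_of_subgroupOf N a h
        rwa [Nat.succ_eq_add_one, Nat.sub_add_cancel (by omega : 1 ≤ k)] at this
      · -- `k + 1 = 4`: `N` would be sharply 2-transitive with a 2-group stabiliser
        exfalso
        have h2' : IsMultiplyPretransitive (stabilizer G a) (SubMulAction.ofStabilizer G a) 2 :=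
          isMultiplyPretransitive_of_le (n := k) hk hk'.le
        haveI hN't : IsPretransitive N' (SubMulAction.ofStabilizer G a) := isPretransitive_of_normal h2' N' hN'
        have hN2 : IsMultiplyPretransitive N α 2 := multi_succ_of_subgroupOf N a (is_one_pretransitive_iff.2 hN't)
        have hcomm : ∀ x y : N', x * y = y * x := fun x y => by
          have h1 : ∀ z : N', z * z = 1 := fun z => Subtype.ext (by simpa [pow_two] using hexp z z.2)
          have hi : ∀ z : N', z⁻¹ = z := fun z => inv_eq_iff_mul_eq_one.2 (h1 z)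
          calc x * y = (x * y)⁻¹ := (hi _).symm
            _ = _ := by rw [mul_inv_rev, hi, hi]
        have hsharp : ∀ n ∈ N, ∀ b : α, b ≠ a → n • a = a → n • b = b → n = 1 := by
          intro n hn b hb hna hnb
          have hz : ∀ z : SubMulAction.ofStabilizer G a, (⟨⟨n, hna⟩, hn⟩ : N') • z = z := fun z => by
            obtain ⟨m, hm⟩ := exists_smul_eq N' (⟨b, hb⟩ : SubMulAction.ofStabilizer G a) z
            rw [← hm, smul_smul, hcomm, ← smul_smul]
            congr 1
            exact Subtype.ext hnb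
          refine eq_of_smul_eq_smul fun x : α => ?_
          by_cases hx : x = a
          · rw [hx, hna, one_smul]
          · rw [one_smul]; exact congrArg Subtype.val (hz ⟨x, hx⟩)
        have hsharp' : ∀ n ∈ N, ∀ b c : α, b ≠ c → n • b = b → n • c = c → n = 1 := by
          intro n hn b c hbc hb hc'
          obtain ⟨⟨m, hm⟩, e⟩ := exists_smul_eq N b a
          change m • b = a at e
          have h1 := hsharp (m * n * m⁻¹) (N.mul_mem (N.mul_mem hm hn) (N.inv_mem hm)) (m • c)
            (by rw [← e]; exact fun h => hbc (smul_left_cancel m h).symm)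
            (by rw [← e, mul_smul, mul_smul, inv_smul_smul, hb])
            (by rw [mul_smul, mul_smul, inv_smul_smul, hc'])
          simpa [mul_inv_eq_one] using h1
        have hinv : ∀ n ∈ N, ∀ b : α, n • b = b → n * n = 1 := by
          intro n hn b hb
          obtain ⟨⟨m, hm⟩, e⟩ := exists_smul_eq N b a
          change m • b = a at e
          have h2 : (m * n * m⁻¹) • a = a := by rw [← e, mul_smul, mul_smul, inv_smul_smul, hb]
          have h1 : (m * n * m⁻¹) ^ 2 = 1 := congrArg Subtype.val
            (hexp ⟨m * n * m⁻¹, h2⟩ (N.mul_mem (N.mul_mem hm hn) (N.inv_mem hm)))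
          have h4 := congrArg (fun z => m⁻¹ * z * m) h1
          simpa [pow_two, mul_assoc] using h4
        -- count pairs `(x, z)`: the element fixing `x` that sends `a` to `z`
        have key : ∀ p : {p : α × α // p.1 ≠ a ∧ p.2 ≠ a ∧ p.2 ≠ p.1}, ∃ n ∈ N, n • p.1.1 = p.1.1 ∧ n • a = p.1.2 := by
          rintro ⟨⟨x, z⟩, h1, h2, h3⟩
          obtain ⟨⟨n, hn⟩, e1, e2⟩ := exists_smul_two hN2 (a := x) (b := a) (c := x) (d := z) h1 (Ne.symm h3)
          exact ⟨n, hn, e1, e2⟩
        choose f hfN hfx hfa using key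
        have hf : ∀ p q : {p : α × α // p.1 ≠ a ∧ p.2 ≠ a ∧ p.2 ≠ p.1}, p.1.2 = q.1.2 → p = q := by
          rintro ⟨⟨x, z⟩, h1, h2, h3⟩ ⟨⟨x', z'⟩, h1', h2', h3'⟩ (e : z = z')
          subst e
          set P : {p : α × α // p.1 ≠ a ∧ p.2 ≠ a ∧ p.2 ≠ p.1} := ⟨(x, z), h1, h2, h3⟩
          set Q : {p : α × α // p.1 ≠ a ∧ p.2 ≠ a ∧ p.2 ≠ p.1} := ⟨(x', z), h1', h2', h3'⟩
          have swapz : ∀ R : {p : α × α // p.1 ≠ a ∧ p.2 ≠ a ∧ p.2 ≠ p.1}, f R • R.1.2 = a := fun R => by
            rw [← hfa R, smul_smul, hinv _ (hfN R) _ (hfx R), one_smul]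
          have heq : (f Q)⁻¹ * f P = 1 := hsharp' _ (N.mul_mem (N.inv_mem (hfN Q)) (hfN P)) a z (Ne.symm h2)
            (by rw [mul_smul, inv_smul_eq_iff, hfa P, hfa Q])
            (by rw [mul_smul, inv_smul_eq_iff, show f P • z = a from swapz P, show f Q • z = a from swapz Q])
          have hfe : f P = f Q := (inv_mul_eq_one.1 heq).symm
          have hxx : x = x' := by
            by_contra hne
            have h1P : f P = 1 := hsharp' _ (hfN P) x x' hne (hfx P) (by rw [hfe]; exact hfx Q)
            exact h2 (by rw [← show f P • a = z from hfa P, h1P, one_smul])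
          subst hxx
          rfl
        haveI := Fintype.ofFinite α
        have hle : Nat.card {p : α × α // p.1 ≠ a ∧ p.2 ≠ a ∧ p.2 ≠ p.1} ≤ Nat.card α :=
          Nat.card_le_card_of_injective (fun p => p.1.2) hf
        have hcount : Nat.card {p : α × α // p.1 ≠ a ∧ p.2 ≠ a ∧ p.2 ≠ p.1} =
            (Fintype.card α - 1) * (Fintype.card α - 2) := by
          rw [Nat.card_congr ((Equiv.subtypeProdEquivSigmaSubtype fun x z => x ≠ a ∧ z ≠ a ∧ z ≠ x)),
            Nat.card_sigma]
          have hx : ∀ x : α, Nat.card {z : α // x ≠ a ∧ z ≠ a ∧ z ≠ x} = if x = a then 0 else Fintype.card α - 2 := by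
            intro x
            split_ifs with hxa
            · haveI : IsEmpty {z : α // x ≠ a ∧ z ≠ a ∧ z ≠ x} := ⟨fun z => z.2.1 hxa⟩
              exact Nat.card_of_isEmpty
            · rw [Nat.card_eq_fintype_card, Fintype.card_subtype,
                show (Finset.univ.filter fun z => x ≠ a ∧ z ≠ a ∧ z ≠ x) = ({a, x} : Finset α)ᶜ by
                  ext z; simp [hxa], Finset.card_compl, Finset.card_pair (Ne.symm hxa)]
          simp only [hx]
          rw [Finset.sum_ite, Finset.sum_const_zero, zero_add, Finset.sum_const, smul_eq_mul,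
            Finset.filter_ne' , Finset.card_erase_of_mem (Finset.mem_univ a), Finset.card_univ]
        rw [hcount, Nat.card_eq_fintype_card] at hle
        rw [Nat.card_eq_fintype_card] at hdeg
        obtain ⟨d, hd⟩ : ∃ d, Fintype.card α = d + 5 := ⟨Fintype.card α - 5, by omega⟩
        rw [hd, show d + 5 - 1 = d + 4 by omega, show d + 5 - 2 = d + 3 by omega] at hle
        nlinarith

/-- **Wagner's theorem.** -/
theorem wagner_normal {G α : Type*} [Group G] [MulAction G α] [FaithfulSMul G α] [Finite α] [Finite G]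
    (hodd : Odd (Nat.card α)) (h5 : 5 ≤ Nat.card α) (hG : IsMultiplyPretransitive G α 3)
    (N : Subgroup G) [N.Normal] (hN : N ≠ ⊥) : IsMultiplyPretransitive N α 3 := by
  classical
  haveI : Fact (Nat.Prime 2) := ⟨Nat.prime_two⟩
  haveI := hG
  have h2 : IsMultiplyPretransitive G α 2 := isMultiplyPretransitive_of_le (n := 3) (by omega) (by omega)
  haveI hNt : IsPretransitive N α := isPretransitive_of_normal h2 N hN
  haveI : Nonempty α := (Nat.card_pos_iff.1 (by omega : 0 < Nat.card α)).1
  haveI : Nontrivial α := Finite.one_lt_card_iff_nontrivial.1 (by omega)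
  have hN2 : IsMultiplyPretransitive N α 2 := by
    rcases jordan_normal 3 (by omega) (by omega : 3 < Nat.card α) hG N hN with h | ⟨-, hexp⟩
    · exact h
    · exfalso
      have hp : IsPGroup 2 N := fun n => ⟨1, by rw [pow_one]; exact Subtype.ext (hexp n n.2)⟩
      obtain ⟨a⟩ := (inferInstance : Nonempty α)
      obtain ⟨e, he⟩ := hp.index (stabilizer N a)
      rw [index_stabilizer_of_transitive] at he
      rw [he] at hodd h5
      rcases e with _ | e
      · simp at h5
      · exact (Nat.not_even_iff_odd.2 hodd) ((Nat.even_pow.2 ⟨even_two, e.succ_ne_zero⟩))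
  -- some element of `N` swaps two points and fixes a third, hence any two and any third
  obtain ⟨a₀, b₀, hab₀⟩ := exists_pair_ne α
  obtain ⟨t₀, ht₀a, ht₀b⟩ := exists_smul_two hN2 (a := a₀) (b := b₀) (c := b₀) (d := a₀) hab₀ (Ne.symm hab₀)
  obtain ⟨e, m, hm, hme⟩ := Nat.exists_eq_pow_mul_and_not_dvd (orderOf_pos t₀).ne' 2 (by omega)
  set t := t₀ ^ m with ht
  have hmodd : Odd m := Nat.not_even_iff_odd.1 fun h => hm (even_iff_two_dvd.1 h)
  have hta : t • a₀ = b₀ ∧ t • b₀ = a₀ := by
    obtain ⟨j, hj⟩ := hmodd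
    have h2a : (t₀ ^ (2 * j)) • a₀ = a₀ ∧ (t₀ ^ (2 * j)) • b₀ = b₀ := by
      constructor
      · refine (stabilizer N a₀).pow_mem (x := t₀ ^ 2) ?_ j |> fun h => by rwa [← pow_mul] at h
        show t₀ ^ 2 • a₀ = a₀
        rw [pow_two, mul_smul, ht₀a, ht₀b]
      · refine (stabilizer N b₀).pow_mem (x := t₀ ^ 2) ?_ j |> fun h => by rwa [← pow_mul] at h
        show t₀ ^ 2 • b₀ = b₀
        rw [pow_two, mul_smul, ht₀b, ht₀a]
    rw [ht, hj, pow_succ', mul_smul, mul_smul, h2a.1, h2a.2]
    exact ⟨ht₀a, ht₀b⟩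
  have htp : IsPGroup 2 (Subgroup.zpowers t) := by
    refine IsPGroup.of_card (n := e) ?_
    rw [Nat.card_zpowers, ht, orderOf_pow, hme, Nat.gcd_mul_left_left, Nat.mul_div_cancel _ (Nat.pos_of_ne_zero (by rintro rfl; exact hm (dvd_zero 2)))]
  obtain ⟨z₀, hz₀⟩ := htp.nonempty_fixed_point_of_prime_not_dvd_card α
    (fun h => (Nat.not_even_iff_odd.2 hodd) (even_iff_two_dvd.2 h))
  have htz : t • z₀ = z₀ := hz₀ ⟨t, Subgroup.mem_zpowers t⟩
  have hzab : z₀ ≠ a₀ ∧ z₀ ≠ b₀ :=
    ⟨fun h => hab₀ (by rw [h, hta.1] at htz; exact htz.symm), fun h => hab₀ (by rw [h, hta.2] at htz; exact htz)⟩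
  have swap : ∀ a b c : α, a ≠ b → a ≠ c → b ≠ c → ∃ s : N, s • a = b ∧ s • b = a ∧ s • c = c := by
    intro a b c h1 h2 h3
    obtain ⟨g, g1, g2, g3⟩ := exists_smul_three hG hab₀ (Ne.symm hzab.1) (Ne.symm hzab.2) h1 h2 h3
    refine ⟨⟨g * (t : G) * g⁻¹, Subgroup.Normal.conj_mem inferInstance _ t.2 g⟩, ?_, ?_, ?_⟩
    · show (g * (t : G) * g⁻¹) • a = b
      rw [← g1, mul_smul, mul_smul, inv_smul_smul, show (t : G) • a₀ = b₀ from hta.1, g2]
    · show (g * (t : G) * g⁻¹) • b = a
      rw [← g2, mul_smul, mul_smul, inv_smul_smul, show (t : G) • b₀ = a₀ from hta.2, g1]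
    · show (g * (t : G) * g⁻¹) • c = c
      rw [← g3, mul_smul, mul_smul, inv_smul_smul, show (t : G) • z₀ = z₀ from htz]
  let F : α → α → Subgroup N := fun a b => stabilizer N a ⊓ stabilizer N b
  have hFcard : ∀ a b a' b' : α, a ≠ b → a' ≠ b' → Nat.card (F a b) = Nat.card (F a' b') := by
    intro a b a' b' h h'
    obtain ⟨n, n1, n2⟩ := exists_smul_two hN2 h h'
    have : F a' b' = (F a b).map (MulAut.conj n).toMonoidHom := by
      rw [Subgroup.map_inf _ _ _ (MulAut.conj n).injective, ← stabilizer_smul_eq_stabilizer_map_conj,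
        ← stabilizer_smul_eq_stabilizer_map_conj, n1, n2]
    rw [this]
    exact (Subgroup.card_map_of_injective (MulAut.conj n).injective).symm
  let T : α → α → α → Subgroup N := fun a b c => stabilizer N a ⊓ stabilizer N b ⊓ stabilizer N c
  have hTcard : ∀ a b c a' b' c' : α, a ≠ b → a ≠ c → b ≠ c → a' ≠ b' → a' ≠ c' → b' ≠ c' →
      Nat.card (T a b c) = Nat.card (T a' b' c') := by
    intro a b c a' b' c' h1 h2 h3 h1' h2' h3'
    obtain ⟨g, g1, g2, g3⟩ := exists_smul_three hG h1 h2 h3 h1' h2' h3'
    refine Nat.card_congr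
      { toFun := fun n => ⟨⟨g * (n.1 : G) * g⁻¹, Subgroup.Normal.conj_mem inferInstance _ n.1.2 g⟩, ?_⟩
        invFun := fun n => ⟨⟨g⁻¹ * (n.1 : G) * g, Subgroup.Normal.conj_mem' inferInstance _ n.1.2 g⟩, ?_⟩
        left_inv := fun n => Subtype.ext (Subtype.ext (by simp [mul_assoc]))
        right_inv := fun n => Subtype.ext (Subtype.ext (by simp [mul_assoc])) }
    · obtain ⟨⟨m1, m2⟩, m3⟩ := n.2
      refine ⟨⟨?_, ?_⟩, ?_⟩
      · show (g * (n.1 : G) * g⁻¹) • a' = a'
        rw [← g1, mul_smul, mul_smul, inv_smul_smul, show (n.1 : G) • a = a from m1]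
      · show (g * (n.1 : G) * g⁻¹) • b' = b'
        rw [← g2, mul_smul, mul_smul, inv_smul_smul, show (n.1 : G) • b = b from m2]
      · show (g * (n.1 : G) * g⁻¹) • c' = c'
        rw [← g3, mul_smul, mul_smul, inv_smul_smul, show (n.1 : G) • c = c from m3]
    · obtain ⟨⟨m1, m2⟩, m3⟩ := n.2
      refine ⟨⟨?_, ?_⟩, ?_⟩
      · show (g⁻¹ * (n.1 : G) * g) • a = a
        rw [mul_smul, mul_smul, g1, show (n.1 : G) • a' = a' from m1, inv_smul_eq_iff, g1]
      · show (g⁻¹ * (n.1 : G) * g) • b = b
        rw [mul_smul, mul_smul, g2, show (n.1 : G) • b' = b' from m2, inv_smul_eq_iff, g2]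
      · show (g⁻¹ * (n.1 : G) * g) • c = c
        rw [mul_smul, mul_smul, g3, show (n.1 : G) • c' = c' from m3, inv_smul_eq_iff, g3]
  -- the two-point stabiliser is transitive on the other points
  have htrans : ∀ a b c d : α, a ≠ b → a ≠ c → b ≠ c → a ≠ d → b ≠ d → d ∈ orbit (F a b) c := by
    intro a b c d hab hac hbc had hbd
    by_contra hcon
    set K := F a b
    have hKfix : ∀ k : K, (k : N) • a = a ∧ (k : N) • b = b := fun k => k.2
    set Q : Sylow 2 K := default
    -- a Sylow 2-subgroup of `K` fixes a third point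
    obtain ⟨c₁, hc₁a, hc₁b, hc₁⟩ : ∃ c₁, a ≠ c₁ ∧ b ≠ c₁ ∧ c₁ ∈ fixedPoints (Q : Subgroup K) α := by
      by_contra hno
      push Not at hno
      have hfix : fixedPoints (Q : Subgroup K) α = {a, b} := by
        refine Set.Subset.antisymm (fun x hx => ?_) ?_
        · by_contra hx'
          simp only [Set.mem_insert_iff, Set.mem_singleton_iff, not_or] at hx'
          exact hno x (Ne.symm hx'.1) (Ne.symm hx'.2) hx
        · rintro x (rfl | rfl) <;> intro q
          · exact (hKfix q).1
          · exact (hKfix q).2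
      have hmod := Q.2.card_modEq_card_fixedPoints α
      rw [hfix, Nat.card_coe_set_eq, Set.ncard_pair hab] at hmod
      obtain ⟨j, hj⟩ := hodd
      rw [hj] at hmod
      simp [Nat.ModEq, Nat.add_mod] at hmod
    have horbit_odd : ∀ x, a ≠ x → b ≠ x → ¬ 2 ∣ Nat.card (orbit K x) := by
      intro x hax hbx h2x
      rw [Nat.card_coe_set_eq, ← index_stabilizer] at h2x
      have hsz : ∀ y, a ≠ y → b ≠ y → Nat.card (stabilizer K y) = Nat.card (T a b y) := fun y _ _ =>
        Nat.card_congr
          { toFun := fun k => ⟨k.1.1, ⟨k.1.2, k.2⟩⟩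
            invFun := fun n => ⟨⟨n.1, n.2.1⟩, n.2.2⟩
            left_inv := fun k => rfl
            right_inv := fun n => rfl }
      have hidx : (stabilizer K x).index = (stabilizer K c₁).index := by
        refine Nat.eq_of_mul_eq_mul_left (Nat.card_pos (α := stabilizer K x)) ?_
        rw [Subgroup.card_mul_index, hsz x hax hbx, hTcard a b x a b c₁ hab hax hbx hab hc₁a hc₁b,
          ← hsz c₁ hc₁a hc₁b, Subgroup.card_mul_index]
      rw [hidx] at h2x
      exact Q.not_dvd_index (h2x.trans (Subgroup.index_dvd_of_le fun q hq => hc₁ ⟨q, hq⟩))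
    set S := stabilizer N ({a, b} : Set α)
    have hmemS : ∀ s : N, s ∈ S → (s • a = a ∧ s • b = b) ∨ (s • a = b ∧ s • b = a) := by
      intro s hs
      have e : s • ({a, b} : Set α) = {a, b} := hs
      have ha : s • a ∈ ({a, b} : Set α) := e ▸ Set.smul_mem_smul_set (Set.mem_insert a {b})
      have hb : s • b ∈ ({a, b} : Set α) := e ▸ Set.smul_mem_smul_set (Set.mem_insert_of_mem a rfl)
      simp only [Set.mem_insert_iff, Set.mem_singleton_iff] at ha hb
      rcases ha with ha | ha <;> rcases hb with hb | hb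
      · exact absurd (smul_left_cancel s (ha.trans hb.symm)) hab
      · exact Or.inl ⟨ha, hb⟩
      · exact Or.inr ⟨ha, hb⟩
      · exact absurd (smul_left_cancel s (ha.trans hb.symm)) hab
    have hinvar : ∀ x, a ≠ x → b ≠ x → ∀ s : S, ∀ y ∈ orbit K x, (s : N) • y ∈ orbit K x := by
      rintro x hax hbx s _ ⟨k, rfl⟩
      show (s : N) • ((k : N) • x) ∈ orbit K x
      rw [smul_smul]
      rcases hmemS _ s.2 with ⟨h1, h2⟩ | ⟨h1, h2⟩
      · exact ⟨⟨(s : N) * k, by
          show ((s : N) * k) • a = a
          rw [mul_smul, (hKfix k).1, h1], by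
          show ((s : N) * k) • b = b
          rw [mul_smul, (hKfix k).2, h2]⟩, rfl⟩
      · obtain ⟨w, w1, w2, w3⟩ := swap a b x hab hax hbx
        refine ⟨⟨(s : N) * k * w, ?_, ?_⟩, ?_⟩
        · show ((s : N) * k * w) • a = a
          rw [mul_smul, w1, mul_smul, (hKfix k).2, h2]
        · show ((s : N) * k * w) • b = b
          rw [mul_smul, w2, mul_smul, (hKfix k).1, h1]
        · show ((s : N) * k * w) • x = _
          rw [mul_smul, w3]
    set R : Sylow 2 S := default
    have hfp : ∀ x, a ≠ x → b ≠ x → ∃ y ∈ orbit K x, ∀ r ∈ (R : Subgroup S), (r : N) • y = y := by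
      intro x hax hbx
      letI : MulAction (R : Subgroup S) (orbit K x) :=
        { smul := fun r y => ⟨((r : S) : N) • y.1, hinvar x hax hbx r y.1 y.2⟩
          one_smul := fun y => Subtype.ext (one_smul N y.1)
          mul_smul := fun r s y => Subtype.ext (mul_smul ((r : S) : N) ((s : S) : N) y.1) }
      obtain ⟨y, hy⟩ := R.2.nonempty_fixed_point_of_prime_not_dvd_card (orbit K x) (horbit_odd x hax hbx)
      exact ⟨y.1, y.2, fun r hr => congrArg Subtype.val (hy ⟨r, hr⟩)⟩
    obtain ⟨c', hc', hcR⟩ := hfp c hac hbc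
    obtain ⟨d', hd', hdR⟩ := hfp d had hbd
    have hcd : c' ≠ d' := fun e => hcon (by
      rw [← orbit_eq_iff.2 hc', e, orbit_eq_iff.2 hd']
      exact mem_orbit_self d)
    have hRle : (R : Subgroup S).map S.subtype ≤ F c' d' := by
      rintro _ ⟨r, hr, rfl⟩
      exact ⟨hcR r hr, hdR r hr⟩
    have hdvd : Nat.card (R : Subgroup S) ∣ Nat.card K := by
      have e : Nat.card ((R : Subgroup S).map S.subtype) = Nat.card (R : Subgroup S) :=
        Subgroup.card_map_of_injective S.subtype_injective
      rw [hFcard a b c' d' hab hcd, ← e]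
      exact Subgroup.card_dvd_of_le hRle
    have hScard : Nat.card S = Nat.card K * 2 := by
      have horb : orbit S a = {a, b} := by
        refine Set.Subset.antisymm ?_ ?_
        · rintro _ ⟨s, rfl⟩
          rcases hmemS _ s.2 with ⟨h1, -⟩ | ⟨h1, -⟩
          · exact Or.inl h1
          · exact Or.inr h1
        · rintro x (rfl | rfl)
          · exact mem_orbit_self x
          · obtain ⟨w, w1, w2, -⟩ := swap a x c hab hac hbc
            refine ⟨⟨w, ?_⟩, w1⟩
            show w • ({a, x} : Set α) = {a, x}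
            rw [Set.smul_set_insert, Set.smul_set_singleton, w1, w2, Set.pair_comm]
      rw [← Subgroup.card_mul_index (stabilizer S a), index_stabilizer, horb, Set.ncard_pair hab]
      congr 1
      refine Nat.card_congr
        { toFun := fun s => ⟨s.1.1, s.2, ?_⟩
          invFun := fun k => ⟨⟨k.1, ?_⟩, k.2.1⟩
          left_inv := fun s => rfl
          right_inv := fun k => rfl }
      · rcases hmemS _ s.1.2 with ⟨-, h2⟩ | ⟨h1, -⟩
        · exact h2
        · exact absurd ((s.2 : (s.1 : N) • a = a).symm.trans h1) hab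
      · show (k : N) • ({a, b} : Set α) = {a, b}
        rw [Set.smul_set_insert, Set.smul_set_singleton, (hKfix k).1, (hKfix k).2]
    rw [Sylow.card_eq_multiplicity, hScard] at hdvd
    rw [Nat.Prime.pow_dvd_iff_le_factorization Nat.prime_two Nat.card_pos.ne',
      Nat.factorization_mul Nat.card_pos.ne' (by omega : (2 : ℕ) ≠ 0), Finsupp.add_apply,
      Nat.Prime.factorization_self Nat.prime_two] at hdvd
    omega
  refine ⟨fun x y => ?_⟩
  obtain ⟨n, n1, n2⟩ := exists_smul_two hN2 (x.injective.ne (show (0 : Fin 3) ≠ 1 by decide))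
    (y.injective.ne (show (0 : Fin 3) ≠ 1 by decide))
  have ne02 : y 0 ≠ n • x 2 := by
    rw [← n1]; exact fun e => absurd (x.injective (smul_left_cancel n e)) (by decide)
  have ne12 : y 1 ≠ n • x 2 := by
    rw [← n2]; exact fun e => absurd (x.injective (smul_left_cancel n e)) (by decide)
  obtain ⟨⟨k, k1, k2⟩, hk⟩ := htrans (y 0) (y 1) (n • x 2) (y 2) (y.injective.ne (by decide)) ne02 ne12
    (y.injective.ne (by decide)) (y.injective.ne (by decide))
  refine ⟨k * n, ?_⟩
  ext i
  rw [Function.Embedding.smul_apply, mul_smul]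
  fin_cases i
  · show k • n • x 0 = y 0
    rw [n1]; exact k1
  · show k • n • x 1 = y 1
    rw [n2]; exact k2
  · exact hk

end CfsgLib.Perm
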