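import Cfsg.Agent.Solv.TransferTools
import Cfsg.Agent.Fus.CoreBasic
import Cfsg.Agent.Solv.CoprimeAction

/-!
Hall–Higman Lemma 1.2.3 for `p`-solvable groups.
-/

set_option autoImplicit false
set_option linter.style.haveILetI false

open scoped commutatorElement

namespace CfsgLib.Perm

variable {G : Type*} [Group G] [Finite G] {p : ℕ} [Fact p.Prime]

theorem centralizer_pCore_le_of_pSolvable (hG : Cfsg.IsPSolvable p G) (hO : Cfsg.pPrimeCore p G = ⊥) :
    Subgroup.centralizer (Cfsg.pCore p G : Set G) ≤ Cfsg.pCore p G := by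
  classical
  have hp := (Fact.out : p.Prime)
  set P₀ := Cfsg.pCore p G
  haveI hP₀ : P₀.Normal := CfsgLib.Solv.pCore_normal G p
  obtain ⟨n, H, h0, hlast, hmono, hHn, hstep⟩ := hG
  set C := Subgroup.centralizer (P₀ : Set G)
  haveI hCn : C.Normal := Subgroup.normal_centralizer
  suffices ∀ i : Fin (n + 1), C ⊓ H i ≤ P₀ by
    have := this (Fin.last n)
    rwa [hlast, inf_top_eq] at this
  intro i
  induction i using Fin.induction with
  | zero => rw [h0, inf_bot_eq]; exact bot_le
  | succ i ih =>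
    haveI := hHn i.castSucc
    haveI := hHn i.succ
    set D := C ⊓ H i.succ with hD
    set Z := C ⊓ H i.castSucc with hZ
    have hle : H i.castSucc ≤ H i.succ := hmono i.castSucc_le_succ
    have hZD : Z ≤ D := inf_le_inf_left _ hle
    have hdvd : Z.relIndex D ∣ (H i.castSucc).relIndex (H i.succ) := by
      have e : Z.relIndex D = (H i.castSucc).relIndex D := by
        rw [← Subgroup.inf_relIndex_right (H i.castSucc) D, hD, hZ, ← inf_assoc, inf_comm (H i.castSucc) C, inf_assoc,
          inf_eq_left.2 hle]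
      rw [e]
      rw [← Subgroup.relIndex_subgroupOf (inf_le_right : D ≤ H i.succ)]
      exact Subgroup.relIndex_dvd_index_of_normal _ _
    have hZp : IsPGroup p Z := (CfsgLib.Solv.pCore_isPGroup G p).to_le ih
    obtain ⟨a, ha⟩ := IsPGroup.iff_card.1 hZp
    have hcard := CfsgLib.Solv.relIndex_mul_card hZD
    rcases hstep i with ⟨m, hm⟩ | hco
    · obtain ⟨b, -, hb⟩ := (Nat.dvd_prime_pow hp).1 (hm ▸ hdvd)
      exact CfsgLib.Solv.le_pCore (IsPGroup.of_card (n := a + b) (by rw [← hcard, ha, hb, pow_add]))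
    · have hco' : (Z.relIndex D).Coprime p := hco.coprime_dvd_left hdvd
      -- `Z` is a central Sylow subgroup of `D`
      have hcent : ∀ z ∈ Z, ∀ d ∈ D, z * d = d * z := fun z hz d hd =>
        Subgroup.mem_centralizer_iff.1 hd.1 z (ih hz)
      have hZS : IsPGroup p (Z.subgroupOf D) := hZp.comap_of_injective _ D.subtype_injective
      set S := hZS.toSylow (fun h => hp.coprime_iff_not_dvd.1 hco'.symm h)
      have hS : Cfsg.HasNormalPComplement p D := by
        refine CfsgLib.Solv.hnpc_of_normalizer_le_centralizer S fun d _ => ?_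
        rw [Subgroup.mem_centralizer_iff]
        intro z hz
        exact Subtype.ext (hcent z hz d d.2)
      have hres := CfsgLib.Solv.hnpc_iff.1 hS
      haveI : (Cfsg.pResidual p D).Normal := CfsgLib.Inv.pResidual_normal p D
      haveI : ((Cfsg.pResidual p D).map D.subtype).Normal := by
        refine ⟨fun x hx g => ?_⟩
        obtain ⟨y, hy, rfl⟩ := hx
        have hyc := (CfsgLib.Solv.hnpc_mem_iff hS).1 hy
        have hmem : g * (y : G) * g⁻¹ ∈ D := (inferInstance : D.Normal).conj_mem _ y.2 g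
        refine ⟨⟨_, hmem⟩, (CfsgLib.Solv.hnpc_mem_iff hS).2 ?_, rfl⟩
        rw [Subgroup.orderOf_mk]
        have : orderOf (g * (y : G) * g⁻¹) = orderOf (y : G) :=
          orderOf_injective (MulAut.conj g).toMonoidHom (MulAut.conj g).injective (y : G)
        rw [this, Subgroup.orderOf_coe]
        exact hyc
      have hbot : (Cfsg.pResidual p D).map D.subtype = ⊥ := by
        rw [eq_bot_iff, ← hO]
        refine CfsgLib.Fus.le_pPrimeCore inferInstance ?_
        rw [CfsgLib.Solv.card_map_subtype]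
        exact (hp.coprime_iff_not_dvd.2 hres).symm
      rw [Subgroup.map_eq_bot_iff_of_injective _ D.subtype_injective] at hbot
      refine fun x hx => ih (?_ : x ∈ Z)
      have hDp : IsPGroup p D := by
        intro d
        obtain ⟨k, u, hu, e⟩ : ∃ k u, ¬ p ∣ u ∧ orderOf d = p ^ k * u :=
          ⟨_, _, Nat.not_dvd_ordCompl hp (orderOf_pos d).ne', (Nat.ordProj_mul_ordCompl_eq_self _ p).symm⟩
        refine ⟨k, ?_⟩
        have h1 : d ^ p ^ k ∈ Cfsg.pResidual p D := (CfsgLib.Solv.hnpc_mem_iff hS).2 (by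
          rw [orderOf_pow' _ (pow_ne_zero _ hp.ne_zero), e, Nat.gcd_eq_right (dvd_mul_right _ _),
            Nat.mul_div_cancel_left _ (pow_pos hp.pos _)]
          exact (hp.coprime_iff_not_dvd.2 hu).symm)
        rwa [hbot, Subgroup.mem_bot] at h1
      obtain ⟨b, hb⟩ := IsPGroup.iff_card.1 hDp
      have h1 : Z.relIndex D = 1 := Nat.Coprime.eq_one_of_dvd (hco'.pow_right b) (hb ▸ ⟨_, hcard.symm.trans (mul_comm _ _)⟩)
      exact Subgroup.relIndex_eq_one.1 h1 hx

/-- `G / O_p(G)` acts faithfully on the Frattini quotient of `O_p(G)` when `O_{p'}(G) = 1`. -/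
theorem mem_pCore_of_trivial_on_frattini (hG : Cfsg.IsPSolvable p G) (hO : Cfsg.pPrimeCore p G = ⊥) {g : G}
    (hg : ∀ x ∈ Cfsg.pCore p G, ⁅g, x⁆ ∈ (frattini ↥(Cfsg.pCore p G)).map (Cfsg.pCore p G).subtype) :
    g ∈ Cfsg.pCore p G := by
  classical
  have hp := (Fact.out : p.Prime)
  set P := Cfsg.pCore p G
  haveI hPn : P.Normal := CfsgLib.Solv.pCore_normal G p
  set F := (frattini ↥P).map P.subtype
  haveI hFn : F.Normal := ConjAct.normal_of_characteristic_of_normal
  let K : Submonoid G :=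
    { carrier := {u | ∀ x ∈ P, ⁅u, x⁆ ∈ F}
      one_mem' := fun x _ => by rw [commutatorElement_one_left]; exact F.one_mem
      mul_mem' := fun {a b} ha hb x hx => by
        rw [show ⁅a * b, x⁆ = a * ⁅b, x⁆ * a⁻¹ * ⁅a, x⁆ by simp only [commutatorElement_def]; group]
        exact F.mul_mem (hFn.conj_mem _ (hb x hx) a) (ha x hx) }
  let K' : Subgroup G :=
    { K with
      inv_mem' := fun {u} hu => by
        obtain ⟨k, hk⟩ : ∃ k, u⁻¹ = u ^ k := ⟨orderOf u - 1, inv_eq_of_mul_eq_one_right (by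
          rw [← pow_succ', Nat.sub_add_cancel (orderOf_pos u), pow_orderOf_eq_one])⟩
        show u⁻¹ ∈ K
        rw [hk]
        exact Submonoid.pow_mem K hu k }
  haveI : K'.Normal := ⟨fun u hu c x hx => by
    rw [show ⁅c * u * c⁻¹, x⁆ = c * ⁅u, c⁻¹ * x * c⁆ * c⁻¹ by simp only [commutatorElement_def]; group]
    exact hFn.conj_mem _ (hu _ (by simpa using hPn.conj_mem x hx c⁻¹)) c⟩
  have hKp : IsPGroup p K' := by
    rintro ⟨u, hu⟩
    obtain ⟨k, m, hm, e⟩ : ∃ k m, ¬ p ∣ m ∧ orderOf u = p ^ k * m :=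
      ⟨_, _, Nat.not_dvd_ordCompl hp (orderOf_pos u).ne', (Nat.ordProj_mul_ordCompl_eq_self _ p).symm⟩
    refine ⟨k, Subtype.ext ?_⟩
    show u ^ p ^ k = 1
    have hord : orderOf (u ^ p ^ k) = m := by
      rw [orderOf_pow' _ (pow_ne_zero _ hp.ne_zero), e, Nat.gcd_eq_right (dvd_mul_right _ _),
        Nat.mul_div_cancel_left _ (pow_pos hp.pos _)]
    obtain ⟨a, ha⟩ := IsPGroup.iff_card.1 ((CfsgLib.Solv.pCore_isPGroup G p).to_subgroup (frattini ↥P))
    have hc : Subgroup.zpowers (u ^ p ^ k) ≤ Subgroup.centralizer (P : Set G) := by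
      refine CfsgLib.Solv.le_centralizer_of_trivial_on_frattini_quotient ?_ fun b hb x hx => ?_
      · rw [Nat.card_zpowers, hord, ha]
        exact (hp.coprime_iff_not_dvd.2 hm).symm.pow_right a
      · exact (Subgroup.zpowers_le.2 (K'.pow_mem hu _) hb : b ∈ K') x hx
    have hmem := centralizer_pCore_le_of_pSolvable hG hO (hc (Subgroup.mem_zpowers _))
    obtain ⟨j, hj⟩ := CfsgLib.Solv.pCore_isPGroup G p ⟨_, hmem⟩
    have h2 := orderOf_dvd_of_pow_eq_one (congrArg Subtype.val hj : (u ^ p ^ k) ^ p ^ j = 1)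
    rw [hord] at h2
    have : m = 1 := Nat.Coprime.eq_one_of_dvd ((hp.coprime_iff_not_dvd.2 hm).symm.pow_right j) h2
    rwa [← orderOf_eq_one_iff, hord]
  exact CfsgLib.Solv.le_pCore (N := K') hKp hg

theorem isPSolvable_quotient (hG : Cfsg.IsPSolvable p G) (N : Subgroup G) [N.Normal] : Cfsg.IsPSolvable p (G ⧸ N) := by
  obtain ⟨n, H, h0, hlast, hmono, hHn, hstep⟩ := hG
  refine ⟨n, fun i => (H i).map (QuotientGroup.mk' N), by show Subgroup.map _ (H 0) = ⊥; rw [h0, Subgroup.map_bot], ?_, fun i j hij => Subgroup.map_mono (hmono hij),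
    fun i => (hHn i).map _ (QuotientGroup.mk'_surjective N), fun i => ?_⟩
  · show Subgroup.map _ (H (Fin.last n)) = ⊤
    rw [hlast, ← MonoidHom.range_eq_map, MonoidHom.range_eq_top.2 (QuotientGroup.mk'_surjective N)]
  · haveI := hHn i.castSucc
    have hd : ((H i.castSucc).map (QuotientGroup.mk' N)).relIndex ((H i.succ).map (QuotientGroup.mk' N)) ∣
        (H i.castSucc).relIndex (H i.succ) := by
      rw [Subgroup.relIndex_map_map, QuotientGroup.ker_mk']
      have hle : H i.castSucc ≤ H i.succ := hmono i.castSucc_le_succ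
      rw [show H i.succ ⊔ N = H i.succ ⊔ (H i.castSucc ⊔ N) by rw [← sup_assoc, sup_eq_left.2 hle], Subgroup.relIndex_sup_right]
      exact Subgroup.relIndex_dvd_of_le_left _ le_sup_left
    rcases hstep i with ⟨m, hm⟩ | hco
    · obtain ⟨j, -, hj⟩ := (Nat.dvd_prime_pow (Fact.out : p.Prime)).1 (hm ▸ hd)
      exact Or.inl ⟨j, hj⟩
    · exact Or.inr (hco.coprime_dvd_left hd)

end CfsgLib.Perm
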