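import Mathlib.GroupTheory.Sylow
import Mathlib.GroupTheory.GroupAction.ConjAct
import Mathlib.GroupTheory.Index
import Mathlib.GroupTheory.SpecificGroups.Cyclic
import Cfsg.Agent.Solv.Basic

/-!
Elementary counting lemmas for finite groups.
-/

set_option autoImplicit false
set_option linter.style.haveILetI false

open scoped Pointwise

namespace CfsgLib.Perm

variable {G : Type*} [Group G]

/-- A finite group is not the union of the conjugates of a proper subgroup. -/
theorem exists_forall_not_mem_conj [Finite G] {H : Subgroup G} (hH : H ≠ ⊤) :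
    ∃ x : G, ∀ g : G, g⁻¹ * x * g ∉ H := by
  classical
  by_contra hcon
  push Not at hcon
  choose g hg using hcon
  have hf : ∀ x : G, (g x : G ⧸ H).out⁻¹ * x * (g x : G ⧸ H).out ∈ H := by
    intro x
    obtain ⟨h, hh⟩ := QuotientGroup.mk_out_eq_mul H (g x)
    rw [hh]
    have := H.mul_mem (H.mul_mem (H.inv_mem h.2) (hg x)) h.2
    simpa [mul_assoc] using this
  let f : G → (G ⧸ H) × H := fun x => ((g x : G ⧸ H), ⟨_, hf x⟩)
  have finj : Function.Injective f := by
    intro x y hxy
    have h1 : (g x : G ⧸ H) = (g y : G ⧸ H) := congrArg Prod.fst hxy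
    have h2 : (g x : G ⧸ H).out⁻¹ * x * (g x : G ⧸ H).out
        = (g y : G ⧸ H).out⁻¹ * y * (g y : G ⧸ H).out :=
      congrArg (fun z : (G ⧸ H) × H => (z.2 : G)) hxy
    rw [h1] at h2
    simpa using h2
  have hcard : Nat.card ((G ⧸ H) × H) = Nat.card G := by
    rw [Nat.card_prod, ← Subgroup.card_eq_card_quotient_mul_card_subgroup]
  have hbij := (Nat.bijective_iff_injective_and_card f).2 ⟨finj, hcard.symm⟩
  have hidx : H.index ≠ 1 := fun h => hH (Subgroup.index_eq_one.1 h)
  have h2 : 1 < Nat.card (G ⧸ H) := lt_of_le_of_ne Nat.card_pos (Ne.symm hidx)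
  haveI : Nontrivial (G ⧸ H) := Finite.one_lt_card_iff_nontrivial.1 h2
  obtain ⟨q, hq⟩ := exists_ne (g 1 : G ⧸ H)
  obtain ⟨x, hx⟩ := hbij.2 (q, 1)
  have hx1 : (g x : G ⧸ H) = q := congrArg Prod.fst hx
  have hx2 : (g x : G ⧸ H).out⁻¹ * x * (g x : G ⧸ H).out = 1 :=
    congrArg (fun z : (G ⧸ H) × H => (z.2 : G)) hx
  have hx3 : x = 1 := by
    have h3 := congrArg (fun y => (g x : G ⧸ H).out * y * (g x : G ⧸ H).out⁻¹) hx2
    simpa [mul_assoc] using h3
  rw [hx3] at hx1
  exact hq hx1.symm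

/-- If every element of `G` has a conjugate in `H`, then `H = ⊤`. -/
theorem eq_top_of_forall_conj_mem [Finite G] {H : Subgroup G}
    (h : ∀ x : G, ∃ g : G, g⁻¹ * x * g ∈ H) : H = ⊤ := by
  by_contra hH
  obtain ⟨x, hx⟩ := exists_forall_not_mem_conj hH
  obtain ⟨g, hg⟩ := h x
  exact hx g hg

/-- An element whose order is prime to `n` is an `n`-th power of a power of itself. -/
theorem mem_zpowers_pow {x : G} {n : ℕ} (h : (orderOf x).Coprime n) :
    x ∈ Subgroup.zpowers (x ^ n) := by
  obtain ⟨m, hm⟩ := exists_pow_eq_self_of_coprime h.symm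
  exact ⟨(m : ℤ), by simpa using hm⟩

theorem mem_of_pow_mem_of_coprime {x : G} {n : ℕ} {H : Subgroup G}
    (h : (orderOf x).Coprime n) (hx : x ^ n ∈ H) : x ∈ H :=
  Subgroup.zpowers_le.2 hx (mem_zpowers_pow h)

/-- `[KA : K] = [A : K ∩ A]` for `A` normal. -/
theorem relIndex_sup_eq_of_normal [Finite G] (K A : Subgroup G) [A.Normal] :
    K.relIndex (K ⊔ A) = K.relIndex A := by
  have h1 := CfsgLib.Solv.relIndex_mul_card (le_sup_left : K ≤ K ⊔ A)
  have h2 := CfsgLib.Solv.relIndex_mul_card (inf_le_right : K ⊓ A ≤ A)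
  rw [Subgroup.inf_relIndex_right] at h2
  have h3 := CfsgLib.Solv.card_sup_mul_card_inf K A
  have h4 : 0 < Nat.card K * Nat.card (K ⊓ A : Subgroup G) :=
    Nat.mul_pos Nat.card_pos Nat.card_pos
  refine Nat.eq_of_mul_eq_mul_left h4 ?_
  calc Nat.card K * Nat.card (K ⊓ A : Subgroup G) * K.relIndex (K ⊔ A)
      = (Nat.card K * K.relIndex (K ⊔ A)) * Nat.card (K ⊓ A : Subgroup G) := by ring
    _ = Nat.card K * Nat.card A := by rw [h1, h3]
    _ = Nat.card K * (Nat.card (K ⊓ A : Subgroup G) * K.relIndex A) := by rw [h2]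
    _ = _ := by ring

/-- In a finite nilpotent group, `x ^ [G : K] ∈ K` for every subgroup `K`. -/
theorem pow_index_mem_of_isNilpotent [Finite G] [Group.IsNilpotent G] (K : Subgroup G) (x : G) :
    x ^ K.index ∈ K := by
  induction K using WellFoundedGT.induction with
  | _ K ih =>
    rcases eq_or_ne K ⊤ with rfl | hK
    · simp
    · set N := Subgroup.normalizer (K : Set G) with hN
      have hlt : K < N := normalizerCondition_of_isNilpotent K (lt_top_iff_ne_top.2 hK)
      haveI : (K.subgroupOf N).Normal :=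
        Subgroup.normal_subgroupOf_of_le_normalizer le_rfl
      have h := Subgroup.pow_index_mem (K.subgroupOf N) (⟨x ^ N.index, ih N hlt⟩ : N)
      rw [Subgroup.mem_subgroupOf, SubmonoidClass.coe_pow, ← pow_mul] at h
      rwa [← Subgroup.relIndex_mul_index hlt.le, mul_comm]

/-- If all prime-power parts of `x` lie in `K`, so does `x`. -/
theorem mem_of_forall_pow_ordCompl_mem [Finite G] {x : G} {K : Subgroup G}
    (h : ∀ p : ℕ, p.Prime → x ^ (orderOf x / p ^ (orderOf x).factorization p) ∈ K) : x ∈ K := by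
  by_contra hx
  classical
  have hex : ∃ d : ℕ, 0 < d ∧ x ^ d ∈ K := ⟨orderOf x, orderOf_pos x, by simp [pow_orderOf_eq_one]⟩
  obtain ⟨hd0, hdK⟩ := Nat.find_spec hex
  set d := Nat.find hex with hd
  have hdvd : ∀ m : ℕ, x ^ m ∈ K → d ∣ m := by
    intro m hm
    by_contra hnd
    have hpos : 0 < m % d := Nat.pos_of_ne_zero fun h0 => hnd (Nat.dvd_of_mod_eq_zero h0)
    have hmem : x ^ (m % d) ∈ K := by
      have h1 : x ^ m = x ^ (m % d) * (x ^ d) ^ (m / d) := by
        rw [← pow_mul, ← pow_add, Nat.mod_add_div]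
      have h2 := K.mul_mem hm (K.inv_mem (K.pow_mem hdK (m / d)))
      rw [h1] at h2
      simpa using h2
    exact absurd (Nat.find_min' hex ⟨hpos, hmem⟩) (not_le.2 (Nat.mod_lt _ hd0))
  have hd1 : d ≠ 1 := fun h1 => hx (by simpa [h1] using hdK)
  obtain ⟨r, hr, hrd⟩ := Nat.exists_prime_and_dvd hd1
  exact (Nat.not_dvd_ordCompl hr (orderOf_pos x).ne') (hrd.trans (hdvd _ (h r hr)))

/-- A finite group with a Sylow subgroup `P` centralised by an element `x` of `p`-power order
contains `x` in `P`. -/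
theorem mem_sylow_of_commute {p : ℕ} [Fact p.Prime] (P : Sylow p G) {x : G}
    (hx : ∃ k : ℕ, x ^ p ^ k = 1) (hc : ∀ y ∈ (P : Subgroup G), y * x = x * y) :
    x ∈ (P : Subgroup G) := by
  obtain ⟨k, hk⟩ := hx
  have hxp : IsPGroup p (Subgroup.zpowers x) := by
    rintro ⟨y, hy⟩
    obtain ⟨i, rfl⟩ := Subgroup.mem_zpowers_iff.1 hy
    refine ⟨k, Subtype.ext ?_⟩
    show (x ^ i) ^ p ^ k = 1
    rw [← zpow_natCast, ← zpow_mul, mul_comm, zpow_mul, zpow_natCast, hk, one_zpow]
  have hle : Subgroup.zpowers x ≤ Subgroup.normalizer ((P : Subgroup G) : Set G) := by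
    rw [Subgroup.zpowers_le, Subgroup.mem_normalizer_iff]
    intro y
    constructor
    · intro hy
      rw [← hc y hy, mul_inv_cancel_right]
      exact hy
    · intro hy
      have h1 := hc _ hy
      have h2 : x * y * x⁻¹ = y := by
        have h3 : x * y = x * (x * y * x⁻¹) := by
          rw [← h1]; group
        exact (mul_left_cancel h3).symm
      rwa [h2] at hy
  have h := hxp.to_sup_of_normal_right' P.2 hle
  have heq : Subgroup.zpowers x ⊔ (P : Subgroup G) = (P : Subgroup G) := P.3 h le_sup_right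
  exact heq ▸ Subgroup.mem_sup_left (Subgroup.mem_zpowers x)

end CfsgLib.Perm
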