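import Mathlib.GroupTheory.Nilpotent
import Cfsg.Agent.Perm.Basic

/-!
Elements of smallest non-trivial class size and abelian normal subgroups.
-/

set_option autoImplicit false
set_option linter.style.haveILetI false

namespace CfsgLib.Perm

open scoped commutatorElement

variable {G : Type*} [Group G]

/-- In a finite `p`-group a non-trivial normal subgroup meets the centre non-trivially. -/
theorem inf_center_ne_bot [Finite G] {p : ℕ} [Fact p.Prime] (hG : IsPGroup p G) (N : Subgroup G)
    [N.Normal] (hN : N ≠ ⊥) : N ⊓ Subgroup.center G ≠ ⊥ := by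
  have hG' : IsPGroup p (ConjAct G) := hG.of_equiv ConjAct.toConjAct
  have hnt : Nontrivial N := (Subgroup.nontrivial_iff_ne_bot N).2 hN
  obtain ⟨n, hn0, hn⟩ := (IsPGroup.nontrivial_iff_card (hG.to_subgroup N)).1 hnt
  have h1 : (1 : N) ∈ MulAction.fixedPoints (ConjAct G) N := fun g => smul_one g
  obtain ⟨b, hb, hb1⟩ := hG'.exists_fixed_point_of_prime_dvd_card_of_fixed_point N
    (hn ▸ dvd_pow_self p hn0.ne') h1
  refine fun h => hb1 (Subtype.ext ?_).symm
  have hbc : (b : G) ∈ Subgroup.center G := by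
    rw [Subgroup.mem_center_iff]
    intro g
    have h2 := congrArg Subtype.val (hb (ConjAct.toConjAct g))
    rw [ConjAct.Subgroup.val_conj_smul, ConjAct.toConjAct_smul] at h2
    exact mul_inv_eq_iff_eq_mul.1 h2
  have h3 : (b : G) ∈ N ⊓ Subgroup.center G := ⟨b.2, hbc⟩
  rw [h, Subgroup.mem_bot] at h3
  exact h3

/-- If `x` has least class size among non-central elements and `A` is normal abelian, then
`[A, x]` is central. -/
theorem commutator_mem_center_of_min_class [Finite G] (A : Subgroup G) [A.Normal]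
    (hA : IsMulCommutative A) (x : G)
    (hx : (Subgroup.centralizer ({x} : Set G)).index = 1 ∨
      ∀ y : G, 1 < (Subgroup.centralizer ({y} : Set G)).index →
        (Subgroup.centralizer ({x} : Set G)).index ≤ (Subgroup.centralizer ({y} : Set G)).index)
    {a : G} (ha : a ∈ A) : a * x * a⁻¹ * x⁻¹ ∈ Subgroup.center G := by
  classical
  have hcen : ∀ z : G, (Subgroup.centralizer ({z} : Set G)).index = 1 → z ∈ Subgroup.center G := by
    intro z hz
    rw [Subgroup.index_eq_one] at hz
    rw [Subgroup.mem_center_iff]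
    intro y
    exact Subgroup.mem_centralizer_singleton_iff.1 (hz ▸ Subgroup.mem_top y)
  rcases hx with hx | hx
  · have h := Subgroup.mem_center_iff.1 (hcen x hx) a
    rw [h, mul_inv_cancel_right, mul_inv_cancel]
    exact one_mem _
  have hmemA : ∀ b ∈ A, b * x * b⁻¹ * x⁻¹ ∈ A := by
    intro b hb
    have := A.mul_mem hb (Subgroup.Normal.conj_mem ‹_› b⁻¹ (inv_mem hb) x)
    simpa [mul_assoc] using this
  haveI := hA
  let f : A →* G :=
    { toFun := fun b => b * x * (b : G)⁻¹ * x⁻¹
      map_one' := by simp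
      map_mul' := fun b c => by
        have hcomm : ∀ u ∈ A, ∀ v ∈ A, u * v = v * u := fun u hu v hv =>
          congrArg Subtype.val (mul_comm' (⟨u, hu⟩ : A) ⟨v, hv⟩)
        have h1 := hcomm _ b.2 _ (hmemA _ c.2)
        calc ((b * c : A) : G) * x * ((b * c : A) : G)⁻¹ * x⁻¹
            = ((b : G) * ((c : G) * x * (c : G)⁻¹ * x⁻¹)) * ((b : G)⁻¹) * ((b : G) * x * (b : G)⁻¹ * x⁻¹) := by
              simp only [Subgroup.coe_mul, mul_inv_rev]; group
          _ = ((c : G) * x * (c : G)⁻¹ * x⁻¹) * ((b : G) * x * (b : G)⁻¹ * x⁻¹) := by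
              rw [h1]; group
          _ = _ := hcomm _ (hmemA _ c.2) _ (hmemA _ b.2) }
  set Cx := Subgroup.centralizer ({x} : Set G) with hCx
  set D := f.range with hD
  have hker : f.ker = Cx.subgroupOf A := by
    ext b
    rw [MonoidHom.mem_ker, Subgroup.mem_subgroupOf, hCx, Subgroup.mem_centralizer_singleton_iff]
    show (b : G) * x * (b : G)⁻¹ * x⁻¹ = 1 ↔ _
    rw [mul_inv_eq_one, mul_inv_eq_iff_eq_mul]
  have hcardD : Nat.card D = Cx.relIndex A := by
    rw [← Subgroup.index_ker, hker]; rfl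
  set y := a * x * a⁻¹ * x⁻¹ with hy
  have hyD : y ∈ D := ⟨⟨a, ha⟩, rfl⟩
  by_contra hyc
  set S := Cx ⊔ A with hS
  set Cy := Subgroup.centralizer ({y} : Set G) with hCy
  have hSD : ∀ s ∈ S, ∀ d ∈ D, s * d * s⁻¹ ∈ D := by
    have h1 : Cx ≤ Subgroup.normalizer (D : Set G) := by
      rw [CfsgLib.Solv.le_normalizer_iff_forall_conj_mem]
      rintro c hc d ⟨b, rfl⟩
      refine ⟨⟨c * b * c⁻¹, Subgroup.Normal.conj_mem ‹_› _ b.2 c⟩, ?_⟩
      have hcx : c * x = x * c := Subgroup.mem_centralizer_singleton_iff.1 hc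
      have hcx' : c⁻¹ * x = x * c⁻¹ := (Commute.inv_left hcx).eq
      show c * b * c⁻¹ * x * (c * b * c⁻¹)⁻¹ * x⁻¹ = c * (b * x * (b : G)⁻¹ * x⁻¹) * c⁻¹
      calc c * b * c⁻¹ * x * (c * b * c⁻¹)⁻¹ * x⁻¹
          = c * b * (c⁻¹ * x) * c * (b : G)⁻¹ * c⁻¹ * x⁻¹ := by group
        _ = c * b * x * (b : G)⁻¹ * (c⁻¹ * x⁻¹) := by rw [hcx']; group
        _ = c * b * x * (b : G)⁻¹ * (x⁻¹ * c⁻¹) := by rw [(Commute.inv_inv hcx).eq]
        _ = _ := by group
    have h2 : A ≤ Subgroup.normalizer (D : Set G) := by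
      rw [CfsgLib.Solv.le_normalizer_iff_forall_conj_mem]
      rintro c hc d ⟨b, rfl⟩
      have h3 := congrArg Subtype.val (mul_comm' (⟨c, hc⟩ : A) ⟨_, hmemA _ b.2⟩)
      simp only [Subgroup.coe_mul] at h3
      refine ⟨b, ?_⟩
      show (b : G) * x * (b : G)⁻¹ * x⁻¹ = c * ((b : G) * x * (b : G)⁻¹ * x⁻¹) * c⁻¹
      rw [h3, mul_inv_cancel_right]
    exact CfsgLib.Solv.le_normalizer_iff_forall_conj_mem.1 (sup_le h1 h2)
  have hy1 : y ≠ 1 := fun h => hyc (h ▸ one_mem _)
  have hlt : Cy.relIndex S < Nat.card D := by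
    let g : S ⧸ Cy.subgroupOf S → D := fun q =>
      ⟨(q.out : G) * y * (q.out : G)⁻¹, hSD _ q.out.2 _ hyD⟩
    have hinj : Function.Injective g := by
      intro q r hqr
      have h1 : (q.out : G) * y * (q.out : G)⁻¹ = (r.out : G) * y * (r.out : G)⁻¹ :=
        congrArg Subtype.val hqr
      rw [← q.out_eq, ← r.out_eq]
      apply QuotientGroup.eq.2
      rw [Subgroup.mem_subgroupOf]
      refine Subgroup.mem_centralizer_singleton_iff.2 ?_
      have h2 := congrArg (fun t => (q.out : G)⁻¹ * t * (r.out : G)) h1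
      simp only [Subgroup.coe_mul, InvMemClass.coe_inv]
      simpa [mul_assoc] using h2.symm
    have hone : (1 : D) ∉ Set.range g := by
      rintro ⟨q, hq⟩
      have h1 : (q.out : G) * y * (q.out : G)⁻¹ = 1 := congrArg Subtype.val hq
      exact hy1 (conj_eq_one_iff.1 h1)
    show Nat.card (S ⧸ Cy.subgroupOf S) < Nat.card D
    have hne : Set.range g ≠ Set.univ := fun h => hone (h ▸ Set.mem_univ _)
    rw [← Nat.card_range_of_injective hinj, ← Nat.card_univ (α := D)]
    exact Set.ncard_lt_ncard (Set.ssubset_univ_iff.2 hne)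
  have h1 : Cy.index ≤ Cy.relIndex S * S.index := by
    calc Cy.index ≤ (Cy ⊓ S).index :=
          Nat.le_of_dvd (Nat.pos_of_ne_zero Subgroup.index_ne_zero_of_finite)
            (Subgroup.index_dvd_of_le inf_le_left)
      _ = (Cy ⊓ S).relIndex S * S.index := (Subgroup.relIndex_mul_index inf_le_right).symm
      _ = _ := by rw [Subgroup.inf_relIndex_right]
  have h2 : Cy.relIndex S * S.index < Cx.index := by
    rw [← Subgroup.relIndex_mul_index (le_sup_left : Cx ≤ S), relIndex_sup_eq_of_normal,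
      ← hcardD]
    exact Nat.mul_lt_mul_of_pos_right hlt (Nat.pos_of_ne_zero Subgroup.index_ne_zero_of_finite)
  have h3 : 1 < Cy.index := by
    have h4 : Cy.index ≠ 0 := Subgroup.index_ne_zero_of_finite
    have h5 : Cy.index ≠ 1 := fun h => hyc (hcen y h)
    omega
  exact absurd (hx y h3) (not_le.2 (lt_of_le_of_lt h1 h2))

/-- In a finite `p`-group there is a normal abelian subgroup equal to its centraliser. -/
theorem exists_self_centralizing_normal_abelian [Finite G] {p : ℕ} [Fact p.Prime]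
    (hG : IsPGroup p G) :
    ∃ A : Subgroup G, A.Normal ∧ IsMulCommutative A ∧ Subgroup.centralizer (A : Set G) = A := by
  obtain ⟨A, hA⟩ := (Set.toFinite {A : Subgroup G | A.Normal ∧ IsMulCommutative A}).exists_maximal
    ⟨⊥, inferInstance, ⟨⟨fun a b => Subsingleton.elim _ _⟩⟩⟩
  obtain ⟨hAn, hAc⟩ := hA.1
  refine ⟨A, hAn, hAc, le_antisymm ?_ (Subgroup.le_centralizer A)⟩
  set C := Subgroup.centralizer (A : Set G) with hC
  haveI := hAn
  haveI : C.Normal := inferInstance
  by_contra hle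
  set Cb := C.map (QuotientGroup.mk' A) with hCb
  haveI : Cb.Normal := Subgroup.Normal.map inferInstance _ (QuotientGroup.mk'_surjective A)
  have hne : Cb ≠ ⊥ := by
    rw [Ne, Subgroup.map_eq_bot_iff, QuotientGroup.ker_mk']; exact hle
  have hmeet := inf_center_ne_bot (hG.to_quotient A) Cb hne
  obtain ⟨⟨z', hzC, hzZ⟩, hz1⟩ := Subgroup.ne_bot_iff_exists_ne_one.1 hmeet
  obtain ⟨z, hz, rfl⟩ := hzC
  set B := (Subgroup.zpowers ((QuotientGroup.mk' A) z)).comap (QuotientGroup.mk' A) with hB
  haveI : (Subgroup.zpowers ((QuotientGroup.mk' A) z)).Normal := by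
    refine ⟨fun w hw g => ?_⟩
    have hwc : w ∈ Subgroup.center (G ⧸ A) := Subgroup.zpowers_le.2 hzZ hw
    rwa [Subgroup.mem_center_iff.1 hwc g, mul_inv_cancel_right]
  have hBdec : ∀ b ∈ B, ∃ i : ℤ, ∃ a ∈ A, b = z ^ i * a := by
    intro b hb
    obtain ⟨i, hi⟩ := Subgroup.mem_zpowers_iff.1 (Subgroup.mem_comap.1 hb)
    rw [← map_zpow] at hi
    exact ⟨i, (z ^ i)⁻¹ * b, QuotientGroup.eq.1 hi, by group⟩
  have hBc : IsMulCommutative B := by
    refine ⟨⟨fun u v => Subtype.ext ?_⟩⟩
    obtain ⟨i, a, ha, hu⟩ := hBdec u u.2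
    obtain ⟨j, b, hb, hv⟩ := hBdec v v.2
    haveI := hAc
    have hab : a * b = b * a := congrArg Subtype.val (mul_comm' (⟨a, ha⟩ : A) ⟨b, hb⟩)
    have hza : ∀ (k : ℤ) (c : G), c ∈ A → Commute (z ^ k) c := fun k c hc =>
      (show Commute z c from (Subgroup.mem_centralizer_iff.1 hz c hc).symm).zpow_left k
    show (u : G) * v = v * u
    rw [hu, hv]
    exact ((Commute.zpow_zpow_self z i j).mul_right (hza i b hb)).mul_left
      (((hza j a ha).symm).mul_right hab)
  have hAB : A ≤ B := QuotientGroup.le_comap_mk' A _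
  have hBA := hA.2 (show B ∈ {A : Subgroup G | A.Normal ∧ IsMulCommutative A} from ⟨inferInstance, hBc⟩) hAB
  apply hz1
  have : z ∈ A := hBA (Subgroup.mem_zpowers _)
  exact Subtype.ext ((QuotientGroup.eq_one_iff z).2 this)

/-- If the elements of smallest class size generate `K` then `[[K, K], K]` is central, as soon as
`G` has a self-centralizing normal abelian subgroup. -/
theorem commutator_commutator_mem_center [Finite G] (A : Subgroup G) [A.Normal]
    (hA : IsMulCommutative A) (hCA : Subgroup.centralizer (A : Set G) = A) (S : Set G)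
    (hS : ∀ x ∈ S, (Subgroup.centralizer ({x} : Set G)).index = 1 ∨
      ∀ y : G, 1 < (Subgroup.centralizer ({y} : Set G)).index →
        (Subgroup.centralizer ({x} : Set G)).index ≤ (Subgroup.centralizer ({y} : Set G)).index)
    {x y z : G} (hx : x ∈ Subgroup.closure S) (hy : y ∈ Subgroup.closure S)
    (hz : z ∈ Subgroup.closure S) : ⁅⁅x, y⁆, z⁆ ∈ Subgroup.center G := by
  set K := Subgroup.closure S with hK
  set M : Subgroup G :=
    (Subgroup.centralizer ((QuotientGroup.mk' (Subgroup.center G)) '' (A : Set G))).comap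
      (QuotientGroup.mk' (Subgroup.center G)) with hM
  have hKM : K ≤ M := by
    rw [hK, Subgroup.closure_le]
    intro w hw
    rw [hM, SetLike.mem_coe, Subgroup.mem_comap, Subgroup.mem_centralizer_iff]
    rintro _ ⟨a, ha, rfl⟩
    rw [← commutatorElement_eq_one_iff_mul_comm, ← map_commutatorElement]
    exact (QuotientGroup.eq_one_iff _).2 (commutator_mem_center_of_min_class A hA w (hS w hw) ha)
  have hAK : ⁅A, K⁆ ≤ Subgroup.center G := by
    rw [Subgroup.commutator_le]
    intro a ha k hk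
    have h1 := Subgroup.mem_centralizer_iff.1 (Subgroup.mem_comap.1 (hKM hk)) _ ⟨a, ha, rfl⟩
    rw [← commutatorElement_eq_one_iff_mul_comm, ← map_commutatorElement] at h1
    exact (QuotientGroup.eq_one_iff _).1 h1
  have h0 : ⁅⁅A, K⁆, K⁆ = ⊥ := by
    rw [Subgroup.commutator_eq_bot_iff_le_centralizer]
    exact hAK.trans (Subgroup.center_le_centralizer _)
  have h1 : ⁅K, K⁆ ≤ A := by
    refine le_of_le_of_eq (Subgroup.commutator_eq_bot_iff_le_centralizer.1 ?_) hCA
    apply Subgroup.commutator_commutator_eq_bot_of_rotate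
    · rw [Subgroup.commutator_comm K A]; exact h0
    · exact h0
  exact hAK (Subgroup.commutator_mem_commutator (h1 (Subgroup.commutator_mem_commutator hx hy)) hz)

/-- A group all whose triple commutators are central has class at most three. -/
theorem upperCentralSeries_three_eq_top (H : Type*) [Group H]
    (h : ∀ x y z : H, ⁅⁅x, y⁆, z⁆ ∈ Subgroup.center H) : Subgroup.upperCentralSeries H 3 = ⊤ := by
  rw [eq_top_iff]
  intro x _
  rw [Subgroup.mem_upperCentralSeries_succ_iff]
  intro y
  rw [Subgroup.mem_upperCentralSeries_succ_iff]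
  intro z
  rw [Subgroup.upperCentralSeries_one]
  exact h x y z

end CfsgLib.Perm
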