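import Mathlib
import Cfsg.Prelude.Def_PLocal
import Cfsg.Agent.Solv.FittingBasic

/-!
Power structure of regular `p`-groups (from the definition by all powers).
-/

set_option autoImplicit false
set_option linter.style.haveILetI false
set_option linter.deprecated false

open scoped commutatorElement

namespace CfsgLib.Perm.RegularP

variable {G : Type*} [Group G] {p : ℕ}

/-- The defining condition of regularity for the exponent `p ^ k`. -/
def Reg (p k : ℕ) (G : Type*) [Group G] : Prop :=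
  IsPGroup p G ∧ ∀ a b : G,
    ∃ c ∈ Cfsg.powerClosure p k ⁅Subgroup.closure ({a, b} : Set G), Subgroup.closure ({a, b} : Set G)⁆,
      (a * b) ^ (p ^ k) = a ^ (p ^ k) * b ^ (p ^ k) * c

theorem Reg.of_regular (hG : Cfsg.IsRegularPGroup p G) (k : ℕ) : Reg p k G :=
  ⟨hG.1, fun a b => hG.2 a b k⟩

theorem Reg.quotient {k : ℕ} (hG : Reg p k G) (N : Subgroup G) [N.Normal] : Reg p k (G ⧸ N) := by
  refine ⟨hG.1.to_quotient N, fun a b => ?_⟩
  obtain ⟨x, rfl⟩ := QuotientGroup.mk'_surjective N a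
  obtain ⟨y, rfl⟩ := QuotientGroup.mk'_surjective N b
  obtain ⟨c, hc, e⟩ := hG.2 x y
  set f := QuotientGroup.mk' N
  refine ⟨f c, ?_, ?_⟩
  · rw [show ({f x, f y} : Set (G ⧸ N)) = f '' {x, y} from (Set.image_pair _ _ _).symm, ← MonoidHom.map_closure,
      ← Subgroup.map_commutator]
    refine Subgroup.closure_le (K := (Cfsg.powerClosure p k _).comap f) |>.2 ?_ hc
    rintro _ ⟨d, hd, rfl⟩
    exact Subgroup.subset_closure ⟨f d, Subgroup.mem_map_of_mem f hd, map_pow f d _⟩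
  · rw [← map_mul, ← map_pow, e, map_mul, map_mul, map_pow, map_pow]

/-- `x ^ q = 1` is closed under products in `H`, and equal `q`-th powers are torsion quotients. -/
def Good (q : ℕ) (H : Subgroup G) : Prop :=
  ∀ a ∈ H, ∀ b ∈ H, (a ^ q = 1 → b ^ q = 1 → (a * b) ^ q = 1) ∧ (a ^ q = b ^ q ↔ (a * b⁻¹) ^ q = 1)

theorem step [Finite G] [hp : Fact p.Prime] {k : ℕ} (hG : Reg p k G) (a b : G)
    (IH : ∀ H : Subgroup G, Nat.card H < Nat.card (Subgroup.closure ({a, b} : Set G)) → Good (p ^ k) H) :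
    (a ^ p ^ k = 1 → b ^ p ^ k = 1 → (a * b) ^ p ^ k = 1) ∧
      (a ^ p ^ k = b ^ p ^ k ↔ (a * b⁻¹) ^ p ^ k = 1) := by
  classical
  set K := Subgroup.closure ({a, b} : Set G) with hK
  have haK : a ∈ K := Subgroup.subset_closure (by simp)
  have hbK : b ∈ K := Subgroup.subset_closure (by simp)
  by_cases hab : a * b = b * a
  · have hc : Commute a b := hab
    refine ⟨fun h1 h2 => by rw [hc.mul_pow, h1, h2, one_mul], ?_⟩
    rw [hc.inv_right.mul_pow, inv_pow, mul_inv_eq_one]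
  have hKp : IsPGroup p K := hG.1.to_subgroup K
  haveI := hKp.isNilpotent
  haveI : Nontrivial K := by
    refine ⟨⟨a, haK⟩, 1, fun e => hab ?_⟩
    rw [show a = 1 from congrArg Subtype.val e, one_mul, mul_one]
  set D := ⁅K, K⁆ with hD
  have hDK : D ≤ K := Subgroup.commutator_le.mpr fun x hx y hy =>
    K.mul_mem (K.mul_mem (K.mul_mem hx hy) (K.inv_mem hx)) (K.inv_mem hy)
  have hDmap : (commutator K).map K.subtype = D := K.map_subtype_commutator
  have hDcard : Nat.card D < Nat.card K := by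
    rw [← hDmap, ← Nat.card_congr ((commutator K).equivMapOfInjective K.subtype K.subtype_injective).toEquiv]
    refine lt_of_le_of_ne (Subgroup.card_le_card_group _) fun e => ?_
    exact (Group.IsSolvable.commutator_lt_top_of_nontrivial K).ne (Subgroup.eq_top_of_card_eq _ e)
  -- two conjugates of a generator generate a proper subgroup
  have hprop : ∀ x y : G, Subgroup.closure ({x, y} : Set G) = K →
      Nat.card (Subgroup.closure ({x, y⁻¹ * x * y} : Set G)) < Nat.card K := by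
    intro x y hxy
    have hx : x ∈ K := hxy ▸ Subgroup.subset_closure (by simp)
    have hy : y ∈ K := hxy ▸ Subgroup.subset_closure (by simp)
    set L := Subgroup.closure ({x, y⁻¹ * x * y} : Set G) with hL
    have hLK : L ≤ K := (Subgroup.closure_le _).mpr (by
      rintro z (rfl | rfl)
      · exact hx
      · exact K.mul_mem (K.mul_mem (K.inv_mem hy) hx) hy)
    refine lt_of_le_of_ne (Subgroup.card_le_of_le hLK) fun e => ?_
    have hLe : L = K := Subgroup.eq_of_le_of_card_ge hLK e.ge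
    set X : K := ⟨x, hx⟩
    have htop : Subgroup.zpowers X ⊔ frattini K = ⊤ := by
      rw [eq_top_iff]
      have hle : L ≤ (Subgroup.zpowers X ⊔ frattini K).map K.subtype := by
        refine (Subgroup.closure_le _).mpr ?_
        rintro z (rfl | rfl)
        · exact ⟨X, Subgroup.mem_sup_left (Subgroup.mem_zpowers X), rfl⟩
        · refine ⟨(⟨y, hy⟩ : K)⁻¹ * X * ⟨y, hy⟩, ?_, rfl⟩
          rw [show (⟨y, hy⟩ : K)⁻¹ * X * ⟨y, hy⟩ = X * ⁅X⁻¹, (⟨y, hy⟩ : K)⁻¹⁆ by rw [commutatorElement_def]; group]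
          exact Subgroup.mul_mem _ (Subgroup.mem_sup_left (Subgroup.mem_zpowers X)) (Subgroup.mem_sup_right
            (CfsgLib.Solv.commutator_le_frattini hKp (Subgroup.commutator_mem_commutator (Subgroup.mem_top _) (Subgroup.mem_top _))))
      intro z _
      obtain ⟨w, hw, hwz⟩ := hle (hLe.symm ▸ z.2 : (z : G) ∈ L)
      rwa [← Subtype.ext hwz]
    have hcyc := frattini_nongenerating htop
    apply hab
    have key : ∀ z : K, ∃ i : ℤ, X ^ i = z := fun z => Subgroup.mem_zpowers_iff.mp (hcyc ▸ Subgroup.mem_top z)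
    obtain ⟨i, hi⟩ := key ⟨a, haK⟩
    obtain ⟨j, hj⟩ := key ⟨b, hbK⟩
    have : (⟨a, haK⟩ : K) * ⟨b, hbK⟩ = ⟨b, hbK⟩ * ⟨a, haK⟩ := by rw [← hi, ← hj, ← zpow_add, ← zpow_add, add_comm]
    exact congrArg Subtype.val this
  -- a torsion commutator kills the correction term
  have hkill : ∀ x y : G, Subgroup.closure ({x, y} : Set G) = K → (x⁻¹ * y⁻¹ * x * y) ^ p ^ k = 1 →
      ∀ c ∈ Cfsg.powerClosure p k D, c = 1 := by
    intro x y hxy hcomm
    have hx : x ∈ K := hxy ▸ Subgroup.subset_closure (by simp)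
    have hy : y ∈ K := hxy ▸ Subgroup.subset_closure (by simp)
    let N : Subgroup G :=
      { carrier := {z | z ∈ D ∧ z ^ p ^ k = 1}
        one_mem' := ⟨D.one_mem, one_pow _⟩
        mul_mem' := fun {u v} hu hv => ⟨D.mul_mem hu.1 hv.1, ((IH D hDcard) u hu.1 v hv.1).1 hu.2 hv.2⟩
        inv_mem' := fun {u} hu => ⟨D.inv_mem hu.1, by rw [inv_pow, hu.2, inv_one]⟩ }
    have hDn : ∀ g ∈ K, ∀ z ∈ D, g * z * g⁻¹ ∈ D := by
      intro g hg z hz
      rw [← hDmap] at hz ⊢
      obtain ⟨w, hw, rfl⟩ := hz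
      exact ⟨⟨g, hg⟩ * w * ⟨g, hg⟩⁻¹, (inferInstance : (commutator K).Normal).conj_mem w hw _, rfl⟩
    haveI : (N.subgroupOf K).Normal := ⟨fun z hz g => by
      refine ⟨hDn g g.2 z hz.1, ?_⟩
      show ((g * z * g⁻¹ : K) : G) ^ p ^ k = 1
      rw [Subgroup.coe_mul, Subgroup.coe_mul, InvMemClass.coe_inv, conj_pow, show (z : G) ^ p ^ k = 1 from hz.2, mul_one, mul_inv_cancel]⟩
    set f := QuotientGroup.mk' (N.subgroupOf K)
    have hxyc : f ⟨x, hx⟩ * f ⟨y, hy⟩ = f ⟨y, hy⟩ * f ⟨x, hx⟩ := by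
      rw [← map_mul, ← map_mul, QuotientGroup.mk'_apply, QuotientGroup.mk'_apply, eq_comm, QuotientGroup.eq]
      refine ⟨?_, ?_⟩
      · show ((⟨y, hy⟩ * ⟨x, hx⟩ : K)⁻¹ * (⟨x, hx⟩ * ⟨y, hy⟩) : K).1 ∈ D
        show (y * x)⁻¹ * (x * y) ∈ D
        rw [show (y * x)⁻¹ * (x * y) = ⁅x⁻¹, y⁻¹⁆ by rw [commutatorElement_def]; group]
        exact Subgroup.commutator_mem_commutator (K.inv_mem hx) (K.inv_mem hy)
      · show ((y * x)⁻¹ * (x * y)) ^ p ^ k = 1
        rw [show (y * x)⁻¹ * (x * y) = x⁻¹ * y⁻¹ * x * y by group]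
        exact hcomm
    have hDN : D ≤ N := by
      have hcen : ∀ u v : K, f u * f v = f v * f u := by
        have hgen : Subgroup.closure ({⟨x, hx⟩, ⟨y, hy⟩} : Set K) = ⊤ := by
          apply Subgroup.map_injective K.subtype_injective
          rw [MonoidHom.map_closure, Set.image_pair, ← MonoidHom.range_eq_map, Subgroup.range_subtype]
          exact hxy
        have hcomm' : IsMulCommutative (Subgroup.closure ({f ⟨x, hx⟩, f ⟨y, hy⟩} : Set (K ⧸ N.subgroupOf K))) :=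
          Subgroup.isMulCommutative_closure (by
            rintro u (rfl | rfl) v (rfl | rfl)
            · rfl
            · exact hxyc
            · exact hxyc.symm
            · rfl)
        have hall : ∀ u : K, f u ∈ Subgroup.closure ({f ⟨x, hx⟩, f ⟨y, hy⟩} : Set (K ⧸ N.subgroupOf K)) := by
          intro u
          rw [← Set.image_pair, ← MonoidHom.map_closure, hgen]
          exact Subgroup.mem_map_of_mem f (Subgroup.mem_top u)
        intro u v
        exact congrArg Subtype.val (hcomm'.is_comm.comm ⟨f u, hall u⟩ ⟨f v, hall v⟩)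
      rw [hD, Subgroup.commutator_le]
      intro u hu v hv
      have : f ⁅(⟨u, hu⟩ : K), ⟨v, hv⟩⁆ = 1 := by
        rw [map_commutatorElement, commutatorElement_eq_one_iff_mul_comm]
        exact hcen _ _
      rw [QuotientGroup.mk'_apply, QuotientGroup.eq_one_iff] at this
      exact this
    intro c hc
    rw [← Subgroup.mem_bot]
    refine (Subgroup.closure_le (K := (⊥ : Subgroup G))).mpr ?_ hc
    rintro _ ⟨z, hz, rfl⟩
    exact Subgroup.mem_bot.mpr (hDN hz).2
  have hcl : ∀ x y : G, Subgroup.closure ({x, y} : Set G) = K → x ^ p ^ k = 1 → (x⁻¹ * y⁻¹ * x * y) ^ p ^ k = 1 := by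
    intro x y hxy h1
    have h := IH _ (hprop x y hxy) x⁻¹ (Subgroup.inv_mem _ (Subgroup.subset_closure (by simp)))
      (y⁻¹ * x * y) (Subgroup.subset_closure (by simp))
    have h2 : (y⁻¹ * x * y) ^ p ^ k = 1 := by
      rw [show y⁻¹ * x * y = y⁻¹ * x * (y⁻¹)⁻¹ by group, conj_pow, h1, mul_one, mul_inv_cancel]
    have := h.1 (by rw [inv_pow, h1, inv_one]) h2
    rwa [show x⁻¹ * (y⁻¹ * x * y) = x⁻¹ * y⁻¹ * x * y by group] at this
  refine ⟨fun h1 h2 => ?_, fun h => ?_, fun h => ?_⟩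
  · obtain ⟨c, hc, e⟩ := hG.2 a b
    rw [e, h1, h2, hkill a b rfl (hcl a b rfl h1) c hc, one_mul, one_mul]
  · -- equal powers
    have hgen : Subgroup.closure ({a, b⁻¹} : Set G) = K := by
      refine le_antisymm ((Subgroup.closure_le _).mpr ?_) ((Subgroup.closure_le _).mpr ?_)
      · rintro z (rfl | rfl)
        · exact haK
        · exact K.inv_mem hbK
      · rintro z (rfl | rfl)
        · exact Subgroup.subset_closure (by simp)
        · simpa using Subgroup.inv_mem _ (Subgroup.subset_closure (Set.mem_insert_of_mem a (Set.mem_singleton z⁻¹)))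
    have hc : Commute b (a ^ p ^ k) := h ▸ Commute.self_pow b _
    have hpow : ((b⁻¹)⁻¹ * a * b⁻¹) ^ p ^ k = a ^ p ^ k := by
      rw [inv_inv, conj_pow, hc.eq, mul_inv_cancel_right]
    have h3 := (IH _ (hprop a b⁻¹ hgen) ((b⁻¹)⁻¹ * a * b⁻¹) (Subgroup.subset_closure (by simp)) a
      (Subgroup.subset_closure (by simp))).2.mp hpow
    have h4 : (a⁻¹ * (b⁻¹)⁻¹ * a * b⁻¹) ^ p ^ k = 1 := by
      rw [show a⁻¹ * (b⁻¹)⁻¹ * a * b⁻¹ = a⁻¹ * ((b⁻¹)⁻¹ * a * b⁻¹ * a⁻¹) * (a⁻¹)⁻¹ by group, conj_pow, h3,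
        mul_one, mul_inv_cancel]
    obtain ⟨c, hcm, e⟩ := hG.2 a b⁻¹
    rw [hgen] at hcm
    rw [e, hkill a b⁻¹ hgen h4 c hcm, mul_one, inv_pow, ← h, mul_inv_cancel]
  · set x := a * b⁻¹ with hxdef
    have hgen : Subgroup.closure ({x, b} : Set G) = K := by
      refine le_antisymm ((Subgroup.closure_le _).mpr ?_) ((Subgroup.closure_le _).mpr ?_)
      · rintro z (rfl | rfl)
        · exact K.mul_mem haK (K.inv_mem hbK)
        · exact hbK
      · rintro z (rfl | rfl)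
        · have := Subgroup.mul_mem _ (Subgroup.subset_closure (Set.mem_insert x {b}))
            (Subgroup.subset_closure (Set.mem_insert_of_mem x (Set.mem_singleton b)))
          simpa [hxdef] using this
        · exact Subgroup.subset_closure (by simp)
    obtain ⟨c, hcm, e⟩ := hG.2 x b
    rw [hgen] at hcm
    rw [show x * b = a by rw [hxdef, inv_mul_cancel_right]] at e
    rw [e, hkill x b hgen (hcl x b hgen h) c hcm, h, one_mul, mul_one]

theorem good [Finite G] [Fact p.Prime] {k : ℕ} (hG : Reg p k G) :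
    ∀ (n : ℕ) (H : Subgroup G), Nat.card H = n → Good (p ^ k) H := by
  intro n
  induction n using Nat.strong_induction_on with
  | _ n ih =>
  intro H hH a ha b hb
  refine step hG a b fun L hL => ih (Nat.card L) ?_ L rfl
  rw [← hH]
  refine lt_of_lt_of_le hL (Subgroup.card_le_of_le ((Subgroup.closure_le _).mpr ?_))
  rintro z (rfl | rfl)
  · exact ha
  · exact hb

theorem mul_pow_eq_one [Finite G] [Fact p.Prime] (hG : Cfsg.IsRegularPGroup p G) (k : ℕ) {a b : G}
    (ha : a ^ p ^ k = 1) (hb : b ^ p ^ k = 1) : (a * b) ^ p ^ k = 1 :=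
  (good (Reg.of_regular hG k) _ ⊤ rfl a (Subgroup.mem_top a) b (Subgroup.mem_top b)).1 ha hb

theorem pow_eq_pow_iff [Finite G] [Fact p.Prime] (hG : Cfsg.IsRegularPGroup p G) (k : ℕ) (a b : G) :
    a ^ p ^ k = b ^ p ^ k ↔ (a * b⁻¹) ^ p ^ k = 1 :=
  (good (Reg.of_regular hG k) _ ⊤ rfl a (Subgroup.mem_top a) b (Subgroup.mem_top b)).2

/-- Powers of exponent `p ^ k` commute with an element exactly when the commutator is torsion. -/
theorem pow_commute_iff [Finite G] [Fact p.Prime] {k : ℕ} (hG : Reg p k G) (a b : G) :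
    Commute (a ^ p ^ k) b ↔ (b⁻¹ * a * b * a⁻¹) ^ p ^ k = 1 := by
  rw [← (good hG _ ⊤ rfl (b⁻¹ * a * b) (Subgroup.mem_top _) a (Subgroup.mem_top _)).2,
    show (b⁻¹ * a * b) ^ p ^ k = b⁻¹ * a ^ p ^ k * b by
      rw [show b⁻¹ * a * b = b⁻¹ * a * (b⁻¹)⁻¹ by group, conj_pow, inv_inv], mul_assoc, inv_mul_eq_iff_eq_mul]
  exact Iff.rfl

/-- The `p ^ k`-th powers of elements of a subgroup are closed under products. -/
theorem exists_pow_eq [Finite G] [Fact p.Prime] {k : ℕ} (hG : Reg p k G) :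
    ∀ (n : ℕ) (H : Subgroup G), Nat.card H = n → ∀ a ∈ H, ∀ b ∈ H, ∃ x ∈ H, x ^ p ^ k = a ^ p ^ k * b ^ p ^ k := by
  intro n
  induction n using Nat.strong_induction_on with
  | _ n ih =>
  intro H hH a ha b hb
  classical
  set K := Subgroup.closure ({a, b} : Set G) with hK
  have hKH : K ≤ H := (Subgroup.closure_le _).mpr (by
    rintro z (rfl | rfl)
    · exact ha
    · exact hb)
  have hKn : Nat.card K ≤ n := hH ▸ Subgroup.card_le_of_le hKH
  by_cases hab : a * b = b * a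
  · exact ⟨a * b, H.mul_mem ha hb, (show Commute a b from hab).mul_pow _⟩
  have haK : a ∈ K := Subgroup.subset_closure (by simp)
  have hbK : b ∈ K := Subgroup.subset_closure (by simp)
  have hKp : IsPGroup p K := hG.1.to_subgroup K
  haveI := hKp.isNilpotent
  haveI : Nontrivial K := by
    refine ⟨⟨a, haK⟩, 1, fun e => hab ?_⟩
    rw [show a = 1 from congrArg Subtype.val e, one_mul, mul_one]
  set D := ⁅K, K⁆ with hD
  have hDK : D ≤ K := Subgroup.commutator_le.mpr fun x hx y hy =>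
    K.mul_mem (K.mul_mem (K.mul_mem hx hy) (K.inv_mem hx)) (K.inv_mem hy)
  have hDmap : (commutator K).map K.subtype = D := K.map_subtype_commutator
  have hDcard : Nat.card D < n := by
    refine lt_of_lt_of_le ?_ hKn
    rw [← hDmap, ← Nat.card_congr ((commutator K).equivMapOfInjective K.subtype K.subtype_injective).toEquiv]
    refine lt_of_le_of_ne (Subgroup.card_le_card_group _) fun e => ?_
    exact (Group.IsSolvable.commutator_lt_top_of_nontrivial K).ne (Subgroup.eq_top_of_card_eq _ e)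
  obtain ⟨c, hc, e⟩ := hG.2 a b
  obtain ⟨d, hd, rfl⟩ : ∃ d ∈ D, d ^ p ^ k = c := by
    refine Subgroup.closure_induction (fun y hy => ?_) ⟨1, D.one_mem, one_pow _⟩ ?_ ?_ hc
    · obtain ⟨x, hx, rfl⟩ := hy; exact ⟨x, hx, rfl⟩
    · rintro _ _ _ _ ⟨x, hx, rfl⟩ ⟨y, hy, rfl⟩
      exact ih _ hDcard D rfl x hx y hy
    · rintro _ _ ⟨x, hx, rfl⟩
      exact ⟨x⁻¹, D.inv_mem hx, inv_pow x _⟩
  set L := Subgroup.closure ({a * b, d⁻¹} : Set G) with hL
  have hLK : L ≤ K := (Subgroup.closure_le _).mpr (by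
    rintro z (rfl | rfl)
    · exact K.mul_mem haK hbK
    · exact K.inv_mem (hDK hd))
  have hLlt : Nat.card L < n := by
    refine lt_of_lt_of_le (lt_of_le_of_ne (Subgroup.card_le_of_le hLK) fun e => hab ?_) hKn
    have hLe : L = K := Subgroup.eq_of_le_of_card_ge hLK e.ge
    set X : K := ⟨a * b, K.mul_mem haK hbK⟩
    have htop : Subgroup.zpowers X ⊔ frattini K = ⊤ := by
      rw [eq_top_iff]
      intro z _
      have hle : L ≤ (Subgroup.zpowers X ⊔ frattini K).map K.subtype := by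
        refine (Subgroup.closure_le _).mpr ?_
        rintro w (rfl | rfl)
        · exact ⟨X, Subgroup.mem_sup_left (Subgroup.mem_zpowers X), rfl⟩
        · obtain ⟨d', hd', he⟩ := (hDmap.symm ▸ hd : d ∈ (commutator K).map K.subtype)
          exact ⟨d'⁻¹, Subgroup.inv_mem _ (Subgroup.mem_sup_right (CfsgLib.Solv.commutator_le_frattini hKp hd')),
            by rw [map_inv, he]⟩
      obtain ⟨w, hw, hwz⟩ := hle (hLe.symm ▸ z.2 : (z : G) ∈ L)
      rwa [← Subtype.ext hwz]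
    have hcyc := frattini_nongenerating htop
    have key : ∀ z : K, ∃ i : ℤ, X ^ i = z := fun z => Subgroup.mem_zpowers_iff.mp (hcyc ▸ Subgroup.mem_top z)
    obtain ⟨i, hi⟩ := key ⟨a, haK⟩
    obtain ⟨j, hj⟩ := key ⟨b, hbK⟩
    have : (⟨a, haK⟩ : K) * ⟨b, hbK⟩ = ⟨b, hbK⟩ * ⟨a, haK⟩ := by rw [← hi, ← hj, ← zpow_add, ← zpow_add, add_comm]
    exact congrArg Subtype.val this
  obtain ⟨x, hx, hxe⟩ := ih _ hLlt L rfl (a * b) (Subgroup.subset_closure (by simp)) d⁻¹ (Subgroup.subset_closure (by simp))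
  exact ⟨x, hKH (hLK hx), by rw [hxe, e, inv_pow, mul_inv_cancel_right]⟩

theorem powerClosure_eq [Finite G] [Fact p.Prime] {k : ℕ} (hG : Reg p k G) (H : Subgroup G) {y : G} :
    y ∈ Cfsg.powerClosure p k H ↔ ∃ x ∈ H, y = x ^ p ^ k := by
  refine ⟨fun hy => ?_, fun hy => Subgroup.subset_closure hy⟩
  refine Subgroup.closure_induction (fun z hz => hz) ⟨1, H.one_mem, (one_pow _).symm⟩ ?_ ?_ hy
  · rintro _ _ _ _ ⟨x, hx, rfl⟩ ⟨z, hz, rfl⟩
    obtain ⟨w, hw, e⟩ := exists_pow_eq hG _ H rfl x hx z hz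
    exact ⟨w, hw, e.symm⟩
  · rintro _ _ ⟨x, hx, rfl⟩
    exact ⟨x⁻¹, H.inv_mem hx, (inv_pow x _).symm⟩

/-- Commutators of `p ^ k`-th powers from `H` are `p ^ k`-th powers from `⁅H, H⁆`. -/
theorem commutator_powerClosure_le [Finite G] [Fact p.Prime] {k : ℕ} (hG : Reg p k G) (H : Subgroup G) :
    ⁅Cfsg.powerClosure p k H, Cfsg.powerClosure p k H⁆ ≤ Cfsg.powerClosure p k ⁅H, H⁆ := by
  classical
  set W := Cfsg.powerClosure p k ⁅H, H⁆ with hW
  set N := Subgroup.normalizer (W : Set G)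
  have hDn : ∀ g ∈ H, ∀ z ∈ ⁅H, H⁆, g * z * g⁻¹ ∈ ⁅H, H⁆ := by
    intro g hg z hz
    rw [← H.map_subtype_commutator] at hz ⊢
    obtain ⟨w, hw, rfl⟩ := hz
    exact ⟨⟨g, hg⟩ * w * ⟨g, hg⟩⁻¹, (inferInstance : (commutator H).Normal).conj_mem w hw _, rfl⟩
  have hHN : H ≤ N := fun g hg => Subgroup.mem_normalizer_fintype fun z hz => by
    refine Subgroup.closure_le (K := W.comap (MulAut.conj g).toMonoidHom) |>.2 ?_ hz
    rintro _ ⟨d, hd, rfl⟩
    exact Subgroup.subset_closure ⟨g * d * g⁻¹, hDn g hg d hd, by simp [conj_pow]⟩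
  haveI : (W.subgroupOf N).Normal := Subgroup.normal_in_normalizer
  have hRN : Reg p k N := by
    refine ⟨hG.1.to_subgroup N, fun a b => ?_⟩
    obtain ⟨c, hc, e⟩ := hG.2 a b
    have hcl : Subgroup.closure ({(a : G), (b : G)} : Set G) = (Subgroup.closure ({a, b} : Set N)).map N.subtype := by
      rw [MonoidHom.map_closure, Set.image_pair]; rfl
    rw [hcl, ← Subgroup.map_commutator] at hc
    obtain ⟨c', hc', he⟩ : c ∈ (Cfsg.powerClosure p k ⁅Subgroup.closure ({a, b} : Set N), Subgroup.closure ({a, b} : Set N)⁆).map N.subtype := by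
      refine (Subgroup.closure_le _).2 ?_ hc
      rintro _ ⟨_, ⟨d, hd, rfl⟩, rfl⟩
      exact ⟨d ^ p ^ k, Subgroup.subset_closure ⟨d, hd, rfl⟩, map_pow _ _ _⟩
    exact ⟨c', hc', Subtype.ext (by
      rw [Subgroup.coe_pow, Subgroup.coe_mul, e, Subgroup.coe_mul, Subgroup.coe_mul, Subgroup.coe_pow, Subgroup.coe_pow, ← he]; rfl)⟩
  rw [Subgroup.commutator_le]
  intro u hu v hv
  obtain ⟨a, ha, rfl⟩ := (powerClosure_eq hG H).mp hu
  obtain ⟨b, hb, rfl⟩ := (powerClosure_eq hG H).mp hv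
  set f := QuotientGroup.mk' (W.subgroupOf N)
  have hc : Commute (f ⟨a, hHN ha⟩ ^ p ^ k) (f ⟨b, hHN hb⟩) := by
    rw [pow_commute_iff (hRN.quotient _)]
    rw [← map_inv, ← map_inv, ← map_mul, ← map_mul, ← map_mul, ← map_pow, QuotientGroup.mk'_apply,
      QuotientGroup.eq_one_iff]
    refine Subgroup.subset_closure ⟨b⁻¹ * a * b * a⁻¹, ?_, rfl⟩
    rw [show b⁻¹ * a * b * a⁻¹ = ⁅b⁻¹, a⁆ by rw [commutatorElement_def]; group]
    exact Subgroup.commutator_mem_commutator (H.inv_mem hb) ha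
  have h2 := hc.pow_right (p ^ k)
  rw [← map_pow, ← map_pow] at h2
  have h3 : f ⁅(⟨a, hHN ha⟩ : N) ^ p ^ k, (⟨b, hHN hb⟩ : N) ^ p ^ k⁆ = 1 := by
    rw [map_commutatorElement, commutatorElement_eq_one_iff_mul_comm]; exact h2.eq
  rw [QuotientGroup.mk'_apply, QuotientGroup.eq_one_iff] at h3
  exact h3

/-- Regularity follows from the condition for exponent `p`. -/
theorem regular_of_reg_one [Finite G] [Fact p.Prime] (hG : Reg p 1 G) : Cfsg.IsRegularPGroup p G := by
  refine ⟨hG.1, fun a b n => ?_⟩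
  induction n generalizing a b with
  | zero => exact ⟨1, Subgroup.one_mem _, by simp⟩
  | succ n ih =>
    set K := Subgroup.closure ({a, b} : Set G) with hK
    have haK : a ∈ K := Subgroup.subset_closure (by simp)
    have hbK : b ∈ K := Subgroup.subset_closure (by simp)
    obtain ⟨c, hc, e⟩ := hG.2 a b
    obtain ⟨d, hd, rfl⟩ := (powerClosure_eq hG _).mp hc
    have hstep : ∀ x ∈ Cfsg.powerClosure p 1 K, ∀ y ∈ Cfsg.powerClosure p 1 K,
        ∀ z ∈ Cfsg.powerClosure p n ⁅Subgroup.closure ({x, y} : Set G), Subgroup.closure ({x, y} : Set G)⁆,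
          z ∈ Cfsg.powerClosure p (n + 1) ⁅K, K⁆ := by
      intro x hx y hy z hz
      refine (Subgroup.closure_le _).2 ?_ hz
      rintro _ ⟨w, hw, rfl⟩
      have hle : Subgroup.closure ({x, y} : Set G) ≤ Cfsg.powerClosure p 1 K := (Subgroup.closure_le _).2 (by
        rintro u (rfl | rfl)
        · exact hx
        · exact hy)
      obtain ⟨v, hv, hwv⟩ := (powerClosure_eq hG _).mp (commutator_powerClosure_le hG K (Subgroup.commutator_mono hle hle hw))
      refine Subgroup.subset_closure ⟨v, hv, ?_⟩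
      rw [hwv, ← pow_mul, ← pow_add, Nat.add_comm]
    have haP : a ^ p ^ 1 ∈ Cfsg.powerClosure p 1 K := Subgroup.subset_closure ⟨a, haK, rfl⟩
    have hbP : b ^ p ^ 1 ∈ Cfsg.powerClosure p 1 K := Subgroup.subset_closure ⟨b, hbK, rfl⟩
    have hDK : ⁅K, K⁆ ≤ K := Subgroup.commutator_le.mpr fun x hx y hy =>
      K.mul_mem (K.mul_mem (K.mul_mem hx hy) (K.inv_mem hx)) (K.inv_mem hy)
    have hdP : d ^ p ^ 1 ∈ Cfsg.powerClosure p 1 K := Subgroup.subset_closure ⟨d, hDK hd, rfl⟩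
    obtain ⟨e₁, he₁, h1⟩ := ih (a ^ p ^ 1 * b ^ p ^ 1) (d ^ p ^ 1)
    obtain ⟨e₂, he₂, h2⟩ := ih (a ^ p ^ 1) (b ^ p ^ 1)
    refine ⟨e₂ * (d ^ p ^ (n + 1)) * e₁, Subgroup.mul_mem _ (Subgroup.mul_mem _ (hstep _ haP _ hbP _ he₂)
      (Subgroup.subset_closure ⟨d, hd, rfl⟩)) (hstep _ (Subgroup.mul_mem _ haP hbP) _ hdP _ he₁), ?_⟩
    have hpp : p ^ (n + 1) = p ^ 1 * p ^ n := by rw [← pow_add, Nat.add_comm]
    rw [hpp, pow_mul, e, h1, h2, ← pow_mul, ← pow_mul, ← pow_mul]
    simp only [mul_assoc]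

end CfsgLib.Perm.RegularP
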