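import Mathlib
import Cfsg.Agent.Inv.WeakClosed

/-!
Polynomial sequences with respect to the lower central series, and the power formula in
class less than `p`.
-/

set_option autoImplicit false
set_option linter.style.haveILetI false
set_option linter.deprecated false

open scoped commutatorElement

namespace CfsgLib.Perm.PolySeq

variable {G : Type*} [Group G]

/-- The lower central series counted from `1`. -/
def gam (G : Type*) [Group G] (n : ℕ) : Subgroup G := (⊤ : Subgroup G).lowerCentralSeries (n - 1)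

theorem gam_normal (n : ℕ) : (gam G n).Normal := by
  unfold gam
  exact Subgroup.normal_of_characteristic _

theorem gam_anti {m n : ℕ} (h : m ≤ n) : gam G n ≤ gam G m :=
  (⊤ : Subgroup G).lowerCentralSeries_antitone (Nat.sub_le_sub_right h 1)

theorem lcs_comm : ∀ b a : ℕ, ⁅(⊤ : Subgroup G).lowerCentralSeries b, (⊤ : Subgroup G).lowerCentralSeries a⁆ ≤
    (⊤ : Subgroup G).lowerCentralSeries (a + b + 1) := by
  intro b
  induction b with
  | zero =>
    intro a
    rw [Subgroup.commutator_comm, Subgroup.lowerCentralSeries_zero, ← Subgroup.lowerCentralSeries_succ]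
  | succ b ih =>
    intro a
    rw [Subgroup.lowerCentralSeries_succ]
    haveI : ((⊤ : Subgroup G).lowerCentralSeries (a + (b + 1) + 1)).Normal :=
      Subgroup.normal_of_characteristic _
    have hn : ∀ X : Subgroup G, X ≤ Subgroup.normalizer (((⊤ : Subgroup G).lowerCentralSeries (a + (b + 1) + 1) : Subgroup G) : Set G) :=
      fun X => by rw [Subgroup.normalizer_eq_top_iff.mpr inferInstance]; exact le_top
    refine CfsgLib.Inv.three_subgroup_le (hn _) (hn _) (hn _) ?_ ?_
    · rw [Subgroup.commutator_comm ⊤, ← Subgroup.lowerCentralSeries_succ, Subgroup.commutator_comm]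
      exact (ih (a + 1)).trans (le_of_eq (by rw [show a + 1 + b + 1 = a + (b + 1) + 1 by ring]))
    · rw [show a + (b + 1) + 1 = (a + b + 1) + 1 by ring, Subgroup.lowerCentralSeries_succ]
      refine Subgroup.commutator_mono ?_ le_rfl
      rw [Subgroup.commutator_comm]
      exact ih a

/-- The commutator `x⁻¹ y⁻¹ x y`. -/
def cm (x y : G) : G := x⁻¹ * y⁻¹ * x * y

theorem cm_mem {a b : ℕ} {x y : G} (hx : x ∈ gam G a) (hy : y ∈ gam G b) : cm x y ∈ gam G (a + b) := by
  have hc : cm x y = ⁅x⁻¹, y⁻¹⁆ := by rw [cm, commutatorElement_def, inv_inv, inv_inv]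
  rcases Nat.eq_zero_or_pos a with rfl | ha
  · rw [Nat.zero_add, cm, show x⁻¹ * y⁻¹ * x * y = (x⁻¹ * y⁻¹ * (x⁻¹)⁻¹) * y by group]
    exact Subgroup.mul_mem _ ((gam_normal b).conj_mem _ (Subgroup.inv_mem _ hy) _) hy
  rcases Nat.eq_zero_or_pos b with rfl | hb
  · rw [Nat.add_zero, cm, show x⁻¹ * y⁻¹ * x * y = x⁻¹ * (y⁻¹ * x * (y⁻¹)⁻¹) by group]
    exact Subgroup.mul_mem _ (Subgroup.inv_mem _ hx) ((gam_normal a).conj_mem _ hx _)
  rw [hc]
  have h := lcs_comm (G := G) (a - 1) (b - 1) (Subgroup.commutator_mem_commutator (Subgroup.inv_mem _ hx) (Subgroup.inv_mem _ hy))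
  rwa [show b - 1 + (a - 1) + 1 = a + b - 1 by omega] at h

/-- The discrete derivative. -/
def der (f : ℕ → G) : ℕ → G := fun m => (f m)⁻¹ * f (m + 1)

/-- The derivatives up to order `j` lie in the series shifted by `k`. -/
def P : ℕ → ℕ → (ℕ → G) → Prop
  | 0, k, f => ∀ m, f m ∈ gam G k
  | j + 1, k, f => (∀ m, f m ∈ gam G k) ∧ P j (k + 1) (der f)

theorem P.val : ∀ {j k : ℕ} {f : ℕ → G}, P j k f → ∀ m, f m ∈ gam G k
  | 0, _, _, h => h
  | _ + 1, _, _, h => h.1

theorem P.mono : ∀ {j k k' : ℕ} {f : ℕ → G}, k ≤ k' → P j k' f → P j k f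
  | 0, _, _, _, hk, h => fun m => gam_anti hk (h m)
  | _ + 1, _, _, _, hk, h => ⟨fun m => gam_anti hk (h.1 m), P.mono (Nat.add_le_add_right hk 1) h.2⟩

theorem P.lower : ∀ {j k : ℕ} {f : ℕ → G}, P (j + 1) k f → P j k f
  | 0, _, _, h => h.1
  | _ + 1, _, _, h => ⟨h.1, P.lower h.2⟩

theorem P.closed : ∀ j : ℕ, ∀ k l : ℕ, ∀ f g : ℕ → G,
    (P j k f → P j k g → P j k (f * g)) ∧ (P j k f → P j k f⁻¹) ∧
      (P j k f → P j l g → P j (k + l) (fun m => cm (f m) (g m))) := by
  intro j
  induction j with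
  | zero =>
    intro k l f g
    exact ⟨fun hf hg m => Subgroup.mul_mem _ (hf m) (hg m), fun hf m => Subgroup.inv_mem _ (hf m),
      fun hf hg m => cm_mem (hf m) (hg m)⟩
  | succ j ih =>
    intro k l f g
    have hmul : ∀ {k : ℕ} {f g : ℕ → G}, P j k f → P j k g → P j k (f * g) := fun {k f g} => (ih k k f g).1
    have hinv : ∀ {k : ℕ} {f : ℕ → G}, P j k f → P j k f⁻¹ := fun {k f} => (ih k k f f).2.1
    have hcm : ∀ {k l : ℕ} {f g : ℕ → G}, P j k f → P j l g → P j (k + l) (fun m => cm (f m) (g m)) :=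
      fun {k l f g} => (ih k l f g).2.2
    refine ⟨fun hf hg => ⟨fun m => Subgroup.mul_mem _ (hf.1 m) (hg.1 m), ?_⟩,
      fun hf => ⟨fun m => Subgroup.inv_mem _ (hf.1 m), ?_⟩, fun hf hg => ⟨fun m => cm_mem (hf.1 m) (hg.1 m), ?_⟩⟩
    · have h := hmul (hmul hf.2 (P.mono (by omega : k + 1 ≤ k + 1 + k) (hcm hf.2 hg.lower))) hg.2
      convert h using 1
      funext m
      simp only [der, Pi.mul_apply, cm]
      group
    · have h := hmul (hinv hf.2) (P.mono (by omega : k + 1 ≤ k + 1 + k) (hcm (hinv hf.2) (hinv hf.lower)))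
      convert h using 1
      funext m
      simp only [der, Pi.mul_apply, Pi.inv_apply, cm]
      group
    · set A : ℕ → G := fun m => cm (f m) (g m)
      set u := der f
      set v := der g
      have hA : P j (k + l) A := hcm hf.lower hg.lower
      have hfv : P j (k + l + 1) (fun m => cm (f m) (v m)) := P.mono (by omega) (hcm hf.lower hg.2)
      have hug : P j (k + l + 1) (fun m => cm (u m) (g m)) := P.mono (by omega) (hcm hf.2 hg.lower)
      have hX : P j (k + l + 1) ((fun m => cm (f m) (v m)) * (fun m => cm (cm (f m) (v m)) (u m)) * fun m => cm (u m) (v m)) :=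
        hmul (hmul hfv (P.mono (by omega) (hcm hfv hf.2))) (P.mono (by omega) (hcm hf.2 hg.2))
      have hW : P j (k + l + 1) ((fun m => cm (A m) (u m)) * fun m => cm (u m) (g m)) :=
        hmul (P.mono (by omega) (hcm hA hf.2)) hug
      have hW' := hmul (hmul (P.mono (by omega : k + l + 1 ≤ k + l + (l + 1)) (hcm hA hg.2)) hW)
        (P.mono (by omega : k + l + 1 ≤ k + l + 1 + (l + 1)) (hcm hW hg.2))
      have h := hmul (hmul hX (P.mono (by omega : k + l + 1 ≤ k + l + 1 + (k + l)) (hcm hX hA))) hW'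
      convert h using 1
      funext m
      simp only [A, u, v, der, Pi.mul_apply, cm]
      group

theorem P.mul {j k : ℕ} {f g : ℕ → G} (hf : P j k f) (hg : P j k g) : P j k (f * g) := (P.closed j k k f g).1 hf hg

theorem P.inv {j k : ℕ} {f : ℕ → G} (hf : P j k f) : P j k f⁻¹ := (P.closed j k k f f).2.1 hf

theorem P.one : ∀ {j k : ℕ}, P j k (fun _ => (1 : G))
  | 0, _ => fun _ => Subgroup.one_mem _
  | j + 1, k => by
    refine ⟨fun _ => Subgroup.one_mem _, ?_⟩
    have : der (fun _ : ℕ => (1 : G)) = fun _ => 1 := funext fun m => by simp [der]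
    rw [this]
    exact P.one

theorem P.binom : ∀ (j : ℕ) {k i : ℕ} {c : G}, c ∈ gam G (k + i) → P j k (fun m => c ^ m.choose i)
  | 0, _, _, _, hc => fun _ => Subgroup.pow_mem _ (gam_anti (Nat.le_add_right _ _) hc) _
  | j + 1, k, i, c, hc => by
    refine ⟨fun _ => Subgroup.pow_mem _ (gam_anti (Nat.le_add_right _ _) hc) _, ?_⟩
    cases i with
    | zero =>
      have : der (fun m : ℕ => c ^ m.choose 0) = fun _ => 1 := funext fun m => by simp [der]
      rw [this]
      exact P.one
    | succ i =>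
      have : der (fun m : ℕ => c ^ m.choose (i + 1)) = fun m => c ^ m.choose i := funext fun m => by
        simp only [der, Nat.choose_succ_succ', pow_add]
        rw [(Commute.pow_pow_self c (m.choose i) (m.choose (i + 1))).eq, inv_mul_cancel_left]
      rw [this]
      exact P.binom j (by rwa [show k + 1 + i = k + (i + 1) by ring])

theorem P.powers (j : ℕ) (a : G) : P j 0 (fun m => a ^ m) := by
  have h := P.binom (G := G) j (k := 0) (i := 1) (c := a) (by simp [gam])
  simpa using h

theorem iterate_der_zero : ∀ (j : ℕ) (r : ℕ → G), (∀ m, m < j → r m = 1) → (der^[j] r) 0 = r j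
  | 0, _, _ => rfl
  | j + 1, r, h => by
    rw [Function.iterate_succ_apply, iterate_der_zero j (der r) fun m hm => by
      simp [der, h m (by omega), h (m + 1) (by omega)]]
    simp [der, h j (by omega)]

theorem P.iterate : ∀ {j k : ℕ} {f : ℕ → G}, P j k f → ∀ i, i ≤ j → ∀ m, (der^[i] f) m ∈ gam G (k + i)
  | j, k, f, h, 0, _, m => by simpa using h.val m
  | 0, _, _, _, i + 1, hi, _ => absurd hi (by omega)
  | j + 1, k, f, h, i + 1, hi, m => by
    rw [Function.iterate_succ_apply, show k + (i + 1) = k + 1 + i by ring]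
    exact P.iterate h.2 i (by omega) m

/-- In class less than `p` with derived subgroup of exponent `p`, the `p`-th power map is multiplicative. -/
theorem mul_pow_prime {p : ℕ} (hp : p.Prime) (hcl : (⊤ : Subgroup G).lowerCentralSeries (p - 1) = ⊥)
    (hexp : ∀ x ∈ commutator G, x ^ p = 1) (a b : G) : (a * b) ^ p = a ^ p * b ^ p := by
  set f : ℕ → G := (fun m => b ^ m)⁻¹ * (fun m => a ^ m)⁻¹ * fun m => (a * b) ^ m with hf
  have hfP : P p 0 f := ((P.powers p b).inv.mul (P.powers p a).inv).mul (P.powers p _)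
  have hfD : ∀ m, f m ∈ commutator G := fun m => by
    rw [← QuotientGroup.eq_one_iff]
    simp only [hf, Pi.mul_apply, Pi.inv_apply, QuotientGroup.mk_mul, QuotientGroup.mk_inv, QuotientGroup.mk_pow]
    show ((Abelianization.of b) ^ m)⁻¹ * ((Abelianization.of a) ^ m)⁻¹ * (Abelianization.of a * Abelianization.of b) ^ m = 1
    rw [mul_pow, ← mul_inv_rev, inv_mul_cancel]
  have key : ∀ j : ℕ, 2 ≤ j → j ≤ p → ∃ r : ℕ → G, P p 0 r ∧ (∀ m, r m ∈ commutator G) ∧ (∀ m, m < j → r m = 1) ∧ r p = f p := by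
    intro j hj
    induction j, hj using Nat.le_induction with
    | base =>
      intro _
      refine ⟨f, hfP, hfD, fun m hm => ?_, rfl⟩
      interval_cases m <;> simp [hf]
    | succ j hj ih =>
      intro hjp
      obtain ⟨r, hr1, hr2, hr3, hr4⟩ := ih (by omega)
      have hc : r j ∈ gam G (0 + j) := by
        rw [← iterate_der_zero j r hr3]
        exact hr1.iterate j (by omega) 0
      refine ⟨(fun m => r j ^ m.choose j)⁻¹ * r, (P.binom p hc).inv.mul hr1,
        fun m => Subgroup.mul_mem _ (Subgroup.inv_mem _ (Subgroup.pow_mem _ (hr2 j) _)) (hr2 m), fun m hm => ?_, ?_⟩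
      · rcases Nat.lt_succ_iff_lt_or_eq.mp hm with h | rfl
        · simp [Nat.choose_eq_zero_of_lt h, hr3 m h]
        · simp
      · obtain ⟨d, hd⟩ := hp.dvd_choose_self (by omega : j ≠ 0) (by omega)
        simp [Pi.mul_apply, Pi.inv_apply, hd, pow_mul, hexp _ (hr2 j), hr4]
  obtain ⟨r, hr1, -, hr3, hr4⟩ := key p hp.two_le le_rfl
  have hfp : f p = 1 := by
    rw [← hr4, ← iterate_der_zero p r hr3]
    have := hr1.iterate p le_rfl 0
    rwa [Nat.zero_add, gam, hcl, Subgroup.mem_bot] at this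
  simp only [hf, Pi.mul_apply, Pi.inv_apply] at hfp
  calc (a * b) ^ p = a ^ p * b ^ p * ((b ^ p)⁻¹ * (a ^ p)⁻¹ * (a * b) ^ p) := by group
    _ = a ^ p * b ^ p := by rw [hfp, mul_one]

end CfsgLib.Perm.PolySeq
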