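import Cfsg.Prelude.Def_Perm
import Cfsg.Agent.Char.Rep
import Cfsg.Agent.Char.Orth
import Cfsg.Agent.Char.Central
import Cfsg.Agent.Char.EquivChar
import Cfsg.Agent.S0669
import Mathlib

/-!
The permutation character, its centraliser algebra and eigenspaces of equivariant operators.
-/

set_option autoImplicit false
set_option linter.style.haveILetI false
set_option linter.unusedSectionVars false

namespace CfsgLib.Perm.PermChar

open CfsgLib.Char Cfsg Module
open scoped ComplexConjugate CfsgLib.Char

universe u v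

variable {G : Type u} [Group G] [Fintype G] {Ω : Type v} [Fintype Ω] [MulAction G Ω]

local notation "ρΩ" => Cfsg.permRep ℂ G Ω

theorem perm_char :
    (ρΩ).character = fun g : G => (Nat.card (MulAction.fixedBy Ω g) : ℂ) := by
  classical
  funext g
  rw [Representation.character, LinearMap.trace_eq_matrix_trace ℂ (Pi.basisFun ℂ Ω), Matrix.trace]
  have h : ∀ x, Matrix.diag (LinearMap.toMatrix (Pi.basisFun ℂ Ω) (Pi.basisFun ℂ Ω) (ρΩ g)) x
      = if g • x = x then (1 : ℂ) else 0 := by
    intro x
    simp only [Matrix.diag_apply, LinearMap.toMatrix_apply, Pi.basisFun_apply, Pi.basisFun_repr]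
    show (Pi.single x (1 : ℂ) : Ω → ℂ) (g⁻¹ • x) = _
    rw [Pi.single_apply]
    refine if_congr ?_ rfl rfl
    rw [inv_smul_eq_iff]
    exact eq_comm
  simp only [h, Finset.sum_boole]
  rw [Nat.card_eq_fintype_card, Fintype.card_subtype]
  simp [MulAction.mem_fixedBy]

theorem sum_fixed (X : Type*) [Fintype X] [MulAction G X] :
    ∑ g : G, (Nat.card (MulAction.fixedBy X g) : ℂ)
      = (Nat.card (MulAction.orbitRel.Quotient G X) : ℂ) * Nat.card G := by
  classical
  have h := MulAction.sum_card_fixedBy_eq_card_orbits_mul_card_group G X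
  simp only [← Nat.card_eq_fintype_card] at h
  exact_mod_cast h

theorem inner_perm_one :
    classInner (ρΩ).character (fun _ => (1 : ℂ)) = Nat.card (MulAction.orbitRel.Quotient G Ω) := by
  rw [classInner_def, perm_char]
  simp only [map_one, mul_one]
  rw [sum_fixed, mul_comm _ (Nat.card G : ℂ), inv_mul_cancel_left₀ (natCard_ne_zero G)]

theorem inner_perm_self : classInner (ρΩ).character (ρΩ).character
    = Nat.card (MulAction.orbitRel.Quotient G (Ω × Ω)) := by
  classical
  rw [classInner_def, perm_char]
  simp only [map_natCast]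
  have h : ∀ g : G, (Nat.card (MulAction.fixedBy Ω g) : ℂ) * Nat.card (MulAction.fixedBy Ω g)
      = Nat.card (MulAction.fixedBy (Ω × Ω) g) := fun g => by
    rw [← Nat.cast_mul, ← Nat.card_prod]
    congr 1
    refine Nat.card_congr ?_
    exact
      { toFun := fun x => ⟨(x.1.1, x.2.1), Prod.ext x.1.2 x.2.2⟩
        invFun := fun x => (⟨x.1.1, congrArg Prod.fst x.2⟩, ⟨x.1.2, congrArg Prod.snd x.2⟩)
        left_inv := fun x => rfl
        right_inv := fun x => rfl }
  rw [Finset.sum_congr rfl fun g _ => h g, sum_fixed, mul_comm _ (Nat.card G : ℂ),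
    inv_mul_cancel_left₀ (natCard_ne_zero G)]

theorem inner_perm_one_transitive [MulAction.IsPretransitive G Ω] [Nonempty Ω] :
    classInner (ρΩ).character (fun _ => (1 : ℂ)) = 1 := by
  rw [inner_perm_one]
  haveI : Subsingleton (MulAction.orbitRel.Quotient G Ω) :=
    MulAction.pretransitive_iff_subsingleton_quotient G Ω |>.1 inferInstance
  haveI : Nonempty (MulAction.orbitRel.Quotient G Ω) := ⟨Quotient.mk'' (Classical.arbitrary Ω)⟩
  simp

theorem inner_perm_self_rank [MulAction.IsPretransitive G Ω] (a : Ω) :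
    classInner (ρΩ).character (ρΩ).character
      = Nat.card (MulAction.orbitRel.Quotient (MulAction.stabilizer G a) Ω) := by
  rw [inner_perm_self, Cfsg.Agent.S0669.result a]

/-- An operator commuting with the permutation action. -/
def Comm (G : Type u) [Group G] {Ω : Type v} [MulAction G Ω] (S : (Ω → ℂ) →ₗ[ℂ] (Ω → ℂ)) : Prop :=
  ∀ (g : G) (v : Ω → ℂ), S (Cfsg.permRep ℂ G Ω g v) = Cfsg.permRep ℂ G Ω g (S v)

theorem mem_invariants_iff (S : (Ω → ℂ) →ₗ[ℂ] (Ω → ℂ)) :
    S ∈ ((ρΩ).linHom (ρΩ)).invariants ↔ Comm G S := by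
  rw [Representation.mem_invariants]
  constructor
  · intro h g v
    have := LinearMap.congr_fun (h g) (ρΩ g v)
    simp only [Representation.linHom_apply, LinearMap.comp_apply, Representation.inv_self_apply] at this
    exact this.symm
  · intro h g
    refine LinearMap.ext fun v => ?_
    simp only [Representation.linHom_apply, LinearMap.comp_apply]
    rw [← h, Representation.self_inv_apply]

/-- The matrix entries of an equivariant operator are invariant. -/
theorem comm_single [DecidableEq Ω] {S : (Ω → ℂ) →ₗ[ℂ] (Ω → ℂ)} (hS : Comm G S) (g : G) (x y : Ω) :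
    S (Pi.single (g • x) 1) (g • y) = S (Pi.single x 1) y := by
  have h : ρΩ g (Pi.single x (1 : ℂ)) = Pi.single (g • x) 1 := by
    funext z
    show (Pi.single x (1 : ℂ) : Ω → ℂ) (g⁻¹ • z) = _
    rw [Pi.single_apply, Pi.single_apply]
    simp [inv_smul_eq_iff]
  rw [← h, hS]
  show S _ (g⁻¹ • g • y) = _
  rw [inv_smul_smul]

/-- Generalised eigenspaces of an equivariant operator are invariant. -/
noncomputable def genSpace {S : (Ω → ℂ) →ₗ[ℂ] (Ω → ℂ)} (hS : Comm G S) (μ : ℂ) :
    Subrepresentation (ρΩ) where
  toSubmodule := Module.End.maxGenEigenspace S μ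
  apply_mem_toSubmodule g _ hv :=
    Module.End.mapsTo_maxGenEigenspace_of_comm
      (show Commute S (ρΩ g) from LinearMap.ext fun w => hS g w) μ hv

/-- A constituent of a subrepresentation is a constituent of the whole. -/
theorem inner_sub_le {V : Type*} [AddCommGroup V] [Module ℂ V] [FiniteDimensional ℂ V]
    (ρ : Representation ℂ G V) (W : Subrepresentation ρ) (χ : IrrCharacter G) :
    ∃ a b : ℕ, classInner W.toRepresentation.character (χ : G → ℂ) = a ∧
      classInner ρ.character (χ : G → ℂ) = b ∧ a ≤ b := by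
  obtain ⟨W', hW'⟩ := exists_compl ρ W
  obtain ⟨a, ha⟩ := inner_char_irr (isCharacter_of_rep W.toRepresentation) χ.2
  obtain ⟨c, hc⟩ := inner_char_irr (isCharacter_of_rep W'.toRepresentation) χ.2
  refine ⟨a, a + c, ha, ?_, Nat.le_add_right _ _⟩
  rw [show ρ.character = W.toRepresentation.character + W'.toRepresentation.character from
    funext (char_of_isCompl hW'), classInner_add_left, ha, hc]
  push_cast; rfl

theorem finrank_eq_sum {V : Type*} [AddCommGroup V] [Module ℂ V] [FiniteDimensional ℂ V]
    (ρ : Representation ℂ G V) :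
    (Module.finrank ℂ V : ℂ)
      = ∑ χ : IrrCharacter G, classInner ρ.character (χ : G → ℂ) * (χ : G → ℂ) 1 := by
  rw [← Representation.char_one ρ]
  conv_lhs => rw [classFun_eq_sum (classFun_of_char (isCharacter_of_rep ρ))]
  simp

theorem inner_self_eq_sum {V : Type*} [AddCommGroup V] [Module ℂ V] [FiniteDimensional ℂ V]
    (ρ : Representation ℂ G V) (m : IrrCharacter G → ℕ)
    (hm : ∀ χ : IrrCharacter G, classInner ρ.character (χ : G → ℂ) = m χ) :
    classInner ρ.character ρ.character = ((∑ χ : IrrCharacter G, m χ * m χ : ℕ) : ℂ) := by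
  have h := classFun_eq_sum (classFun_of_char (isCharacter_of_rep ρ))
  simp only [hm] at h
  nth_rewrite 2 [h]
  simp [classInner_sum_right, classInner_smul_right, hm]

/-- If a constituent occurs twice, the centraliser algebra is not commutative. -/
theorem exists_not_commute {χ : G → ℂ} (hχ : IsIrrCharacter G χ) {k : ℕ}
    (hk : classInner (ρΩ).character χ = k) (h2 : 2 ≤ k) :
    ∃ S T : (Ω → ℂ) →ₗ[ℂ] (Ω → ℂ), Comm G S ∧ Comm G T ∧ S ∘ₗ T ≠ T ∘ₗ S := by
  classical
  obtain ⟨n, σ, hirr, rfl⟩ := hχ
  have hψ : IsCharacter G ((ρΩ).character - σ.character - σ.character) := by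
    obtain ⟨hc, hn⟩ := isCharacter_iff.1 (isCharacter_of_rep (ρΩ))
    refine isCharacter_iff.2 ⟨fun g h => ?_, fun χ => ?_⟩
    · simp only [Pi.sub_apply, hc g h, Representation.char_conj]
    · obtain ⟨m, hm⟩ := hn χ
      rw [classInner_sub_left, classInner_sub_left, hm, irr_inner ⟨n, σ, hirr, rfl⟩ χ.2]
      split_ifs with he
      · rw [he] at hk
        rw [hk] at hm
        have : k = m := by exact_mod_cast hm
        refine ⟨m - 2, ?_⟩
        rw [Nat.cast_sub (by omega)]
        push_cast; ring
      · exact ⟨m, by ring⟩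
  obtain ⟨m, τ, hτ⟩ := hψ
  obtain ⟨e, he⟩ := exists_linearEquiv_of_char (G := G) _ (σ.prod (σ.prod τ)) (ρΩ) rfl (by
    rw [char_add_prod, char_add_prod, hτ]; abel)
  let A : ((Fin n → ℂ) × (Fin n → ℂ) × (Fin m → ℂ)) →ₗ[ℂ] ((Fin n → ℂ) × (Fin n → ℂ) × (Fin m → ℂ)) :=
    { toFun := fun x => (x.2.1, 0, 0)
      map_add' := fun x y => by simp
      map_smul' := fun c x => by simp }
  let B : ((Fin n → ℂ) × (Fin n → ℂ) × (Fin m → ℂ)) →ₗ[ℂ] ((Fin n → ℂ) × (Fin n → ℂ) × (Fin m → ℂ)) :=
    { toFun := fun x => (0, x.1, 0)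
      map_add' := fun x y => by simp
      map_smul' := fun c x => by simp }
  have hA : ∀ g x, A ((σ.prod (σ.prod τ)) g x) = (σ.prod (σ.prod τ)) g (A x) := fun g x =>
    Prod.ext rfl (Prod.ext (map_zero (σ g)).symm (map_zero (τ g)).symm)
  have hB : ∀ g x, B ((σ.prod (σ.prod τ)) g x) = (σ.prod (σ.prod τ)) g (B x) := fun g x =>
    Prod.ext (map_zero (σ g)).symm (Prod.ext rfl (map_zero (τ g)).symm)
  have hcomm : ∀ (C : ((Fin n → ℂ) × (Fin n → ℂ) × (Fin m → ℂ)) →ₗ[ℂ] ((Fin n → ℂ) × (Fin n → ℂ) × (Fin m → ℂ))),
      (∀ g x, C ((σ.prod (σ.prod τ)) g x) = (σ.prod (σ.prod τ)) g (C x)) →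
      Comm G (e.toLinearMap ∘ₗ C ∘ₗ e.symm.toLinearMap) := by
    intro C hC g v
    obtain ⟨x, rfl⟩ := e.surjective v
    simp only [LinearMap.comp_apply, LinearEquiv.coe_coe, ← he, LinearEquiv.symm_apply_apply, hC]
  refine ⟨_, _, hcomm A hA, hcomm B hB, fun hst => ?_⟩
  haveI := hirr
  haveI : Nontrivial (Fin n → ℂ) := Module.finrank_pos_iff.mp (finrank_pos_of_irreducible σ)
  obtain ⟨u, hu⟩ := exists_ne (0 : Fin n → ℂ)
  have := congrArg e.symm (LinearMap.congr_fun hst (e (u, 0, 0)))
  simp [A, B] at this
  exact hu this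

/-- Equivariant operators of a multiplicity-free representation commute. -/
theorem commute_of_le_one : ∀ (N : ℕ) {V : Type v} [AddCommGroup V] [Module ℂ V]
    [FiniteDimensional ℂ V] (ρ : Representation ℂ G V), Module.finrank ℂ V = N →
    (∀ χ : IrrCharacter G, classInner ρ.character (χ : G → ℂ) = 0 ∨
      classInner ρ.character (χ : G → ℂ) = 1) →
    ∀ S T : V →ₗ[ℂ] V, (∀ g v, S (ρ g v) = ρ g (S v)) → (∀ g v, T (ρ g v) = ρ g (T v)) →
      S ∘ₗ T = T ∘ₗ S := by
  intro N
  induction N using Nat.strong_induction_on with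
  | _ N ih =>
    intro V _ _ _ ρ hN hm S T hS hT
    rcases Nat.eq_zero_or_pos N with h0 | h0
    · haveI : Subsingleton V := Module.finrank_zero_iff.mp (hN.trans h0)
      exact Subsingleton.elim _ _
    by_cases hirr : ρ.IsIrreducible
    · haveI := hirr
      obtain ⟨a, rfl⟩ := schur_scalar ρ S hS
      obtain ⟨b, rfl⟩ := schur_scalar ρ T hT
      ext v
      simp [smul_smul, mul_comm]
    obtain ⟨W, W', hc, h1, h2⟩ := exists_split_of_not_irreducible ρ (hN ▸ h0) hirr
    have hsum : ∀ χ : IrrCharacter G, classInner ρ.character (χ : G → ℂ)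
        = classInner W.toRepresentation.character (χ : G → ℂ)
          + classInner W'.toRepresentation.character (χ : G → ℂ) := fun χ => by
      rw [show ρ.character = W.toRepresentation.character + W'.toRepresentation.character from
        funext (char_of_isCompl hc), classInner_add_left]
    have hboth : ∀ χ : IrrCharacter G,
        (classInner W.toRepresentation.character (χ : G → ℂ) = 0 ∨
          classInner W.toRepresentation.character (χ : G → ℂ) = 1) ∧
        (classInner W'.toRepresentation.character (χ : G → ℂ) = 0 ∨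
          classInner W'.toRepresentation.character (χ : G → ℂ) = 1) ∧
        classInner W.toRepresentation.character (χ : G → ℂ)
          * classInner W'.toRepresentation.character (χ : G → ℂ) = 0 := by
      intro χ
      obtain ⟨a, ha⟩ := inner_char_irr (isCharacter_of_rep W.toRepresentation) χ.2
      obtain ⟨b, hb⟩ := inner_char_irr (isCharacter_of_rep W'.toRepresentation) χ.2
      have h := hm χ
      rw [hsum, ha, hb] at h
      have hab : a + b = 0 ∨ a + b = 1 := by exact_mod_cast h
      rw [ha, hb]
      rcases hab with h | h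
      · obtain ⟨rfl, rfl⟩ := Nat.add_eq_zero_iff.1 h; simp
      · rcases Nat.add_eq_one_iff.1 h with ⟨rfl, rfl⟩ | ⟨rfl, rfl⟩ <;> simp
    have hzero : classInner W'.toRepresentation.character W.toRepresentation.character = 0 ∧
        classInner W.toRepresentation.character W'.toRepresentation.character = 0 := by
      have key : classInner W'.toRepresentation.character W.toRepresentation.character = 0 := by
        nth_rewrite 1 [classFun_eq_sum (classFun_of_char (isCharacter_of_rep W.toRepresentation))]
        rw [classInner_sum_right]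
        refine Finset.sum_eq_zero fun χ _ => ?_
        rw [classInner_smul_right]
        obtain ⟨a, ha⟩ := inner_char_irr (isCharacter_of_rep W.toRepresentation) χ.2
        rw [ha, map_natCast, ← ha]
        exact (hboth χ).2.2
      exact ⟨key, by rw [← classInner_conj, key, map_zero]⟩
    have hcs := isCompl_toSubmodule hc
    -- equivariant operators preserve both summands
    have hpres : ∀ (R : V →ₗ[ℂ] V), (∀ g v, R (ρ g v) = ρ g (R v)) →
        ∀ (A B : Subrepresentation ρ), IsCompl A.toSubmodule B.toSubmodule →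
          classInner B.toRepresentation.character A.toRepresentation.character = 0 →
          ∀ x ∈ A.toSubmodule, R x ∈ A.toSubmodule := by
      intro R hR A B hAB h0 x hx
      haveI : Subsingleton (A.toRepresentation.IntertwiningMap B.toRepresentation) := by
        rw [inner_eq_finrank] at h0
        exact Module.finrank_zero_iff.1 (by exact_mod_cast h0)
      have hproj : ∀ (g : G) (v : V), B.toSubmodule.projectionOnto A.toSubmodule hAB.symm (ρ g v)
          = B.toRepresentation g (B.toSubmodule.projectionOnto A.toSubmodule hAB.symm v) := by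
        intro g v
        obtain ⟨b, a, rfl, -⟩ := Submodule.existsUnique_add_of_isCompl hAB.symm v
        rw [map_add, map_add, map_add,
          Submodule.projectionOnto_apply_left hAB.symm b,
          Submodule.projectionOnto_apply_right hAB.symm a, add_zero,
          Submodule.projectionOnto_apply_left hAB.symm ⟨_, B.apply_mem_toSubmodule g b.2⟩,
          Submodule.projectionOnto_apply_right hAB.symm ⟨_, A.apply_mem_toSubmodule g a.2⟩, add_zero]
        rfl
      let f : A.toRepresentation.IntertwiningMap B.toRepresentation :=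
        ((B.toSubmodule.projectionOnto A.toSubmodule hAB.symm) ∘ₗ R ∘ₗ A.toSubmodule.subtype).intertwiningMap_of_isIntertwiningMap
          _ _ fun g v => by
            simp only [LinearMap.comp_apply, Submodule.subtype_apply]
            show B.toSubmodule.projectionOnto A.toSubmodule hAB.symm (R (ρ g (v : V))) = _
            rw [hR, hproj]
      have h1 : f ⟨x, hx⟩ = 0 := by rw [Subsingleton.elim f 0]; rfl
      exact (Submodule.projectionOnto_apply_eq_zero_iff hAB.symm).1 h1
    have hres : ∀ (R : V →ₗ[ℂ] V), (∀ g v, R (ρ g v) = ρ g (R v)) →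
        ∀ (A : Subrepresentation ρ) (hA : ∀ x ∈ A.toSubmodule, R x ∈ A.toSubmodule),
          ∀ g v, R.restrict hA (A.toRepresentation g v) = A.toRepresentation g (R.restrict hA v) :=
      fun R hR A hA g v => Subtype.ext (hR g v)
    refine LinearMap.ext fun v => ?_
    obtain ⟨x, y, rfl, -⟩ := Submodule.existsUnique_add_of_isCompl hcs v
    have e1 := LinearMap.congr_fun (ih _ (hN ▸ h1) W.toRepresentation rfl (fun χ => (hboth χ).1)
      _ _ (hres S hS W (hpres S hS W W' hcs hzero.1)) (hres T hT W (hpres T hT W W' hcs hzero.1))) x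
    have e2 := LinearMap.congr_fun (ih _ (hN ▸ h2) W'.toRepresentation rfl (fun χ => (hboth χ).2.1)
      _ _ (hres S hS W' (hpres S hS W' W hcs.symm hzero.2))
      (hres T hT W' (hpres T hT W' W hcs.symm hzero.2))) y
    simp only [LinearMap.comp_apply, map_add]
    exact congrArg₂ (· + ·) (congrArg Subtype.val e1) (congrArg Subtype.val e2)

/-- Integrality of the eigenvalues of an integral matrix operator. -/
theorem isIntegral_eigen [DecidableEq Ω] (M : Matrix Ω Ω ℤ) {μ : ℂ} {v : Ω → ℂ} (hv : v ≠ 0)
    (h : Matrix.toLin' (M.map (Int.cast : ℤ → ℂ)) v = μ • v) : IsIntegral ℤ μ := by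
  refine ⟨M.charpoly, M.charpoly_monic, ?_⟩
  have hev : Module.End.HasEigenvalue (Matrix.toLin' (M.map (Int.cast : ℤ → ℂ))) μ :=
    Module.End.hasEigenvalue_of_hasEigenvector ⟨Module.End.mem_eigenspace_iff.2 h, hv⟩
  rw [Module.End.hasEigenvalue_iff_isRoot_charpoly, Matrix.charpoly_toLin'] at hev
  have : (M.map (Int.cast : ℤ → ℂ)).charpoly = M.charpoly.map (algebraMap ℤ ℂ) :=
    Matrix.charpoly_map M (algebraMap ℤ ℂ)
  rw [this, Polynomial.IsRoot, Polynomial.eval_map] at hev
  exact hev

end CfsgLib.Perm.PermChar
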