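import Cfsg.Agent.Perm.ComplementQuotientSol
import Mathlib.GroupTheory.SemidirectProduct

/-!
Recognition of the binary tetrahedral group.
-/

set_option autoImplicit false
set_option linter.style.haveILetI false

namespace CfsgLib.Perm.SLTwoThree

open CfsgLib.Perm.Fpf

local notation "Q8" => QuaternionGroup 2

/-- The map of the quaternion group determined by the images of two generators. -/
def qlift {Y : Type*} [Monoid Y] (u v : Y) : Q8 → Y
  | .a m => u ^ m.val
  | .xa m => v * u ^ m.val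

/-- The automorphism of order three cyclically permuting the generators. -/
def alphaFun : Q8 → Q8 := qlift (.xa 0) (.xa 3)

theorem alphaFun_mul : ∀ x y, alphaFun (x * y) = alphaFun x * alphaFun y := by decide

theorem alphaFun_bij : Function.Bijective alphaFun := by decide

noncomputable def alpha : MulAut Q8 := MulEquiv.ofBijective (MonoidHom.mk' alphaFun alphaFun_mul) alphaFun_bij

theorem alpha_apply (q : Q8) : alpha q = alphaFun q := rfl

theorem alpha_cube : alpha ^ 3 = 1 := by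
  refine MulEquiv.ext fun q => ?_
  show alphaFun (alphaFun (alphaFun q)) = q
  revert q; decide

noncomputable def phi : Multiplicative (ZMod 3) →* MulAut Q8 :=
  AddMonoidHom.toMultiplicativeLeft (ZMod.lift 3 ⟨zmultiplesHom _ (Additive.ofMul alpha), by
    rw [zmultiplesHom_apply, natCast_zsmul, ← ofMul_pow, alpha_cube, ofMul_one]⟩)

theorem phi_one : phi (Multiplicative.ofAdd 1) = alpha := by
  show Additive.toMul (ZMod.lift 3 _ (1 : ZMod 3)) = alpha
  rw [show (1 : ZMod 3) = ((1 : ℤ) : ZMod 3) by norm_num, ZMod.lift_coe]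
  simp

theorem gen_three : ∀ g : Multiplicative (ZMod 3), g = Multiplicative.ofAdd 1 ^ (Multiplicative.toAdd g).val := by
  decide

/-- A group of order 24 split by an order three element permuting quaternion generators. -/
theorem recognize {Y : Type*} [Group Y] [Finite Y] (hY : Nat.card Y = 24) (f : Q8 →* Y)
    (hf : Function.Injective f) (t : Y) (ht : orderOf t = 3) (hconj : ∀ q, t * f q * t⁻¹ = f (alpha q)) :
    Nonempty (SemidirectProduct Q8 (Multiplicative (ZMod 3)) phi ≃* Y) := by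
  let g : Multiplicative (ZMod 3) →* Y :=
    AddMonoidHom.toMultiplicativeLeft (ZMod.lift 3 ⟨zmultiplesHom _ (Additive.ofMul t), by
      rw [zmultiplesHom_apply, natCast_zsmul, ← ofMul_pow, ← ht, pow_orderOf_eq_one, ofMul_one]⟩)
  have hg1 : g (Multiplicative.ofAdd 1) = t := by
    show Additive.toMul (ZMod.lift 3 _ (1 : ZMod 3)) = t
    rw [show (1 : ZMod 3) = ((1 : ℤ) : ZMod 3) by norm_num, ZMod.lift_coe]
    simp
  have key : ∀ (k : ℕ) (q : Q8), t ^ k * f q * (t ^ k)⁻¹ = f ((alpha ^ k) q) := by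
    intro k
    induction k with
    | zero => intro q; simp
    | succ k ih =>
      intro q
      calc t ^ (k + 1) * f q * (t ^ (k + 1))⁻¹ = t * (t ^ k * f q * (t ^ k)⁻¹) * t⁻¹ := by rw [pow_succ']; group
        _ = f ((alpha ^ (k + 1)) q) := by rw [ih, hconj, pow_succ', MulAut.mul_apply]
  let F : SemidirectProduct Q8 (Multiplicative (ZMod 3)) phi →* Y := SemidirectProduct.lift f g fun x => by
    refine MonoidHom.ext fun q => ?_
    show f (phi x q) = g x * f q * (g x)⁻¹
    rw [gen_three x, map_pow, map_pow, phi_one, hg1, key]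
  have hinj : Function.Injective F := by
    refine (injective_iff_map_eq_one F).2 fun x hx => ?_
    have hx' : f x.left * g x.right = 1 := hx
    have hr : x.right = 1 := by
      rw [gen_three x.right, map_pow, hg1] at hx'
      set k := (Multiplicative.toAdd x.right).val
      have h8 : (t ^ k) ^ 8 = 1 := by
        rw [eq_inv_of_mul_eq_one_right hx', inv_pow, ← map_pow,
          show x.left ^ 8 = 1 by generalize x.left = q; revert q; decide, map_one, inv_one]
      rw [← pow_mul, ← orderOf_dvd_iff_pow_eq_one, ht] at h8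
      have hk : k = 0 := by
        have : k < 3 := ZMod.val_lt _
        omega
      rw [gen_three x.right, show (Multiplicative.toAdd x.right).val = 0 from hk, pow_zero]
    rw [hr, map_one, mul_one] at hx'
    exact SemidirectProduct.ext (hf (by rw [hx']; exact (map_one f).symm)) hr
  refine ⟨MulEquiv.ofBijective F ((Nat.bijective_iff_injective_and_card F).2 ⟨hinj, ?_⟩)⟩
  rw [Nat.card_congr SemidirectProduct.equivProd, Nat.card_prod, hY, Nat.card_eq_fintype_card,
    Nat.card_eq_fintype_card]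
  rfl

/-- Generators of the binary tetrahedral group. -/
theorem model : ∃ (f : Q8 →* Matrix.SpecialLinearGroup (Fin 2) (ZMod 3)) (t : Matrix.SpecialLinearGroup (Fin 2) (ZMod 3)),
    Function.Injective f ∧ orderOf t = 3 ∧ ∀ q, t * f q * t⁻¹ = f (alpha q) := by
  let i : Matrix.SpecialLinearGroup (Fin 2) (ZMod 3) := ⟨!![0, -1; 1, 0], by decide⟩
  let j : Matrix.SpecialLinearGroup (Fin 2) (ZMod 3) := ⟨!![1, 1; 1, -1], by decide⟩
  let t : Matrix.SpecialLinearGroup (Fin 2) (ZMod 3) := ⟨!![1, 1; 0, 1], by decide⟩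
  haveI : Fact (Nat.Prime 3) := ⟨Nat.prime_three⟩
  refine ⟨MonoidHom.mk' (qlift i j) (by decide +kernel), t, ?_, orderOf_eq_prime (by decide)
    (fun h => absurd (congrFun (congrFun (congrArg Subtype.val h) 0) 1) (by decide)), ?_⟩
  · intro a b h
    revert a b
    decide +kernel
  · intro q
    show t * qlift i j q * t⁻¹ = qlift i j (alphaFun q)
    revert q
    decide +kernel

theorem card_sl23 : Nat.card (Matrix.SpecialLinearGroup (Fin 2) (ZMod 3)) = 24 := by
  rw [Nat.card_eq_fintype_card]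
  decide +kernel

/-- Quaternion pairs give automorphisms. -/
theorem pair_hom : ∀ u v : Q8, u * u = .a 2 → v * v = .a 2 → v ≠ u → v ≠ u⁻¹ →
    (∀ x y, qlift u v (x * y) = qlift u v x * qlift u v y) ∧ Function.Injective (qlift u v) := by
  decide +kernel

theorem sq_eq : ∀ u : Q8, u * u ≠ 1 → u * u = .a 2 := by decide

theorem third_class : ∀ u v w : Q8, u * u ≠ 1 → v * v ≠ 1 → w * w ≠ 1 → q8cls u ≠ q8cls v → q8cls u ≠ q8cls w →
    q8cls v ≠ q8cls w → w = u * v ∨ w = (u * v)⁻¹ := by decide +kernel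

theorem fixed_class : ∀ u v : Q8, u * u ≠ 1 → v * v ≠ 1 → q8cls u ≠ q8cls v → v ≠ u ∧ v ≠ u⁻¹ := by decide +kernel

/-- A group of order 24 with normal quaternion subgroup and an element of order three moving its classes. -/
theorem iso_sl23 {Y : Type*} [Group Y] [Finite Y] (hY : Nat.card Y = 24) (f : Q8 →* Y) (hf : Function.Injective f)
    (t : Y) (ht : orderOf t = 3) (β : MulAut Q8) (hconj : ∀ q, t * f q * t⁻¹ = f (β q)) (hmove : q8act β ≠ 1) :
    Nonempty (Y ≃* Matrix.SpecialLinearGroup (Fin 2) (ZMod 3)) := by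
  classical
  have hβ3 : β ^ 3 = 1 := by
    refine MulEquiv.ext fun q => hf ?_
    have h1 : f ((β ^ 3) q) = t ^ 3 * f q * (t ^ 3)⁻¹ := by
      calc f ((β ^ 3) q) = t * (t * (t * f q * t⁻¹) * t⁻¹) * t⁻¹ := by rw [hconj, hconj, hconj]; rfl
        _ = _ := by rw [pow_succ, pow_two]; group
    rw [h1, ← ht, pow_orderOf_eq_one, one_mul, inv_one, mul_one]
    rfl
  set s := q8act β
  have hs3 : s ^ 3 = 1 := by rw [← map_pow, hβ3, map_one]
  have hsfree : ∀ i, s i ≠ i := fun i e => hmove (perm3_fix s hs3 i e)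
  set u0 : Q8 := q8rep 0 with hu0
  have hsq : ∀ (γ : MulAut Q8) (q : Q8), q * q ≠ 1 → γ q * γ q ≠ 1 := fun γ q hq e => by
    rw [← map_mul, EmbeddingLike.map_eq_one_iff] at e
    exact hq e
  have hcls : ∀ q : Q8, q * q ≠ 1 → q8cls (β q) = s (q8cls q) := by
    intro q hq
    rw [q8act_apply]
    rcases q8rep_cls q hq with h | h
    · exact congrArg (fun x => q8cls (β x)) h
    · conv_lhs => rw [h, map_inv]
      exact q8cls_inv _ (hsq β _ (q8rep_sq _))
  have hu0sq := q8rep_sq 0
  set v0 := β u0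
  set w0 := β v0
  have hv0 : v0 * v0 ≠ 1 := hsq _ _ hu0sq
  have hw0 : w0 * w0 ≠ 1 := hsq _ _ hv0
  have c0 : q8cls u0 = 0 := q8cls_rep 0
  have c1 : q8cls v0 = s 0 := by rw [hcls _ hu0sq, c0]
  have c2 : q8cls w0 = s (s 0) := by rw [hcls _ hv0, c1]
  have d01 : q8cls u0 ≠ q8cls v0 := by rw [c0, c1]; exact (hsfree 0).symm
  have d12 : q8cls v0 ≠ q8cls w0 := by rw [c1, c2]; exact (hsfree (s 0)).symm
  have d02 : q8cls u0 ≠ q8cls w0 := by
    rw [c0, c2]
    intro e
    refine hsfree 0 ?_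
    have h3 := Equiv.ext_iff.1 hs3 0
    rw [pow_succ, pow_two, Equiv.Perm.mul_apply, Equiv.Perm.mul_apply, ← c2] at h3
    rwa [Equiv.Perm.one_apply, c2, e.symm] at h3
  obtain ⟨u, hu, hw⟩ : ∃ u, u * u ≠ 1 ∧ (β (β u) = u * β u ∧ q8cls u ≠ q8cls (β u)) := by
    rcases third_class u0 v0 w0 hu0sq hv0 hw0 d01 d02 d12 with h | h
    · exact ⟨u0, hu0sq, h, d01⟩
    · refine ⟨u0⁻¹, by rw [← mul_inv_rev]; exact inv_ne_one.2 hu0sq, ?_, ?_⟩
      · rw [map_inv, map_inv, show β (β u0) = w0 from rfl, h, inv_inv]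
        have : ∀ a b : Q8, a * a ≠ 1 → b * b ≠ 1 → a * b = a⁻¹ * b⁻¹ := by decide +kernel
        exact this u0 v0 hu0sq hv0
      · rw [map_inv, q8cls_inv _ hu0sq, q8cls_inv _ hv0]; exact d01
  have hv : β u * β u ≠ 1 := hsq _ _ hu
  obtain ⟨n1, n2⟩ := fixed_class u (β u) hu hv hw.2
  obtain ⟨hm, hi⟩ := pair_hom u (β u) (sq_eq u hu) (sq_eq _ hv) n1 n2
  let γ : Q8 →* Q8 := MonoidHom.mk' (qlift u (β u)) hm
  have hagree : ∀ q, β (γ q) = γ (alpha q) := by
    have hA : β (γ (.a 1)) = γ (alpha (.a 1)) := by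
      show β (u ^ 1) = γ (alphaFun (.a 1))
      rw [show alphaFun (.a 1) = .xa 0 by decide, pow_one]
      show β u = β u * u ^ 0
      rw [pow_zero, mul_one]
    have hB : β (γ (.xa 0)) = γ (alpha (.xa 0)) := by
      show β (β u * u ^ 0) = γ (alphaFun (.xa 0))
      rw [show alphaFun (.xa 0) = .a 1 * .xa 0 by decide, pow_zero, mul_one, hw.1, map_mul]
      show u * β u = u ^ 1 * (β u * u ^ 0)
      rw [pow_one, pow_zero, mul_one]
    intro q
    obtain ⟨m, k, rfl⟩ : ∃ m : Fin 4, ∃ k : Fin 2, q = .a 1 ^ (m : ℕ) * .xa 0 ^ (k : ℕ) := q8_gen q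
    simp only [map_mul, map_pow, hA, hB]
  obtain ⟨e⟩ := recognize hY (f.comp γ) (hf.comp hi) t ht fun q => by
    rw [MonoidHom.comp_apply, hconj, hagree]; rfl
  obtain ⟨f0, t0, h0, h0t, h0c⟩ := model
  obtain ⟨e0⟩ := recognize card_sl23 f0 h0 t0 h0t h0c
  exact ⟨e.symm.trans e0⟩

end CfsgLib.Perm.SLTwoThree
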