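import Mathlib

/-!
Sylow subgroups of prime order: counting elements, and the action on the Sylow subgroups
of a simple group.
-/

set_option autoImplicit false
set_option linter.style.haveILetI false

namespace CfsgLib.Perm.SylowPrime

variable {G : Type*} [Group G] [Finite G] {p : ℕ} [Fact p.Prime]

/-- When the Sylow `p`-subgroups have order `p` there are `n_p * (p - 1)` elements of order `p`. -/
theorem card_orderOf_eq (hc : ∀ R : Sylow p G, Nat.card (R : Subgroup G) = p) :
    Nat.card {g : G // orderOf g = p} = Nat.card (Sylow p G) * (p - 1) := by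
  classical
  have hp : p.Prime := Fact.out
  haveI : Fintype (Sylow p G) := Fintype.ofFinite _
  have hord : ∀ (R : Sylow p G) (u : {u : (R : Subgroup G) // u ≠ 1}), orderOf (u.1 : G) = p := by
    intro R u
    have h1 : orderOf (u.1 : G) ∣ p := (Subgroup.orderOf_dvd_natCard _ u.1.2).trans (hc R).dvd
    rcases (Nat.dvd_prime hp).mp h1 with h | h
    · exact absurd (Subtype.ext (orderOf_eq_one_iff.mp h)) u.2
    · exact h
  have hgen : ∀ (R : Sylow p G) (g : G), g ∈ (R : Subgroup G) → orderOf g = p →
      Subgroup.zpowers g = R := fun R g hg ho => Subgroup.eq_of_le_of_card_ge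
    (Subgroup.zpowers_le.mpr hg) (by rw [hc, Nat.card_zpowers, ho])
  rw [← Nat.card_eq_of_bijective (fun x : (Σ R : Sylow p G, {u : (R : Subgroup G) // u ≠ 1}) =>
      (⟨x.2.1.1, hord x.1 x.2⟩ : {g : G // orderOf g = p})) ⟨?_, ?_⟩]
  rotate_left
  · rintro ⟨R, ⟨u, hu⟩, hu1⟩ ⟨R', ⟨u', hu'⟩, hu1'⟩ h
    have h0 : u = u' := congrArg Subtype.val h
    subst h0
    obtain rfl : R = R' := Sylow.ext ((hgen R u hu (hord R ⟨⟨u, hu⟩, hu1⟩)).symm.trans
      (hgen R' u hu' (hord R ⟨⟨u, hu⟩, hu1⟩)))
    rfl
  · rintro ⟨g, hg⟩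
    obtain ⟨R, hR⟩ := (IsPGroup.of_card (n := 1) (by rw [Nat.card_zpowers, hg, pow_one]) :
      IsPGroup p (Subgroup.zpowers g)).exists_le_sylow
    exact ⟨⟨R, ⟨g, hR (Subgroup.mem_zpowers g)⟩, fun h => by
      have : g = 1 := congrArg Subtype.val h
      rw [this, orderOf_one] at hg
      exact hp.one_lt.ne hg⟩, rfl⟩
  rw [Nat.card_sigma]
  have h4 : ∀ R : Sylow p G, Nat.card {u : (R : Subgroup G) // u ≠ 1} = p - 1 := by
    intro R
    have h5 : ({(1 : (R : Subgroup G))}ᶜ : Set (R : Subgroup G)).ncard = p - 1 := by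
      rw [Set.ncard_compl, Set.ncard_singleton, hc]
    rw [← h5, ← Nat.card_coe_set_eq]
    rfl
  rw [Finset.sum_congr rfl fun R _ => h4 R, Finset.sum_const, Finset.card_univ, smul_eq_mul,
    Nat.card_eq_fintype_card]

/-- The order of a finite non-commutative simple group divides `n_p!` for any prime `p`
dividing it. -/
theorem card_dvd_factorial [IsSimpleGroup G] (hG : ¬ IsMulCommutative G) (hp : p ∣ Nat.card G) :
    Nat.card G ∣ (Nat.card (Sylow p G)).factorial := by
  have hinj : Function.Injective (MulAction.toPermHom G (Sylow p G)) := by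
    rw [← MonoidHom.ker_eq_bot_iff]
    rcases (MonoidHom.normal_ker (MulAction.toPermHom G (Sylow p G))).eq_bot_or_eq_top with h | h
    · exact h
    · exfalso
      obtain ⟨P⟩ : Nonempty (Sylow p G) := inferInstance
      have hn : Subgroup.normalizer ((P : Subgroup G) : Set G) = ⊤ := by
        rw [Subgroup.eq_top_iff']
        intro g
        have hst : MulAction.stabilizer G P = Subgroup.normalizer ((P : Subgroup G) : Set G) :=
          Sylow.stabilizer_eq_normalizer P
        rw [← hst, MulAction.mem_stabilizer_iff]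
        have h1 : MulAction.toPermHom G (Sylow p G) g = 1 :=
          MonoidHom.mem_ker.mp (h.symm ▸ Subgroup.mem_top g)
        exact DFunLike.congr_fun h1 P
      haveI : (P : Subgroup G).Normal := Subgroup.normalizer_eq_top_iff.mp hn
      rcases (inferInstance : (P : Subgroup G).Normal).eq_bot_or_eq_top with h2 | h2
      · have h3 := P.dvd_card_of_dvd_card hp
        rw [h2, Subgroup.card_bot] at h3
        exact (Fact.out : p.Prime).not_dvd_one h3
      · apply hG
        have hP : IsPGroup p G := (h2 ▸ P.isPGroup' : IsPGroup p (⊤ : Subgroup G)).of_equiv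
          Subgroup.topEquiv
        haveI : Nontrivial G := IsSimpleGroup.toNontrivial
        haveI := hP.center_nontrivial
        rcases (inferInstance : (Subgroup.center G).Normal).eq_bot_or_eq_top with h4 | h4
        · exact absurd h4 ((Subgroup.nontrivial_iff_ne_bot _).mp inferInstance)
        · exact ⟨⟨fun a b => (Subgroup.mem_center_iff.mp (h4 ▸ Subgroup.mem_top a) b).symm⟩⟩
  have h := Subgroup.card_dvd_of_injective _ hinj
  rwa [Nat.card_perm] at h

/-- The number of Sylow subgroups times the order of a Sylow subgroup divides the group order. -/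
theorem card_sylow_dvd (P : Sylow p G) {m : ℕ} (hm : Nat.card G = Nat.card (P : Subgroup G) * m) :
    Nat.card (Sylow p G) ∣ m := by
  have h1 : Nat.card (Sylow p G) ∣ (P : Subgroup G).index := P.card_dvd_index
  have h2 := (P : Subgroup G).card_mul_index
  rw [hm] at h2
  rwa [Nat.eq_of_mul_eq_mul_left Nat.card_pos h2] at h1

end CfsgLib.Perm.SylowPrime
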