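import Mathlib
import Cfsg.Agent.S0989
import Cfsg.Agent.S0990
import Cfsg.Agent.S0991
import Cfsg.Agent.Perm.SylowPrime

/-!
Necessary conditions on the order of a non-commutative finite simple group.
-/

set_option autoImplicit false
set_option linter.style.haveILetI false

namespace CfsgLib.Perm.SimpleOrder

variable {G : Type*} [Group G] [Finite G] [IsSimpleGroup G]

/-- A simple group whose order is not a prime is not commutative. -/
theorem not_comm (h : ¬ (Nat.card G).Prime) : ¬ IsMulCommutative G := fun hc => by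
  haveI := hc
  exact h (Group.is_simple_iff_prime_card.mp inferInstance)

/-- The order of a simple group divides the factorial of the index of a proper subgroup. -/
theorem card_dvd_index_factorial (hG : ¬ IsMulCommutative G) {H : Subgroup G} (hH : H ≠ ⊤) :
    Nat.card G ∣ H.index.factorial := by
  obtain ⟨f, hf⟩ := Cfsg.Agent.S0991.result hG H hH
  refine (Subgroup.card_dvd_of_injective f hf).trans ?_
  have h := Subgroup.card_subgroup_dvd_card (alternatingGroup (Fin H.index))
  rwa [Nat.card_perm, Nat.card_fin] at h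

/-- A Sylow normalizer is proper. -/
theorem normalizer_ne_top (hG : ¬ IsMulCommutative G) {p : ℕ} [Fact p.Prime] (hp : p ∣ Nat.card G)
    (P : Sylow p G) : Subgroup.normalizer ((P : Subgroup G) : Set G) ≠ ⊤ := by
  intro htop
  have h := CfsgLib.Perm.SylowPrime.card_dvd_factorial hG hp
  have hn : Nat.card (Sylow p G) = 1 := by
    rw [P.card_eq_index_normalizer]
    exact Subgroup.index_eq_one.mpr htop
  rw [hn, Nat.factorial_one, Nat.dvd_one] at h
  rw [h] at hp
  exact (Fact.out : p.Prime).not_dvd_one hp

/-- If there are `p + 1` Sylow `p`-subgroups then twice the order of a Sylow normalizer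
divides `p * (p - 1)`. -/
theorem two_mul_normalizer_dvd (hG : ¬ IsMulCommutative G) {p : ℕ} [Fact p.Prime] (hp2 : p ≠ 2)
    (hp : p ∣ Nat.card G) (hn : Nat.card (Sylow p G) = p + 1) (P : Sylow p G) :
    2 * Nat.card (Subgroup.normalizer ((P : Subgroup G) : Set G)) ∣ p * (p - 1) := by
  classical
  have hpp : p.Prime := Fact.out
  set N := Subgroup.normalizer ((P : Subgroup G) : Set G) with hN
  obtain ⟨f, hf⟩ := Cfsg.Agent.S0991.result hG N (normalizer_ne_top hG hp P)
  have hidx : N.index = p + 1 := P.card_eq_index_normalizer.symm.trans hn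
  set P' := (P : Subgroup G).map ((alternatingGroup (Fin N.index)).subtype.comp f) with hP'
  have hinj : Function.Injective ((alternatingGroup (Fin N.index)).subtype.comp f) := (alternatingGroup (Fin N.index)).subtype_injective.comp hf
  have hfac : (Nat.card (Equiv.Perm (Fin N.index))).factorization p = 1 := by
    rw [Nat.card_perm, Nat.card_fin, hidx, Nat.factorial_succ,
      Nat.factorization_mul (by omega) (Nat.factorial_ne_zero p), Finsupp.add_apply,
      Nat.factorization_eq_zero_of_not_dvd (fun h => hpp.not_dvd_one ((Nat.dvd_add_right (dvd_refl p)).mp h))]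
    obtain ⟨q, hq⟩ : ∃ q, p = q + 1 := ⟨p - 1, by have := hpp.one_le; omega⟩
    conv_lhs => arg 2; arg 1; arg 1; rw [hq]
    rw [Nat.factorial_succ, ← hq, Nat.factorization_mul hpp.ne_zero (Nat.factorial_ne_zero q),
      Finsupp.add_apply, hpp.factorization_self, Nat.factorization_eq_zero_of_not_dvd (n := q.factorial)
        (fun h => by rw [hpp.dvd_factorial] at h; omega)]
    omega
  have hP'c : Nat.card P' = p ^ (Nat.card (Equiv.Perm (Fin N.index))).factorization p := by
    rw [hfac, pow_one, hP', Subgroup.card_map_of_injective hinj]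
    have h1 : Nat.card (P : Subgroup G) ∣ Nat.card (Equiv.Perm (Fin N.index)) :=
      (Subgroup.card_subgroup_dvd_card _).trans (Subgroup.card_dvd_of_injective _ hinj)
    obtain ⟨k, hk⟩ := IsPGroup.iff_card.mp P.isPGroup'
    rw [hk, hpp.pow_dvd_iff_le_factorization Nat.card_pos.ne', hfac] at h1
    have h2 := P.dvd_card_of_dvd_card hp
    rw [hk] at h2
    interval_cases k
    · exact absurd (pow_zero p ▸ h2) hpp.not_dvd_one
    · rw [hk, pow_one]
  let Q : Sylow p (Equiv.Perm (Fin N.index)) := Sylow.ofCard P' hP'c
  have hQ : (Q : Subgroup (Equiv.Perm (Fin N.index))) = P' := Sylow.coe_ofCard _ _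
  have h989 := Cfsg.Agent.S0989.result p (α := Fin N.index) (Or.inr (by rw [Fintype.card_fin, hidx])) Q
  obtain ⟨-, h990⟩ := Cfsg.Agent.S0990.result (α := Fin N.index)
    (by rw [Fintype.card_fin, hidx]; have := hpp.two_le; omega) p hp2 Q
  rw [h989, hQ] at h990
  rw [← h990]
  refine Nat.mul_dvd_mul_left 2 ?_
  refine Subgroup.card_dvd_of_injective ((f.comp N.subtype).codRestrict _ fun u => ?_) ?_
  · refine Subgroup.mem_normalizer_fintype fun v hv => ?_
    rw [SetLike.mem_coe, Subgroup.mem_subgroupOf, hP'] at hv ⊢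
    obtain ⟨w, hw, hwv⟩ := hv
    refine ⟨(u : G) * w * (u : G)⁻¹, (Subgroup.mem_normalizer_iff.mp u.2 w).mp hw, ?_⟩
    have hwv' : ((f w : alternatingGroup (Fin N.index)) : Equiv.Perm (Fin N.index)) = (v : Equiv.Perm (Fin N.index)) := hwv
    simp [hwv']
  · intro a b hab
    exact Subtype.ext (hf (congrArg Subtype.val hab))

end CfsgLib.Perm.SimpleOrder
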