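import Cfsg.Agent.Perm.PrimePSL
import Cfsg.Agent.Perm.SimpleOrder

/-!
Order recognitions of small projective special linear groups.
-/

set_option autoImplicit false
set_option linter.style.haveILetI false

namespace CfsgLib.Perm.PrimePSL

theorem psl_congr {F K : Type*} [Field F] [Field K] (e : F ≃+* K) :
    Nonempty (Matrix.ProjectiveSpecialLinearGroup (Fin 2) F ≃* Matrix.ProjectiveSpecialLinearGroup (Fin 2) K) := by
  let eS : Matrix.SpecialLinearGroup (Fin 2) F ≃* Matrix.SpecialLinearGroup (Fin 2) K :=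
    MonoidHom.toMulEquiv (Matrix.SpecialLinearGroup.map e.toRingHom) (Matrix.SpecialLinearGroup.map e.symm.toRingHom)
      (MonoidHom.ext fun M => Subtype.ext (Matrix.ext fun i j => by simp))
      (MonoidHom.ext fun M => Subtype.ext (Matrix.ext fun i j => by simp))
  refine ⟨QuotientGroup.congr _ _ eS ?_⟩
  ext M
  refine ⟨?_, fun h => ⟨eS.symm M, ?_, eS.apply_symm_apply M⟩⟩
  · rintro ⟨N, hN, rfl⟩
    refine Subgroup.mem_center_iff.2 fun L => eS.symm.injective ?_
    show eS.symm (L * eS N) = eS.symm (eS N * L)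
    rw [map_mul, map_mul, eS.symm_apply_apply]
    exact Subgroup.mem_center_iff.1 hN _
  · refine Subgroup.mem_center_iff.2 fun L => eS.injective ?_
    rw [map_mul, map_mul, eS.apply_symm_apply]
    exact Subgroup.mem_center_iff.1 h _

/-- The Sylow count from a list of numerical options. -/
theorem card_sylow_eq {G : Type*} [Group G] [Finite G] [IsSimpleGroup G] {q r n : ℕ} [Fact q.Prime]
    (hG : Nat.card G = q * r) (hnp : ¬ (Nat.card G).Prime) (hq : ¬ q ∣ r)
    (hdiv : ∀ d, d ∣ r → d % q = 1 % q → d ≠ 1 → d = n) : Nat.card (Sylow q G) = n := by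
  obtain ⟨P⟩ : Nonempty (Sylow q G) := inferInstance
  have hd : q ∣ Nat.card G := hG ▸ dvd_mul_right q r
  have hP : Nat.card (P : Subgroup G) = q := by
    have hr0 : r ≠ 0 := fun e => by subst e; exact hq (dvd_zero q)
    rw [P.card_eq_multiplicity, hG, Nat.factorization_mul (Fact.out : q.Prime).ne_zero hr0, Finsupp.add_apply,
      (Fact.out : q.Prime).factorization_self, Nat.factorization_eq_zero_of_not_dvd hq, pow_one]
  refine hdiv _ (SylowPrime.card_sylow_dvd P (by rw [hP, hG])) (card_sylow_modEq_one q G) fun h1 => ?_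
  have h := SylowPrime.card_dvd_factorial (SimpleOrder.not_comm hnp) hd
  rw [h1, Nat.factorial_one, Nat.dvd_one] at h
  rw [h] at hd
  exact (Fact.out : q.Prime).not_dvd_one hd

end CfsgLib.Perm.PrimePSL
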