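import Mathlib.GroupTheory.GroupAction.ConjAct
import Mathlib.GroupTheory.Sylow
import Mathlib.GroupTheory.SchurZassenhaus
import Cfsg.Agent.Perm.Basic
import Cfsg.Agent.Solv.Basic

/-!
Class sizes and Sylow subgroups.
-/

set_option autoImplicit false
set_option linter.style.haveILetI false

namespace CfsgLib.Perm

open scoped Pointwise

variable {G : Type*} [Group G]

/-- The size of a conjugacy class is the index of the centraliser. -/
theorem ncard_carrier_eq_index (x : G) :
    (ConjClasses.mk x).carrier.ncard = (Subgroup.centralizer ({x} : Set G)).index := by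
  rw [← ConjAct.orbit_eq_carrier_conjClasses, ← MulAction.index_stabilizer,
    Subgroup.centralizer_eq_comap_stabilizer]
  exact (Subgroup.index_comap_of_surjective _ ConjAct.toConjAct.surjective).symm

/-- Between a `p`-subgroup of `H` and `H` lies a Sylow `p`-subgroup of `G` if `p` does not divide
the index of `H`. -/
theorem exists_sylow_between [Finite G] {p : ℕ} [hp : Fact p.Prime] {H S : Subgroup G}
    (hH : ¬ p ∣ H.index) (hS : IsPGroup p S) (hSH : S ≤ H) :
    ∃ Q : Sylow p G, S ≤ Q ∧ (Q : Subgroup G) ≤ H := by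
  obtain ⟨Q₀, hQ₀⟩ := (IsPGroup.comap_subtype hS (K := H)).exists_le_sylow
  set R := (Q₀ : Subgroup H).map H.subtype with hR
  have hRp : IsPGroup p R := Q₀.2.map _
  obtain ⟨Q, hQ⟩ := hRp.exists_le_sylow
  have hidx : ¬ p ∣ R.index := by
    rw [hR, Subgroup.index_map_subtype]
    exact fun h => (hp.out.dvd_mul.1 h).elim Q₀.not_dvd_index hH
  have hrel : R.relIndex Q = 1 := by
    obtain ⟨k, hk⟩ := IsPGroup.iff_card.1 Q.2
    exact Nat.eq_one_of_dvd_coprimes ((hp.out.coprime_iff_not_dvd.2 hidx).pow_left k)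
      (hk ▸ Subgroup.relIndex_dvd_card R Q) (Subgroup.relIndex_dvd_index_of_le hQ)
  refine ⟨Q, ?_, fun x hx => ?_⟩
  · intro s hs
    exact hQ ⟨⟨s, hSH hs⟩, hQ₀ (show (⟨s, hSH hs⟩ : H) ∈ S.comap H.subtype from hs), rfl⟩
  · obtain ⟨y, _, rfl⟩ := Subgroup.relIndex_eq_one.1 hrel hx
    exact y.2

/-- If every element of order prime to `p` centralises some Sylow `p`-subgroup then the Sylow
`p`-subgroup is a direct factor. -/
theorem sylow_direct_factor [Finite G] {p : ℕ} [hp : Fact p.Prime]
    (h : ∀ x : G, (orderOf x).Coprime p →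
      ¬ p ∣ (Subgroup.centralizer ({x} : Set G)).index) (P : Sylow p G) :
    (P : Subgroup G).Normal ∧ ∃ H : Subgroup G, H.Normal ∧ ¬ p ∣ Nat.card H ∧
      (P : Subgroup G) ⊓ H = ⊥ ∧ (P : Subgroup G) ⊔ H = ⊤ ∧ ∀ x ∈ H, ∀ y ∈ (P : Subgroup G), x * y = y * x := by
  classical
  have hN : Subgroup.normalizer ((P : Subgroup G) : Set G) = ⊤ := by
    apply eq_top_of_forall_conj_mem
    intro y
    set q := p ^ (orderOf y).factorization p with hq
    set s := orderOf y / q with hs
    have hqs : q * s = orderOf y := Nat.ordProj_mul_ordCompl_eq_self _ _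
    have hqne : q ≠ 0 := pow_ne_zero _ hp.out.ne_zero
    have hcop : s.Coprime p := (Nat.coprime_ordCompl hp.out (orderOf_pos y).ne').symm
    have hoq : orderOf (y ^ q) = s := by
      rw [orderOf_pow_of_dvd hqne ⟨s, hqs.symm⟩]
    set C := Subgroup.centralizer ({y ^ q} : Set G) with hC
    have hyC : y ^ s ∈ C :=
      Subgroup.mem_centralizer_singleton_iff.2 (Commute.pow_pow_self y s q).eq
    have hS : IsPGroup p (Subgroup.zpowers (y ^ s)) := by
      intro z
      obtain ⟨i, hi⟩ := Subgroup.mem_zpowers_iff.1 z.2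
      refine ⟨(orderOf y).factorization p, Subtype.ext ?_⟩
      rw [Subgroup.coe_pow, ← hi, ← hq, ← zpow_natCast ((y ^ s) ^ i), zpow_comm, zpow_natCast,
        ← pow_mul, mul_comm, hqs, pow_orderOf_eq_one, one_zpow]
      rfl
    obtain ⟨Q, hQ1, hQ2⟩ := exists_sylow_between (h _ (hoq ▸ hcop)) hS (Subgroup.zpowers_le.2 hyC)
    have hy1 : y ^ s ∈ Subgroup.normalizer ((Q : Subgroup G) : Set G) :=
      Subgroup.le_normalizer (hQ1 (Subgroup.mem_zpowers _))
    have hy2 : y ^ q ∈ Subgroup.normalizer ((Q : Subgroup G) : Set G) := by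
      rw [Subgroup.mem_normalizer_iff]
      intro z
      constructor
      · intro hz
        rw [← Subgroup.mem_centralizer_singleton_iff.1 (hQ2 hz), mul_inv_cancel_right]
        exact hz
      · intro hz
        have h1 := Subgroup.mem_centralizer_singleton_iff.1 (hQ2 hz)
        rw [inv_mul_cancel_right, mul_right_inj] at h1
        rwa [← h1] at hz
    have hy : y ∈ Subgroup.normalizer ((Q : Subgroup G) : Set G) := by
      have hb := Int.gcd_eq_gcd_ab (q : ℤ) (s : ℤ)
      rw [Int.gcd_natCast_natCast, Nat.Coprime.gcd_eq_one (hcop.symm.pow_left _), Nat.cast_one] at hb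
      have : y = (y ^ q) ^ Int.gcdA q s * (y ^ s) ^ Int.gcdB q s := by
        rw [← zpow_natCast, ← zpow_natCast, ← zpow_mul, ← zpow_mul, ← zpow_add, ← hb, zpow_one]
      rw [this]
      exact mul_mem (zpow_mem hy2 _) (zpow_mem hy1 _)
    obtain ⟨g, hg⟩ := MulAction.exists_smul_eq G P Q
    have hg' : MulAut.conj g • (P : Subgroup G) = Q := by
      rw [← hg]; rfl
    refine ⟨g, CfsgLib.Solv.mem_normalizer_of_conj_smul_eq ?_⟩
    rw [map_mul, map_mul, mul_smul, mul_smul, hg',
      CfsgLib.Solv.conj_smul_eq_self_of_mem_normalizer hy, ← hg', ← mul_smul, ← map_mul,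
      inv_mul_cancel, map_one, one_smul]
  haveI hPn : (P : Subgroup G).Normal := Subgroup.normalizer_eq_top_iff.1 hN
  obtain ⟨k, hk⟩ := IsPGroup.iff_card.1 P.2
  have hcopP : (Nat.card (P : Subgroup G)).Coprime (P : Subgroup G).index := by
    rw [hk]; exact (hp.out.coprime_iff_not_dvd.2 P.not_dvd_index).pow_left k
  obtain ⟨H, hH⟩ := Subgroup.exists_right_complement'_of_coprime hcopP
  have hcard : Nat.card H = (P : Subgroup G).index := (Subgroup.IsComplement'.index_eq_card hH.symm).symm
  have hcom : ∀ x ∈ H, ∀ y ∈ (P : Subgroup G), x * y = y * x := by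
    intro x hx y hy
    have hord : (orderOf x).Coprime p := by
      refine Nat.Coprime.symm (hp.out.coprime_iff_not_dvd.2 fun hd => P.not_dvd_index ?_)
      rw [← hcard]
      exact hd.trans (Subgroup.orderOf_dvd_natCard _ hx)
    obtain ⟨Q, -, hQ⟩ := exists_sylow_between (h x hord) IsPGroup.of_bot bot_le
    haveI := Sylow.unique_of_normal P hPn
    rw [Subsingleton.elim Q P] at hQ
    exact (Subgroup.mem_centralizer_singleton_iff.1 (hQ hy)).symm
  refine ⟨hPn, H, ?_, fun hd => P.not_dvd_index (hcard ▸ hd), hH.disjoint.eq_bot,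
    hH.sup_eq_top, hcom⟩
  rw [← Subgroup.normalizer_eq_top_iff, eq_top_iff, ← hH.sup_eq_top]
  refine sup_le (fun y hy => ?_) Subgroup.le_normalizer
  rw [Subgroup.mem_normalizer_iff]
  intro z
  constructor
  · intro hz; rwa [← hcom z hz y hy, mul_inv_cancel_right]
  · intro hz
    have h1 := hcom _ hz y hy
    rw [inv_mul_cancel_right, mul_right_inj] at h1
    rwa [← h1] at hz

end CfsgLib.Perm
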