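import Mathlib.GroupTheory.SpecificGroups.Alternating.Centralizer
import Mathlib.Tactic

/-!
Automorphisms of alternating groups are induced by permutations.
-/

set_option autoImplicit false
set_option linter.style.haveILetI false
set_option linter.unusedSectionVars false

open Equiv Equiv.Perm

namespace CfsgLib.Perm.AutAlt

variable {α : Type*} [Fintype α] [DecidableEq α]

/-- the three-cycle `a → b → x → a` -/
def tc (a b x : α) : Equiv.Perm α := Equiv.swap a b * Equiv.swap b x

theorem tc_fst {a b x : α} (hab : a ≠ b) (hax : a ≠ x) : tc a b x a = b := by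
  rw [tc, Perm.mul_apply, swap_apply_of_ne_of_ne hab hax, swap_apply_left]

theorem tc_snd {a b x : α} (hax : a ≠ x) (hbx : b ≠ x) : tc a b x b = x := by
  rw [tc, Perm.mul_apply, swap_apply_left, swap_apply_of_ne_of_ne hax.symm hbx.symm]

theorem tc_thd (a b x : α) : tc a b x x = a := by
  rw [tc, Perm.mul_apply, swap_apply_right, swap_apply_right]

theorem isThreeCycle_tc {a b x : α} (hab : a ≠ b) (hax : a ≠ x) (hbx : b ≠ x) :
    (tc a b x).IsThreeCycle := by
  rw [tc, Equiv.swap_comm a b]
  exact isThreeCycle_swap_mul_swap_same hab.symm hbx hax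

theorem conj_tc (g : Equiv.Perm α) (a b x : α) : g * tc a b x * g⁻¹ = tc (g a) (g b) (g x) := by
  rw [tc, tc, Equiv.swap_apply_apply, Equiv.swap_apply_apply]
  group

theorem tc_inv {a b x : α} (hab : a ≠ b) (hax : a ≠ x) : (tc a b x)⁻¹ = tc a x b := by
  have h := Equiv.swap_apply_apply (Equiv.swap b x) a b
  rw [swap_apply_of_ne_of_ne hab hax, swap_apply_left, swap_inv] at h
  rw [tc, tc, mul_inv_rev, swap_inv, swap_inv, h, Equiv.swap_comm x b, mul_assoc, Equiv.swap_mul_self, mul_one]

theorem eq_tc {g : Equiv.Perm α} (hg : g.IsThreeCycle) {a : α} (ha : g a ≠ a) :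
    g = tc a (g a) (g (g a)) :=
  hg.eq_swap_mul_swap_iff_mem_support.2 (mem_support.2 ha)

theorem facts {g : Equiv.Perm α} (hg : g.IsThreeCycle) {a : α} (ha : g a ≠ a) :
    g (g a) ≠ g a ∧ g (g a) ≠ a ∧ g (g (g a)) = a ∧
      ∀ z, g z ≠ z → z = a ∨ z = g a ∨ z = g (g a) := by
  have h1 : g (g a) ≠ g a := fun h => ha (g.injective h)
  have hs := (hg.support_eq_iff_mem_support).2 (mem_support.2 ha)
  have h3 : g (g (g a)) = a := by
    have := congrArg (fun f : Equiv.Perm α => f a) (hg.orderOf ▸ pow_orderOf_eq_one g : g ^ 3 = 1)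
    simpa [pow_succ] using this
  refine ⟨h1, fun h => ?_, h3, fun z hz => ?_⟩
  · rw [h] at h3; exact ha h3
  · have : z ∈ g.support := mem_support.2 hz
    rw [hs] at this
    simpa using this

/-- Two three-cycles whose product is an involution share an arrow. -/
theorem exists_common_arrow {c d : Equiv.Perm α} (hc : c.IsThreeCycle) (hd : d.IsThreeCycle)
    (h2 : (c * d) ^ 2 = 1) (h1 : c * d ≠ 1) : ∃ A, c A ≠ A ∧ d A = c A := by
  have hev : ∀ z, c (d (c (d z))) = z := fun z => by
    have := congrArg (fun f : Equiv.Perm α => f z) h2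
    simpa [sq] using this
  by_cases hdisj : ∀ z, c z ≠ z → d z = z
  · exfalso
    obtain ⟨P, hP⟩ : ∃ P, c P ≠ P := by
      by_contra hne
      push Not at hne
      exact hc.ne_one (Equiv.ext fun z => by simp [hne z])
    obtain ⟨f1, f2, -, -⟩ := facts hc hP
    have := hev P
    rw [hdisj P hP, hdisj (c P) f1] at this
    exact f2 this
  push Not at hdisj
  obtain ⟨P, hP, hPd⟩ := hdisj
  obtain ⟨c1, c2, c3, cS⟩ := facts hc hP
  obtain ⟨d1, d2, d3, dS⟩ := facts hd hPd
  obtain ⟨Q, hQ, hQd, hQc⟩ : ∃ Q, c Q ≠ Q ∧ d Q ≠ Q ∧ d (c Q) ≠ c Q := by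
    by_cases h : d (c P) = c P
    · by_cases h' : d (c (c P)) = c (c P)
      · exfalso
        have hu : c (d P) = d P := by
          by_contra hne
          rcases cS _ hne with e | e | e
          · exact hPd e
          · exact d1 (e ▸ h)
          · exact d1 (e ▸ h')
        have hv : c (d (d P)) = d (d P) := by
          by_contra hne
          rcases cS _ hne with e | e | e
          · exact d2 e
          · have := congrArg d e
            rw [d3, h] at this
            exact hP this.symm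
          · have := congrArg d e
            rw [d3, h'] at this
            exact c2 this.symm
        have := hev (d P)
        rw [hv, d3] at this
        refine d1 ?_
        rw [← this]
        exact h
      · exact ⟨c (c P), by rw [c3]; exact Ne.symm c2, h', by rw [c3]; exact hPd⟩
    · exact ⟨P, hP, hPd, h⟩
  obtain ⟨q1, q2, q3, qS⟩ := facts hc hQ
  obtain ⟨e1, e2, e3, eS⟩ := facts hd hQd
  by_cases heq : d Q = c Q
  · exact ⟨Q, hQ, heq⟩
  exfalso
  have hcQ : c Q = d (d Q) := by
    rcases eS _ hQc with e | e | e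
    · exact absurd e hQ
    · exact absurd e.symm heq
    · exact e
  by_cases hY : d Q = c (c Q)
  · refine h1 (Equiv.ext fun z => ?_)
    show c (d z) = z
    by_cases hz : d z = z
    · rw [hz]
      by_contra hne
      rcases qS _ hne with e | e | e
      · exact hQd (e ▸ hz)
      · exact hQc (e ▸ hz)
      · rw [e, ← hY] at hz
        exact e1 hz
    · rcases eS _ hz with e | e | e
      · rw [e, hY, q3]
      · rw [e, ← hcQ, hY]
      · rw [e, e3, ← hcQ]
  · have hYf : c (d Q) = d Q := by
      by_contra hne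
      rcases qS _ hne with e | e | e
      · exact hQd e
      · exact heq e
      · exact hY e
    have := hev Q
    rw [hYf, ← hcQ] at this
    exact q2 this

/-- A family of three-cycles pairwise sharing arrows has a common arrow. -/
theorem common_of_pairwise {ι : Type*} (d : ι → Equiv.Perm α) (hinj : Function.Injective d)
    (hd : ∀ i, (d i).IsThreeCycle) (i₁ i₂ : ι) (h12 : i₁ ≠ i₂)
    (h : ∀ i j, i ≠ j → ∃ A, d i A ≠ A ∧ d j A = d i A) :
    ∃ A B, A ≠ B ∧ ∀ i, d i A = B := by
  obtain ⟨A, hA, hA2⟩ := h i₁ i₂ h12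
  refine ⟨A, d i₁ A, Ne.symm hA, fun i => ?_⟩
  by_contra hi
  have hi1 : i ≠ i₁ := fun e => hi (by rw [e])
  have hi2 : i ≠ i₂ := fun e => hi (by rw [e, hA2])
  obtain ⟨P, hP, hP'⟩ := h i₁ i (Ne.symm hi1)
  obtain ⟨Q, hQ, hQ'⟩ := h i₂ i (Ne.symm hi2)
  have hA2' : d i₂ A ≠ A := by rw [hA2]; exact hA
  obtain ⟨x1, x2, x3, xS⟩ := facts (hd i₁) hA
  obtain ⟨y1, y2, y3, yS⟩ := facts (hd i₂) hA2'
  rw [hA2] at y1 y2 y3 yS
  set B := d i₁ A
  set X := d i₁ B
  set Y := d i₂ B
  have hXY : X ≠ Y := by
    intro e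
    refine h12 (hinj ?_)
    rw [eq_tc (hd i₁) hA, eq_tc (hd i₂) hA2', hA2]
    show tc A B X = tc A B Y
    rw [e]
  have hPA : P ≠ A := fun e => hi (by rw [← e, hP', e])
  have hQA : Q ≠ A := fun e => hi (by rw [← e, hQ', e, hA2])
  have four : ∀ s t u v : α, d i s ≠ s → d i t ≠ t → d i u ≠ u → d i v ≠ v →
      [s, t, u, v].Nodup → False := by
    intro s t u v hs ht hu hv hnd
    have hsub : ({s, t, u, v} : Finset α) ⊆ (d i).support := by
      intro z hz
      simp only [Finset.mem_insert, Finset.mem_singleton] at hz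
      rcases hz with rfl | rfl | rfl | rfl <;> exact mem_support.2 ‹_›
    have h4 := Finset.card_le_card hsub
    rw [(hd i).card_support] at h4
    simp only [List.nodup_cons, List.mem_cons, List.not_mem_nil, or_false, not_or] at hnd
    obtain ⟨⟨h1, h2, h3⟩, ⟨h5, h6⟩, h7, -⟩ := hnd
    simp [h1, h2, h3, h5, h6, h7] at h4
  have moved : ∀ z w, d i z = w → z ≠ w → d i z ≠ z ∧ d i w ≠ w := fun z w e hne =>
    ⟨by rw [e]; exact hne.symm, fun h' => hne ((d i).injective (e.trans h'.symm))⟩
  rcases (xS P hP).resolve_left hPA with rfl | rfl <;> rcases (yS Q hQ).resolve_left hQA with rfl | rfl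
  · exact hXY (hP'.symm.trans hQ')
  · -- `B → X`, `Y → A`
    rw [y3] at hQ'
    obtain ⟨m1, m2⟩ := moved _ _ hP' (Ne.symm x1)
    obtain ⟨m3, m4⟩ := moved _ _ hQ' y2
    refine four B X Y A m1 m2 m3 m4 ?_
    simp [hXY, Ne.symm x1, Ne.symm y1, hA, x2, y2]
  · rw [x3] at hP'
    obtain ⟨m1, m2⟩ := moved _ _ hP' x2
    obtain ⟨m3, m4⟩ := moved _ _ hQ' (Ne.symm y1)
    refine four X A B Y m1 m2 m3 m4 ?_
    simp [hXY, x1, x2, Ne.symm y1, Ne.symm hA, Ne.symm y2]
  · rw [x3] at hP'
    rw [y3] at hQ'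
    exact hXY ((d i).injective (hP'.trans hQ'.symm))

/-- Three-cycles through a fixed arrow generate the alternating group. -/
theorem closure_arrow {a b : α} (hab : a ≠ b) (hcard : 4 ≤ Fintype.card α)
    (H : Subgroup (Equiv.Perm α)) (hH : ∀ x, x ≠ a → x ≠ b → tc a b x ∈ H) :
    alternatingGroup α ≤ H := by
  classical
  have hconj : ∀ g ∈ H, ∀ p q r, tc p q r ∈ H → tc (g p) (g q) (g r) ∈ H := fun g hg p q r h => by
    rw [← conj_tc]; exact H.mul_mem (H.mul_mem hg h) (H.inv_mem hg)
  have hfix : ∀ {p q r z : α}, z ≠ p → z ≠ q → z ≠ r → tc p q r z = z := fun hp hq hr => by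
    rw [tc, Perm.mul_apply, swap_apply_of_ne_of_ne hq hr, swap_apply_of_ne_of_ne hp hq]
  -- `b → y → x`
  have hb : ∀ x y, x ≠ a → x ≠ b → y ≠ a → y ≠ b → x ≠ y → tc b y x ∈ H := by
    intro x y hxa hxb hya hyb hxy
    have := hconj _ (hH y hya hyb) a b x (hH x hxa hxb)
    rwa [tc_fst hab hya.symm, tc_snd hya.symm hyb.symm, hfix hxa hxb hxy] at this
  -- `a → x → y`
  have ha : ∀ x y, x ≠ a → x ≠ b → y ≠ a → y ≠ b → x ≠ y → tc a x y ∈ H := by
    intro x y hxa hxb hya hyb hxy
    have := hconj _ (hb y x hya hyb hxa hxb hxy.symm) a b x (hH x hxa hxb)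
    rwa [hfix hab hxa.symm hya.symm, tc_fst (Ne.symm hxb) (Ne.symm hyb), tc_snd (Ne.symm hyb) hxy] at this
  rw [← closure_three_cycles_eq_alternating, Subgroup.closure_le]
  intro g hg
  show g ∈ H
  -- if `g` moves `a`, write it starting at `a`
  by_cases hga : g a = a
  swap
  · obtain ⟨f1, f2, f3, -⟩ := facts hg hga
    rw [eq_tc hg hga]
    by_cases h1 : g a = b
    · rw [h1] at f1 f2 ⊢
      exact hH _ f2 f1
    by_cases h2 : g (g a) = b
    · rw [h2]
      have h3 := H.inv_mem (hH (g a) hga h1)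
      rwa [tc_inv hab (Ne.symm hga)] at h3
    · exact ha _ _ hga h1 f2 h2 (Ne.symm f1)
  -- otherwise conjugate it to such a cycle
  obtain ⟨P, hP⟩ : ∃ P, g P ≠ P := by
    by_contra hne
    push Not at hne
    exact hg.ne_one (Equiv.ext fun z => by simp [hne z])
  obtain ⟨f1, f2, f3, fS⟩ := facts hg hP
  by_cases hgb : g b = b
  · rw [eq_tc hg hP]
    have hPa : ∀ z, g z ≠ z → z ≠ a ∧ z ≠ b := fun z hz =>
      ⟨fun e => hz (e ▸ hga), fun e => hz (e ▸ hgb)⟩
    obtain ⟨p1, p2⟩ := hPa P hP
    obtain ⟨q1, q2⟩ := hPa (g P) (fun e => hP (g.injective e))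
    obtain ⟨r1, r2⟩ := hPa (g (g P)) (by rw [f3]; exact Ne.symm f2)
    have := hconj _ (hH P p1 p2) b (g P) (g (g P)) (hb _ _ r1 r2 q1 q2 f1)
    rwa [tc_snd p1.symm p2.symm, hfix q1 q2 hP, hfix r1 r2 f2] at this
  · rw [eq_tc hg hgb]
    have h1 : g b ≠ a := fun e => hab.symm (g.injective (e.trans hga.symm))
    have h2 : g (g b) ≠ a := fun e => h1 (g.injective (e.trans hga.symm))
    obtain ⟨e1, e2, -, -⟩ := facts hg hgb
    exact hb _ _ h2 e2 h1 hgb e1

/-- An automorphism preserving three-cycles is conjugation by a permutation. -/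
theorem exists_conj (hcard : 4 ≤ Fintype.card α) (φ : MulAut (alternatingGroup α))
    (hpres : ∀ g : alternatingGroup α, (g : Equiv.Perm α).IsThreeCycle → ((φ g : alternatingGroup α) : Equiv.Perm α).IsThreeCycle) :
    ∃ σ : Equiv.Perm α, MulAut.conjNormal σ = φ := by
  classical
  obtain ⟨a, b, hab⟩ := Fintype.exists_pair_of_one_lt_card (show 1 < Fintype.card α by omega)
  let ι := {x : α // x ≠ a ∧ x ≠ b}
  let c : ι → alternatingGroup α := fun x =>
    ⟨tc a b x, (isThreeCycle_tc hab (Ne.symm x.2.1) (Ne.symm x.2.2)).mem_alternatingGroup⟩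
  let d : ι → Equiv.Perm α := fun x => (φ (c x) : alternatingGroup α)
  have hc3 : ∀ x, (c x : Equiv.Perm α).IsThreeCycle := fun x => isThreeCycle_tc hab (Ne.symm x.2.1) (Ne.symm x.2.2)
  have hd3 : ∀ x, (d x).IsThreeCycle := fun x => hpres _ (hc3 x)
  have hcinj : Function.Injective c := fun x y h => by
    have := congrArg (fun g : alternatingGroup α => (g : Equiv.Perm α) b) h
    simp only [c] at this
    rw [tc_snd (Ne.symm x.2.1) (Ne.symm x.2.2), tc_snd (Ne.symm y.2.1) (Ne.symm y.2.2)] at this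
    exact Subtype.ext this
  have hdinj : Function.Injective d := fun x y h => hcinj (φ.injective (Subtype.ext h))
  have hfix : ∀ {p q r z : α}, z ≠ p → z ≠ q → z ≠ r → tc p q r z = z := fun hp hq hr => by
    rw [tc, Perm.mul_apply, swap_apply_of_ne_of_ne hq hr, swap_apply_of_ne_of_ne hp hq]
  have hshare : ∀ x y, x ≠ y → ∃ A, d x A ≠ A ∧ d y A = d x A := by
    intro x y hxy
    have hne : (x : α) ≠ y := fun e => hxy (Subtype.ext e)
    have h2 : (c x * c y) ^ 2 = 1 := by
      refine Subtype.ext (Equiv.ext fun z => ?_)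
      show tc a b x (tc a b y (tc a b x (tc a b y z))) = z
      have hax := Ne.symm x.2.1
      have hbx := Ne.symm x.2.2
      have hay := Ne.symm y.2.1
      have hby := Ne.symm y.2.2
      by_cases z1 : z = a
      · rw [z1, tc_fst hab hay, tc_snd hax hbx, hfix x.2.1 x.2.2 hne, tc_thd]
      by_cases z2 : z = b
      · rw [z2, tc_snd hay hby, hfix y.2.1 y.2.2 hne.symm, tc_thd, tc_fst hab hax]
      by_cases z3 : z = (y : α)
      · rw [z3, tc_thd, tc_fst hab hax, tc_snd hay hby, hfix y.2.1 y.2.2 hne.symm]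
      by_cases z4 : z = (x : α)
      · rw [z4, hfix x.2.1 x.2.2 hne, tc_thd, tc_fst hab hay, tc_snd hax hbx]
      rw [hfix z1 z2 z3, hfix z1 z2 z4, hfix z1 z2 z3, hfix z1 z2 z4]
    have h1 : c x * c y ≠ 1 := by
      intro h
      have := congrArg (fun g : alternatingGroup α => (g : Equiv.Perm α) a) h
      simp only [Subgroup.coe_mul, Perm.mul_apply, c, Subgroup.coe_one, Perm.one_apply] at this
      rw [tc_fst hab (Ne.symm y.2.1), tc_snd (Ne.symm x.2.1) (Ne.symm x.2.2)] at this
      exact x.2.1 this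
    refine exists_common_arrow (hd3 x) (hd3 y) ?_ ?_
    · have := congrArg (fun g => ((φ g : alternatingGroup α) : Equiv.Perm α)) h2
      simpa using this
    · intro h
      refine h1 (φ.injective (Subtype.ext ?_))
      rw [map_mul, map_one]
      exact h
  obtain ⟨x₁, x₂, h12⟩ : ∃ x y : ι, x ≠ y := by
    have h2 : 1 < Fintype.card ι := by
      have : Fintype.card ι = Fintype.card α - 2 := by
        rw [Fintype.card_subtype, show (Finset.univ.filter fun x : α => x ≠ a ∧ x ≠ b) = ({a, b} : Finset α)ᶜ by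
          ext z; simp, Finset.card_compl, Finset.card_pair hab]
      omega
    exact Fintype.exists_pair_of_one_lt_card h2
  obtain ⟨A, B, hAB, hd⟩ := common_of_pairwise d hdinj hd3 x₁ x₂ h12 hshare
  have hdA : ∀ x, d x A ≠ A := fun x => by rw [hd]; exact hAB.symm
  have hdeq : ∀ x, d x = tc A B (d x B) ∧ d x B ≠ A ∧ d x B ≠ B := fun x => by
    obtain ⟨f1, f2, -, -⟩ := facts (hd3 x) (hdA x)
    have e := eq_tc (hd3 x) (hdA x)
    rw [hd] at e f1 f2
    exact ⟨e, f2, f1⟩
  let f : α → α := fun z => if h : z = a then A else if h' : z = b then B else d ⟨z, h, h'⟩ B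
  have hfa : f a = A := by simp [f]
  have hfb : f b = B := by simp [f, hab.symm]
  have hfx : ∀ x : ι, f x = d x B := fun x => by simp [f, x.2.1, x.2.2]
  have hf : Function.Injective f := by
    have key : ∀ z, z = a ∨ z = b ∨ ∃ x : ι, z = x := fun z => by
      by_cases h : z = a
      · exact Or.inl h
      by_cases h' : z = b
      · exact Or.inr (Or.inl h')
      exact Or.inr (Or.inr ⟨⟨z, h, h'⟩, rfl⟩)
    intro z w h
    rcases key z with hz | hz | ⟨x, hz⟩ <;> rcases key w with hw | hw | ⟨y, hw⟩ <;>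
      rw [hz, hw] at h ⊢ <;> simp only [hfa, hfb, hfx] at h
    · exact absurd h hAB
    · exact absurd h.symm (hdeq y).2.1
    · exact absurd h.symm hAB
    · exact absurd h.symm (hdeq y).2.2
    · exact absurd h (hdeq x).2.1
    · exact absurd h (hdeq x).2.2
    · exact congrArg Subtype.val (hdinj (show d x = d y by rw [(hdeq x).1, (hdeq y).1, h]))
  let σ : Equiv.Perm α := Equiv.ofBijective f (Finite.injective_iff_bijective.1 hf)
  refine ⟨σ, ?_⟩
  let K : Subgroup (alternatingGroup α) :=
    (MulAut.conjNormal σ).toMonoidHom.eqLocus φ.toMonoidHom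
  have hK : alternatingGroup α ≤ K.map (alternatingGroup α).subtype := by
    refine closure_arrow hab hcard _ fun x hxa hxb => ⟨c ⟨x, hxa, hxb⟩, ?_, rfl⟩
    show MulAut.conjNormal σ (c ⟨x, hxa, hxb⟩) = φ (c ⟨x, hxa, hxb⟩)
    refine Subtype.ext ?_
    rw [MulAut.conjNormal_apply]
    show σ * tc a b x * σ⁻¹ = d ⟨x, hxa, hxb⟩
    rw [conj_tc, (hdeq _).1]
    show tc (f a) (f b) (f x) = _
    rw [hfa, hfb, hfx ⟨x, hxa, hxb⟩]
  refine MulEquiv.ext fun g => ?_
  obtain ⟨k, hk, hkg⟩ := hK g.2
  rw [← Subtype.ext hkg]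
  exact hk

theorem conjNormal_injective (hcard : 4 ≤ Fintype.card α) :
    Function.Injective (MulAut.conjNormal : Equiv.Perm α →* MulAut (alternatingGroup α)) := by
  rw [injective_iff_map_eq_one]
  intro σ hσ
  by_contra hne
  obtain ⟨P, hP⟩ : ∃ P, σ P ≠ P := by
    by_contra hall
    push Not at hall
    exact hne (Equiv.ext fun z => by simp [hall z])
  obtain ⟨Q, R, hQ, hR, hQR⟩ : ∃ Q R, Q ∉ ({P, σ P} : Finset α) ∧ R ∉ ({P, σ P} : Finset α) ∧ Q ≠ R := by
    have : 1 < ({P, σ P} : Finset α)ᶜ.card := by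
      rw [Finset.card_compl, Finset.card_pair (Ne.symm hP)]; omega
    obtain ⟨Q, hQ, R, hR, hne⟩ := Finset.one_lt_card.1 this
    exact ⟨Q, R, Finset.mem_compl.1 hQ, Finset.mem_compl.1 hR, hne⟩
  simp only [Finset.mem_insert, Finset.mem_singleton, not_or] at hQ hR
  have h3 := isThreeCycle_tc (Ne.symm hQ.1) (Ne.symm hR.1) hQR
  have e := congrArg (fun φ : MulAut (alternatingGroup α) =>
    ((φ ⟨_, h3.mem_alternatingGroup⟩ : alternatingGroup α) : Equiv.Perm α) (σ P)) hσ
  simp only [MulAut.conjNormal_apply, conj_tc, MulAut.one_apply] at e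
  rw [tc_fst (fun h => hQ.1 (σ.injective h).symm) (fun h => hR.1 (σ.injective h).symm),
    show tc P Q R (σ P) = σ P by
      rw [tc, Perm.mul_apply, swap_apply_of_ne_of_ne (Ne.symm hQ.2) (Ne.symm hR.2),
        swap_apply_of_ne_of_ne hP (Ne.symm hQ.2)]] at e
  exact hQ.1 (σ.injective e)

theorem card_centralizer_alt {g : alternatingGroup α}
    (hg : ¬ Subgroup.centralizer {(g : Equiv.Perm α)} ≤ alternatingGroup α) :
    2 * Nat.card (Subgroup.centralizer ({g} : Set (alternatingGroup α))) =
      Nat.card (Subgroup.centralizer ({(g : Equiv.Perm α)} : Set (Equiv.Perm α))) := by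
  set C := Subgroup.centralizer ({(g : Equiv.Perm α)} : Set (Equiv.Perm α))
  obtain ⟨u, hu, hua⟩ := SetLike.not_le_iff_exists.1 hg
  let s : C →* ℤˣ := Equiv.Perm.sign.comp C.subtype
  have hs : Function.Surjective s := fun v => by
    rcases Int.units_eq_one_or v with rfl | rfl
    · exact ⟨1, map_one s⟩
    · exact ⟨⟨u, hu⟩, (Int.units_eq_one_or _).resolve_left hua⟩
  have h1 := Subgroup.card_eq_card_quotient_mul_card_subgroup s.ker
  rw [Nat.card_congr (QuotientGroup.quotientKerEquivOfSurjective s hs).toEquiv,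
    show Nat.card ℤˣ = 2 by rw [Nat.card_eq_fintype_card]; rfl] at h1
  rw [h1]
  congr 1
  exact Nat.card_congr
    { toFun := fun x => ⟨⟨((x : alternatingGroup α) : Equiv.Perm α), Subgroup.mem_centralizer_singleton_iff.2
        (congrArg Subtype.val (Subgroup.mem_centralizer_singleton_iff.1 x.2))⟩, Equiv.Perm.mem_alternatingGroup.1 (x : alternatingGroup α).2⟩
      invFun := fun y => ⟨⟨((y : C) : Equiv.Perm α), Equiv.Perm.mem_alternatingGroup.2 y.2⟩,
        Subgroup.mem_centralizer_singleton_iff.2 (Subtype.ext (Subgroup.mem_centralizer_singleton_iff.1 (y : C).2))⟩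
      left_inv := fun _ => rfl
      right_inv := fun _ => rfl }

theorem factorial_lt : ∀ j : ℕ, 3 ^ (j + 2) * (j + 3).factorial < (3 * j + 6).factorial := by
  intro j
  induction j with
  | zero => decide
  | succ j ih =>
    rw [show 3 * (j + 1) + 6 = 3 * j + 6 + 1 + 1 + 1 by omega, Nat.factorial_succ (3 * j + 6 + 1 + 1),
      Nat.factorial_succ (3 * j + 6 + 1), Nat.factorial_succ (3 * j + 6),
      show j + 1 + 3 = j + 3 + 1 by omega, Nat.factorial_succ (j + 3), show j + 1 + 2 = j + 2 + 1 by omega, pow_succ]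
    calc 3 ^ (j + 2) * 3 * ((j + 3 + 1) * (j + 3).factorial)
        = (3 * (j + 4)) * (3 ^ (j + 2) * (j + 3).factorial) := by ring
      _ < (3 * (j + 4)) * (3 * j + 6).factorial := Nat.mul_lt_mul_of_pos_left ih (by omega)
      _ ≤ ((3 * j + 9) * (3 * j + 8) * (3 * j + 7)) * (3 * j + 6).factorial :=
        Nat.mul_le_mul_right _ (by nlinarith [sq_nonneg (j : ℤ)])
      _ = _ := by ring

theorem falling_ne (n k : ℕ) (hk : 2 ≤ k) (hn : 3 * k ≤ n) (h6 : n ≠ 6) :
    (n - 3).factorial * 3 ≠ (n - 3 * k).factorial * 3 ^ k * k.factorial := by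
  intro he
  have h1 := Nat.factorial_mul_descFactorial (show 3 * k - 3 ≤ n - 3 by omega)
  rw [show n - 3 - (3 * k - 3) = n - 3 * k by omega] at h1
  obtain ⟨j, rfl⟩ : ∃ j, k = j + 1 := ⟨k - 1, by omega⟩
  rw [← h1, pow_succ] at he
  have key : (n - 3).descFactorial (3 * (j + 1) - 3) = 3 ^ j * (j + 1).factorial := by
    refine Nat.eq_of_mul_eq_mul_left (Nat.mul_pos (Nat.factorial_pos (n - 3 * (j + 1))) (by norm_num : 0 < 3)) ?_
    linear_combination he
  rcases Nat.lt_or_ge j 2 with h | h
  · obtain rfl : j = 1 := by omega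
    have h4 : (4 : ℕ).descFactorial 3 ≤ (n - 3).descFactorial 3 := Nat.descFactorial_le _ (by omega)
    simp [Nat.descFactorial_succ, Nat.factorial] at key h4
    omega
  · obtain ⟨i, rfl⟩ : ∃ i, j = i + 2 := ⟨j - 2, by omega⟩
    have h2 : (3 * i + 6).descFactorial (3 * i + 6) ≤ (n - 3).descFactorial (3 * i + 6) :=
      Nat.descFactorial_le _ (by omega)
    rw [Nat.descFactorial_self] at h2
    rw [show 3 * (i + 2 + 1) - 3 = 3 * i + 6 by omega] at key
    rw [key] at h2
    exact absurd h2 (not_le.2 (factorial_lt i))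

/-- The cycle type of an element of order three. -/
theorem cycleType_three {g : Equiv.Perm α} (hg : orderOf g = 3) :
    ∃ k, 1 ≤ k ∧ 3 * k ≤ Fintype.card α ∧ g.cycleType = Multiset.replicate k 3 := by
  obtain ⟨j, hj⟩ := cycleType_prime_order (σ := g) (by rw [hg]; exact Nat.prime_three)
  rw [hg] at hj
  refine ⟨j + 1, by omega, ?_, hj⟩
  have := sum_cycleType_le g
  rw [hj, Multiset.sum_replicate, smul_eq_mul] at this
  omega

/-- Automorphisms preserve three-cycles outside degree six. -/
theorem map_isThreeCycle (hcard : 4 ≤ Fintype.card α) (h6 : Fintype.card α ≠ 6) (φ : MulAut (alternatingGroup α))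
    (g : alternatingGroup α) (hg : (g : Equiv.Perm α).IsThreeCycle) :
    ((φ g : alternatingGroup α) : Equiv.Perm α).IsThreeCycle := by
  obtain ⟨k, hk1, hkn, hk⟩ := cycleType_three (g := ((φ g : alternatingGroup α) : Equiv.Perm α))
    (by rw [Subgroup.orderOf_coe, MulEquiv.orderOf_eq, ← Subgroup.orderOf_coe, hg.orderOf])
  rcases Nat.lt_or_ge k 2 with h | h
  · obtain rfl : k = 1 := by omega
    exact hk.trans (Multiset.replicate_one 3)
  exfalso
  have hC : Nat.card (Subgroup.centralizer ({φ g} : Set (alternatingGroup α))) =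
      Nat.card (Subgroup.centralizer ({g} : Set (alternatingGroup α))) := by
    refine Nat.card_congr (φ.toEquiv.subtypeEquiv fun x => ?_).symm
    simp only [Subgroup.mem_centralizer_singleton_iff, MulEquiv.toEquiv_eq_coe, EquivLike.coe_coe]
    rw [← map_mul, ← map_mul, φ.injective.eq_iff]
  have e1 := card_centralizer_alt (g := g) (by
    rw [centralizer_le_alternating_iff, hg.cycleType]
    rintro ⟨-, h', -⟩
    rw [Multiset.sum_singleton] at h'
    omega)
  have e2 := card_centralizer_alt (g := φ g) (by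
    rw [centralizer_le_alternating_iff, hk]
    rintro ⟨-, -, h'⟩
    have := h' 3
    rw [Multiset.count_replicate_self] at this
    omega)
  rw [nat_card_centralizer, hg.cycleType] at e1
  rw [nat_card_centralizer, hk] at e2
  rw [hC, e1] at e2
  simp [Multiset.toFinset_replicate, show k ≠ 0 by omega] at e2
  refine falling_ne _ k h hkn h6 ?_
  rw [show k * 3 = 3 * k by ring] at e2
  exact e2

theorem conjNormal_bijective (hcard : 4 ≤ Fintype.card α) (h6 : Fintype.card α ≠ 6) :
    Function.Bijective (MulAut.conjNormal : Equiv.Perm α →* MulAut (alternatingGroup α)) :=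
  ⟨conjNormal_injective hcard, fun φ => exists_conj hcard φ (map_isThreeCycle hcard h6 φ)⟩

/-- The square of any automorphism is induced by a permutation. -/
theorem sq_mem_range (hcard : 5 ≤ Fintype.card α) (φ : MulAut (alternatingGroup α)) :
    φ * φ ∈ (MulAut.conjNormal : Equiv.Perm α →* MulAut (alternatingGroup α)).range := by
  by_cases h6 : Fintype.card α = 6
  swap
  · exact (conjNormal_bijective (by omega) h6).2 _
  refine exists_conj (by omega) _ fun g hg => ?_
  have hord : ∀ x : alternatingGroup α, (x : Equiv.Perm α).IsThreeCycle → ∀ ψ : MulAut (alternatingGroup α),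
      ((ψ x : alternatingGroup α) : Equiv.Perm α).IsThreeCycle ∨
        ((ψ x : alternatingGroup α) : Equiv.Perm α).cycleType = Multiset.replicate 2 3 := by
    intro x hx ψ
    obtain ⟨k, hk1, hkn, hk⟩ := cycleType_three (g := ((ψ x : alternatingGroup α) : Equiv.Perm α))
      (by rw [Subgroup.orderOf_coe, MulEquiv.orderOf_eq, ← Subgroup.orderOf_coe, hx.orderOf])
    rcases (show k = 1 ∨ k = 2 by omega) with rfl | rfl
    · exact Or.inl (hk.trans (Multiset.replicate_one 3))
    · exact Or.inr hk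
  rw [MulAut.mul_apply]
  rcases hord g hg φ with h | h
  · rcases hord (φ g) h φ with h' | h'
    · exact h'
    · exfalso
      have h5 : 5 ≤ Nat.card α := by rw [Nat.card_eq_fintype_card]; omega
      obtain ⟨u, hu⟩ := isConj_iff.1 (alternatingGroup.isThreeCycle_isConj h5 hg h)
      have hu' := congrArg φ hu
      rw [map_mul, map_mul, map_inv] at hu'
      have := congrArg (fun z : alternatingGroup α => (z : Equiv.Perm α).cycleType) hu'
      simp only [Subgroup.coe_mul, Subgroup.coe_inv, cycleType_conj] at this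
      rw [h.cycleType, h'] at this
      simp at this
  · rcases hord g hg (φ * φ) with h' | h'
    · exact h'
    · exfalso
      -- two elements of type `{3,3}` are conjugate
      have hconj : IsConj (φ g) (φ (φ g)) := by
        obtain ⟨π, hπ⟩ := isConj_iff.1 (isConj_iff_cycleType_eq.2 (h.trans h'.symm))
        have hno : ¬ Subgroup.centralizer {((φ g : alternatingGroup α) : Equiv.Perm α)} ≤ alternatingGroup α := by
          rw [centralizer_le_alternating_iff, h]
          rintro ⟨-, -, h''⟩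
          have := h'' 3
          rw [Multiset.count_replicate_self] at this
          omega
        obtain ⟨u, hu, hua⟩ := SetLike.not_le_iff_exists.1 hno
        rw [isConj_iff]
        rcases Int.units_eq_one_or (Equiv.Perm.sign π) with hs | hs
        · exact ⟨⟨π, Equiv.Perm.mem_alternatingGroup.2 hs⟩, Subtype.ext hπ⟩
        · refine ⟨⟨π * u, Equiv.Perm.mem_alternatingGroup.2 ?_⟩, Subtype.ext ?_⟩
          · rw [map_mul, hs, (Int.units_eq_one_or _).resolve_left hua]; norm_num
          · show π * u * _ * (π * u)⁻¹ = _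
            rw [mul_inv_rev, mul_assoc π u, (Subgroup.mem_centralizer_singleton_iff.1 hu), ← mul_assoc π]
            simpa [mul_assoc] using hπ
      obtain ⟨u, hu⟩ := isConj_iff.1 hconj
      have hu' : φ.symm u * g * (φ.symm u)⁻¹ = φ g := φ.injective (by
        rw [map_mul, map_mul, map_inv, φ.apply_symm_apply, hu])
      have := congrArg (fun z : alternatingGroup α => (z : Equiv.Perm α).cycleType) hu'
      simp only [Subgroup.coe_mul, Subgroup.coe_inv, cycleType_conj] at this
      rw [hg.cycleType, h] at this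
      simp at this

end CfsgLib.Perm.AutAlt
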