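import Cfsg.Agent.Perm.ComplementQuotientSol
import Cfsg.Agent.Solv.FittingBasic

/-!
The automorphism group of a solvable group with a fixed-point-free rational representation is solvable.
-/

set_option autoImplicit false
set_option linter.style.haveILetI false
set_option linter.unusedSectionVars false

namespace CfsgLib.Perm.Fpf

theorem isPGroup_of_prime_trivial {A : Type*} [Group A] [Finite A] {p : ℕ} [Fact p.Prime]
    (h : ∀ y : A, ∀ d : ℕ, d.Prime → d ≠ p → orderOf y = d → False) : IsPGroup p A :=
  IsPGroup.iff_orderOf.2 fun y => ⟨_, Nat.eq_prime_pow_of_unique_prime_dvd (orderOf_pos y).ne'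
    (fun {d} hd hdd => by_contra fun hne => h _ d hd hne (orderOf_pow_orderOf_div (orderOf_pos y).ne' hdd))⟩

theorem isSolvable_of_pGroup {A : Type*} [Group A] [Finite A] {p : ℕ} [Fact p.Prime] (h : IsPGroup p A) :
    Group.IsSolvable A := by
  haveI := h.isNilpotent
  infer_instance

theorem isSolvable_aut_quaternion (n : ℕ) : Group.IsSolvable (MulAut (QuaternionGroup (2 ^ (n + 1)))) := by
  haveI : Fact (Nat.Prime 2) := ⟨Nat.prime_two⟩
  haveI : NeZero (2 ^ (n + 1)) := ⟨by positivity⟩
  rcases Nat.eq_zero_or_pos n with rfl | hn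
  · show Group.IsSolvable (MulAut (QuaternionGroup 2))
    haveI hk : Group.IsSolvable q8act.ker := isSolvable_of_pGroup (p := 2) (isPGroup_of_prime_trivial fun y d hd hd2 hy => by
      have h1 : (y : MulAut (QuaternionGroup 2)) = 1 := q8act_odd y.2 (hd.odd_of_ne_two hd2)
        (by rw [← SubgroupClass.coe_pow, ← hy, pow_orderOf_eq_one]; rfl)
      rw [show y = 1 from Subtype.ext h1, orderOf_one] at hy
      exact hd.ne_one hy.symm)
    haveI : Group.IsSolvable (Equiv.Perm (Fin 3)) := solvable_of_dvd_six
    exact Group.isSolvable_of_ker_le_range (f := q8act.ker.subtype) (g := q8act)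
      (by rw [Subgroup.range_subtype])
  · refine isSolvable_of_pGroup (p := 2) (isPGroup_of_prime_trivial fun y d hd hd2 hy => ?_)
    have h1 : y = 1 := MulEquiv.ext fun x => quaternion_aut_trivial' rfl y hd (Or.inr ⟨hd2, hn⟩) (j := 1)
      (by rw [pow_one, ← hy, pow_orderOf_eq_one]) x
    rw [h1, orderOf_one] at hy
    exact hd.ne_one hy.symm
where
  solvable_of_dvd_six : Group.IsSolvable (Equiv.Perm (Fin 3)) := by
    refine solvable_of_dvd_120 ?_ ?_ ?_ <;> (rw [Nat.card_perm, Nat.card_fin]; decide)

/-- Restriction of automorphisms to a characteristic subgroup. -/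
def charRestrict {H : Type*} [Group H] (K : Subgroup H) [hK : K.Characteristic] : MulAut H →* MulAut K where
  toFun φ :=
    { toFun := fun x => ⟨φ x, by
        have h := Subgroup.characteristic_iff_map_eq.1 hK φ
        exact h.le (Subgroup.mem_map_of_mem φ.toMonoidHom x.2)⟩
      invFun := fun x => ⟨φ.symm x, by
        have h := Subgroup.characteristic_iff_map_eq.1 hK φ.symm
        exact h.le (Subgroup.mem_map_of_mem φ.symm.toMonoidHom x.2)⟩
      left_inv := fun x => Subtype.ext (φ.symm_apply_apply x)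
      right_inv := fun x => Subtype.ext (φ.apply_symm_apply x)
      map_mul' := fun x y => Subtype.ext (map_mul φ (x : H) y) }
  map_one' := rfl
  map_mul' _ _ := rfl

theorem charRestrict_apply {H : Type*} [Group H] (K : Subgroup H) [K.Characteristic] (φ : MulAut H) (x : K) :
    (charRestrict K φ x : H) = φ x := rfl

theorem isSolvable_aut_pGroup {H : Type*} [Group H] [Finite H] (h : HasFpf H) {p : ℕ} [Fact p.Prime]
    (P : Subgroup H) (hP : IsPGroup p P) : Group.IsSolvable (MulAut P) := by
  have hcyc : IsCyclic P → Group.IsSolvable (MulAut P) := fun hc => by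
    haveI := hc
    exact Group.isSolvable_of_isSolvable_injective
      (f := (IsCyclic.mulAutMulEquiv P).toMonoidHom) (MulEquiv.injective _)
  by_cases hp2 : p = 2
  · subst hp2
    rcases cyclic_or_quaternion h hP with hc | ⟨n, ⟨e⟩⟩
    · exact hcyc hc
    · haveI := isSolvable_aut_quaternion n
      exact Group.isSolvable_of_isSolvable_injective (f := (MulAut.congr e).toMonoidHom) (MulEquiv.injective _)
  · exact hcyc (isCyclic_odd h hp2 hP)

theorem exists_derived_fixes {H : Type*} [Group H] [Finite H] (h : HasFpf H) (S : Finset ℕ) :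
    ∃ n, ∀ p ∈ S, p.Prime → ∀ α ∈ derivedSeries (MulAut H) n, ∀ x ∈ Cfsg.pCore p H, α x = x := by
  classical
  induction S using Finset.induction with
  | empty => exact ⟨0, fun p hp => absurd hp (Finset.notMem_empty _)⟩
  | insert q S hq ih =>
    obtain ⟨n, hn⟩ := ih
    by_cases hqp : q.Prime
    · haveI := Fact.mk hqp
      haveI : (Cfsg.pCore q H).Characteristic := CfsgLib.Solv.pCore_characteristic
      obtain ⟨m, hm⟩ := (isSolvable_aut_pGroup h (Cfsg.pCore q H) (CfsgLib.Solv.pCore_isPGroup H q)).solvable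
      refine ⟨max n m, fun p hp hpp α hα x hx => ?_⟩
      rcases Finset.mem_insert.1 hp with rfl | hp
      · have h1 : charRestrict (Cfsg.pCore p H) α = 1 := by
          have := map_derivedSeries_le_derivedSeries (charRestrict (Cfsg.pCore p H)) m
            (Subgroup.mem_map_of_mem _ (derivedSeries_antitone _ (le_max_right n m) hα))
          rwa [hm, Subgroup.mem_bot] at this
        exact congrArg Subtype.val (DFunLike.congr_fun h1 ⟨x, hx⟩)
      · exact hn p hp hpp α (derivedSeries_antitone _ (le_max_left n m) hα) x hx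
    · refine ⟨n, fun p hp hpp => ?_⟩
      rcases Finset.mem_insert.1 hp with rfl | hp
      · exact absurd hpp hqp
      · exact hn p hp hpp

/-- The automorphism group of a solvable fixed-point-free group is solvable. -/
theorem isSolvable_mulAut {H : Type*} [Group H] [Finite H] [Group.IsSolvable H] (h : HasFpf H) :
    Group.IsSolvable (MulAut H) := by
  obtain ⟨n, hn⟩ := exists_derived_fixes h (Nat.card H).primeFactors
  set F := Cfsg.fittingSubgroup H with hF
  haveI : F.Normal := CfsgLib.Solv.fittingSubgroup_normal _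
  have hfix : ∀ α ∈ derivedSeries (MulAut H) n, ∀ x ∈ F, α x = x := by
    intro α hα x hx
    have hle : F ≤ MonoidHom.eqLocus α.toMonoidHom (MonoidHom.id H) := by
      rw [hF, CfsgLib.Solv.fittingSubgroup_eq_iSup_pCore]
      refine iSup_le fun q y hy => ?_
      by_cases hq : (q : ℕ) ∈ (Nat.card H).primeFactors
      · exact hn q hq q.2 α hα y hy
      · haveI := Fact.mk q.2
        obtain ⟨k, hk⟩ := IsPGroup.iff_orderOf.1 (CfsgLib.Solv.pCore_isPGroup H (q : ℕ)) ⟨y, hy⟩
        rw [Subgroup.orderOf_mk] at hk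
        rcases Nat.eq_zero_or_pos k with rfl | hk0
        · rw [pow_zero, orderOf_eq_one_iff] at hk
          subst hk
          exact map_one α
        · exact absurd (Nat.mem_primeFactors.2 ⟨q.2, (dvd_pow_self _ hk0.ne').trans
            (hk ▸ orderOf_dvd_natCard y), Nat.card_pos.ne'⟩) hq
    exact hle hx
  have key : ∀ α ∈ derivedSeries (MulAut H) n, ∀ x, x⁻¹ * α x ∈ F ∧ ∀ f ∈ F, Commute (x⁻¹ * α x) f := by
    intro α hα x
    have hc : x⁻¹ * α x ∈ Subgroup.centralizer (F : Set H) := by
      rw [Subgroup.mem_centralizer_iff]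
      intro f hf
      have h1 := hfix α hα _ (Subgroup.Normal.conj_mem inferInstance f hf x)
      rw [map_mul, map_mul, hfix α hα f hf, map_inv] at h1
      calc f * (x⁻¹ * α x) = x⁻¹ * (x * f * x⁻¹) * α x := by group
        _ = x⁻¹ * α x * f := by rw [← h1]; group
    exact ⟨CfsgLib.Solv.centralizer_fittingSubgroup_le hc, fun f hf =>
      (Subgroup.mem_centralizer_iff.1 hc f hf).symm⟩
  refine ⟨⟨n + 1, ?_⟩⟩
  rw [derivedSeries_succ, Subgroup.commutator_eq_bot_iff_le_centralizer]
  intro α hα
  rw [Subgroup.mem_centralizer_iff]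
  intro β hβ
  refine MulEquiv.ext fun x => ?_
  obtain ⟨ha, ha'⟩ := key α hα x
  obtain ⟨hb, -⟩ := key β hβ x
  have ea : ∀ a, a = x⁻¹ * α x → β (α x) = β x * β a := fun a e => by rw [← map_mul, e, mul_inv_cancel_left]
  have eb : ∀ b, b = x⁻¹ * β x → α (β x) = α x * α b := fun b e => by rw [← map_mul, e, mul_inv_cancel_left]
  rw [MulAut.mul_apply, MulAut.mul_apply, ea _ rfl, eb _ rfl, hfix β hβ _ ha, hfix α hα _ hb]
  calc β x * (x⁻¹ * α x) = x * (x⁻¹ * β x * (x⁻¹ * α x)) := by group
    _ = x * (x⁻¹ * α x * (x⁻¹ * β x)) := by rw [(ha' _ hb).eq]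
    _ = α x * (x⁻¹ * β x) := by group

end CfsgLib.Perm.Fpf
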