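import Mathlib
import Cfsg.Agent.Solv.FittingBasic

/-!
Generating tuples of a `p`-group and the order of its automorphism group.
-/

set_option autoImplicit false
set_option linter.style.haveILetI false
set_option linter.unusedSectionVars false

namespace CfsgLib.Perm.AutFrattini

open scoped commutatorElement

universe u

/-- Adjoining an outside element multiplies the order by `p`. -/
theorem card_sup_zpowers {Q : Type u} [Group Q] [Finite Q] {p : ℕ} [hp : Fact p.Prime]
    (hQ : IsMulCommutative Q) (hexp : ∀ x : Q, x ^ p = 1) (K : Subgroup Q) {x : Q} (hx : x ∉ K) :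
    Nat.card ↥(K ⊔ Subgroup.zpowers x) = p * Nat.card K := by
  haveI : K.Normal := ⟨fun n hn g => by rwa [hQ.is_comm.comm g n, mul_inv_cancel_right]⟩
  set q : Q ⧸ K := (x : Q ⧸ K)
  have hq : orderOf q = p := orderOf_eq_prime
    (by rw [← QuotientGroup.mk_pow, hexp, QuotientGroup.mk_one])
    (fun e => hx ((QuotientGroup.eq_one_iff x).1 e))
  have e : K ⊔ Subgroup.zpowers x = (Subgroup.zpowers q).comap (QuotientGroup.mk' K) := by
    rw [show Subgroup.zpowers q = (Subgroup.zpowers x).map (QuotientGroup.mk' K) by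
      rw [MonoidHom.map_zpowers]; rfl, Subgroup.comap_map_eq, QuotientGroup.ker_mk', sup_comm]
  have h1 := Subgroup.card_mul_index (K ⊔ Subgroup.zpowers x)
  rw [e, Subgroup.index_comap_of_surjective _ (QuotientGroup.mk'_surjective K)] at h1
  have h2 := Subgroup.card_mul_index (Subgroup.zpowers q)
  have h3 := Subgroup.card_eq_card_quotient_mul_card_subgroup K
  rw [← e] at h1
  rw [← h2, Nat.card_zpowers, hq, ← h1] at h3
  apply Nat.eq_of_mul_eq_mul_right (Nat.pos_of_ne_zero (Subgroup.index_ne_zero_of_finite (H := Subgroup.zpowers q)))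
  rw [h3]; ring

/-- The number of independent tuples. -/
theorem card_indep {Q : Type u} [Group Q] [Finite Q] {p r : ℕ} [hp : Fact p.Prime]
    (hQ : IsMulCommutative Q) (hexp : ∀ x : Q, x ^ p = 1) (hcard : Nat.card Q = p ^ r) (k : ℕ) :
    Nat.card {f : Fin k → Q // Nat.card (Subgroup.closure (Set.range f)) = p ^ k} =
      ∏ i ∈ Finset.range k, (p ^ r - p ^ i) := by
  classical
  haveI := Fintype.ofFinite Q
  induction k with
  | zero =>
    rw [Finset.prod_range_zero, Nat.card_eq_one_iff_unique]
    refine ⟨inferInstance, ⟨⟨Fin.elim0, ?_⟩⟩⟩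
    rw [Set.range_eq_empty, Subgroup.closure_empty, Subgroup.card_bot, pow_zero]
  | succ k ih =>
    have hle : ∀ (j : ℕ) (f : Fin j → Q), Nat.card (Subgroup.closure (Set.range f)) ≤ p ^ j := by
      intro j
      induction j with
      | zero => intro f; rw [Set.range_eq_empty, Subgroup.closure_empty, Subgroup.card_bot, pow_zero]
      | succ j ihj =>
        intro f
        have e : Set.range f = Set.range (Fin.init f) ∪ {f (Fin.last j)} := by
          conv_lhs => rw [← Fin.snoc_init_self f]
          rw [Fin.range_snoc, Set.union_singleton]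
        rw [e, Subgroup.closure_union, ← Subgroup.zpowers_eq_closure]
        by_cases hx : f (Fin.last j) ∈ Subgroup.closure (Set.range (Fin.init f))
        · rw [sup_eq_left.2 (Subgroup.zpowers_le.2 hx)]
          exact (ihj _).trans (Nat.pow_le_pow_right hp.out.pos (Nat.le_succ j))
        · rw [card_sup_zpowers hQ hexp _ hx, pow_succ']
          exact Nat.mul_le_mul_left _ (ihj _)
    have hiff : ∀ (f : Fin k → Q) (x : Q),
        Nat.card (Subgroup.closure (Set.range (Fin.snoc f x : Fin (k + 1) → Q))) = p ^ (k + 1) ↔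
          Nat.card (Subgroup.closure (Set.range f)) = p ^ k ∧ x ∉ Subgroup.closure (Set.range f) := by
      intro f x
      rw [Fin.range_snoc, ← Set.union_singleton, Subgroup.closure_union, ← Subgroup.zpowers_eq_closure]
      by_cases hx : x ∈ Subgroup.closure (Set.range f)
      · rw [sup_eq_left.2 (Subgroup.zpowers_le.2 hx)]
        refine ⟨fun h => ?_, fun h => absurd hx h.2⟩
        have h2 := hle k f
        rw [h] at h2
        exact absurd h2 (Nat.not_le.2 (Nat.pow_lt_pow_right hp.out.one_lt (Nat.lt_succ_self k)))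
      · rw [card_sup_zpowers hQ hexp _ hx, pow_succ', Nat.mul_left_cancel_iff hp.out.pos]
        exact ⟨fun h => ⟨h, hx⟩, fun h => h.1⟩
    let e : {f : Fin (k + 1) → Q // Nat.card (Subgroup.closure (Set.range f)) = p ^ (k + 1)} ≃
        (Σ f : {f : Fin k → Q // Nat.card (Subgroup.closure (Set.range f)) = p ^ k},
          {x : Q // x ∉ Subgroup.closure (Set.range f.1)}) :=
      { toFun := fun g => ⟨⟨Fin.init g.1, ((hiff _ (g.1 (Fin.last k))).1 (by rw [Fin.snoc_init_self]; exact g.2)).1⟩,
          g.1 (Fin.last k), ((hiff _ (g.1 (Fin.last k))).1 (by rw [Fin.snoc_init_self]; exact g.2)).2⟩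
        invFun := fun q => ⟨Fin.snoc q.1.1 q.2.1, (hiff _ _).2 ⟨q.1.2, q.2.2⟩⟩
        left_inv := fun g => Subtype.ext (Fin.snoc_init_self g.1)
        right_inv := by
          rintro ⟨⟨f, hf⟩, x, hx⟩
          have e1 : Fin.init (Fin.snoc f x : Fin (k + 1) → Q) = f := Fin.init_snoc _ _
          refine Sigma.subtype_ext (Subtype.ext e1) ?_
          show (Fin.snoc f x : Fin (k + 1) → Q) (Fin.last k) = x
          exact Fin.snoc_last _ _ }
    haveI := Fintype.ofFinite {f : Fin k → Q // Nat.card (Subgroup.closure (Set.range f)) = p ^ k}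
    rw [Nat.card_congr e, Nat.card_sigma, Finset.prod_range_succ, ← ih]
    rw [Finset.sum_congr rfl fun f _ => show Nat.card {x : Q // x ∉ Subgroup.closure (Set.range f.1)} = p ^ r - p ^ k by
      have h1 : Nat.card {x : Q // x ∉ Subgroup.closure (Set.range f.1)} =
          Nat.card Q - Nat.card (Subgroup.closure (Set.range f.1)) := by
        rw [Nat.card_eq_fintype_card, Fintype.card_subtype_compl, Nat.card_eq_fintype_card,
          Nat.card_eq_fintype_card]
      rw [h1, f.2, hcard]]
    rw [Finset.sum_const, Finset.card_univ, Nat.card_eq_fintype_card, smul_eq_mul]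

/-- The quotient by the Frattini subgroup is elementary abelian. -/
theorem quot_elementary {P : Type u} [Group P] [Finite P] {p : ℕ} [Fact p.Prime] (hP : IsPGroup p P) :
    IsMulCommutative (P ⧸ frattini P) ∧ ∀ x : P ⧸ frattini P, x ^ p = 1 := by
  refine ⟨⟨⟨fun x y => ?_⟩⟩, fun x => ?_⟩
  · obtain ⟨a, rfl⟩ := QuotientGroup.mk'_surjective (frattini P) x
    obtain ⟨b, rfl⟩ := QuotientGroup.mk'_surjective (frattini P) y
    rw [← commutatorElement_eq_one_iff_mul_comm, ← map_commutatorElement]
    exact (QuotientGroup.eq_one_iff _).2 (CfsgLib.Solv.commutator_le_frattini hP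
      (Subgroup.commutator_mem_commutator (Subgroup.mem_top _) (Subgroup.mem_top _)))
  · obtain ⟨a, rfl⟩ := QuotientGroup.mk'_surjective (frattini P) x
    rw [← map_pow]
    exact (QuotientGroup.eq_one_iff _).2 (CfsgLib.Solv.pow_mem_frattini hP a)

theorem card_frattini {P : Type u} [Group P] [Finite P] {p n r : ℕ} [hp : Fact p.Prime]
    (hP : Nat.card P = p ^ n) (hr : (frattini P).index = p ^ r) : Nat.card (frattini P) = p ^ (n - r) := by
  have h := (frattini P).card_mul_index
  rw [hP, hr] at h
  have hle : r ≤ n := (Nat.pow_dvd_pow_iff_le_right hp.out.one_lt).1 (Dvd.intro_left _ h)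
  apply Nat.eq_of_mul_eq_mul_right (pow_pos hp.out.pos r)
  rw [h, ← pow_add, Nat.sub_add_cancel hle]

/-- A group of automorphisms permuting a set of generating tuples divides its size. -/
theorem card_dvd_of_generating {P : Type u} [Group P] [Finite P] {r : ℕ} (A : Subgroup (MulAut P))
    (S : Set (Fin r → P)) (hgen : ∀ f ∈ S, Subgroup.closure (Set.range f) = ⊤)
    (hinv : ∀ α ∈ A, ∀ f ∈ S, (fun i => α (f i)) ∈ S) : Nat.card A ∣ Nat.card S := by
  classical
  letI : MulAction A S :=
    { smul := fun α f => ⟨fun i => (α : MulAut P) (f.1 i), hinv α α.2 f.1 f.2⟩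
      one_smul := fun f => rfl
      mul_smul := fun a b f => rfl }
  have hstab : ∀ f : S, MulAction.stabilizer A f = ⊥ := by
    intro f
    rw [eq_bot_iff]
    intro α hα
    have h1 : ∀ i, (α : MulAut P) (f.1 i) = f.1 i := fun i => congrFun (congrArg Subtype.val hα) i
    refine Subgroup.mem_bot.2 (Subtype.ext (MulEquiv.ext fun x => ?_))
    have hx : x ∈ Subgroup.closure (Set.range f.1) := hgen f.1 f.2 ▸ Subgroup.mem_top x
    induction hx using Subgroup.closure_induction with
    | mem y hy => obtain ⟨i, rfl⟩ := hy; exact h1 i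
    | one => simp
    | mul a b _ _ iha ihb => rw [map_mul, map_mul, iha, ihb]
    | inv a _ iha => rw [map_inv, map_inv, iha]
  haveI := Fintype.ofFinite (Quotient (MulAction.orbitRel A S))
  rw [Nat.card_congr (MulAction.selfEquivSigmaOrbitsQuotientStabilizer A S), Nat.card_sigma]
  refine Finset.dvd_sum fun ω _ => ?_
  rw [hstab, ← Subgroup.index, Subgroup.index_bot]

/-- Tuples with prescribed images. -/
noncomputable def liftEquiv {P : Type u} [Group P] (N : Subgroup P) [N.Normal] (r : ℕ) (T : Set (Fin r → P ⧸ N)) :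
    {f : Fin r → P // (fun i => (f i : P ⧸ N)) ∈ T} ≃ T × (Fin r → N) where
  toFun f := (⟨_, f.2⟩, fun i => ⟨(f.1 i : P ⧸ N).out⁻¹ * f.1 i,
    QuotientGroup.eq.1 ((QuotientGroup.out_eq' _))⟩)
  invFun q := ⟨fun i => (q.1.1 i).out * (q.2 i : P), by
    have e : (fun i => (((q.1.1 i).out * (q.2 i : P) : P) : P ⧸ N)) = q.1.1 := by
      funext i
      rw [QuotientGroup.mk_mul_of_mem _ (q.2 i).2, QuotientGroup.out_eq']
    rw [e]; exact q.1.2⟩
  left_inv f := Subtype.ext (funext fun i => mul_inv_cancel_left _ _)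
  right_inv q := by
    have e : ∀ i, (((q.1.1 i).out * (q.2 i : P) : P) : P ⧸ N) = q.1.1 i := fun i => by
      rw [QuotientGroup.mk_mul_of_mem _ (q.2 i).2, QuotientGroup.out_eq']
    refine Prod.ext (Subtype.ext (funext e)) (funext fun i => Subtype.ext ?_)
    show (((q.1.1 i).out * (q.2 i : P) : P) : P ⧸ N).out⁻¹ * _ = _
    rw [e i, inv_mul_cancel_left]

/-- The main divisibility. -/
theorem card_dvd {P : Type u} [Group P] [Finite P] {p n r : ℕ} [hp : Fact p.Prime]
    (hP : Nat.card P = p ^ n) (hr : (frattini P).index = p ^ r) (A : Subgroup (MulAut P))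
    (T : Set (Fin r → P ⧸ frattini P)) (hT : ∀ t ∈ T, Nat.card (Subgroup.closure (Set.range t)) = p ^ r)
    (hinv : ∀ α ∈ A, ∀ f : Fin r → P, (fun i => (f i : P ⧸ frattini P)) ∈ T →
      (fun i => (α (f i) : P ⧸ frattini P)) ∈ T) :
    Nat.card A ∣ Nat.card T * p ^ (r * (n - r)) := by
  have h := card_dvd_of_generating A {f : Fin r → P | (fun i => (f i : P ⧸ frattini P)) ∈ T} (by
    intro f hf
    have h1 : Subgroup.closure (Set.range fun i => (f i : P ⧸ frattini P)) = ⊤ :=
      Subgroup.eq_top_of_card_eq _ (by rw [hT _ hf]; exact hr.symm)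
    refine frattini_nongenerating (eq_top_iff.2 ?_)
    have h2 := congrArg (Subgroup.comap (QuotientGroup.mk' (frattini P))) h1
    rw [show (Set.range fun i => (f i : P ⧸ frattini P)) = (QuotientGroup.mk' (frattini P)) '' Set.range f from
      Set.range_comp _ f, ← MonoidHom.map_closure, Subgroup.comap_map_eq, QuotientGroup.ker_mk',
      Subgroup.comap_top] at h2
    exact h2.ge) hinv
  refine h.trans (dvd_of_eq ?_)
  show Nat.card {f : Fin r → P // (fun i => (f i : P ⧸ frattini P)) ∈ T} = _
  rw [Nat.card_congr (liftEquiv (frattini P) r T), Nat.card_prod, Nat.card_fun, card_frattini hP hr,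
    Nat.card_eq_fintype_card (α := Fin r), Fintype.card_fin, ← pow_mul, mul_comm r]

end CfsgLib.Perm.AutFrattini
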