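import Cfsg.Agent.Perm.RegularP
import Cfsg.Agent.Perm.PolySeq
import Cfsg.Agent.S4209
import Cfsg.Agent.Solv.RankTwoNormal
import Cfsg.Agent.Solv.FittingBasic
import Cfsg.Prelude.Def_OddOrderLocal

/-!
For `p > 3`, a `p`-group in which the elements of order `p` generate a subgroup of order at most
`p ^ 2` is metacyclic (Blackburn), via regularity and the criterion on the index of the `p`-th powers.
-/

set_option autoImplicit false
set_option linter.style.haveILetI false
set_option linter.deprecated false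

open scoped commutatorElement

namespace CfsgLib.Perm.BlackburnRankTwo

open CfsgLib.Perm.RegularP

universe u

variable {p : ℕ} [hp : Fact p.Prime]

omit hp in
theorem mem_normalizer_of_conj_le {G : Type u} [Group G] [Finite G] {S : Subgroup G} {g : G}
    (h : ∀ s ∈ S, g * s * g⁻¹ ∈ S) : g ∈ Subgroup.normalizer (S : Set G) := by
  rw [Subgroup.mem_normalizer_iff]
  intro s
  refine ⟨h s, fun hs => ?_⟩
  let f : S → S := fun x => ⟨g * x * g⁻¹, h _ x.2⟩
  have hf : Function.Injective f := fun a b hab => Subtype.ext (by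
    have := congrArg Subtype.val hab
    simpa [f] using this)
  obtain ⟨y, hy⟩ := (Finite.injective_iff_surjective.1 hf) ⟨_, hs⟩
  have := congrArg Subtype.val hy
  simp only [f] at this
  exact (mul_left_cancel (mul_right_cancel this)) ▸ y.2

omit hp in
theorem card_map_subtype' {G : Type u} [Group G] (H : Subgroup G) (K : Subgroup H) :
    Nat.card (K.map H.subtype) = Nat.card K :=
  (Nat.card_congr (K.equivMapOfInjective H.subtype H.subtype_injective).toEquiv).symm

omit hp in
theorem omegaOne_normal (G : Type u) [Group G] : (Cfsg.omegaOne p (⊤ : Subgroup G)).Normal := by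
  refine ⟨fun x hx g => ?_⟩
  refine Subgroup.closure_le (K := (Cfsg.omegaOne p (⊤ : Subgroup G)).comap (MulAut.conj g).toMonoidHom) |>.2 ?_ hx
  rintro y ⟨-, hy⟩
  exact Subgroup.subset_closure ⟨trivial, by simp [conj_pow, hy]⟩

theorem regular_of_cyclic_derived (hp2 : p ≠ 2) {G : Type u} [Group G] [Finite G] (hG : IsPGroup p G)
    (hc : IsCyclic (commutator G)) : Cfsg.IsRegularPGroup p G := by
  classical
  refine regular_of_reg_one ⟨hG, fun a b => ?_⟩
  set K := Subgroup.closure ({a, b} : Set G)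
  set A : K := ⟨a, Subgroup.subset_closure (by simp)⟩
  set B : K := ⟨b, Subgroup.subset_closure (by simp)⟩
  set W := Cfsg.powerClosure p 1 (commutator K)
  haveI : W.Normal := Cfsg.Agent.S4209.powerClosure_normal p 1 _
  set f := QuotientGroup.mk' W
  have hKc : IsCyclic (commutator K) := by
    haveI := hc
    have hle : ∀ x : commutator K, ((x : K) : G) ∈ commutator G := fun x => by
      have h1 : (commutator K).map K.subtype ≤ commutator G := by
        rw [Subgroup.map_subtype_commutator]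
        exact Subgroup.commutator_mono le_top le_top
      exact h1 ⟨x, x.2, rfl⟩
    let j : commutator K →* commutator G := (K.subtype.comp (commutator K).subtype).codRestrict _ hle
    exact isCyclic_of_injective j fun x y h => by
      have h' := congrArg Subtype.val h
      exact Subtype.ext (Subtype.ext h')
  have hexp : ∀ x ∈ commutator (K ⧸ W), x ^ p = 1 := by
    intro x hx
    rw [commutator_def, ← Subgroup.map_top_of_surjective f (QuotientGroup.mk'_surjective W), ← Subgroup.map_commutator] at hx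
    obtain ⟨y, hy, rfl⟩ := hx
    rw [← map_pow]
    exact (QuotientGroup.eq_one_iff _).2 (Subgroup.subset_closure ⟨y, hy, by rw [pow_one]⟩)
  have hcard : Nat.card (commutator (K ⧸ W)) ≤ p := by
    haveI : IsCyclic (commutator (K ⧸ W)) := by
      haveI := hKc
      have h1 : (commutator K).map f = commutator (K ⧸ W) := by
        rw [commutator_def, Subgroup.map_commutator, Subgroup.map_top_of_surjective f (QuotientGroup.mk'_surjective W), ← commutator_def]
      rw [← h1]
      exact isCyclic_of_surjective (f.subgroupMap (commutator K)) (f.subgroupMap_surjective _)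
    rw [← IsCyclic.exponent_eq_card]
    exact Nat.le_of_dvd hp.out.pos (Monoid.exponent_dvd_of_forall_pow_eq_one fun x => Subtype.ext (by simpa using hexp _ x.2))
  have hQ : IsPGroup p (K ⧸ W) := (hG.to_subgroup K).to_quotient W
  have hcl2 : (⊤ : Subgroup (K ⧸ W)).lowerCentralSeries 2 = ⊥ := by
    haveI := hQ.isNilpotent
    show ⁅(⊤ : Subgroup (K ⧸ W)).lowerCentralSeries 1, ⊤⁆ = ⊥
    have h1 : (⊤ : Subgroup (K ⧸ W)).lowerCentralSeries 1 = commutator (K ⧸ W) := by
      simp [commutator_def]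
    rw [h1]
    rcases eq_or_ne (commutator (K ⧸ W)) ⊥ with h0 | h0
    · rw [h0]; exact Subgroup.commutator_bot_left _
    · have hne := CfsgLib.Perm.inf_center_ne_bot hQ (commutator (K ⧸ W)) h0
      have hle : commutator (K ⧸ W) ≤ Subgroup.center (K ⧸ W) := by
        obtain ⟨i, hi⟩ := IsPGroup.iff_card.1 (hQ.to_subgroup (commutator (K ⧸ W) ⊓ Subgroup.center (K ⧸ W)))
        have hi0 : i ≠ 0 := fun h => hne (Subgroup.eq_bot_of_card_eq _ (by rw [hi, h, pow_zero]))
        have := Subgroup.eq_of_le_of_card_ge (inf_le_left : commutator (K ⧸ W) ⊓ Subgroup.center (K ⧸ W) ≤ _)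
          (hcard.trans (hi ▸ Nat.le_self_pow hi0 p))
        exact inf_eq_left.1 this
      exact eq_bot_iff.2 (Subgroup.commutator_le.2 fun x hx y _ => Subgroup.mem_bot.2
        (commutatorElement_eq_one_iff_mul_comm.2 (Subgroup.mem_center_iff.1 (hle hx) y).symm))
  have hp3 : 2 ≤ p - 1 := by have := hp.out.two_le; omega
  have hclQ : (⊤ : Subgroup (K ⧸ W)).lowerCentralSeries (p - 1) = ⊥ :=
    eq_bot_iff.2 (hcl2 ▸ Subgroup.lowerCentralSeries_antitone _ hp3)
  have e := CfsgLib.Perm.PolySeq.mul_pow_prime hp.out hclQ hexp (f A) (f B)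
  rw [← map_mul, ← map_pow, ← map_pow, ← map_pow, ← map_mul] at e
  have hc : (A ^ p * B ^ p)⁻¹ * (A * B) ^ p ∈ W := QuotientGroup.eq.1 e.symm
  refine ⟨(((A ^ p * B ^ p)⁻¹ * (A * B) ^ p : K) : G), ?_, by simp [A, B, mul_assoc]⟩
  rw [← K.map_subtype_commutator]
  refine Subgroup.closure_le (K := (Cfsg.powerClosure p 1 _).comap K.subtype) |>.2 ?_ hc
  rintro _ ⟨d, hd, rfl⟩
  exact Subgroup.subset_closure ⟨K.subtype d, Subgroup.mem_map_of_mem _ hd, map_pow _ d _⟩

theorem regular_of_metacyclic (hp2 : p ≠ 2) {G : Type u} [Group G] [Finite G] (hG : IsPGroup p G)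
    (hm : Cfsg.IsMetacyclic G) : Cfsg.IsRegularPGroup p G := by
  obtain ⟨N, hN, hc, hq⟩ := hm
  haveI := hN; haveI := hq; haveI := hc
  have hle : commutator G ≤ N := Subgroup.Normal.quotient_commutative_iff_commutator_le.1 IsCyclic.commutative
  exact regular_of_cyclic_derived hp2 hG (isCyclic_of_injective (Subgroup.inclusion hle) (Subgroup.inclusion_injective hle))

/-- The criterion, when the derived subgroup is cyclic. -/
theorem metacyclic_of_cyclic_derived (hp2 : p ≠ 2) {G : Type u} [Group G] [Finite G] (hG : IsPGroup p G)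
    (hc : IsCyclic (commutator G))
    (hidx : Nat.card G ≤ p ^ 2 * Nat.card (Cfsg.powerClosure p 1 (⊤ : Subgroup G))) :
    Cfsg.IsMetacyclic G := by
  classical
  set U := Cfsg.powerClosure p 1 (⊤ : Subgroup G) with hU
  have hreg := Reg.of_regular (regular_of_cyclic_derived hp2 hG hc) 1
  rcases subsingleton_or_nontrivial G with hs | hs
  · exact ⟨⊤, inferInstance, inferInstance, inferInstance⟩
  haveI := hc
  obtain ⟨c, hcgen⟩ := IsCyclic.exists_generator (α := commutator G)
  haveI := Fintype.ofFinite G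
  obtain ⟨g, hgS, hgmax⟩ := Finset.exists_max_image (Finset.univ.filter fun g : G => (c : G) ∈ Subgroup.zpowers g)
    orderOf ⟨c, by simp⟩
  simp only [Finset.mem_filter, Finset.mem_univ, true_and] at hgS hgmax
  have hgU : g ∉ U := by
    intro hg
    obtain ⟨h, -, hh⟩ := (powerClosure_eq hreg ⊤).1 hg
    rw [pow_one] at hh
    by_cases hg1 : g = 1
    · rw [hg1, Subgroup.zpowers_one_eq_bot, Subgroup.mem_bot] at hgS
      obtain ⟨w, hw⟩ := exists_ne (1 : G)
      have := hgmax w (by rw [hgS]; exact one_mem _)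
      rw [hg1, orderOf_one] at this
      exact hw (orderOf_eq_one_iff.1 (le_antisymm this (orderOf_pos w)))
    · have hle := hgmax h ((Subgroup.zpowers_le.2 (hh ▸ Subgroup.pow_mem _ (Subgroup.mem_zpowers h) p)) hgS)
      obtain ⟨k, hk⟩ := IsPGroup.iff_orderOf.1 hG h
      have hpd : p ∣ orderOf h := by
        rcases Nat.eq_zero_or_pos k with rfl | hk0
        · rw [pow_zero, orderOf_eq_one_iff] at hk
          exact absurd (by rw [hh, hk, one_pow]) hg1
        · exact hk ▸ dvd_pow_self p hk0.ne'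
      have h2 : orderOf g = orderOf h / p := by
        rw [hh, orderOf_pow_of_dvd hp.out.ne_zero hpd]
      exact (Nat.div_lt_self (orderOf_pos h) hp.out.one_lt).not_ge (h2 ▸ hle)
  set C := Subgroup.zpowers g with hC
  have hGC : commutator G ≤ C := by
    intro x hx
    obtain ⟨i, hi⟩ := Subgroup.mem_zpowers_iff.1 (hcgen ⟨x, hx⟩)
    have := congrArg Subtype.val hi
    simp only [Subgroup.coe_zpow] at this
    exact this ▸ Subgroup.zpow_mem _ hgS i
  haveI hCn : C.Normal := Subgroup.Normal.of_commutator_le G hGC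
  refine ⟨C, hCn, inferInstance, ?_⟩
  haveI : (U ⊔ C).Normal := Subgroup.Normal.of_commutator_le G (hGC.trans le_sup_right)
  have hidx2 : (U ⊔ C).index ≤ p := by
    have hlt : Nat.card U < Nat.card ↥(U ⊔ C) := by
      refine lt_of_le_of_ne (Subgroup.card_le_of_le le_sup_left) fun e => hgU ?_
      rw [Subgroup.eq_of_le_of_card_ge le_sup_left e.ge]
      exact Subgroup.mem_sup_right (Subgroup.mem_zpowers g)
    obtain ⟨i, hi⟩ := IsPGroup.iff_card.1 (hG.to_subgroup U)
    obtain ⟨j, hj⟩ := IsPGroup.iff_card.1 (hG.to_subgroup (U ⊔ C))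
    rw [hi, hj] at hlt
    have hij := (Nat.pow_lt_pow_iff_right hp.out.one_lt).1 hlt
    have h1 := Subgroup.card_mul_index (U ⊔ C)
    rw [hj] at h1
    rw [hi, ← h1, ← pow_add] at hidx
    have h2 : p ^ j * (U ⊔ C).index ≤ p ^ j * p := by
      refine hidx.trans ?_
      rw [← pow_succ]
      exact Nat.pow_le_pow_right hp.out.pos (by omega)
    exact Nat.le_of_mul_le_mul_left h2 (pow_pos hp.out.pos j)
  obtain ⟨h, hh⟩ : ∃ h : G, Subgroup.zpowers h ⊔ (U ⊔ C) = ⊤ := by
    by_cases htop : U ⊔ C = ⊤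
    · exact ⟨1, by rw [htop]; exact sup_top_eq _⟩
    · obtain ⟨h, -, hh⟩ := SetLike.exists_of_lt (lt_top_iff_ne_top.2 htop)
      refine ⟨h, ?_⟩
      obtain ⟨i, hi⟩ := IsPGroup.iff_card.1 (hG.to_quotient (U ⊔ C))
      rw [← Subgroup.index_eq_card] at hi
      have hlt : Nat.card ↥(U ⊔ C) < Nat.card ↥(Subgroup.zpowers h ⊔ (U ⊔ C)) := by
        refine lt_of_le_of_ne (Subgroup.card_le_of_le le_sup_right) fun e => hh ?_
        rw [Subgroup.eq_of_le_of_card_ge le_sup_right e.ge]
        exact Subgroup.mem_sup_left (Subgroup.mem_zpowers h)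
      have h1 := Subgroup.card_mul_index (U ⊔ C)
      have h2 := Subgroup.card_mul_index (Subgroup.zpowers h ⊔ (U ⊔ C))
      obtain ⟨l, -, hl⟩ := (Nat.dvd_prime_pow hp.out).1 (hi ▸ Subgroup.index_dvd_of_le (le_sup_right : U ⊔ C ≤ Subgroup.zpowers h ⊔ (U ⊔ C)))
      refine Subgroup.index_eq_one.1 ?_
      by_contra hne
      have hl0 : l ≠ 0 := fun h0 => hne (by rw [hl, h0, pow_zero])
      have h3 : p ≤ (Subgroup.zpowers h ⊔ (U ⊔ C)).index := hl ▸ Nat.le_self_pow hl0 p
      nlinarith [hp.out.pos, hidx2]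
  have hUF : U ≤ frattini G := (Subgroup.closure_le _).2 (by
    rintro _ ⟨x, -, rfl⟩
    rw [pow_one]
    exact CfsgLib.Solv.pow_mem_frattini hG x)
  have hgen : Subgroup.zpowers h ⊔ C = ⊤ := by
    refine frattini_nongenerating (eq_top_iff.2 (hh.ge.trans ?_))
    exact sup_le (le_sup_left.trans le_sup_left) (sup_le (hUF.trans le_sup_right) (le_sup_right.trans le_sup_left))
  have hsurj : Function.Surjective ((QuotientGroup.mk' C).comp (Subgroup.zpowers h).subtype) := by
    intro q
    obtain ⟨x, rfl⟩ := QuotientGroup.mk'_surjective C q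
    have hx : x ∈ ((Subgroup.zpowers h ⊔ C : Subgroup G) : Set G) := by rw [hgen]; trivial
    rw [Subgroup.mul_normal] at hx
    obtain ⟨y, hy, z, hz, rfl⟩ := hx
    exact ⟨⟨y, hy⟩, by simp [(QuotientGroup.eq_one_iff z).2 hz]⟩
  exact isCyclic_of_surjective _ hsurj

/-- The criterion. -/
theorem metacyclic_of_powers (hp2 : p ≠ 2) : ∀ (n : ℕ) (G : Type u) [Group G] [Finite G], Nat.card G = n →
    IsPGroup p G → Nat.card G ≤ p ^ 2 * Nat.card (Cfsg.powerClosure p 1 (⊤ : Subgroup G)) →
    Cfsg.IsMetacyclic G := by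
  intro n
  induction n using Nat.strong_induction_on with
  | _ n ih =>
  intro G _ _ hn hG hidx
  classical
  refine metacyclic_of_cyclic_derived hp2 hG ?_ hidx
  rcases eq_or_ne (commutator G) ⊥ with h0 | h0
  · rw [h0]; infer_instance
  have hne := CfsgLib.Perm.inf_center_ne_bot hG (commutator G) h0
  have hd : p ∣ Nat.card ↥(commutator G ⊓ Subgroup.center G) := by
    obtain ⟨i, hi⟩ := IsPGroup.iff_card.1 (hG.to_subgroup (commutator G ⊓ Subgroup.center G))
    exact hi ▸ dvd_pow_self p (fun h => hne (Subgroup.eq_bot_of_card_eq _ (by rw [hi, h, pow_zero])))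
  obtain ⟨z, hz⟩ := exists_prime_orderOf_dvd_card' p hd
  set Z := Subgroup.zpowers (z : G) with hZ
  have hzc : (z : G) ∈ Subgroup.center G := z.2.2
  haveI hZn : Z.Normal := ⟨fun x hx g => by
    have hxc : x ∈ Subgroup.center G := (Subgroup.zpowers_le.2 hzc) hx
    rwa [Subgroup.mem_center_iff.1 hxc g, mul_inv_cancel_right]⟩
  have hZ1 : 1 < Nat.card Z := by rw [Nat.card_zpowers, Subgroup.orderOf_coe, hz]; exact hp.out.one_lt
  set f := QuotientGroup.mk' Z
  have hsm : Nat.card (G ⧸ Z) < n := by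
    rw [← hn, Subgroup.card_eq_card_quotient_mul_card_subgroup Z]
    exact lt_mul_of_one_lt_right Nat.card_pos hZ1
  have hidQ : Nat.card (G ⧸ Z) ≤ p ^ 2 * Nat.card (Cfsg.powerClosure p 1 (⊤ : Subgroup (G ⧸ Z))) := by
    set U := Cfsg.powerClosure p 1 (⊤ : Subgroup G)
    haveI : U.Normal := Cfsg.Agent.S4209.powerClosure_normal p 1 _
    have hUm : U.map f ≤ Cfsg.powerClosure p 1 (⊤ : Subgroup (G ⧸ Z)) := by
      rw [Subgroup.map_le_iff_le_comap]
      refine (Subgroup.closure_le _).2 ?_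
      rintro _ ⟨x, -, rfl⟩
      exact Subgroup.subset_closure ⟨f x, trivial, map_pow f x _⟩
    have h1 := Subgroup.card_mul_index U
    have h2 := Subgroup.card_mul_index (U.map f)
    have h3 : U.index ≤ p ^ 2 := by
      rw [← h1, mul_comm (p ^ 2)] at hidx
      exact Nat.le_of_mul_le_mul_left hidx Nat.card_pos
    have h4 := Nat.le_of_dvd (Nat.pos_of_ne_zero Subgroup.index_ne_zero_of_finite)
      (Subgroup.index_map_dvd U (QuotientGroup.mk'_surjective Z))
    calc Nat.card (G ⧸ Z) = Nat.card (U.map f) * (U.map f).index := h2.symm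
      _ ≤ Nat.card (Cfsg.powerClosure p 1 (⊤ : Subgroup (G ⧸ Z))) * p ^ 2 :=
        Nat.mul_le_mul (Subgroup.card_le_of_le hUm) (h4.trans h3)
      _ = _ := mul_comm _ _
  obtain ⟨N, hN, hNc, hNq⟩ := ih _ hsm (G ⧸ Z) rfl (hG.to_quotient Z) hidQ
  haveI := hN; haveI := hNc; haveI := hNq
  set N' := N.comap f with hN'
  obtain ⟨q, hq⟩ := IsCyclic.exists_generator (α := (G ⧸ Z) ⧸ N)
  obtain ⟨q1, rfl⟩ := QuotientGroup.mk'_surjective N q
  obtain ⟨b, rfl⟩ := QuotientGroup.mk'_surjective Z q1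
  obtain ⟨a1, ha1⟩ := IsCyclic.exists_generator (α := N)
  obtain ⟨a, ha⟩ := QuotientGroup.mk'_surjective Z (a1 : G ⧸ Z)
  have haN : a ∈ N' := by rw [hN', Subgroup.mem_comap]; exact ha ▸ a1.2
  have hNgen : ∀ x ∈ N', ∃ (i : ℤ) (w : G), w ∈ Z ∧ x = a ^ i * w := by
    intro x hx
    obtain ⟨i, hi⟩ := Subgroup.mem_zpowers_iff.1 (ha1 ⟨f x, hx⟩)
    have hi' : f (a ^ i) = f x := by
      rw [map_zpow, ha]; exact congrArg Subtype.val hi
    exact ⟨i, (a ^ i)⁻¹ * x, QuotientGroup.eq.1 hi', by group⟩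
  have hZc : ∀ w ∈ Z, ∀ x : G, x * w = w * x := fun w hw x =>
    Subgroup.mem_center_iff.1 ((Subgroup.zpowers_le.2 hzc) hw) x
  have hNab : ∀ x ∈ N', ∀ y ∈ N', x * y = y * x := by
    intro x hx y hy
    obtain ⟨i, w, hw, rfl⟩ := hNgen x hx
    obtain ⟨j, v, hv, rfl⟩ := hNgen y hy
    exact (((Commute.refl a).zpow_zpow i j).mul_right (hZc v hv _)).mul_left
      ((Commute.mul_right (hZc w hw _).symm (hZc w hw _).symm : Commute w (a ^ j * v)))
  haveI : N'.Normal := hN.comap f
  have hbN : ∀ n : N', ⁅b, (n : G)⁆ ∈ N' := fun n => by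
    rw [commutatorElement_def]
    exact mul_mem (Subgroup.Normal.conj_mem inferInstance _ n.2 b) (inv_mem n.2)
  let φ : N' →* G :=
    { toFun := fun n => ⁅b, (n : G)⁆
      map_one' := by simp
      map_mul' := fun m n => by
        have h1 : ⁅b, ((m * n : N') : G)⁆ = ⁅b, (m : G)⁆ * ((m : G) * ⁅b, (n : G)⁆ * (m : G)⁻¹) := by
          simp only [Subgroup.coe_mul, commutatorElement_def]; group
        rw [h1, hNab _ m.2 _ (hbN n), mul_inv_cancel_right] }
  set S := φ.range with hS
  have hSN : S ≤ N' := by rintro _ ⟨n, rfl⟩; exact hbN n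
  haveI hSc : IsCyclic S := by
    refine ⟨⟨⟨φ ⟨a, haN⟩, ⟨_, rfl⟩⟩, ?_⟩⟩
    rintro ⟨_, n, rfl⟩
    obtain ⟨i, w, hw, hx⟩ := hNgen n n.2
    have hwN : w ∈ N' := by rw [show w = (a ^ i)⁻¹ * n by rw [hx]; group]; exact mul_mem (inv_mem (Subgroup.zpow_mem _ haN i)) n.2
    have hn : n = ⟨a, haN⟩ ^ i * ⟨w, hwN⟩ := Subtype.ext (by simpa using hx)
    have h1 : φ ⟨w, hwN⟩ = 1 := commutatorElement_eq_one_iff_mul_comm.2 (hZc w hw b)
    exact Subgroup.mem_zpowers_iff.2 ⟨i, Subtype.ext (by simp [hn, h1])⟩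
  have hgens : Subgroup.zpowers b ⊔ N' = ⊤ := by
    refine eq_top_iff.2 fun x _ => ?_
    obtain ⟨i, hi⟩ := Subgroup.mem_zpowers_iff.1 (hq (QuotientGroup.mk' N (f x)))
    rw [← map_zpow, ← map_zpow] at hi
    have : (b ^ i)⁻¹ * x ∈ N' := by
      rw [hN', Subgroup.mem_comap, map_mul, map_inv]
      exact QuotientGroup.eq.1 hi
    exact (mul_inv_cancel_left (b ^ i) x) ▸ Subgroup.mul_mem_sup (Subgroup.zpow_mem _ (Subgroup.mem_zpowers b) i) this
  haveI hSn : S.Normal := by
    rw [← Subgroup.normalizer_eq_top_iff, eq_top_iff, ← hgens]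
    refine sup_le ?_ (fun n hn => ?_)
    · rw [Subgroup.zpowers_le]
      refine CfsgLib.Perm.BlackburnRankTwo.mem_normalizer_of_conj_le fun s hs => ?_
      obtain ⟨n, rfl⟩ := hs
      refine ⟨⟨b * n * b⁻¹, Subgroup.Normal.conj_mem inferInstance _ n.2 b⟩, ?_⟩
      show ⁅b, b * (n : G) * b⁻¹⁆ = b * ⁅b, (n : G)⁆ * b⁻¹
      simp only [commutatorElement_def]; group
    · refine CfsgLib.Perm.BlackburnRankTwo.mem_normalizer_of_conj_le fun s hs => ?_
      rwa [hNab n hn s (hSN hs), mul_inv_cancel_right]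
  have hGS : commutator G ≤ S := by
    refine Subgroup.Normal.quotient_commutative_iff_commutator_le.1 ⟨⟨?_⟩⟩
    set g := QuotientGroup.mk' S
    have hbn : ∀ n ∈ N', Commute (g b) (g n) := fun n hn => by
      refine commutatorElement_eq_one_iff_mul_comm.1 ?_
      rw [← map_commutatorElement]
      exact (QuotientGroup.eq_one_iff _).2 ⟨⟨n, hn⟩, rfl⟩
    intro u v
    obtain ⟨x, rfl⟩ := QuotientGroup.mk'_surjective S u
    obtain ⟨y, rfl⟩ := QuotientGroup.mk'_surjective S v
    have hx : x ∈ ((Subgroup.zpowers b ⊔ N' : Subgroup G) : Set G) := by rw [hgens]; trivial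
    have hy : y ∈ ((Subgroup.zpowers b ⊔ N' : Subgroup G) : Set G) := by rw [hgens]; trivial
    rw [Subgroup.mul_normal] at hx hy
    obtain ⟨x1, hx1, x2, hx2, rfl⟩ := hx
    obtain ⟨y1, hy1, y2, hy2, rfl⟩ := hy
    obtain ⟨i, rfl⟩ := Subgroup.mem_zpowers_iff.1 hx1
    obtain ⟨j, rfl⟩ := Subgroup.mem_zpowers_iff.1 hy1
    have c1 : Commute (g b ^ i) (g b ^ j) := (Commute.refl _).zpow_zpow i j
    have c2 : Commute (g b ^ i) (g y2) := (hbn _ hy2).zpow_left i
    have c3 : Commute (g x2) (g b ^ j) := ((hbn _ hx2).zpow_left j).symm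
    have c4 : Commute (g x2) (g y2) := by
      show g x2 * g y2 = g y2 * g x2
      rw [← map_mul, ← map_mul, hNab _ hx2 _ hy2]
    show g (b ^ i * x2) * g (b ^ j * y2) = g (b ^ j * y2) * g (b ^ i * x2)
    rw [map_mul, map_mul, map_zpow, map_zpow]
    exact (c1.mul_right c2).mul_left (c3.mul_right c4)
  exact isCyclic_of_injective (Subgroup.inclusion hGS) (Subgroup.inclusion_injective hGS)

/-- In a regular group the `p`-th powers have index at most the order of the first omega subgroup. -/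
theorem card_le_of_regular {G : Type u} [Group G] [Finite G] (hG : Cfsg.IsRegularPGroup p G) :
    Nat.card G ≤ Nat.card (Cfsg.omegaOne p (⊤ : Subgroup G)) *
      Nat.card (Cfsg.powerClosure p 1 (⊤ : Subgroup G)) := by
  classical
  let e : G → Cfsg.powerClosure p 1 (⊤ : Subgroup G) := fun x =>
    ⟨x ^ p ^ 1, Subgroup.subset_closure ⟨x, trivial, rfl⟩⟩
  let r := Function.invFun e
  have hr : ∀ x, e (r (e x)) = e x := fun x => Function.invFun_eq ⟨x, rfl⟩
  let m : G → Cfsg.omegaOne p (⊤ : Subgroup G) × Cfsg.powerClosure p 1 (⊤ : Subgroup G) := fun x =>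
    (⟨x * (r (e x))⁻¹, Subgroup.subset_closure ⟨trivial, by
      have h := congrArg Subtype.val (hr x)
      have h2 := (pow_eq_pow_iff hG 1 x (r (e x))).1 h.symm
      rwa [pow_one] at h2⟩⟩, e x)
  have hm : Function.Injective m := by
    intro x y h
    simp only [m, Prod.mk.injEq] at h
    replace h := And.imp_left (congrArg Subtype.val) h
    obtain ⟨h1, h2⟩ := h
    have h3 : r (e x) = r (e y) := congrArg r h2
    replace h1 : x * (r (e x))⁻¹ = y * (r (e y))⁻¹ := h1
    rw [h3] at h1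
    exact mul_right_cancel h1
  rw [← Nat.card_prod]
  exact Nat.card_le_card_of_injective m hm

/-- A derived subgroup of order at most `p ^ 2` bounds the class by three. -/
theorem lcs_bot {R : Type u} [Group R] [Finite R] (hp3 : 3 < p) (hR : IsPGroup p R)
    (hD : Nat.card (commutator R) ≤ p ^ 2) : (⊤ : Subgroup R).lowerCentralSeries (p - 1) = ⊥ := by
  haveI := hR.isNilpotent
  have hdec : ∀ j, (⊤ : Subgroup R).lowerCentralSeries (j + 1) ≠ ⊥ →
      p * Nat.card ((⊤ : Subgroup R).lowerCentralSeries (j + 1 + 1)) ≤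
        Nat.card ((⊤ : Subgroup R).lowerCentralSeries (j + 1)) := by
    intro j hj
    have hle := Subgroup.lowerCentralSeries_antitone (⊤ : Subgroup R) (Nat.le_succ (j + 1))
    obtain ⟨s, hs⟩ := IsPGroup.iff_card.1 (hR.to_subgroup ((⊤ : Subgroup R).lowerCentralSeries (j + 1)))
    obtain ⟨t, ht⟩ := IsPGroup.iff_card.1 (hR.to_subgroup ((⊤ : Subgroup R).lowerCentralSeries (j + 1 + 1)))
    have hlt : (⊤ : Subgroup R).lowerCentralSeries (j + 1 + 1) ≠ (⊤ : Subgroup R).lowerCentralSeries (j + 1) := by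
      intro he
      have hst : ∀ l, (⊤ : Subgroup R).lowerCentralSeries (j + 1 + l) = (⊤ : Subgroup R).lowerCentralSeries (j + 1) := by
        intro l
        induction l with
        | zero => rfl
        | succ l ihl =>
          show ⁅(⊤ : Subgroup R).lowerCentralSeries (j + 1 + l), ⊤⁆ = _
          rw [ihl]; exact he
      obtain ⟨N, hN⟩ := Subgroup.nilpotent_iff_lowerCentralSeries.1 (inferInstance : Group.IsNilpotent R)
      exact hj (eq_bot_iff.2 ((hst N).symm.le.trans (hN ▸ Subgroup.lowerCentralSeries_antitone _ (Nat.le_add_left N (j + 1)))))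
    have hts : t < s := by
      refine (Nat.pow_lt_pow_iff_right hp.out.one_lt).1 (hs ▸ ht ▸ ?_)
      exact lt_of_le_of_ne (Subgroup.card_le_of_le hle) fun he => hlt (Subgroup.eq_of_le_of_card_ge hle he.ge)
    rw [ht, hs, ← pow_succ']
    exact Nat.pow_le_pow_right hp.out.pos hts
  have hl1 : Nat.card ((⊤ : Subgroup R).lowerCentralSeries (0 + 1)) ≤ p ^ 2 := by
    refine le_trans (le_of_eq ?_) hD
    simp [commutator_def]
  have hl3 : (⊤ : Subgroup R).lowerCentralSeries 3 = ⊥ := by
    by_contra h3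
    have h2 : (⊤ : Subgroup R).lowerCentralSeries 2 ≠ ⊥ := fun h =>
      h3 (eq_bot_iff.2 (h ▸ Subgroup.lowerCentralSeries_antitone _ (by omega)))
    have h1 : (⊤ : Subgroup R).lowerCentralSeries 1 ≠ ⊥ := fun h =>
      h2 (eq_bot_iff.2 (h ▸ Subgroup.lowerCentralSeries_antitone _ (by omega)))
    have a1 := hdec 0 h1
    have a2 := hdec 1 h2
    have a3 : 1 < Nat.card ((⊤ : Subgroup R).lowerCentralSeries 3) := by
      rw [Subgroup.one_lt_card_iff_ne_bot]; exact h3
    simp only [Nat.zero_add, Nat.reduceAdd] at a1 a2 hl1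
    have a4 : p * (p * 2) ≤ p ^ 2 := le_trans (Nat.mul_le_mul_left p ((Nat.mul_le_mul_left p a3).trans a2)) (a1.trans hl1)
    nlinarith [hp.out.pos]
  exact eq_bot_iff.2 (hl3 ▸ Subgroup.lowerCentralSeries_antitone _ (by omega))

/-- Blackburn's theorem. -/
theorem main (hp3 : 3 < p) : ∀ (n : ℕ) (R : Type u) [Group R] [Finite R], Nat.card R = n → IsPGroup p R →
    Nat.card (Cfsg.omegaOne p (⊤ : Subgroup R)) ≤ p ^ 2 → Cfsg.IsMetacyclic R := by
  have hp2 : p ≠ 2 := by omega
  intro n
  induction n using Nat.strong_induction_on with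
  | _ n ih =>
  intro R _ _ hn hR hO
  classical
  set O := Cfsg.omegaOne p (⊤ : Subgroup R) with hOdef
  rcases subsingleton_or_nontrivial R with hs | hs
  · exact ⟨⊤, inferInstance, inferInstance, inferInstance⟩
  have hsub : ∀ H : Subgroup R, H ≠ ⊤ → Cfsg.IsMetacyclic H := by
    intro H hH
    refine ih (Nat.card H) ?_ H rfl (hR.to_subgroup H) (le_trans ?_ hO)
    · rw [← hn]
      exact lt_of_le_of_ne (Subgroup.card_le_card_group H) fun e => hH (Subgroup.eq_top_of_card_eq _ e)
    · rw [← CfsgLib.Perm.BlackburnRankTwo.card_map_subtype' H (Cfsg.omegaOne p (⊤ : Subgroup H))]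
      refine Subgroup.card_le_of_le ?_
      rw [Subgroup.map_le_iff_le_comap]
      refine (Subgroup.closure_le _).2 ?_
      rintro x ⟨-, hx⟩
      exact Subgroup.subset_closure ⟨trivial, by simpa using congrArg Subtype.val hx⟩
  obtain ⟨k, hk⟩ := IsPGroup.iff_card.1 hR
  obtain ⟨k, rfl⟩ : ∃ j, k = j + 1 := Nat.exists_eq_succ_of_ne_zero fun h => by
    rw [h, pow_zero] at hk
    exact (Finite.one_lt_card (α := R)).ne' hk
  obtain ⟨M, hM⟩ := Sylow.exists_subgroup_card_pow_prime p (hk ▸ Nat.pow_dvd_pow p k.le_succ)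
  have hMi : M.index = p := by
    have h := Subgroup.card_mul_index M
    rw [hM, hk, pow_succ] at h
    exact Nat.eq_of_mul_eq_mul_left (pow_pos hp.out.pos k) h
  haveI hMn : M.Normal := Subgroup.normal_of_index_eq_minFac_card (by rw [hMi, hk, Nat.pow_minFac (by omega), hp.out.minFac_eq])
  have hMtop : M ≠ ⊤ := fun e => hp.out.one_lt.ne' (by rw [← hMi, e, Subgroup.index_top])
  haveI : IsCyclic (R ⧸ M) := isCyclic_of_prime_card (p := p) (by rw [← Subgroup.index_eq_card, hMi])
  by_cases hMc : IsCyclic M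
  · exact ⟨M, hMn, hMc, inferInstance⟩
  have hMm := hsub M hMtop
  have hMreg := regular_of_metacyclic hp2 (hR.to_subgroup M) hMm
  obtain ⟨-, hOMc⟩ := CfsgLib.Solv.omegaOne_metacyclic hp2 (hR.to_subgroup M) hMm hMc
  have hOM : O ≤ M := by
    have h1 : (Cfsg.omegaOne p (⊤ : Subgroup M)).map M.subtype ≤ O := by
      rw [Subgroup.map_le_iff_le_comap]
      refine (Subgroup.closure_le _).2 ?_
      rintro x ⟨-, hx⟩
      exact Subgroup.subset_closure ⟨trivial, by simpa using congrArg Subtype.val hx⟩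
    rw [← Subgroup.eq_of_le_of_card_ge h1 (by rw [CfsgLib.Perm.BlackburnRankTwo.card_map_subtype', hOMc]; exact hO)]
    exact Subgroup.map_subtype_le _
  have hkey : ∀ x ∉ M, ∀ m ∈ M, x ^ p ≠ m ^ p := by
    intro x hx m hm e
    suffices h : (x * m⁻¹) ^ p = 1 by
      exact hx ((Subgroup.mul_mem_cancel_right M (inv_mem hm)).1 (hOM (Subgroup.subset_closure ⟨trivial, h⟩)))
    set H := Subgroup.closure ({x, m} : Set R) with hH
    have hxH : x ∈ H := Subgroup.subset_closure (by simp)
    have hmH : m ∈ H := Subgroup.subset_closure (by simp)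
    by_cases hHt : H = ⊤
    · -- the derived subgroup is small
      have hmc : m ^ p ∈ Subgroup.center R := by
        rw [Subgroup.mem_center_iff]
        intro g
        have hg : g ∈ Subgroup.centralizer ({m ^ p} : Set R) := by
          refine (Subgroup.closure_le _).2 ?_ (hHt.symm ▸ Subgroup.mem_top g : g ∈ H)
          rintro y (rfl | rfl) <;> rw [SetLike.mem_coe, Subgroup.mem_centralizer_singleton_iff]
          · rw [← e]; exact ((Commute.refl y).pow_right p).eq
          · exact ((Commute.refl y).pow_right p).eq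
        exact Subgroup.mem_centralizer_singleton_iff.1 hg
      have hm' : x * m * x⁻¹ ∈ M := hMn.conj_mem m hm x
      have h1 : (⟨_, hm'⟩ : M) ^ p ^ 1 = (⟨m, hm⟩ : M) ^ p ^ 1 := by
        apply Subtype.ext
        simp only [Subgroup.coe_pow, pow_one, conj_pow]
        rw [Subgroup.mem_center_iff.1 hmc x, mul_inv_cancel_right]
      have h2 := (pow_eq_pow_iff hMreg 1 _ _).1 h1
      have hz : ⁅x, m⁆ ∈ O := by
        refine Subgroup.subset_closure ⟨trivial, ?_⟩
        have := congrArg Subtype.val h2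
        simpa [commutatorElement_def] using this
      haveI hOn : O.Normal := CfsgLib.Perm.BlackburnRankTwo.omegaOne_normal R
      have hRO : commutator R ≤ O := by
        refine Subgroup.Normal.quotient_commutative_iff_commutator_le.1 ⟨⟨?_⟩⟩
        set g := QuotientGroup.mk' O
        have hxm : Commute (g x) (g m) := commutatorElement_eq_one_iff_mul_comm.1 (by
          rw [← map_commutatorElement]; exact (QuotientGroup.eq_one_iff _).2 hz)
        have hgen : ∀ y : R, g y ∈ Subgroup.closure ({g x, g m} : Set (R ⧸ O)) := fun y => by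
          have : y ∈ (Subgroup.closure ({g x, g m} : Set (R ⧸ O))).comap g := by
            refine (Subgroup.closure_le _).2 ?_ (hHt.symm ▸ Subgroup.mem_top y : y ∈ H)
            rintro w (rfl | rfl) <;> exact Subgroup.subset_closure (by simp)
          exact this
        intro u v
        obtain ⟨y, rfl⟩ := QuotientGroup.mk'_surjective O u
        obtain ⟨w, rfl⟩ := QuotientGroup.mk'_surjective O v
        letI := Subgroup.isMulCommutative_closure (k := ({g x, g m} : Set (R ⧸ O))) (by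
          rintro a (rfl | rfl) b (rfl | rfl)
          exacts [rfl, hxm, hxm.symm, rfl])
        exact congrArg Subtype.val (this.is_comm.comm (⟨_, hgen y⟩ : Subgroup.closure ({g x, g m} : Set (R ⧸ O))) ⟨_, hgen w⟩)
      have hcl : (⊤ : Subgroup R).lowerCentralSeries (p - 1) = ⊥ :=
        lcs_bot hp3 hR ((Subgroup.card_le_of_le hRO).trans hO)
      have h3 := (pow_eq_pow_iff (Cfsg.Agent.S4209.result hR hcl) 1 x m).1 (by rw [pow_one]; exact e)
      rwa [pow_one] at h3
    · have hreg := regular_of_metacyclic hp2 (hR.to_subgroup H) (hsub H hHt)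
      have h1 : (⟨x, hxH⟩ : H) ^ p ^ 1 = (⟨m, hmH⟩ : H) ^ p ^ 1 := Subtype.ext (by simpa using e)
      have := congrArg Subtype.val ((pow_eq_pow_iff hreg 1 _ _).1 h1)
      simpa using this
  refine metacyclic_of_powers hp2 (Nat.card R) R rfl hR ?_
  set D := (Cfsg.powerClosure p 1 (⊤ : Subgroup M)).map M.subtype with hD
  set U := Cfsg.powerClosure p 1 (⊤ : Subgroup R) with hU
  have hDU : D ≤ U := by
    rw [hD, Subgroup.map_le_iff_le_comap]
    refine (Subgroup.closure_le _).2 ?_
    rintro _ ⟨y, -, rfl⟩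
    exact Subgroup.subset_closure ⟨y, trivial, by simp⟩
  obtain ⟨x, -, hx⟩ := SetLike.exists_of_lt (lt_top_iff_ne_top.2 hMtop)
  have hlt : D < U := by
    refine lt_of_le_of_ne hDU fun e => ?_
    obtain ⟨y, hy, hye⟩ := (e.symm ▸ Subgroup.subset_closure ⟨x, trivial, rfl⟩ : x ^ p ^ 1 ∈ D)
    obtain ⟨w, -, hw⟩ := (powerClosure_eq (Reg.of_regular hMreg 1) ⊤).1 hy
    refine hkey x hx (w : R) w.2 ?_
    rw [hw] at hye
    simpa using hye.symm
  have hMc' := card_le_of_regular hMreg
  rw [hOMc] at hMc'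
  have hDc : Nat.card D = Nat.card (Cfsg.powerClosure p 1 (⊤ : Subgroup M)) :=
    CfsgLib.Perm.BlackburnRankTwo.card_map_subtype' M _
  obtain ⟨s, hs⟩ := IsPGroup.iff_card.1 (hR.to_subgroup D)
  obtain ⟨t, ht⟩ := IsPGroup.iff_card.1 (hR.to_subgroup U)
  have hst : s < t := by
    refine (Nat.pow_lt_pow_iff_right hp.out.one_lt).1 (hs ▸ ht ▸ ?_)
    exact lt_of_le_of_ne (Subgroup.card_le_of_le hDU) fun he => hlt.ne (Subgroup.eq_of_le_of_card_ge hDU he.ge)
  rw [← hDc, hs, hM] at hMc'
  rw [ht, hk]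
  calc p ^ (k + 1) = p * p ^ k := pow_succ' p k
    _ ≤ p * (p ^ 2 * p ^ s) := Nat.mul_le_mul_left p hMc'
    _ = p ^ 2 * p ^ (s + 1) := by ring
    _ ≤ p ^ 2 * p ^ t := Nat.mul_le_mul_left _ (Nat.pow_le_pow_right hp.out.pos hst)

end CfsgLib.Perm.BlackburnRankTwo
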