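import Cfsg.Agent.Perm.QuotientTargets
import Cfsg.Agent.Solv.FittingBasic
import Cfsg.Agent.Fus.CoreBasic

/-!
The unique normal subgroup with cyclic Sylow subgroups and small quotient in a Frobenius complement.
-/

set_option autoImplicit false
set_option linter.style.haveILetI false

namespace CfsgLib.Perm.Fpf

open Subgroup

variable {G : Type*} [Group G] [Finite G]

theorem sl25_four : ∀ v : ZMod 5 × ZMod 5 × ZMod 5 × ZMod 5,
    (v.1 * 2 = 2 * v.1 ∧ v.2.1 * 3 = 2 * v.2.1 ∧ v.2.2.1 * 2 = 3 * v.2.2.1) →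
      (v.2.1 * 4 = v.2.2.1 * 1 ∧ v.1 * 1 = 1 * v.2.2.2) → v.2.1 = 0 ∧ v.2.2.1 = 0 ∧ v.1 = v.2.2.2 := by
  decide +kernel

/-- A diagonal element of order four. -/
def sl25I : Matrix.SpecialLinearGroup (Fin 2) (ZMod 5) := ⟨!![2, 0; 0, 3], by decide⟩

/-- An element of order four normalising the diagonal. -/
def sl25J : Matrix.SpecialLinearGroup (Fin 2) (ZMod 5) := ⟨!![0, 1; 4, 0], by decide⟩

theorem orderOf_sl25I : orderOf sl25I = 4 :=
  haveI := Fact.mk Nat.prime_two
  orderOf_eq_prime_pow (p := 2) (n := 1) (by decide +kernel) (by decide +kernel)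

/-- No element of order four centralises a normal `SL(2,5)`. -/
theorem no_four_centralizing (h : HasFpf G) {L : Subgroup G}
    (e : L ≃* Matrix.SpecialLinearGroup (Fin 2) (ZMod 5)) {t : G} (ht : ∀ x ∈ L, t * x = x * t) : orderOf t ≠ 4 := by
  intro hto
  haveI := Fact.mk Nat.prime_two
  set q : L := e.symm sl25I with hq
  have hqo : orderOf (q : G) = 4 := by
    rw [Subgroup.orderOf_coe, hq, MulEquiv.orderOf_eq, orderOf_sl25I]
  have hc : Commute t (q : G) := ht q q.2
  have hsq : ∀ {w : G}, orderOf w = 4 → w * w = t * t := fun {w} hw =>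
    invol_unique h (show orderOf (w * w) = 2 by rw [← pow_two, orderOf_pow, hw]; norm_num)
      (show orderOf (t * t) = 2 by rw [← pow_two, orderOf_pow, hto]; norm_num)
  have h2 : (t * q) ^ 2 = 1 := by
    rw [hc.mul_pow, pow_two, pow_two, hsq hqo, ← pow_two, ← pow_two, ← pow_mul,
      show 2 * 2 = orderOf t by rw [hto], pow_orderOf_eq_one]
  have htL : t ∈ L := by
    by_cases h1 : t * (q : G) = 1
    · rw [eq_inv_of_mul_eq_one_left h1]; exact inv_mem q.2
    · have hz : orderOf (t * (q : G)) = 2 := orderOf_eq_prime h2 h1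
      have := invol_unique h hz (show orderOf ((q : G) * q) = 2 by rw [← pow_two, orderOf_pow, hqo]; norm_num)
      rw [eq_mul_inv_of_mul_eq this]; exact mul_mem (mul_mem q.2 q.2) (inv_mem q.2)
  set g := e ⟨t, htL⟩ with hg
  have hgc : ∀ k, g * k = k * g := by
    intro k
    obtain ⟨x, rfl⟩ := e.surjective k
    rw [hg, ← map_mul, ← map_mul]
    exact congrArg e (Subtype.ext (ht x x.2))
  have e1 : g.1 * !![(2 : ZMod 5), 0; 0, 3] = !![(2 : ZMod 5), 0; 0, 3] * g.1 := congrArg Subtype.val (hgc sl25I)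
  have e2 : g.1 * !![(0 : ZMod 5), 1; 4, 0] = !![(0 : ZMod 5), 1; 4, 0] * g.1 := congrArg Subtype.val (hgc sl25J)
  have f1 := fun i j => congrFun (congrFun e1 i) j
  have f2 := fun i j => congrFun (congrFun e2 i) j
  simp only [Matrix.mul_apply, Fin.sum_univ_two] at f1 f2
  obtain ⟨hb, hc', had⟩ := sl25_four (g.1 0 0, g.1 0 1, g.1 1 0, g.1 1 1)
    ⟨by simpa using f1 0 0, by simpa using f1 0 1, by simpa using f1 1 0⟩
    ⟨by simpa using f2 0 0, by simpa using f2 0 1⟩
  simp only at hb hc' had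
  have hdet := g.2
  rw [Matrix.det_fin_two, hb, hc', ← had] at hdet
  have hg2 : g ^ 2 = 1 := by
    rw [pow_two]
    refine Subtype.ext ?_
    ext i j
    rw [Matrix.SpecialLinearGroup.coe_mul, Matrix.mul_apply, Fin.sum_univ_two]
    fin_cases i <;> fin_cases j <;> simp [hb, hc', ← had] <;> simpa using hdet
  rw [hg, ← map_pow, EmbeddingLike.map_eq_one_iff] at hg2
  have := orderOf_dvd_of_pow_eq_one (congrArg Subtype.val hg2 : t ^ 2 = 1)
  rw [hto] at this
  norm_num at this

/-- The action on `A5`. -/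
theorem exists_conj_hom {L : Subgroup G} [L.Normal] (hLp : commutator L = ⊤) (π : L →* A5)
    (hπ : Function.Surjective π) (hker : ∀ (g : G) (x : L), x ∈ π.ker → MulAut.conjNormal g x ∈ π.ker)
    (hcen : π.ker ≤ Subgroup.center L) :
    ∃ Φ : G →* Equiv.Perm (Fin 5), Φ.ker = Subgroup.centralizer (L : Set G) ∧
      ∀ x : L, Φ x = (π x : Equiv.Perm (Fin 5)) := by
  let c : G → (L →* A5) := fun g => π.comp (MulAut.conjNormal g : MulAut L).toMonoidHom
  let ψ : G → (A5 →* A5) := fun g => π.liftOfSurjective hπ ⟨c g, fun x hx => hker g x hx⟩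
  have hψ : ∀ g x, ψ g (π x) = π (MulAut.conjNormal g x) := fun g x =>
    MonoidHom.liftOfRightInverse_comp_apply π _ _ ⟨c g, fun y hy => hker g y hy⟩ x
  have hψmul : ∀ g g', ψ (g * g') = (ψ g).comp (ψ g') := fun g g' => MonoidHom.ext fun a => by
    obtain ⟨x, rfl⟩ := hπ a
    rw [MonoidHom.comp_apply, hψ, hψ, hψ, map_mul, MulAut.mul_apply]
  have hψ1 : ψ 1 = MonoidHom.id A5 := MonoidHom.ext fun a => by
    obtain ⟨x, rfl⟩ := hπ a
    rw [hψ, map_one, MulAut.one_apply, MonoidHom.id_apply]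
  let χ : G →* MulAut A5 :=
    { toFun := fun g => MonoidHom.toMulEquiv (ψ g) (ψ g⁻¹) (by rw [← hψmul, inv_mul_cancel, hψ1])
        (by rw [← hψmul, mul_inv_cancel, hψ1])
      map_one' := MulEquiv.ext fun a => by
        show ψ 1 a = a
        rw [hψ1]; rfl
      map_mul' := fun g g' => MulEquiv.ext fun a => by
        show ψ (g * g') a = ψ g (ψ g' a)
        rw [hψmul]; rfl }
  let eA := MulEquiv.ofBijective conjA5 conjA5_bijective
  refine ⟨eA.symm.toMonoidHom.comp χ, ?_, fun x => ?_⟩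
  · ext g
    rw [MonoidHom.mem_ker, MonoidHom.comp_apply, MulEquiv.coe_toMonoidHom, EmbeddingLike.map_eq_one_iff]
    constructor
    · intro hg
      refine Subgroup.mem_centralizer_iff.2 fun x hx => (commute_of_central_defect hLp ?_ x hx).symm
      intro y
      refine ⟨(inferInstance : L.Normal).conj_mem _ y.2 g, hcen ?_⟩
      have h1 : ψ g (π y) = π y := DFunLike.congr_fun hg (π y)
      rw [hψ] at h1
      rw [MonoidHom.mem_ker, map_mul, map_inv, mul_inv_eq_one]
      exact (congrArg π (Subtype.ext (MulAut.conjNormal_apply g y).symm)).trans h1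
    · intro hg
      refine MulEquiv.ext fun a => ?_
      obtain ⟨y, rfl⟩ := hπ a
      show ψ g (π y) = π y
      rw [hψ]
      refine congrArg π (Subtype.ext ?_)
      rw [MulAut.conjNormal_apply]
      exact mul_inv_eq_iff_eq_mul.2 (Subgroup.mem_centralizer_iff.1 hg _ y.2).symm
  · show eA.symm (χ x) = _
    rw [MulEquiv.symm_apply_eq]
    refine MulEquiv.ext fun a => ?_
    obtain ⟨y, rfl⟩ := hπ a
    show ψ x (π y) = conjA5 (π x) (π y)
    rw [hψ]
    refine Subtype.ext ?_
    rw [show ((conjA5 (π x) (π y) : A5) : Equiv.Perm (Fin 5)) = π x * π y * ((π x : Equiv.Perm (Fin 5)))⁻¹ from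
      MulAut.conjNormal_apply _ _]
    rw [show MulAut.conjNormal (x : G) y = x * y * x⁻¹ from Subtype.ext (MulAut.conjNormal_apply _ _),
      map_mul, map_mul, map_inv]
    rfl

theorem not_solvable_alt5 : ¬ Group.IsSolvable A5 := fun h => by
  haveI := h
  haveI : Nontrivial A5 := alternatingGroup.nontrivial_of_three_le_card (by simp)
  exact not_perfect_of_solvable (commutator_alternatingGroup_eq_top (α := Fin 5) (by simp))

/-- The insoluble case. -/
theorem unique_insoluble (h : HasFpf G) (hns : ¬ Group.IsSolvable G) :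
    ∃! N : Subgroup G, N.Normal ∧ (∀ (p : ℕ) [Fact p.Prime] (P : Sylow p N), IsCyclic P) ∧ QuotientCond G N := by
  classical
  haveI := Fact.mk Nat.prime_two
  obtain ⟨L, hLn, hLp, hLb, ⟨e⟩⟩ := exists_sl25 h hns
  haveI := hLn
  haveI := (Subgroup.nontrivial_iff_ne_bot L).2 hLb
  have hLperf : commutator L = ⊤ := perfect_subtype hLp
  have hLf : HasFpf L := h.of_injective L.subtype L.subtype_injective
  have hLc : Nat.card L = 120 := by rw [Nat.card_congr e.toEquiv, sl25_card]
  obtain ⟨zc, π, hzo, hπs, hπk⟩ := exists_quotient_alt5 hLc hLperf (fun s t hs ht => invol_unique hLf hs ht)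
  have hcen : π.ker ≤ Subgroup.center L := by
    rw [hπk]
    exact Subgroup.zpowers_le.2 (Subgroup.mem_center_iff.2 fun g => invol_central hLf hzo g)
  have hker : ∀ (g : G) (x : L), x ∈ π.ker → MulAut.conjNormal g x ∈ π.ker := by
    intro g x hx
    obtain ⟨i, rfl⟩ := Subgroup.mem_zpowers_iff.1 (hπk ▸ hx)
    have : (MulAut.conjNormal g : MulAut L) zc = zc := invol_unique hLf (by rw [MulEquiv.orderOf_eq, hzo]) hzo
    rw [map_zpow, this]
    exact hx
  obtain ⟨Φ, hΦk, hΦL⟩ := exists_conj_hom hLperf π hπs hker hcen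
  set D := Subgroup.centralizer (L : Set G) with hD
  have hAr : alternatingGroup (Fin 5) ≤ Φ.range := fun a ha => by
    obtain ⟨x, hx⟩ := hπs ⟨a, ha⟩
    exact ⟨x, by rw [hΦL, hx]⟩
  have hZ : ∀ (p : ℕ) [Fact p.Prime] (P : Sylow p D), IsCyclic P := by
    intro p hp P
    have hDf : HasFpf D := h.of_injective D.subtype D.subtype_injective
    by_cases hp2 : p = 2
    · subst hp2
      refine (cyclic_or_quaternion hDf P.2).resolve_right fun ⟨n, ⟨eP⟩⟩ => ?_
      refine no_four_centralizing h e (t := (((eP.symm (QuaternionGroup.xa 0) : (P : Subgroup D)) : D) : G))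
        (fun x hx => (Subgroup.mem_centralizer_iff.1 ((eP.symm (QuaternionGroup.xa 0) : (P : Subgroup D)) : D).2 x hx).symm) ?_
      haveI : NeZero (2 ^ (n + 1)) := ⟨by positivity⟩
      rw [Subgroup.orderOf_coe, Subgroup.orderOf_coe, MulEquiv.orderOf_eq, QuaternionGroup.orderOf_xa]
    · exact isCyclic_odd hDf hp2 P.2
  have hDn : D.Normal := hΦk ▸ MonoidHom.normal_ker Φ
  have hQC : QuotientCond G D := by
    have hidx : Φ.range.index ∣ (alternatingGroup (Fin 5)).index := Subgroup.index_dvd_of_le hAr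
    rw [alternatingGroup.index_eq_two] at hidx
    rcases (Nat.dvd_prime Nat.prime_two).1 hidx with e1 | e1
    · exact Or.inr (Or.inr (Or.inr (Or.inr (Or.inr
        ⟨Φ, MonoidHom.range_eq_top.1 (Subgroup.index_eq_one.1 e1), hΦk⟩))))
    · have hrA := Equiv.Perm.eq_alternatingGroup_of_index_eq_two e1
      refine Or.inr (Or.inr (Or.inr (Or.inr (Or.inl
        ⟨Φ.codRestrict _ fun g => hrA.le ⟨g, rfl⟩, fun a => ?_, ?_⟩))))
      · obtain ⟨x, hx⟩ := hπs a
        exact ⟨x, Subtype.ext ((hΦL x).trans (congrArg Subtype.val hx))⟩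
      · rw [← hΦk]; ext g; simp [MonoidHom.mem_ker, Subtype.ext_iff]
  refine ⟨D, ⟨hDn, hZ, hQC⟩, ?_⟩
  rintro N ⟨hNn, hNc, hNQ⟩
  haveI := hNn
  haveI := isZGroup_of_sylow_cyclic hNc
  haveI hNsol : Group.IsSolvable N := inferInstance
  have hND : N ≤ D := by
    have hI : (N.subgroupOf L).map π = ⊥ := by
      haveI := alternatingGroup.isSimpleGroup (α := Fin 5) (by simp)
      haveI hn' : ((N.subgroupOf L).map π).Normal := (Subgroup.Normal.map inferInstance π hπs)
      refine hn'.eq_bot_or_eq_top.resolve_right fun htop => not_solvable_alt5 ?_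
      haveI : Group.IsSolvable (N.subgroupOf L) := Group.isSolvable_of_isSolvable_injective
        (f := ({ toFun := fun x => ⟨((x : L) : G), x.2⟩, map_one' := rfl, map_mul' := fun _ _ => rfl } :
          N.subgroupOf L →* N)) (fun a b hab => Subtype.ext (Subtype.ext (congrArg (fun t : N => (t : G)) hab)))
      exact Group.isSolvable_of_surjective (f := π.comp (N.subgroupOf L).subtype) (by
        rw [← MonoidHom.range_eq_top, MonoidHom.range_comp, Subgroup.range_subtype, htop])
    intro n hn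
    refine Subgroup.mem_centralizer_iff.2 fun x hx => (commute_of_central_defect hLperf ?_ x hx).symm
    intro y
    have hmem : n * (y : G) * n⁻¹ ∈ L := hLn.conj_mem _ y.2 n
    refine ⟨hmem, hcen ?_⟩
    have hN' : (⟨_, hmem⟩ : L) * y⁻¹ ∈ N.subgroupOf L := by
      show n * (y : G) * n⁻¹ * (y : G)⁻¹ ∈ N
      rw [show n * (y : G) * n⁻¹ * (y : G)⁻¹ = n * ((y : G) * n⁻¹ * (y : G)⁻¹) by group]
      exact mul_mem hn (hNn.conj_mem _ (inv_mem hn) _)
    have := Subgroup.mem_map_of_mem π hN'
    rw [hI, Subgroup.mem_bot] at this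
    exact this
  refine le_antisymm hND fun d hd => ?_
  have hsolv : ∀ {Q : Type} [Group Q] [Group.IsSolvable Q] (f : G →* Q), f.ker = N → False := fun {Q} _ _ f hf => by
    exact hns (Group.isSolvable_of_ker_le_range N.subtype f (by rw [hf, Subgroup.range_subtype]))
  have hfin : ∀ (f : G →* Equiv.Perm (Fin 5)), f.ker = N → (∀ a : A5, ∃ g, f g = a) → d ∈ N := by
    intro f hf hA
    rw [← hf, MonoidHom.mem_ker]
    have hLA : L.map f = alternatingGroup (Fin 5) := by
      have hle : L.map f ≤ alternatingGroup (Fin 5) := by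
        rintro _ ⟨x, hx, rfl⟩
        rw [Equiv.Perm.mem_alternatingGroup]
        exact Abelianization.commutator_subset_ker ((Equiv.Perm.sign.comp f).comp L.subtype)
          (hLperf ▸ Subgroup.mem_top (⟨x, hx⟩ : L))
      haveI := alternatingGroup.isSimpleGroup (α := Fin 5) (by simp)
      haveI hn' : ((L.map f).subgroupOf (alternatingGroup (Fin 5))).Normal := by
        refine ⟨fun y hy a => ?_⟩
        obtain ⟨g, hg⟩ := hA a
        obtain ⟨x, hx, hxy⟩ := Subgroup.mem_subgroupOf.1 hy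
        refine Subgroup.mem_subgroupOf.2 ⟨g * x * g⁻¹, hLn.conj_mem x hx g, ?_⟩
        rw [map_mul, map_mul, map_inv, hg, hxy]
        rfl
      rcases hn'.eq_bot_or_eq_top with e1 | e1
      · exfalso
        have hLN : L ≤ N := fun x hx => by
          rw [← hf, MonoidHom.mem_ker]
          have : (⟨f x, hle ⟨x, hx, rfl⟩⟩ : alternatingGroup (Fin 5)) ∈ (L.map f).subgroupOf _ :=
            Subgroup.mem_subgroupOf.2 ⟨x, hx, rfl⟩
          rw [e1, Subgroup.mem_bot] at this
          exact congrArg Subtype.val this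
        haveI : Group.IsSolvable L := Group.isSolvable_of_isSolvable_injective (Subgroup.inclusion_injective hLN)
        exact not_perfect_of_solvable hLperf
      · exact le_antisymm hle (Subgroup.subgroupOf_eq_top.1 e1)
    refine eq_one_of_centralizes_alt5 fun a => ?_
    obtain ⟨x, hx, hxa⟩ := (hLA.symm ▸ a.2 : (a : Equiv.Perm (Fin 5)) ∈ L.map f)
    rw [← hxa, ← map_mul, ← map_mul, ← Subgroup.mem_centralizer_iff.1 hd x hx]
  rcases hNQ with e1 | ⟨f, hf, hfk⟩ | ⟨f, hf, hfk⟩ | ⟨f, hf, hfk⟩ | ⟨f, hf, hfk⟩ | ⟨f, hf, hfk⟩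
  · rw [e1]; trivial
  · haveI : Group.IsSolvable (DihedralGroup 2) :=
      CfsgLib.Char.solvable_of_card_two_primes 2 3 2 0 Nat.prime_two Nat.prime_three
        (by rw [Nat.card_eq_fintype_card, DihedralGroup.card]; norm_num)
    exact (hsolv f hfk).elim
  · haveI : Group.IsSolvable (alternatingGroup (Fin 4)) :=
      CfsgLib.Char.solvable_of_card_two_primes 2 3 2 1 Nat.prime_two Nat.prime_three
        (by rw [Nat.card_eq_fintype_card]; decide +kernel)
    exact (hsolv f hfk).elim
  · haveI : Group.IsSolvable (Equiv.Perm (Fin 4)) :=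
      CfsgLib.Char.solvable_of_card_two_primes 2 3 3 1 Nat.prime_two Nat.prime_three
        (by rw [Nat.card_perm, Nat.card_fin]; decide)
    exact (hsolv f hfk).elim
  · refine hfin ((alternatingGroup (Fin 5)).subtype.comp f) ?_ fun a => ?_
    · rw [← hfk]; ext g; simp [MonoidHom.mem_ker]
    · obtain ⟨g, hg⟩ := hf a
      exact ⟨g, by rw [MonoidHom.comp_apply, hg]; rfl⟩
  · exact hfin f hfk fun a => hf a

end CfsgLib.Perm.Fpf
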