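import Cfsg.Agent.Perm.ComplementQuotient

/-!
The soluble case of the small-quotient theorem for Frobenius complements.
-/

set_option autoImplicit false
set_option linter.style.haveILetI false

namespace CfsgLib.Perm.Fpf

open Subgroup

/-- The soluble targets. -/
def SolQuot (X : Type*) [Group X] (K : Subgroup X) : Prop :=
  (∃ f : X →* DihedralGroup 2, Function.Surjective f ∧ f.ker = K) ∨
    (∃ f : X →* alternatingGroup (Fin 4), Function.Surjective f ∧ f.ker = K) ∨
    (∃ f : X →* Equiv.Perm (Fin 4), Function.Surjective f ∧ f.ker = K)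

/-- The class of an element of order four in the quaternion group of order eight. -/
def q8cls : QuaternionGroup 2 → Fin 3
  | .a _ => 0
  | .xa i => if i = 0 ∨ i = 2 then 1 else 2

/-- Representatives. -/
def q8rep : Fin 3 → QuaternionGroup 2 := ![.a 1, .xa 0, .xa 1]

theorem q8rep_sq : ∀ i, q8rep i * q8rep i ≠ 1 := by decide
theorem q8cls_rep : ∀ i, q8cls (q8rep i) = i := by decide
theorem q8rep_cls : ∀ q, q * q ≠ 1 → q = q8rep (q8cls q) ∨ q = (q8rep (q8cls q))⁻¹ := by decide
theorem q8cls_inv : ∀ q, q * q ≠ 1 → q8cls q⁻¹ = q8cls q := by decide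
theorem q8cls_conj : ∀ q i, q8cls (q * q8rep i * q⁻¹) = i := by decide
theorem q8cls_mul_z : ∀ q, q * q ≠ 1 → q8cls (q * .a 2) = q8cls q := by decide
theorem q8_invol_eq : ∀ q : QuaternionGroup 2, q ≠ 1 → q * q = 1 → q = .a 2 := by decide
theorem q8_gen : ∀ q : QuaternionGroup 2, ∃ m : Fin 4, ∃ k : Fin 2, q = q8rep 0 ^ (m : ℕ) * q8rep 1 ^ (k : ℕ) := by decide
theorem perm3_fix : ∀ s : Equiv.Perm (Fin 3), s ^ 3 = 1 → ∀ i, s i = i → s = 1 := by decide

/-- The action on the three classes. -/
def q8act : MulAut (QuaternionGroup 2) →* Equiv.Perm (Fin 3) :=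
  MonoidHom.toHomPerm
    { toFun := fun ψ i => q8cls (ψ (q8rep i))
      map_one' := funext fun i => q8cls_rep i
      map_mul' := fun ψ ψ' => funext fun i => by
        have hsq : ∀ (φ : MulAut (QuaternionGroup 2)) j, φ (q8rep j) * φ (q8rep j) ≠ 1 := fun φ j e => by
          rw [← map_mul, EmbeddingLike.map_eq_one_iff] at e
          exact q8rep_sq j e
        show q8cls ((ψ * ψ') (q8rep i)) = q8cls (ψ (q8rep (q8cls (ψ' (q8rep i)))))
        rw [MulAut.mul_apply]
        rcases q8rep_cls _ (hsq ψ' i) with e | e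
        · exact congrArg (fun t => q8cls (ψ t)) e
        · conv_lhs => rw [e, map_inv, q8cls_inv _ (hsq ψ _)] }

theorem q8act_apply (ψ : MulAut (QuaternionGroup 2)) (i : Fin 3) : q8act ψ i = q8cls (ψ (q8rep i)) := rfl

theorem q8act_odd {ψ : MulAut (QuaternionGroup 2)} (h : q8act ψ = 1) {k : ℕ} (hk : Odd k) (hψ : ψ ^ k = 1) : ψ = 1 := by
  have hfix : ∀ i, ψ (q8rep i) = q8rep i := by
    intro i
    have hc : q8cls (ψ (q8rep i)) = i := by rw [← q8act_apply, h]; rfl
    have hsq : ψ (q8rep i) * ψ (q8rep i) ≠ 1 := fun e => by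
      rw [← map_mul, EmbeddingLike.map_eq_one_iff] at e
      exact q8rep_sq i e
    rcases q8rep_cls _ hsq with e | e
    · rw [e, hc]
    · exfalso
      rw [hc] at e
      obtain ⟨m, rfl⟩ := hk
      have h2 : (ψ ^ 2) (q8rep i) = q8rep i := by rw [pow_two, MulAut.mul_apply, e, map_inv, e, inv_inv]
      have hm : ∀ l : ℕ, ((ψ ^ 2) ^ l) (q8rep i) = q8rep i := fun l => by
        induction l with
        | zero => simp
        | succ l ih => rw [pow_succ, MulAut.mul_apply, h2, ih]
      have h1 : (ψ ^ (2 * m + 1)) (q8rep i) = q8rep i := by rw [hψ]; rfl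
      rw [pow_succ', MulAut.mul_apply, pow_mul, hm, e] at h1
      exact q8rep_sq i (by conv_lhs => arg 1; rw [← h1]
                           exact inv_mul_cancel _)
  refine MulEquiv.ext fun q => ?_
  obtain ⟨m, l, rfl⟩ := q8_gen q
  rw [map_mul, map_pow, map_pow, hfix, hfix]
  rfl

/-- The reduction of a quaternion group to the four group. -/
def qToV4 (m : ℕ) (hm : 2 ∣ m) : QuaternionGroup m →* DihedralGroup 2 where
  toFun q := match q with
    | .a i => .r (ZMod.castHom (dvd_mul_right 2 m) (ZMod 2) i)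
    | .xa i => .sr (ZMod.castHom (dvd_mul_right 2 m) (ZMod 2) i)
  map_one' := by
    show DihedralGroup.r (ZMod.castHom (dvd_mul_right 2 m) (ZMod 2) 0) = 1
    rw [map_zero]; rfl
  map_mul' := by
    have hm0 : ((m : ℕ) : ZMod 2) = 0 := (ZMod.natCast_eq_zero_iff m 2).2 hm
    rintro (i | i) (j | j) <;>
      simp only [QuaternionGroup.a_mul_a, QuaternionGroup.a_mul_xa, QuaternionGroup.xa_mul_a,
        QuaternionGroup.xa_mul_xa, DihedralGroup.r_mul_r, DihedralGroup.r_mul_sr, DihedralGroup.sr_mul_r,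
        DihedralGroup.sr_mul_sr, map_add, map_sub, map_natCast, hm0, zero_add]

theorem qToV4_surjective (m : ℕ) (hm : 2 ∣ m) : Function.Surjective (qToV4 m hm) := by
  intro q
  rcases q with i | i <;> obtain ⟨j, hj⟩ := ZMod.castHom_surjective (dvd_mul_right 2 m) i
  · exact ⟨.a j, by rw [← hj]; rfl⟩
  · exact ⟨.xa j, by rw [← hj]; rfl⟩

theorem v4_sq : ∀ q : DihedralGroup 2, q * q = 1 := by decide

variable {X : Type*} [Group X] [Finite X]

theorem a4_card : Nat.card (alternatingGroup (Fin 4)) = 12 := by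
  rw [Nat.card_eq_fintype_card]; decide +kernel
theorem s4_card : Nat.card (Equiv.Perm (Fin 4)) = 24 := by rw [Nat.card_perm, Nat.card_fin]; decide
theorem v4_card : Nat.card (DihedralGroup 2) = 4 := by rw [Nat.card_eq_fintype_card, DihedralGroup.card]
theorem a4_center : ∀ q : alternatingGroup (Fin 4), (∀ r, r * q = q * r) → q = 1 := by decide +kernel
theorem s4_center : ∀ q : Equiv.Perm (Fin 4), (∀ r, r * q = q * r) → q = 1 := by decide +kernel

/-- The two-group case. -/
theorem unique_two_group (hX : IsPGroup 2 X) {n : ℕ} (e : X ≃* QuaternionGroup (2 ^ (n + 1))) :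
    ∃! K : Subgroup X, K.Normal ∧ (∀ T : Subgroup X, T ≤ K → IsPGroup 2 T → IsCyclic T) ∧ SolQuot X K := by
  haveI := Fact.mk Nat.prime_two
  have hm : 2 ∣ 2 ^ (n + 1) := dvd_pow_self 2 (by omega)
  haveI : NeZero (2 ^ (n + 1)) := ⟨by positivity⟩
  set f := (qToV4 _ hm).comp e.toMonoidHom with hf
  have hfs : Function.Surjective f := (qToV4_surjective _ hm).comp e.surjective
  have hidx : f.ker.index = 4 := by
    rw [Subgroup.index_ker, MonoidHom.range_eq_top.2 hfs, Subgroup.card_top, v4_card]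
  refine ⟨f.ker, ⟨inferInstance, fun T hT _ => ?_, Or.inl ⟨f, hfs, rfl⟩⟩, ?_⟩
  · have hle : T.map e.toMonoidHom ≤ Subgroup.zpowers (QuaternionGroup.a 1) := by
      rintro _ ⟨x, hx, rfl⟩
      have hx' : qToV4 _ hm (e x) = 1 := hT hx
      show e x ∈ _
      rcases hq : e x with i | i
      · rw [← ZMod.natCast_zmod_val i, ← QuaternionGroup.a_one_pow]
        exact Subgroup.npow_mem_zpowers _ _
      · rw [hq] at hx'
        cases hx'
    haveI := isCyclic_of_injective (Subgroup.inclusion hle) (Subgroup.inclusion_injective hle)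
    exact isCyclic_of_injective (Subgroup.equivMapOfInjective T e.toMonoidHom e.injective).toMonoidHom
      (MulEquiv.injective _)
  rintro K ⟨hKn, -, hK⟩
  obtain ⟨k, hk⟩ := IsPGroup.iff_card.1 hX
  have hdvd : ∀ {Q : Type} [Group Q] [Finite Q] (g : X →* Q), Function.Surjective g → Nat.card Q ∣ 2 ^ k :=
    fun g hg => hk ▸ Subgroup.card_dvd_of_surjective g hg
  rcases hK with ⟨g, hg, rfl⟩ | ⟨g, hg, -⟩ | ⟨g, hg, -⟩
  · have hle : f.ker ≤ g.ker := by
      intro x hx
      have hx' : qToV4 _ hm (e x) = 1 := hx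
      rcases hq : e x with i | i
      swap
      · rw [hq] at hx'; cases hx'
      rw [hq] at hx'
      have h0 : ZMod.castHom (dvd_mul_right 2 (2 ^ (n + 1))) (ZMod 2) i = 0 := by
        change DihedralGroup.r _ = DihedralGroup.r 0 at hx'
        exact DihedralGroup.r.inj hx'
      rw [← ZMod.natCast_zmod_val i, map_natCast, ZMod.natCast_eq_zero_iff] at h0
      obtain ⟨c, hc⟩ := h0
      have he : x = e.symm (QuaternionGroup.a 1 ^ c) * e.symm (QuaternionGroup.a 1 ^ c) := by
        rw [← map_mul, MulEquiv.eq_symm_apply, hq, ← pow_add, QuaternionGroup.a_one_pow, ← two_mul, ← hc,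
          ZMod.natCast_zmod_val]
      rw [MonoidHom.mem_ker, he, map_mul, v4_sq]
    refine (Subgroup.eq_of_le_of_card_ge hle ?_).symm
    have h1 := f.ker.card_mul_index
    have h2 := g.ker.card_mul_index
    rw [hidx] at h1
    rw [Subgroup.index_ker, MonoidHom.range_eq_top.2 hg, Subgroup.card_top, v4_card] at h2
    omega
  · exfalso
    have h3 : (3 : ℕ) ∣ 2 ^ k := Dvd.dvd.trans ⟨4, by rw [a4_card]; norm_num⟩ (hdvd g hg)
    exact absurd (Nat.prime_three.dvd_of_dvd_pow h3) (by norm_num)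
  · exfalso
    have h3 : (3 : ℕ) ∣ 2 ^ k := Dvd.dvd.trans ⟨8, by rw [s4_card]; norm_num⟩ (hdvd g hg)
    exact absurd (Nat.prime_three.dvd_of_dvd_pow h3) (by norm_num)

/-- The case of a two-core of order eight. -/
theorem unique_three (hs : Group.IsSolvable X) (hO : Cfsg.pPrimeCore 2 X = ⊥) (h2 : ¬ IsPGroup 2 X)
    (eT : (Cfsg.pCore 2 X) ≃* QuaternionGroup 2) :
    ∃! K : Subgroup X, K.Normal ∧ (∀ T : Subgroup X, T ≤ K → IsPGroup 2 T → IsCyclic T) ∧ SolQuot X K := by
  classical
  haveI := Fact.mk Nat.prime_two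
  haveI h3 := Fact.mk Nat.prime_three
  haveI := hs
  set T := Cfsg.pCore 2 X with hT
  haveI hTn : T.Normal := CfsgLib.Fus.normal_pCore 2
  have hTp : IsPGroup 2 T := CfsgLib.Fus.isPGroup_pCore
  have hTc : Nat.card T = 8 := by rw [Nat.card_congr eT.toEquiv, Nat.card_eq_fintype_card, QuaternionGroup.card]
  have hCT : Subgroup.centralizer (T : Set X) ≤ T := CfsgLib.Solv.centralizer_pCore_le hO
  let χ : X →* MulAut (QuaternionGroup 2) :=
    { toFun := fun g => (eT.symm.trans (MulAut.conjNormal g : MulAut T)).trans eT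
      map_one' := MulEquiv.ext fun q => by simp
      map_mul' := fun g g' => MulEquiv.ext fun q => by simp }
  have hχ : ∀ g (t : T), χ g (eT t) = eT (MulAut.conjNormal g t) := fun g t => by simp [χ]
  set σ := q8act.comp χ with hσ
  have hχT : ∀ (t : T) (q : QuaternionGroup 2), χ (t : X) q = eT t * q * (eT t)⁻¹ := by
    intro t q
    obtain ⟨s, rfl⟩ := eT.surjective q
    rw [hχ, ← map_inv, ← map_mul, ← map_mul]
    exact congrArg eT (Subtype.ext (MulAut.conjNormal_apply _ _))
  have hTσ : T ≤ σ.ker := fun t ht => Equiv.ext fun i => by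
    show q8act (χ t) i = i
    rw [q8act_apply, hχT ⟨t, ht⟩, q8cls_conj]
  have hodd : ∀ x ∈ σ.ker, Odd (orderOf x) → x = 1 := by
    intro x hx ho
    have h1 : χ x = 1 := q8act_odd hx ho (by rw [← map_pow, pow_orderOf_eq_one, map_one])
    have hxT : x ∈ T := hCT (Subgroup.mem_centralizer_iff.2 fun t ht => by
      have := hχ x ⟨t, ht⟩
      rw [h1, MulAut.one_apply, eT.injective.eq_iff] at this
      have e := congrArg Subtype.val this
      rw [MulAut.conjNormal_apply] at e
      exact (mul_inv_eq_iff_eq_mul.1 e.symm).symm)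
    obtain ⟨k, hk⟩ := IsPGroup.iff_orderOf.1 hTp ⟨x, hxT⟩
    rw [Subgroup.orderOf_mk] at hk
    rcases Nat.eq_zero_or_pos k with rfl | hk0
    · exact orderOf_eq_one_iff.1 hk
    · exfalso
      rw [hk] at ho
      exact Nat.not_even_iff_odd.2 ho (even_iff_two_dvd.2 (dvd_pow_self 2 hk0.ne'))
  have hKp : IsPGroup 2 σ.ker := by
    refine IsPGroup.iff_orderOf.2 fun ⟨x, hx⟩ => ⟨_, Nat.eq_prime_pow_of_unique_prime_dvd (orderOf_pos _).ne'
      (fun {d} hd hdd => by_contra fun hne => ?_)⟩
    rw [Subgroup.orderOf_mk] at hdd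
    have hxo := orderOf_pow_orderOf_div (orderOf_pos x).ne' hdd
    have h1 := hodd _ (pow_mem hx _) (hxo ▸ hd.odd_of_ne_two hne)
    rw [h1, orderOf_one] at hxo
    exact hd.ne_one hxo.symm
  have hKT : σ.ker = T := le_antisymm (CfsgLib.Fus.le_pCore inferInstance hKp) hTσ
  have hr6 : Nat.card σ.range ∣ 6 := by
    have := σ.range.card_subgroup_dvd_card
    rwa [Nat.card_perm, Nat.card_fin, show Nat.factorial 3 = 6 by decide] at this
  have hX : Nat.card X = 8 * Nat.card σ.range := by
    have := σ.ker.card_mul_index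
    rw [Subgroup.index_ker, hKT, hTc] at this
    omega
  have h36 : Nat.card σ.range = 3 ∨ Nat.card σ.range = 6 := by
    have hle := Nat.le_of_dvd (by norm_num) hr6
    have hp2 : ∀ j, Nat.card X ≠ 2 ^ j := fun j e => h2 (IsPGroup.of_card (n := j) e)
    have := hp2 3
    have := hp2 4
    generalize Nat.card σ.range = c at hr6 hle hX ⊢
    interval_cases c <;> simp_all <;> omega
  obtain ⟨P⟩ : Nonempty (Sylow 3 X) := inferInstance
  have hP : Nat.card (P : Subgroup X) = 3 := by
    obtain ⟨k, hk⟩ := IsPGroup.iff_card.1 P.2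
    have hd := (P : Subgroup X).card_subgroup_dvd_card
    have hnd := P.not_dvd_index
    have hmul := (P : Subgroup X).card_mul_index
    rw [hk] at hd hmul ⊢
    rcases k with _ | _ | k
    · rw [pow_zero, one_mul] at hmul
      exfalso; apply hnd; rw [hmul, hX]
      rcases h36 with e | e <;> rw [e] <;> norm_num
    · rfl
    · exfalso
      have h9 : 9 ∣ Nat.card X := dvd_trans ⟨3 ^ k, by ring⟩ hd
      rw [hX] at h9
      rcases h36 with e | e <;> rw [e] at h9 <;> omega
  have hP' : ∀ Q : Sylow 3 X, Nat.card (Q : Subgroup X) = 3 := fun Q =>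
    (Sylow.card_eq_multiplicity Q).trans ((Sylow.card_eq_multiplicity P).symm.trans hP)
  have hn3 : Nat.card (Sylow 3 X) = 4 := by
    have hidx : (P : Subgroup X).index = 8 ∨ (P : Subgroup X).index = 16 := by
      have := (P : Subgroup X).card_mul_index
      rw [hP, hX] at this
      omega
    have hd : Nat.card (Sylow 3 X) ∣ 16 := by
      refine P.card_dvd_index.trans ?_
      rcases hidx with e | e <;> rw [e]
      norm_num
    have hmod := card_sylow_modEq_one 3 X
    rw [Nat.ModEq] at hmod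
    have hne1 : Nat.card (Sylow 3 X) ≠ 1 := by
      intro e
      haveI := (Nat.card_eq_one_iff_unique.1 e).1
      haveI : (P : Subgroup X).Normal := Sylow.normal_of_subsingleton P
      have := CfsgLib.Fus.le_pPrimeCore (p := 2) (N := (P : Subgroup X)) inferInstance (by rw [hP]; norm_num)
      rw [hO, le_bot_iff] at this
      rw [this, Subgroup.card_bot] at hP
      omega
    have hne16 : Nat.card (Sylow 3 X) ≠ 16 := by
      intro e
      have hi16 : (P : Subgroup X).index = 16 := by
        rcases hidx with e1 | e1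
        · have := Nat.le_of_dvd (by omega) P.card_dvd_index
          rw [e, e1] at this; omega
        · exact e1
      have hNP : Subgroup.normalizer ((P : Subgroup X) : Set X) = (P : Subgroup X) := by
        refine (Subgroup.eq_of_le_of_card_ge Subgroup.le_normalizer ?_).symm
        have h1 : (Subgroup.normalizer ((P : Subgroup X) : Set X)).index = 16 := (Sylow.card_eq_index_normalizer P).symm.trans e
        have h2 := (Subgroup.normalizer ((P : Subgroup X) : Set X)).card_mul_index
        have h3 := (P : Subgroup X).card_mul_index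
        rw [h1] at h2
        rw [hi16] at h3
        omega
      haveI := (isCyclic_of_prime_card hP).isMulCommutative
      obtain ⟨P', N, hN, hc⟩ := CfsgLib.Solv.hnpc_of_normalizer_le_centralizer P
        (by rw [hNP]; exact Subgroup.le_centralizer _)
      haveI := hN
      have hNc : Nat.card N = 16 := by
        have h1 := hc.card_mul
        have h3 := (P : Subgroup X).card_mul_index
        rw [hi16, hP] at h3
        rw [hP'] at h1
        omega
      have := Subgroup.card_dvd_of_le (CfsgLib.Fus.le_pCore hN (IsPGroup.of_card (p := 2) (n := 4) (by rw [hNc]; norm_num)))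
      rw [hNc] at this
      change 16 ∣ Nat.card T at this
      rw [hTc] at this
      norm_num at this
    have hle := Nat.le_of_dvd (by norm_num) hd
    generalize Nat.card (Sylow 3 X) = c at hd hmod hne1 hne16 hle ⊢
    interval_cases c <;> omega
  letI := Fintype.ofFinite (Sylow 3 X)
  let e4 : Sylow 3 X ≃ Fin 4 := (Finite.equivFin _).trans (finCongr hn3)
  set Φ : X →* Equiv.Perm (Fin 4) :=
    (e4.permCongrHom : Equiv.Perm (Sylow 3 X) ≃* Equiv.Perm (Fin 4)).toMonoidHom.comp
      (MulAction.toPermHom X (Sylow 3 X)) with hΦ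
  have hΦmem : ∀ g, g ∈ Φ.ker ↔ ∀ Q : Sylow 3 X, g ∈ Subgroup.normalizer ((Q : Subgroup X) : Set X) := by
    intro g
    rw [hΦ, MonoidHom.mem_ker, MonoidHom.comp_apply, MulEquiv.coe_toMonoidHom, EmbeddingLike.map_eq_one_iff]
    simp only [Equiv.ext_iff, MulAction.toPermHom_apply, MulAction.toPerm_apply, Equiv.Perm.one_apply,
      ← Sylow.smul_eq_iff_mem_normalizer]
    exact forall_congr' fun Q => Sylow.smul_eq_iff_mem_normalizer
  set z : X := ((eT.symm (QuaternionGroup.a 2) : T) : X) with hz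
  have hzT : z ∈ T := (eT.symm _).2
  have hzo : orderOf z = 2 := by
    rw [hz, Subgroup.orderOf_coe, MulEquiv.orderOf_eq]
    exact orderOf_eq_prime (by decide) (by decide)
  have hzc : ∀ g, g * z = z * g := by
    intro g
    have h1 : χ g (QuaternionGroup.a 2) = QuaternionGroup.a 2 := q8_invol_eq _
      (fun e => by rw [EmbeddingLike.map_eq_one_iff] at e; exact absurd e (by decide))
      (by rw [← map_mul, show (QuaternionGroup.a 2 : QuaternionGroup 2) * QuaternionGroup.a 2 = 1 by decide, map_one])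
    have h2 := hχ g (eT.symm (QuaternionGroup.a 2))
    rw [MulEquiv.apply_symm_apply, h1, ← MulEquiv.symm_apply_eq] at h2
    have h3 := congrArg Subtype.val h2
    rw [MulAut.conjNormal_apply] at h3
    exact mul_inv_eq_iff_eq_mul.1 h3.symm
  have hclass : ∀ (t : T) (g : X), eT t * eT t ≠ 1 →
      (g * (t : X) * g⁻¹ = t ∨ g * (t : X) * g⁻¹ = t * z ∨ g * (t : X) * g⁻¹ = (t : X)⁻¹) →
      σ g (q8cls (eT t)) = q8cls (eT t) := by
    intro t g ht hg
    show q8act (χ g) _ = _
    rw [q8act_apply]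
    have hsq : χ g (eT t) * χ g (eT t) ≠ 1 := fun e => by
      rw [← map_mul, EmbeddingLike.map_eq_one_iff] at e; exact ht e
    have hcl : q8cls (χ g (eT t)) = q8cls (eT t) := by
      rw [hχ]
      rcases hg with e | e | e
      · rw [show MulAut.conjNormal g t = t from Subtype.ext ((MulAut.conjNormal_apply _ _).trans e)]
      · rw [show MulAut.conjNormal g t = t * eT.symm (QuaternionGroup.a 2) from
          Subtype.ext ((MulAut.conjNormal_apply _ _).trans e), map_mul, MulEquiv.apply_symm_apply, q8cls_mul_z _ ht]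
      · rw [show MulAut.conjNormal g t = t⁻¹ from Subtype.ext ((MulAut.conjNormal_apply _ _).trans e),
          map_inv, q8cls_inv _ ht]
    rcases q8rep_cls _ ht with e | e
    · rw [← e]; exact hcl
    · rw [← hcl]
      conv_rhs => rw [e, map_inv, q8cls_inv _ (fun h => hsq (by
        rw [e, map_inv, ← mul_inv_rev, h, inv_one]))]
      rw [hcl]
  obtain ⟨x, hxP⟩ : ∃ x, x ∈ (P : Subgroup X) ∧ x ≠ 1 := by
    by_contra hcon
    push Not at hcon
    rw [(Subgroup.eq_bot_iff_forall _).2 hcon, Subgroup.card_bot] at hP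
    omega
  have hxo : orderOf x = 3 := by
    have := Subgroup.orderOf_dvd_natCard (P : Subgroup X) hxP.1
    rw [hP] at this
    exact ((Nat.dvd_prime Nat.prime_three).1 this).resolve_left fun e => hxP.2 (orderOf_eq_one_iff.1 e)
  have hfix : ∀ t : T, (g : X) → g = x →
      (g * (t : X) * g⁻¹ = t ∨ g * (t : X) * g⁻¹ = t * z ∨ g * (t : X) * g⁻¹ = (t : X)⁻¹) →
      (t : X) ∈ Subgroup.zpowers z := by
    intro t g hgx hg
    by_contra htz
    have ht : eT t * eT t ≠ 1 := by
      intro e
      by_cases h1 : eT t = 1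
      · rw [EmbeddingLike.map_eq_one_iff] at h1; exact htz (by rw [h1]; exact one_mem _)
      · have h2 := q8_invol_eq _ h1 e
        rw [← MulEquiv.eq_symm_apply] at h2
        exact htz (by rw [h2, ← hz]; exact Subgroup.mem_zpowers z)
    have h1 := perm3_fix (σ x) (by rw [← map_pow, show x ^ 3 = 1 from hxo ▸ pow_orderOf_eq_one x, map_one]) _ (hclass t x ht (hgx ▸ hg))
    have h2 : x ∈ T := hKT ▸ h1
    have h3 := Subgroup.orderOf_dvd_natCard T h2
    rw [hxo, hTc] at h3
    norm_num at h3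
  have hΦker : Φ.ker = Subgroup.zpowers z := by
    refine le_antisymm ?_ (Subgroup.zpowers_le.2 ((hΦmem z).2 fun Q => Subgroup.mem_normalizer_iff.2 fun y => by
      rw [← hzc y, mul_inv_cancel_right]))
    have h3 : ¬ 3 ∣ Nat.card Φ.ker := by
      intro hd
      obtain ⟨⟨y, hy⟩, hyo⟩ := exists_prime_orderOf_dvd_card' (G := Φ.ker) 3 hd
      rw [Subgroup.orderOf_mk] at hyo
      have hall : ∀ Q : Sylow 3 X, (Q : Subgroup X) = Subgroup.zpowers y := fun Q => by
        refine (Subgroup.eq_of_le_of_card_ge (Subgroup.zpowers_le.2 ?_) ?_).symm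
        · exact mem_sylow_of_normalizes (k := 1) Q (by rw [hyo, pow_one]) ((hΦmem y).1 hy Q)
        · rw [hP', Nat.card_zpowers, hyo]
      haveI : Subsingleton (Sylow 3 X) := ⟨fun Q R => Sylow.ext ((hall Q).trans (hall R).symm)⟩
      have := Finite.card_le_one_iff_subsingleton.2 (inferInstance : Subsingleton (Sylow 3 X))
      omega
    have hKp' : IsPGroup 2 Φ.ker := by
      have hd : Nat.card Φ.ker ∣ 2 ^ 4 * 3 := Φ.ker.card_subgroup_dvd_card.trans (by
        rw [hX]
        rcases h36 with e | e <;> rw [e] <;> norm_num)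
      have hco : Nat.Coprime (Nat.card Φ.ker) 3 := ((Nat.Prime.coprime_iff_not_dvd Nat.prime_three).2 h3).symm
      obtain ⟨j, -, hj⟩ := (Nat.dvd_prime_pow Nat.prime_two).1 (hco.dvd_of_dvd_mul_right hd)
      exact IsPGroup.of_card (n := j) hj
    intro k hk
    have hkT : k ∈ T := CfsgLib.Fus.le_pCore inferInstance hKp' hk
    refine hfix ⟨k, hkT⟩ x rfl (Or.inl ?_)
    have h1 : x * k * x⁻¹ * k⁻¹ ∈ Φ.ker := mul_mem ((inferInstance : Φ.ker.Normal).conj_mem k hk x) (inv_mem hk)
    have h2 : x * k * x⁻¹ * k⁻¹ ∈ (P : Subgroup X) := by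
      rw [show x * k * x⁻¹ * k⁻¹ = x * (k * x⁻¹ * k⁻¹) by group]
      exact mul_mem hxP.1 ((Subgroup.mem_normalizer_iff.1 ((hΦmem k).1 hk P) _).1 (inv_mem hxP.1))
    have h4 : x * k * x⁻¹ * k⁻¹ = 1 := by
      have := IsPGroup.disjoint_of_ne 2 3 (by norm_num) _ _ hKp' P.2
      exact Subgroup.disjoint_def.1 this h1 h2
    exact mul_inv_eq_one.1 h4
  have hSQ : SolQuot X (Subgroup.zpowers z) := by
    have hc : Nat.card Φ.range = Nat.card X / 2 := by
      have := Φ.ker.card_mul_index
      rw [Subgroup.index_ker, hΦker, Nat.card_zpowers, hzo] at this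
      omega
    have hm := Φ.range.card_mul_index
    rw [s4_card, hc, hX] at hm
    rcases h36 with e | e <;> rw [e] at hm
    · have h2i : Φ.range.index = 2 := by omega
      have hrA := Equiv.Perm.eq_alternatingGroup_of_index_eq_two h2i
      refine Or.inr (Or.inl ⟨Φ.codRestrict _ fun g => hrA.le ⟨g, rfl⟩, fun a => ?_, ?_⟩)
      · obtain ⟨g, hg⟩ := hrA.ge a.2
        exact ⟨g, Subtype.ext hg⟩
      · rw [← hΦker]; ext g; simp [MonoidHom.mem_ker, Subtype.ext_iff]
    · exact Or.inr (Or.inr ⟨Φ, MonoidHom.range_eq_top.1 (Subgroup.index_eq_one.1 (by omega)), hΦker⟩)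
  refine ⟨Subgroup.zpowers z, ⟨hΦker ▸ inferInstance, fun S hS _ =>
    isCyclic_of_injective (Subgroup.inclusion hS) (Subgroup.inclusion_injective hS), hSQ⟩, ?_⟩
  rintro K ⟨hKn, hKc, hKq⟩
  haveI := hKn
  have hsmall : ∀ t ∈ K ⊓ T, t ∈ Subgroup.zpowers z := by
    intro t ht
    haveI := hKc (K ⊓ T) inf_le_left (hTp.to_le inf_le_right)
    have hconj : x * t * x⁻¹ ∈ K ⊓ T := (inferInstance : (K ⊓ T).Normal).conj_mem t ht x
    by_contra htz
    obtain ⟨j, hj⟩ := IsPGroup.iff_orderOf.1 hTp ⟨t, ht.2⟩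
    rw [Subgroup.orderOf_mk] at hj
    have h4 : orderOf t = 4 := by
      set q := eT ⟨t, ht.2⟩ with hq
      have hq4 : orderOf q = orderOf t := by rw [hq, MulEquiv.orderOf_eq, Subgroup.orderOf_mk]
      have hdd : ∀ p : QuaternionGroup 2, p = 1 ∨ p = QuaternionGroup.a 2 ∨ (p ^ 4 = 1 ∧ ¬ p ^ 2 = 1) := by decide
      rcases hdd q with e | e | e
      · exact absurd (by rw [show t = 1 from congrArg Subtype.val (EmbeddingLike.map_eq_one_iff.1 e)]; exact one_mem _) htz
      · refine absurd ?_ htz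
        rw [hq, ← MulEquiv.eq_symm_apply] at e
        rw [show t = z from congrArg Subtype.val e]
        exact Subgroup.mem_zpowers z
      · rw [← hq4]; exact orderOf_eq_prime_pow (p := 2) (n := 1) e.2 e.1
    refine htz (hfix ⟨t, ht.2⟩ x rfl ?_)
    have hmem : x * t * x⁻¹ ∈ Subgroup.zpowers t := by
      have hc4 : Nat.card (K ⊓ T : Subgroup X) ≤ 4 := by
        obtain ⟨⟨g, hg⟩, hgo⟩ := IsCyclic.exists_ofOrder_eq_natCard (α := (K ⊓ T : Subgroup X))
        rw [← hgo, Subgroup.orderOf_mk, ← Subgroup.orderOf_mk (ha := hg.2), ← MulEquiv.orderOf_eq eT]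
        exact orderOf_le_of_pow_eq_one (by norm_num) (q8_pow_four _)
      rw [Subgroup.eq_of_le_of_card_ge (Subgroup.zpowers_le.2 ht) (by rw [Nat.card_zpowers, h4]; exact hc4)]
      exact hconj
    rcases mem_zpowers_cases h4 (by rw [← MulAut.conj_apply, MulEquiv.orderOf_eq, h4]) hmem with e | e
    · exact Or.inl e
    · exact Or.inr (Or.inr e)
  have hKT' : K ≤ T := by
    intro y hy
    rw [← hKT, MonoidHom.mem_ker]
    refine Equiv.ext fun i => ?_
    set t := eT.symm (q8rep i) with ht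
    have hti : q8cls (eT t) = i := by rw [ht, MulEquiv.apply_symm_apply, q8cls_rep]
    rw [← hti]
    refine hclass t y (by rw [ht, MulEquiv.apply_symm_apply]; exact q8rep_sq i) ?_
    have hc : y * (t : X) * y⁻¹ * (t : X)⁻¹ ∈ K ⊓ T := Subgroup.mem_inf.2
      ⟨by
        rw [show y * (t : X) * y⁻¹ * (t : X)⁻¹ = y * ((t : X) * y⁻¹ * (t : X)⁻¹) by group]
        exact mul_mem hy (hKn.conj_mem _ (inv_mem hy) _),
      mul_mem (hTn.conj_mem _ t.2 y) (inv_mem t.2)⟩
    obtain ⟨j, hj⟩ := mem_powers_iff_mem_zpowers.2 (hsmall _ hc)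
    change z ^ j = _ at hj
    have hj' := pow_mod_orderOf z j
    rw [hzo, hj] at hj'
    rcases Nat.mod_two_eq_zero_or_one j with e | e <;> rw [e] at hj'
    · rw [pow_zero, eq_comm, mul_inv_eq_one] at hj'
      exact Or.inl hj'
    · rw [pow_one, eq_mul_inv_iff_mul_eq] at hj'
      exact Or.inr (Or.inl (by rw [← hj', hzc]))
  have hKz : K ≤ Subgroup.zpowers z := fun y hy => hsmall y ⟨hy, hKT' hy⟩
  refine Subgroup.eq_of_le_of_card_ge hKz ?_
  rw [Nat.card_zpowers, hzo]
  by_contra hlt
  have hKb : K = ⊥ := Subgroup.card_eq_one.1 (by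
    have : 0 < Nat.card K := Nat.card_pos
    omega)
  subst hKb
  have hz1 : z ≠ 1 := fun e => by rw [e, orderOf_one] at hzo; omega
  rcases hKq with ⟨f, hf, hk⟩ | ⟨f, hf, hk⟩ | ⟨f, hf, hk⟩
  · have := Nat.card_congr (MulEquiv.ofBijective f ⟨(MonoidHom.ker_eq_bot_iff f).1 hk, hf⟩).toEquiv
    rw [hX, v4_card] at this
    rcases h36 with e | e <;> omega
  · refine hz1 ((MonoidHom.ker_eq_bot_iff f).1 hk ?_)
    rw [map_one]
    exact a4_center _ fun r => by obtain ⟨g, rfl⟩ := hf r; rw [← map_mul, ← map_mul, hzc]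
  · refine hz1 ((MonoidHom.ker_eq_bot_iff f).1 hk ?_)
    rw [map_one]
    exact s4_center _ fun r => by obtain ⟨g, rfl⟩ := hf r; rw [← map_mul, ← map_mul, hzc]

end CfsgLib.Perm.Fpf
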