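import Cfsg.Agent.Perm.Basic
import Cfsg.Agent.Inv.CyclicSylow
import Cfsg.Agent.Solv.Basic
import Mathlib.GroupTheory.Transfer
import Mathlib.GroupTheory.SpecificGroups.Cyclic
import Mathlib.GroupTheory.Perm.Cycle.Type
import Mathlib.Tactic

/-!
Numbers which do not occur as numbers of Sylow subgroups: the minimal counterexample.
-/

set_option autoImplicit false
set_option linter.style.haveILetI false
set_option linter.unusedSectionVars false

namespace CfsgLib.Perm.SylowNumber

open scoped Pointwise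

variable {G : Type*} [Group G] [Finite G] {p : ℕ} [Fact p.Prime]

theorem card_sylow_subgroup {L : Subgroup G} (P : Sylow p G) (h : (P : Subgroup G) ≤ L) :
    Nat.card (Sylow p L) = (Subgroup.normalizer ((P : Subgroup G) : Set G)).relIndex L := by
  rw [(P.subtype h).card_eq_index_normalizer]
  show (Subgroup.normalizer (((P.subtype h : Sylow p L) : Subgroup L) : Set L)).index = _
  rw [Sylow.coe_subtype, ← Subgroup.subgroupOf_normalizer_eq h]
  rfl

theorem index_normalizer (P : Sylow p G) :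
    (Subgroup.normalizer ((P : Subgroup G) : Set G)).index = Nat.card (Sylow p G) :=
  P.card_eq_index_normalizer.symm

/-- The Sylow number of a group in terms of a normal subgroup. -/
theorem card_sylow_eq_mul (P : Sylow p G) (N : Subgroup G) [N.Normal] :
    Nat.card (Sylow p G) = Nat.card (Sylow p (G ⧸ N)) *
      Nat.card (Sylow p ↥(Subgroup.normalizer ((N ⊔ (P : Subgroup G) : Subgroup G) : Set G))) := by
  set L := N ⊔ (P : Subgroup G) with hL
  set M := Subgroup.normalizer (L : Set G) with hM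
  have hPM : (P : Subgroup G) ≤ M := le_sup_right.trans Subgroup.le_normalizer
  have hNP : Subgroup.normalizer ((P : Subgroup G) : Set G) ≤ M := fun x hx => by
    rw [hM, Subgroup.mem_normalizer_iff]
    intro y
    have h1 : MulAut.conj x • L = L := by
      rw [hL, Subgroup.smul_sup, CfsgLib.Solv.conj_smul_eq_self_of_mem_normalizer hx,
        CfsgLib.Solv.conj_smul_eq_self_of_mem_normalizer
          (by rw [Subgroup.normalizer_eq_top_iff.2 inferInstance]; trivial)]
    exact Subgroup.mem_normalizer_iff.1 (CfsgLib.Solv.mem_normalizer_of_conj_smul_eq h1) y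
  have hf := QuotientGroup.mk'_surjective N
  have h1 : Nat.card (Sylow p (G ⧸ N)) = M.index := by
    rw [← index_normalizer (P.mapSurjective hf), Sylow.coe_mapSurjective,
      ← Subgroup.index_comap_of_surjective _ hf, Subgroup.comap_normalizer_eq_of_surjective _ hf,
      Subgroup.comap_map_eq, QuotientGroup.ker_mk', sup_comm]
  rw [h1, card_sylow_subgroup P hPM, ← index_normalizer P, mul_comm,
    Subgroup.relIndex_mul_index hNP]

/-- In a minimal counterexample to "`m` is not a Sylow number" the action on the Sylow subgroups is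
faithful and every non-trivial normal subgroup has `p`-power index. -/
def Reduced (p : ℕ) (G : Type*) [Group G] : Prop :=
  (∀ g : G, (∀ Q : Sylow p G, g • Q = Q) → g = 1) ∧
    ∀ N : Subgroup G, N.Normal → N ≠ ⊥ → ∃ k : ℕ, N.index = p ^ k

universe u

/-- To show that `m` is not a Sylow number it suffices to treat reduced groups. -/
theorem card_sylow_ne_of_reduced {m : ℕ} (hm : m ≠ 1)
    (hdec : ∀ a b : ℕ, a * b = m → a ≡ 1 [MOD p] → b ≡ 1 [MOD p] → a = 1 ∨ b = 1)
    (key : ∀ (G : Type u) [Group G] [Finite G], Reduced p G → Nat.card (Sylow p G) ≠ m) :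
    ∀ n : ℕ, ∀ (G : Type u) [Group G] [Finite G], Nat.card G = n → Nat.card (Sylow p G) ≠ m := by
  intro n
  induction n using Nat.strong_induction_on with
  | _ n ih =>
    intro G _ _ hn hm'
    obtain ⟨P⟩ := (inferInstance : Nonempty (Sylow p G))
    have hsup : ∀ N : Subgroup G, N.Normal → N ≠ ⊥ → N ⊔ (P : Subgroup G) = ⊤ := by
      intro N hN hNb
      set L := N ⊔ (P : Subgroup G) with hL
      by_contra hLt
      have h1 := card_sylow_eq_mul P N
      set M := Subgroup.normalizer (L : Set G) with hM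
      rw [hm'] at h1
      have hMtop : M = ⊤ := by
        rcases hdec _ _ h1.symm (card_sylow_modEq_one _ _) (card_sylow_modEq_one _ _) with h2 | h2
        · rw [h2, one_mul] at h1
          by_contra hMt
          exact ih _ (hn ▸ CfsgLib.Solv.card_lt_of_ne_top hMt) M rfl h1.symm
        · rw [h2, mul_one] at h1
          exact absurd h1.symm (ih _ (hn ▸ CfsgLib.Solv.card_quotient_lt hNb) (G ⧸ N) rfl)
      haveI : L.Normal := Subgroup.normalizer_eq_top_iff.1 hMtop
      refine ih _ (hn ▸ CfsgLib.Solv.card_lt_of_ne_top hLt) L rfl ?_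
      rw [card_sylow_subgroup P le_sup_right]
      have h2 : (Subgroup.normalizer ((P : Subgroup G) : Set G)) ⊔ L = ⊤ := by
        exact Sylow.normalizer_sup_eq_top' P le_sup_right
      rw [← relIndex_sup_eq_of_normal, h2, Subgroup.relIndex_top_right, index_normalizer, hm']
    refine key G ⟨fun g hg => ?_, fun N hN hNb => ?_⟩ hm'
    · by_contra hg1
      let K : Subgroup G := (MulAction.toPermHom G (Sylow p G)).ker
      have hgK : g ∈ K := Equiv.ext hg
      have h1 := hsup K inferInstance fun h => hg1 (Subgroup.mem_bot.1 (h.le hgK))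
      have h2 : K ⊔ (P : Subgroup G) ≤ Subgroup.normalizer ((P : Subgroup G) : Set G) :=
        sup_le (fun x hx => Sylow.smul_eq_iff_mem_normalizer.1
          (Equiv.ext_iff.1 (MonoidHom.mem_ker.1 hx) P)) Subgroup.le_normalizer
      rw [h1, top_le_iff] at h2
      exact hm (by rw [← hm', ← index_normalizer P, h2, Subgroup.index_top])
    · obtain ⟨k, hk⟩ := IsPGroup.iff_card.1 P.2
      have h1 : N.index ∣ p ^ k := by
        rw [← hk, ← Subgroup.relIndex_top_right, ← hsup N hN hNb]
        haveI := hN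
        rw [sup_comm, Subgroup.relIndex_sup_right]
        exact Subgroup.relIndex_dvd_card _ _
      obtain ⟨j, -, hj⟩ := (Nat.dvd_prime_pow Fact.out).1 h1
      exact ⟨j, hj⟩

/-- A reduced group has no subgroup of index two, for `p` odd. -/
theorem Reduced.index_ne_two (h : Reduced p G) (hp : p ≠ 2) (hG : Nat.card G ≠ 2) (H : Subgroup G) :
    H.index ≠ 2 := by
  intro hH
  obtain ⟨k, hk⟩ := h.2 H (Subgroup.normal_of_index_eq_two hH) (fun h1 => hG (by
    rw [← hH, h1, Subgroup.index_bot]))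
  rw [hH] at hk
  have hk0 : k ≠ 0 := by
    rintro rfl
    rw [pow_zero] at hk
    omega
  exact hp ((Nat.prime_dvd_prime_iff_eq Fact.out Nat.prime_two).1 (hk ▸ dvd_pow_self p hk0))

/-- All permutations induced on the Sylow subgroups of a reduced group are even. -/
theorem Reduced.sign_eq_one (h : Reduced p G) (hp : p ≠ 2) (hG : Nat.card G ≠ 2)
    [Fintype (Sylow p G)] [DecidableEq (Sylow p G)] (g : G) :
    Equiv.Perm.sign (MulAction.toPerm g : Equiv.Perm (Sylow p G)) = 1 := by
  let f : G →* ℤˣ := Equiv.Perm.sign.comp (MulAction.toPermHom G (Sylow p G))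
  have h1 : f.ker.index ∣ 2 := by
    rw [Subgroup.index_ker]
    exact (Subgroup.card_subgroup_dvd_card f.range).trans (by simp [Nat.card_eq_fintype_card])
  rcases (Nat.dvd_prime Nat.prime_two).1 h1 with h2 | h2
  · exact MonoidHom.mem_ker.1 ((Subgroup.index_eq_one.1 h2) ▸ Subgroup.mem_top g : g ∈ f.ker)
  · exact absurd h2 (h.index_ne_two hp hG f.ker)

/-- A reduced group has order divisible by four or odd order. -/
theorem Reduced.four_dvd (h : Reduced p G) (hp : p ≠ 2) (hG : Nat.card G ≠ 2)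
    (heven : 2 ∣ Nat.card G) : 4 ∣ Nat.card G := by
  by_contra h4
  haveI : Fact (Nat.Prime 2) := ⟨Nat.prime_two⟩
  obtain ⟨T⟩ := (inferInstance : Nonempty (Sylow 2 G))
  have hT : Nat.card (T : Subgroup G) = 2 := by
    obtain ⟨k, hk⟩ := IsPGroup.iff_card.1 T.2
    have h1 : 2 ∣ Nat.card (T : Subgroup G) := T.dvd_card_of_dvd_card heven
    have h2 := (T : Subgroup G).card_subgroup_dvd_card
    rw [hk] at h1 h2 ⊢
    match k with
    | 0 => simp at h1
    | 1 => rfl
    | k + 2 => exact absurd (dvd_trans (pow_dvd_pow 2 (Nat.le_add_left 2 k)) h2) h4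
  obtain ⟨H, hH⟩ := CfsgLib.Inv.exists_index_two_of_cyclic_sylow (even_iff_two_dvd.2 heven) T
    (isCyclic_of_prime_card hT)
  exact h.index_ne_two hp hG H hH

/-- The order of the normalizer of a subgroup of prime order modulo its centralizer. -/
theorem relIndex_centralizer_dvd {q : ℕ} [Fact q.Prime] (Q : Subgroup G) (hQ : Nat.card Q = q) :
    (Subgroup.centralizer (Q : Set G)).relIndex (Subgroup.normalizer (Q : Set G)) ∣ q - 1 := by
  haveI : IsCyclic Q := isCyclic_of_prime_card hQ
  have key := Subgroup.card_dvd_of_injective _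
    (QuotientGroup.kerLift_injective Q.normalizerMonoidHom)
  rw [Subgroup.normalizerMonoidHom_ker, ← Subgroup.index, ← Subgroup.relIndex,
    IsCyclic.card_mulAut, hQ, Nat.totient_prime Fact.out] at key
  exact key

/-- A reduced group of odd order has no Sylow subgroup of prime order `q ≠ p` on which the
normalizer can only act trivially. -/
theorem Reduced.false_of_sylow_prime (h : Reduced p G) {q : ℕ} [Fact q.Prime] (hqp : q ≠ p)
    (Q : Sylow q G) (hQ : Nat.card (Q : Subgroup G) = q) (hne : Nat.card G ≠ q)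
    (hcop : (Nat.card G).Coprime (q - 1)) : False := by
  have hNC : Subgroup.normalizer ((Q : Subgroup G) : Set G) ≤
      Subgroup.centralizer ((Q : Subgroup G) : Set G) := by
    refine Subgroup.relIndex_eq_one.1 (Nat.eq_one_of_dvd_coprimes hcop ?_
      (relIndex_centralizer_dvd _ hQ))
    exact (Subgroup.relIndex_dvd_card _ _).trans (Subgroup.card_subgroup_dvd_card _)
  have hc := MonoidHom.ker_transferSylow_isComplement' Q hNC
  have hidx : (MonoidHom.transferSylow Q hNC).ker.index = q := by rw [hc.symm.index_eq_card, hQ]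
  obtain ⟨k, hk⟩ := h.2 (MonoidHom.transferSylow Q hNC).ker inferInstance (fun hb => hne (by
    rw [← hidx, hb, Subgroup.index_bot]))
  rw [hidx] at hk
  exact hqp ((Nat.prime_dvd_prime_iff_eq Fact.out Fact.out).1
    ((Fact.out : q.Prime).dvd_of_dvd_pow (hk ▸ dvd_rfl : q ∣ p ^ k)))

/-- The fixed points of a `p`-subgroup in the action on the Sylow subgroups. -/
theorem card_le_sylow_modEq (R : Subgroup G) (hR : IsPGroup p R) :
    Nat.card (Sylow p G) ≡ Nat.card {Q : Sylow p G // R ≤ (Q : Subgroup G)} [MOD p] := by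
  rw [← Nat.card_congr (Equiv.subtypeEquivRight fun Q => hR.sylow_mem_fixedPoints_iff)]
  exact hR.card_modEq_card_fixedPoints (Sylow p G)

/-- If two Sylow subgroups always meet in index `p` and there are at most `p * (p + 1)` of them, the
Sylow subgroups have order `p`. -/
theorem card_sylow_eq_prime_of_small (hfaith : ∀ g : G, (∀ Q : Sylow p G, g • Q = Q) → g = 1)
    (hone : 1 < Nat.card (Sylow p G))
    (hidx : ∀ P Q : Sylow p G, P ≠ Q →
      p * Nat.card ↥((P : Subgroup G) ⊓ Q) = Nat.card (P : Subgroup G))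
    (hsmall : Nat.card (Sylow p G) ≤ p * (p + 1)) (P : Sylow p G) :
    Nat.card (P : Subgroup G) = p := by
  classical
  haveI := Fintype.ofFinite (Sylow p G)
  haveI := (Finite.one_lt_card_iff_nontrivial.1 hone)
  have hp := (Fact.out : p.Prime)
  obtain ⟨Q, hQ⟩ := exists_ne P
  set R := (P : Subgroup G) ⊓ Q with hR
  by_contra hne
  have hRne : Nat.card R ≠ 1 := fun h => hne (by rw [← hidx P Q hQ.symm, h, mul_one])
  have hcardeq : ∀ A B : Sylow p G, A ≠ B → Nat.card ↥((A : Subgroup G) ⊓ B) = Nat.card R := by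
    intro A B hAB
    refine Nat.eq_of_mul_eq_mul_left hp.pos ?_
    rw [hidx A B hAB, hR, hidx P Q hQ.symm]
    exact Nat.card_congr (Sylow.equiv A P).toEquiv
  have hRp : IsPGroup p R := P.2.to_le inf_le_left
  -- the line through `P` and `Q`
  set L := Finset.univ.filter fun Z : Sylow p G => R ≤ (Z : Subgroup G) with hL
  have hcount : ∀ S : Subgroup G, IsPGroup p S →
      (Finset.univ.filter fun Z : Sylow p G => S ≤ (Z : Subgroup G)).card ≡ 1 [MOD p] := by
    intro S hS
    rw [← Fintype.card_subtype, ← Nat.card_eq_fintype_card]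
    exact (card_le_sylow_modEq S hS).symm.trans (card_sylow_modEq_one p G)
  have hLcard : p + 1 ≤ L.card := by
    have h1 := hcount R hRp
    have h2 : 1 < L.card := Finset.one_lt_card.2 ⟨P, Finset.mem_filter.2 ⟨Finset.mem_univ _,
      inf_le_left⟩, Q, Finset.mem_filter.2 ⟨Finset.mem_univ _, inf_le_right⟩, hQ.symm⟩
    obtain ⟨c, hc⟩ := (Nat.modEq_iff_dvd' h2.le).1 h1.symm
    have : c ≠ 0 := by rintro rfl; simp only [mul_zero] at hc; omega
    have := Nat.le_mul_of_pos_right p (Nat.pos_of_ne_zero this)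
    omega
  have hline : ∀ A ∈ L, ∀ B ∈ L, A ≠ B → (A : Subgroup G) ⊓ B = R := fun A hA B hB hAB =>
    (Subgroup.eq_of_le_of_card_ge (le_inf (Finset.mem_filter.1 hA).2 (Finset.mem_filter.1 hB).2)
      (hcardeq A B hAB).le).symm
  obtain ⟨w, hw⟩ : ∃ w : Sylow p G, w ∉ L := by
    by_contra h
    push Not at h
    refine hRne ?_
    rw [Subgroup.card_eq_one, Subgroup.eq_bot_iff_forall]
    exact fun r hr => hfaith r fun Z => Sylow.smul_eq_iff_mem_normalizer.2
      (Subgroup.le_normalizer ((Finset.mem_filter.1 (h Z)).2 hr))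
  let S : Sylow p G → Finset (Sylow p G) := fun z =>
    (Finset.univ.filter fun u : Sylow p G => (w : Subgroup G) ⊓ z ≤ (u : Subgroup G)).erase w
  have hScard : ∀ z ∈ L, p ≤ (S z).card := by
    intro z hz
    have hwz : w ≠ z := fun e => hw (e ▸ hz)
    have h1 := hcount ((w : Subgroup G) ⊓ z) (w.2.to_le inf_le_left)
    have hwm : w ∈ Finset.univ.filter fun u : Sylow p G => (w : Subgroup G) ⊓ z ≤ (u : Subgroup G) :=
      Finset.mem_filter.2 ⟨Finset.mem_univ _, inf_le_left⟩
    have h2 : 1 < (Finset.univ.filter fun u : Sylow p G =>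
        (w : Subgroup G) ⊓ z ≤ (u : Subgroup G)).card :=
      Finset.one_lt_card.2 ⟨w, hwm, z, Finset.mem_filter.2 ⟨Finset.mem_univ _, inf_le_right⟩, hwz⟩
    obtain ⟨c, hc⟩ := (Nat.modEq_iff_dvd' h2.le).1 h1.symm
    show p ≤ (Finset.erase _ w).card
    rw [Finset.card_erase_of_mem hwm, hc]
    have : c ≠ 0 := by rintro rfl; simp only [mul_zero] at hc; omega
    exact Nat.le_mul_of_pos_right p (Nat.pos_of_ne_zero this)
  have hdisj : (L : Set (Sylow p G)).PairwiseDisjoint S := by
    intro z hz z' hz' hzz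
    rw [Function.onFun, Finset.disjoint_left]
    intro u hu hu'
    obtain ⟨huw, hu⟩ := Finset.mem_erase.1 hu
    obtain ⟨-, hu'⟩ := Finset.mem_erase.1 hu'
    have hwz : w ≠ z := fun e => hw (e ▸ hz)
    have hwz' : w ≠ z' := fun e => hw (e ▸ hz')
    have e1 : (w : Subgroup G) ⊓ z = (w : Subgroup G) ⊓ u :=
      Subgroup.eq_of_le_of_card_ge (le_inf inf_le_left (Finset.mem_filter.1 hu).2)
        (by rw [hcardeq w u (Ne.symm huw), hcardeq w z hwz])
    have e2 : (w : Subgroup G) ⊓ z' = (w : Subgroup G) ⊓ u :=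
      Subgroup.eq_of_le_of_card_ge (le_inf inf_le_left (Finset.mem_filter.1 hu').2)
        (by rw [hcardeq w u (Ne.symm huw), hcardeq w z' hwz'])
    have e3 : (w : Subgroup G) ⊓ z = R := by
      refine Subgroup.eq_of_le_of_card_ge ?_ (hcardeq w z hwz).ge
      rw [← hline z hz z' hz' hzz]
      exact le_inf inf_le_right ((e1.trans e2.symm).le.trans inf_le_right)
    exact hw (Finset.mem_filter.2 ⟨Finset.mem_univ _, e3 ▸ inf_le_left⟩)
  have h1 : L.card * p ≤ ((Finset.univ : Finset (Sylow p G)).erase w).card := by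
    refine le_trans ?_ (Finset.card_le_card (s := L.biUnion S) ?_)
    · rw [Finset.card_biUnion hdisj, ← smul_eq_mul, ← Finset.sum_const]
      exact Finset.sum_le_sum hScard
    · intro u hu
      obtain ⟨z, -, hz⟩ := Finset.mem_biUnion.1 hu
      exact Finset.mem_erase.2 ⟨(Finset.mem_erase.1 hz).1, Finset.mem_univ _⟩
  rw [Finset.card_erase_of_mem (Finset.mem_univ _), Finset.card_univ, ← Nat.card_eq_fintype_card]
    at h1
  have h2 : (p + 1) * p ≤ L.card * p := Nat.mul_le_mul_right p hLcard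
  have h3 : (p + 1) * p = p * (p + 1) := mul_comm _ _
  omega

/-- For at most `p ^ 2` Sylow subgroups two of them meet in index `p`. -/
theorem mul_card_inf_eq (hsmall : Nat.card (Sylow p G) ≤ p ^ 2) {P Q : Sylow p G} (hPQ : P ≠ Q) :
    p * Nat.card ↥((P : Subgroup G) ⊓ Q) = Nat.card (P : Subgroup G) := by
  have hp := (Fact.out : p.Prime)
  have hst : MulAction.stabilizer (P : Subgroup G) Q =
      (Q : Subgroup G).subgroupOf (P : Subgroup G) := by
    ext x
    rw [MulAction.mem_stabilizer_iff, Subgroup.mem_subgroupOf, Subgroup.smul_def,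
      Sylow.smul_eq_iff_mem_normalizer]
    refine ⟨fun h => ?_, fun h => Subgroup.le_normalizer h⟩
    have := (P.2.inf_normalizer_sylow Q).le ⟨x.2, h⟩
    exact this.2
  have horb : MulAction.orbit (P : Subgroup G) Q ⊂ Set.univ := by
    rw [Set.ssubset_univ_iff]
    intro h
    obtain ⟨x, hx⟩ := (Set.eq_univ_iff_forall.1 h) P
    have h1 : (x : G) • P = P := Sylow.smul_eq_iff_mem_normalizer.2 (Subgroup.le_normalizer x.2)
    exact hPQ (MulAction.injective (x : G) (h1.trans hx.symm))
  have hlt : (MulAction.orbit (P : Subgroup G) Q).ncard < p ^ 2 := by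
    refine lt_of_lt_of_le (Set.ncard_lt_ncard horb) ?_
    rwa [Set.ncard_univ]
  rw [← MulAction.index_stabilizer, hst] at hlt
  have hidx : ((Q : Subgroup G).subgroupOf (P : Subgroup G)).index = p := by
    obtain ⟨k, hk⟩ := IsPGroup.iff_card.1 P.2
    obtain ⟨j, -, hj⟩ := (Nat.dvd_prime_pow hp).1
      (hk ▸ ((Q : Subgroup G).subgroupOf (P : Subgroup G)).index_dvd_card)
    rw [hj] at hlt ⊢
    have hj0 : j ≠ 0 := by
      rintro rfl
      rw [pow_zero, Subgroup.index_eq_one, Subgroup.subgroupOf_eq_top] at hj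
      exact hPQ (Sylow.ext (P.3 Q.2 hj)).symm
    have := (Nat.pow_lt_pow_iff_right hp.one_lt).1 hlt
    rw [show j = 1 by omega, pow_one]
  have h := CfsgLib.Solv.relIndex_mul_card (inf_le_right : (Q : Subgroup G) ⊓ P ≤ P)
  rw [Subgroup.inf_relIndex_right, Subgroup.relIndex, hidx, inf_comm] at h
  rw [mul_comm]
  exact h

end CfsgLib.Perm.SylowNumber

namespace CfsgLib.Perm.SylowNumber

variable {G : Type*} [Group G] [Finite G] {p : ℕ} [Fact p.Prime]

theorem sign_involution {α : Type*} [Fintype α] [DecidableEq α] (σ : Equiv.Perm α) (hσ : σ ^ 2 = 1) :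
    Equiv.Perm.sign σ = (-1) ^ ((Fintype.card α - Fintype.card (Function.fixedPoints σ)) / 2) := by
  have h : ∀ n ∈ σ.cycleType, n = 2 := fun n hn => by
    have h1 : n ∣ orderOf σ := Equiv.Perm.lcm_cycleType σ ▸ Multiset.dvd_lcm hn
    have h2 := Nat.le_of_dvd (by norm_num) (h1.trans (orderOf_dvd_of_pow_eq_one hσ))
    have h3 := Equiv.Perm.two_le_of_mem_cycleType hn
    omega
  have h' := Equiv.Perm.sign_of_cycleType_eq_replicate (σ := σ) (n := 2) two_pos
    (Multiset.eq_replicate.2 ⟨rfl, h⟩)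
  rw [if_neg (by decide)] at h'
  exact h'

theorem zpowers_eq_of_mem (P : Sylow p G) (hP : Nat.card (P : Subgroup G) = p) {x : G}
    (hx : x ∈ (P : Subgroup G)) (hx1 : x ≠ 1) : Subgroup.zpowers x = (P : Subgroup G) := by
  refine Subgroup.eq_of_le_of_card_ge (Subgroup.zpowers_le.2 hx) ?_
  have h2 := Subgroup.card_dvd_of_le (Subgroup.zpowers_le.2 hx)
  rw [hP] at h2
  rcases (Nat.dvd_prime (Fact.out : p.Prime)).1 h2 with h3 | h3
  · exact absurd (Subgroup.zpowers_eq_bot.1 (Subgroup.card_eq_one.1 h3)) hx1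
  · exact (h3.trans hP.symm).ge

/-- A non-trivial element of a Sylow subgroup of order `p` fixes no other Sylow subgroup. -/
theorem eq_of_smul_eq (P : Sylow p G) (hP : Nat.card (P : Subgroup G) = p) {x : G}
    (hx : x ∈ (P : Subgroup G)) (hx1 : x ≠ 1) {Z : Sylow p G} (hZ : x • Z = Z) : Z = P := by
  have h1 := zpowers_eq_of_mem P hP hx hx1
  have h2 : (P : Subgroup G) ≤ (P : Subgroup G) ⊓ Subgroup.normalizer ((Z : Subgroup G) : Set G) :=
    le_inf le_rfl (h1 ▸ Subgroup.zpowers_le.2 (Sylow.smul_eq_iff_mem_normalizer.1 hZ))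
  exact Sylow.ext (P.3 Z.2 ((h2.trans (P.2.inf_normalizer_sylow Z).le).trans inf_le_right))

/-- The fixed points of an element centralizing a Sylow subgroup of order `p` form `p`-orbits
besides that Sylow subgroup. -/
theorem card_fixedPoints_modEq_one (P : Sylow p G) (hP : Nat.card (P : Subgroup G) = p)
    {u : G} (hu : u ∈ Subgroup.centralizer ((P : Subgroup G) : Set G)) :
    Nat.card {Z : Sylow p G // u • Z = Z} ≡ 1 [MOD p] := by
  have hinv : ∀ (x : (P : Subgroup G)) (Z : Sylow p G), u • Z = Z →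
      u • ((x : G) • Z) = (x : G) • Z := fun x Z hZ => by
    rw [smul_smul, ← Subgroup.mem_centralizer_iff.1 hu x x.2, ← smul_smul, hZ]
  letI : MulAction (P : Subgroup G) {Z : Sylow p G // u • Z = Z} :=
    { smul := fun x Z => ⟨(x : G) • Z.1, hinv x Z.1 Z.2⟩
      one_smul := fun Z => Subtype.ext (one_smul G Z.1)
      mul_smul := fun x y Z => Subtype.ext (mul_smul (x : G) (y : G) Z.1) }
  refine (P.2.card_modEq_card_fixedPoints {Z : Sylow p G // u • Z = Z}).trans ?_
  have huP : u • P = P :=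
    Sylow.smul_eq_iff_mem_normalizer.2 (Subgroup.centralizer_le_normalizer _ hu)
  have h1 : Nat.card (MulAction.fixedPoints (P : Subgroup G) {Z : Sylow p G // u • Z = Z}) = 1 := by
    rw [Nat.card_eq_one_iff_unique]
    refine ⟨⟨fun a b => Subtype.ext (Subtype.ext ?_)⟩, ⟨⟨⟨P, huP⟩, fun x => Subtype.ext
      (Sylow.smul_eq_iff_mem_normalizer.2 (Subgroup.le_normalizer x.2))⟩⟩⟩
    haveI : Nontrivial (P : Subgroup G) :=
      Finite.one_lt_card_iff_nontrivial.1 (by rw [hP]; exact (Fact.out : p.Prime).one_lt)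
    obtain ⟨x, hx⟩ := exists_ne (1 : (P : Subgroup G))
    have hx1 : (x : G) ≠ 1 := fun e => hx (Subtype.ext e)
    rw [eq_of_smul_eq P hP x.2 hx1 (congrArg Subtype.val (a.2 x)),
      eq_of_smul_eq P hP x.2 hx1 (congrArg Subtype.val (b.2 x))]
  rw [h1]

end CfsgLib.Perm.SylowNumber

namespace CfsgLib.Perm.SylowNumber

variable {G : Type*} [Group G] [Finite G] {p : ℕ} [Fact p.Prime]

theorem smul_coe (g : G) (Q : Sylow p G) :
    ((g • Q : Sylow p G) : Subgroup G) = (Q : Subgroup G).map (MulAut.conj g).toMonoidHom :=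
  Sylow.coe_subgroup_smul.trans (CfsgLib.Solv.conj_smul_eq_map g (Q : Subgroup G))

theorem card_inf_smul (g : G) (A B : Sylow p G) :
    Nat.card ↥(((g • A : Sylow p G) : Subgroup G) ⊓ ((g • B : Sylow p G) : Subgroup G)) =
      Nat.card ↥((A : Subgroup G) ⊓ B) := by
  rw [smul_coe, smul_coe, ← Subgroup.map_inf _ _ _ (MulAut.conj g).injective,
    Subgroup.card_map_of_injective (MulAut.conj g).injective]

theorem card_sylow_congr (A B : Sylow p G) :
    Nat.card (A : Subgroup G) = Nat.card (B : Subgroup G) :=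
  Nat.card_congr (Sylow.equiv A B).toEquiv

/-- Two Sylow subgroups meet in a subgroup of index `p`. -/
def Col (A B : Sylow p G) : Prop :=
  p * Nat.card ↥((A : Subgroup G) ⊓ B) = Nat.card (A : Subgroup G)

theorem Col.symm {A B : Sylow p G} (h : Col A B) : Col B A := by
  rw [Col, inf_comm, card_sylow_congr B A]
  exact h

theorem not_col_self (A : Sylow p G) : ¬ Col A A := by
  rw [Col, inf_idem]
  intro h
  have h1 : 1 * Nat.card (A : Subgroup G) = p * Nat.card (A : Subgroup G) := by rw [h, one_mul]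
  exact (Fact.out : p.Prime).ne_one (Nat.eq_of_mul_eq_mul_right Nat.card_pos h1).symm

theorem col_smul_iff (g : G) (A B : Sylow p G) : Col (g • A) (g • B) ↔ Col A B := by
  rw [Col, Col, card_inf_smul, card_sylow_congr (g • A) A]

theorem two_mul_card_inf_le {A B : Sylow p G} (h : A ≠ B) :
    p * Nat.card ↥((A : Subgroup G) ⊓ B) ≤ Nat.card (A : Subgroup G) := by
  obtain ⟨n, hn⟩ := IsPGroup.iff_card.1 A.2
  obtain ⟨i, hi, hi'⟩ := (Nat.dvd_prime_pow Fact.out).1
    (hn ▸ Subgroup.card_dvd_of_le (inf_le_left : (A : Subgroup G) ⊓ B ≤ A))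
  rw [hn, hi', ← pow_succ']
  refine Nat.pow_le_pow_right (Fact.out : p.Prime).pos (Nat.succ_le_of_lt (lt_of_le_of_ne hi ?_))
  rintro rfl
  have h1 : (A : Subgroup G) ⊓ B = A :=
    Subgroup.eq_of_le_of_card_ge inf_le_left (by rw [hn, hi'])
  exact h (Sylow.ext (A.3 B.2 (inf_eq_left.1 h1))).symm

theorem inf_conj_le {A B : Sylow p G} (h : Col A B) {x : G} (hx : x ∈ (A : Subgroup G)) :
    ((A : Subgroup G) ⊓ B).map (MulAut.conj x).toMonoidHom ≤ (A : Subgroup G) ⊓ B := by
  haveI : (((A : Subgroup G) ⊓ B).subgroupOf (A : Subgroup G)).Normal := by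
    by_cases hA : Nat.card (A : Subgroup G) = 1
    · rw [Col, hA] at h
      exact absurd (Nat.eq_one_of_mul_eq_one_right h) (Fact.out : p.Prime).ne_one
    haveI : Nontrivial (A : Subgroup G) :=
      Finite.one_lt_card_iff_nontrivial.1
        (lt_of_le_of_ne Nat.card_pos (Ne.symm hA))
    refine Subgroup.normal_of_index_eq_minFac_card ?_
    obtain ⟨n, hn⟩ := IsPGroup.iff_card.1 A.2
    have hn0 : n ≠ 0 := fun e => hA (by rw [hn, e, pow_zero])
    rw [hn, (Fact.out : p.Prime).pow_minFac hn0]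
    have h2 := CfsgLib.Solv.relIndex_mul_card (inf_le_left : (A : Subgroup G) ⊓ B ≤ A)
    rw [← h, mul_comm p] at h2
    exact Nat.eq_of_mul_eq_mul_left Nat.card_pos h2
  rintro _ ⟨m, hm, rfl⟩
  exact Subgroup.mem_subgroupOf.1 ((inferInstance :
    (((A : Subgroup G) ⊓ B).subgroupOf (A : Subgroup G)).Normal).conj_mem ⟨m, hm.1⟩
      (Subgroup.mem_subgroupOf.2 hm) ⟨x, hx⟩)

/-- A point outside a line is joined to at most one point of the line. -/
theorem not_col_of_line {A B W : Sylow p G} (hAB : Col A B)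
    (hW : ¬ (A : Subgroup G) ⊓ B ≤ W) (hAW : Col A W) (hBW : Col B W) : False := by
  obtain ⟨x, hxH, hxW⟩ := SetLike.not_le_iff_exists.1 hW
  have hO : x • W ≠ W := fun e => hxW
    ((A.2.inf_normalizer_sylow W).le ⟨hxH.1, Sylow.smul_eq_iff_mem_normalizer.1 e⟩).2
  have key : ∀ C : Sylow p G, x ∈ (C : Subgroup G) → Col C W →
      (C : Subgroup G) ⊓ W = (W : Subgroup G) ⊓ ((x • W : Sylow p G) : Subgroup G) := by
    intro C hxC hC
    refine Subgroup.eq_of_le_of_card_ge (le_inf inf_le_right fun m hm => ?_) ?_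
    · rw [smul_coe]
      have hxi : x⁻¹ ∈ (C : Subgroup G) := inv_mem hxC
      refine ⟨x⁻¹ * m * x, ?_, ?_⟩
      · have := inf_conj_le hC hxi ⟨m, hm, rfl⟩
        simpa using this.2
      · simp [mul_assoc]
    · refine Nat.le_of_mul_le_mul_left ?_ (Fact.out : p.Prime).pos
      calc p * _ ≤ Nat.card (W : Subgroup G) := two_mul_card_inf_le hO.symm
        _ = p * _ := (card_sylow_congr W C).trans (Eq.symm hC)
  have e1 := key A hxH.1 hAW
  have e2 := key B hxH.2 hBW
  have hle : (A : Subgroup G) ⊓ W ≤ (A : Subgroup G) ⊓ B :=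
    le_inf inf_le_left ((e1.trans e2.symm).le.trans inf_le_left)
  have heq : (A : Subgroup G) ⊓ W = (A : Subgroup G) ⊓ B := Subgroup.eq_of_le_of_card_ge hle
    (Nat.le_of_mul_le_mul_left (hAB.trans (Eq.symm hAW)).le (Fact.out : p.Prime).pos)
  exact hW (heq ▸ inf_le_right)

end CfsgLib.Perm.SylowNumber

namespace CfsgLib.Perm.SylowNumber

variable {G : Type*} [Group G] [Finite G] {p : ℕ} [Fact p.Prime]

/-- Permutations in any action of a reduced group are even. -/
theorem Reduced.sign_eq_one' (h : Reduced p G) (hp : p ≠ 2) (hG : Nat.card G ≠ 2) {α : Type*}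
    [Fintype α] [DecidableEq α] [MulAction G α] (g : G) :
    Equiv.Perm.sign (MulAction.toPerm g : Equiv.Perm α) = 1 := by
  let f : G →* ℤˣ := Equiv.Perm.sign.comp (MulAction.toPermHom G α)
  have h1 : f.ker.index ∣ 2 := by
    rw [Subgroup.index_ker]
    exact (Subgroup.card_subgroup_dvd_card f.range).trans (by simp [Nat.card_eq_fintype_card])
  rcases (Nat.dvd_prime Nat.prime_two).1 h1 with h2 | h2
  · exact MonoidHom.mem_ker.1 ((Subgroup.index_eq_one.1 h2) ▸ Subgroup.mem_top g : g ∈ f.ker)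
  · exact absurd h2 (h.index_ne_two hp hG f.ker)

theorem Reduced.false_of_normalizer_le (h : Reduced p G) {q : ℕ} [Fact q.Prime] (hqp : q ≠ p)
    (Q : Sylow q G) (hQ : Nat.card (Q : Subgroup G) = q) (hne : Nat.card G ≠ q)
    (hNC : Subgroup.normalizer ((Q : Subgroup G) : Set G) ≤
      Subgroup.centralizer ((Q : Subgroup G) : Set G)) : False := by
  have hc := MonoidHom.ker_transferSylow_isComplement' Q hNC
  have hidx : (MonoidHom.transferSylow Q hNC).ker.index = q := by rw [hc.symm.index_eq_card, hQ]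
  obtain ⟨k, hk⟩ := h.2 (MonoidHom.transferSylow Q hNC).ker inferInstance (fun hb => hne (by
    rw [← hidx, hb, Subgroup.index_bot]))
  rw [hidx] at hk
  exact hqp ((Nat.prime_dvd_prime_iff_eq Fact.out Fact.out).1
    ((Fact.out : q.Prime).dvd_of_dvd_pow (hk ▸ dvd_rfl : q ∣ p ^ k)))

theorem isPGroup_zpowers {r : ℕ} {z : G} (hz : z ^ r = 1) : IsPGroup r (Subgroup.zpowers z) := by
  intro v
  obtain ⟨i, hi⟩ := Subgroup.mem_zpowers_iff.1 v.2
  refine ⟨1, Subtype.ext ?_⟩
  rw [pow_one, SubmonoidClass.coe_pow, ← hi, OneMemClass.coe_one, ← zpow_natCast, ← zpow_mul,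
    mul_comm, zpow_mul, zpow_natCast, hz, one_zpow]

theorem card_fix_modEq {α : Type*} [Finite α] [MulAction G α] {r : ℕ} [Fact r.Prime] {z : G}
    (hz : z ^ r = 1) : Nat.card α ≡ Nat.card {a : α // z • a = a} [MOD r] := by
  have h : MulAction.fixedPoints (Subgroup.zpowers z) α = {a : α | z • a = a} := by
    ext a
    refine ⟨fun ha => ha ⟨z, Subgroup.mem_zpowers z⟩, fun ha v => ?_⟩
    obtain ⟨i, hi⟩ := Subgroup.mem_zpowers_iff.1 v.2
    rw [Subgroup.smul_def, ← hi]
    exact MulAction.mem_stabilizer_iff.1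
      ((MulAction.stabilizer G a).zpow_mem (MulAction.mem_stabilizer_iff.2 ha) i)
  have h2 := (isPGroup_zpowers hz).card_modEq_card_fixedPoints α
  rw [h] at h2
  exact h2

/-- An element normalizing, not centralizing, a subgroup of prime order fixes at most one point of
each regular orbit. -/
theorem eq_one_of_fixed_pair {q : ℕ} [Fact q.Prime] {α : Type*} [MulAction G α] {Q : Subgroup G}
    (hQ : Nat.card Q = q) {v : G} (hv : v ∈ Subgroup.normalizer (Q : Set G))
    (hvC : v ∉ Subgroup.centralizer (Q : Set G)) {a : α}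
    (hfree : ∀ x ∈ Q, x • a = a → x = 1) {x : G} (hx : x ∈ Q) (ha : v • a = a)
    (hxa : v • x • a = x • a) : x = 1 := by
  have hx' : v * x * v⁻¹ ∈ Q := (Subgroup.mem_normalizer_iff.1 hv x).1 hx
  have h1 : (x⁻¹ * (v * x * v⁻¹)) • a = a := by
    rw [mul_smul, mul_smul, mul_smul, inv_smul_eq_iff.2 ha.symm, hxa, inv_smul_smul]
  have h2 := hfree _ (Q.mul_mem (Q.inv_mem hx) hx') h1
  rw [inv_mul_eq_one] at h2
  by_contra hx1
  refine hvC (Subgroup.mem_centralizer_iff.2 fun y hy => ?_)
  have hgen : Subgroup.zpowers x = Q := by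
    refine Subgroup.eq_of_le_of_card_ge (Subgroup.zpowers_le.2 hx) ?_
    have h3 := Subgroup.card_dvd_of_le (Subgroup.zpowers_le.2 hx)
    rw [hQ] at h3
    rcases (Nat.dvd_prime (Fact.out : q.Prime)).1 h3 with h4 | h4
    · exact absurd (Subgroup.zpowers_eq_bot.1 (Subgroup.card_eq_one.1 h4)) hx1
    · exact (h4.trans hQ.symm).ge
  obtain ⟨i, rfl⟩ := Subgroup.mem_zpowers_iff.1 (hgen.ge hy)
  exact (Commute.zpow_left ((mul_inv_eq_iff_eq_mul.1 h2.symm).symm : x * v = v * x) i).eq

/-- In a free action of a subgroup of order `q` every orbit has `q` elements. -/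
theorem card_eq_mul_card_quotient {α : Type*} [Finite α] (Q : Type*) [Group Q] [Finite Q]
    [MulAction Q α] (hfree : ∀ (x : Q) (a : α), x • a = a → x = 1) :
    Nat.card α = Nat.card (MulAction.orbitRel.Quotient Q α) * Nat.card Q := by
  classical
  haveI := Fintype.ofFinite (MulAction.orbitRel.Quotient Q α)
  rw [Nat.card_congr (MulAction.selfEquivSigmaOrbits' Q α), Nat.card_sigma,
    Finset.sum_congr rfl (g := fun _ => Nat.card Q), Finset.sum_const, Finset.card_univ,
    smul_eq_mul, Nat.card_eq_fintype_card (α := MulAction.orbitRel.Quotient Q α)]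
  intro o _
  induction o using Quotient.inductionOn' with
  | h a =>
    rw [MulAction.orbitRel.Quotient.orbit_mk, Nat.card_coe_set_eq, ← MulAction.index_stabilizer,
      ← Subgroup.index_bot]
    congr 1
    rw [Subgroup.eq_bot_iff_forall]
    exact fun x hx => hfree x a hx

end CfsgLib.Perm.SylowNumber
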