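import Cfsg.Agent.Perm.Jordan
import Cfsg.Agent.Perm.SylowNumber
import Cfsg.Agent.Inv.CyclicSylow
import Cfsg.Agent.Solv.TransferTools
import Mathlib.GroupTheory.SpecificGroups.Alternating.Simple
import Mathlib.GroupTheory.GroupAction.Primitive

set_option autoImplicit false
set_option linter.style.haveILetI false
set_option linter.unusedSectionVars false

/-!
Groups generated by two permutations of prime order, one of them a cycle of length more than half
the degree.
-/

namespace CfsgLib.Perm.CycleGen

open Equiv MulAction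
open scoped Pointwise

/-- Renaming the points of an alternating group. -/
noncomputable def altEquiv {α β : Type*} [Fintype α] [DecidableEq α] [Fintype β] [DecidableEq β]
    (e : α ≃ β) : alternatingGroup α ≃* alternatingGroup β :=
  ((alternatingGroup α).equivMapOfInjective e.permCongrHom.toMonoidHom
    e.permCongrHom.injective).trans (MulEquiv.subgroupCongr (by
      ext s
      rw [Subgroup.mem_map]
      refine ⟨?_, fun hs => ⟨e.permCongrHom.symm s, ?_, e.permCongrHom.apply_symm_apply s⟩⟩
      · rintro ⟨t, ht, rfl⟩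
        rw [Perm.mem_alternatingGroup] at ht ⊢
        exact (Perm.sign_permCongr e t).trans ht
      · rw [Perm.mem_alternatingGroup] at hs ⊢
        rw [← hs]
        conv_rhs => rw [← e.permCongrHom.apply_symm_apply s]
        exact (Perm.sign_permCongr e _).symm))

variable {β : Type*} [Fintype β] [DecidableEq β]

theorem pow_apply_fix {σ : Perm β} {p j : ℕ} (hp : p.Prime) (hσ : σ ^ p = 1) (hj : ¬ p ∣ j) {z : β}
    (h : (σ ^ j) z = z) : σ z = z := by
  obtain ⟨k, -, hk⟩ := Nat.exists_mul_mod_eq_one_of_coprime
    ((hp.coprime_iff_not_dvd.2 hj).symm) hp.one_lt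
  have h1 : ((σ ^ j) ^ k) z = z := Perm.pow_apply_eq_self_of_apply_eq_self h k
  rwa [← pow_mul, pow_eq_pow_mod _ hσ, hk, pow_one] at h1

/-- The generated group is transitive. -/
theorem pretransitive {G : Subgroup (Perm β)} {a b : Perm β} (ha : a ∈ G) (hb : b ∈ G) {p q : ℕ}
    (hp : p.Prime) (hap : a ^ p = 1) (hbc : b.IsCycle) (hbq : b.support.card = q)
    (hmov : ∀ z, a z ≠ z ∨ b z ≠ z) (hd : Fintype.card β < p + q) : IsPretransitive G β := by
  classical
  obtain ⟨z₀, hz₀⟩ := Finset.card_pos.1 (show 0 < b.support.card by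
    rw [Finset.card_pos]; exact Finset.nonempty_of_ne_empty (fun h => hbc.ne_one (Perm.support_eq_empty_iff.1 h)))
  have hb0 : ∀ z, b z ≠ z → z ∈ orbit G z₀ := by
    intro z hz
    obtain ⟨i, hi⟩ := hbc.sameCycle (Perm.mem_support.1 hz₀) hz
    exact ⟨(⟨b, hb⟩ : G) ^ i, hi⟩
  have hall : ∀ z, z ∈ orbit G z₀ := by
    intro z
    by_cases hbz : b z = z
    · have haz : a z ≠ z := (hmov z).resolve_right (fun h => h hbz)
      obtain ⟨i, hi⟩ : ∃ i : ℕ, b ((a ^ i) z) ≠ (a ^ i) z := by
        by_contra hno
        push Not at hno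
        have hinj : Set.InjOn (fun i => (a ^ i) z) (Finset.range p : Set ℕ) := by
          intro i hi j hj hij
          rw [Finset.coe_range, Set.mem_Iio] at hi hj
          by_contra hne
          rcases Nat.lt_or_gt_of_ne hne with h | h
          · refine haz (pow_apply_fix hp hap (j := j - i) (fun hd => ?_) ?_)
            · have := Nat.le_of_dvd (by omega) hd; omega
            · refine (a ^ i).injective ?_
              rw [← Perm.mul_apply, ← pow_add, Nat.add_sub_cancel' h.le]
              exact hij.symm
          · refine haz (pow_apply_fix hp hap (j := i - j) (fun hd => ?_) ?_)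
            · have := Nat.le_of_dvd (by omega) hd; omega
            · refine (a ^ j).injective ?_
              rw [← Perm.mul_apply, ← pow_add, Nat.add_sub_cancel' h.le]
              exact hij
        have h1 : ((Finset.range p).image fun i => (a ^ i) z) ⊆ b.supportᶜ := fun w hw => by
          obtain ⟨i, -, rfl⟩ := Finset.mem_image.1 hw
          rw [Finset.mem_compl, Perm.notMem_support]
          exact hno i
        have h2 := Finset.card_le_card h1
        rw [Finset.card_image_of_injOn hinj, Finset.card_range, Finset.card_compl, hbq] at h2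
        have := hp.pos
        omega
      obtain ⟨g', hg'⟩ := hb0 _ hi
      refine ⟨((⟨a, ha⟩ : G) ^ i)⁻¹ * g', ?_⟩
      show (((⟨a, ha⟩ : G) ^ i)⁻¹ * g') • z₀ = z
      rw [mul_smul, inv_smul_eq_iff]
      exact hg'
    · exact hb0 z hbz
  refine ⟨fun x y => ?_⟩
  obtain ⟨g, hg⟩ := hall x
  obtain ⟨h, hh⟩ := hall y
  exact ⟨h * g⁻¹, by rw [← hg, ← hh]; simp [mul_smul]⟩

/-- A transitive group with a cycle of prime length more than half the degree is primitive. -/
theorem preprimitive {G : Subgroup (Perm β)} [IsPretransitive G β] {b : Perm β} (hb : b ∈ G) {q : ℕ}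
    (hq : q.Prime) (hbc : b.IsCycle) (hbq : b.support.card = q) (hd : Fintype.card β < 2 * q) :
    IsPreprimitive G β := by
  classical
  obtain ⟨z₀, hz₀⟩ := Finset.card_pos.1 (hbq.symm ▸ hq.pos : 0 < b.support.card)
  have hbq' : b ^ q = 1 := by rw [← hbq, ← hbc.orderOf]; exact pow_orderOf_eq_one b
  refine IsPreprimitive.of_isTrivialBlock_base z₀ fun {B} hB0 hB => ?_
  have hcard := hB.ncard_block_mul_ncard_orbit_eq ⟨z₀, hB0⟩
  rw [Nat.card_eq_fintype_card] at hcard
  set g : G := ⟨b, hb⟩ with hg
  by_cases hfix : g • B = B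
  · right
    have hsub : (b.support : Set β) ⊆ B := by
      intro w hw
      obtain ⟨i, rfl⟩ := hbc.sameCycle (Perm.mem_support.1 hz₀) (Perm.mem_support.1 hw)
      have h1 : g ^ i • B = B := (stabilizer G B).zpow_mem (x := g) hfix i
      rw [← h1]
      exact Set.smul_mem_smul_set hB0
    have h2 := Set.ncard_le_ncard hsub
    rw [Set.ncard_coe_finset, hbq] at h2
    have h3 : (orbit G B).ncard ≤ 1 := by
      by_contra h
      have := Nat.mul_le_mul h2 (not_le.1 h)
      omega
    have h4 : 0 < (orbit G B).ncard := (Set.ncard_pos (Set.toFinite _)).2 ⟨B, mem_orbit_self B⟩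
    rw [show (orbit G B).ncard = 1 by omega, mul_one] at hcard
    exact Set.eq_univ_of_forall fun w => by
      have : B = Set.univ := Set.eq_univ_iff_ncard B |>.2 (by rw [hcard, Nat.card_eq_fintype_card])
      rw [this]; trivial
  · left
    have hinj : Set.InjOn (fun i : ℕ => g ^ i • B) (Finset.range q : Set ℕ) := by
      intro i hi j hj hij
      rw [Finset.coe_range, Set.mem_Iio] at hi hj
      by_contra hne
      have key : ∀ k : ℕ, 0 < k → k < q → g ^ k • B ≠ B := by
        intro k hk0 hkq e
        obtain ⟨l, -, hl⟩ := Nat.exists_mul_mod_eq_one_of_coprime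
          ((hq.coprime_iff_not_dvd.2 fun hd => by have := Nat.le_of_dvd hk0 hd; omega).symm) hq.one_lt
        have h1 : (g ^ k) ^ l • B = B := (stabilizer G B).pow_mem (x := g ^ k) e l
        rw [← pow_mul, pow_eq_pow_mod _ (show g ^ q = 1 from Subtype.ext hbq'), hl, pow_one] at h1
        exact hfix h1
      rcases Nat.lt_or_gt_of_ne hne with h | h
      · refine key (j - i) (by omega) (by omega) (MulAction.injective (g ^ i) ?_)
        show g ^ i • g ^ (j - i) • B = g ^ i • B
        rw [smul_smul, ← pow_add, Nat.add_sub_cancel' h.le]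
        exact hij.symm
      · refine key (i - j) (by omega) (by omega) (MulAction.injective (g ^ j) ?_)
        show g ^ j • g ^ (i - j) • B = g ^ j • B
        rw [smul_smul, ← pow_add, Nat.add_sub_cancel' h.le]
        exact hij
    have h1 : q ≤ (orbit G B).ncard := by
      rw [← Finset.card_range q, ← Finset.card_image_of_injOn hinj, ← Set.ncard_coe_finset]
      refine Set.ncard_le_ncard ?_
      intro C hC
      obtain ⟨i, -, rfl⟩ := Finset.mem_image.1 (Finset.mem_coe.1 hC)
      exact mem_orbit _ _
    rw [← Set.ncard_le_one_iff_subsingleton]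
    by_contra h
    have := Nat.mul_le_mul (not_le.1 h) h1
    omega

/-- A primitive group with a prime cycle fixing `k ≥ 1` points is `(k+1)`-transitive. -/
theorem multi {G : Subgroup (Perm β)} (hG : IsPreprimitive G β) {p k : ℕ} (hp : p.Prime)
    {g : Perm β} (hgc : g.IsCycle) (hgp : g.support.card = p) (hg : g ∈ G) (hk : 0 < k)
    (hd : Fintype.card β = p + k) : IsMultiplyPretransitive G β (k + 1) := by
  classical
  set s : Set β := (g.support : Set β)ᶜ with hs
  obtain ⟨n, rfl⟩ : ∃ n, k = n + 1 := ⟨k - 1, by omega⟩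
  have hsc : s.ncard = n + 1 := by
    rw [hs, Set.ncard_compl, Set.ncard_coe_finset, hgp, Nat.card_eq_fintype_card, hd]; omega
  haveI := Equiv.Perm.isPretransitive_of_isCycle_mem hgc hg
  have hprim : IsPreprimitive (fixingSubgroup G s) (SubMulAction.ofFixingSubgroup G s) := by
    refine IsPreprimitive.of_prime_card ?_
    convert! hp
    rw [Nat.card_eq_fintype_card, Fintype.card_subtype, ← hgp]
    simp [hs, SubMulAction.mem_ofFixingSubgroup_iff, Perm.support]
  exact (hG.isMultiplyPreprimitive hsc
    (by have := hp.two_le; rw [Nat.card_eq_fintype_card]; omega) hprim).isMultiplyPretransitive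

theorem descFactorial_dvd {G : Subgroup (Perm β)} {k : ℕ} (h : IsMultiplyPretransitive G β k)
    (hk : k ≤ Fintype.card β) : (Fintype.card β).descFactorial k ∣ Nat.card G := by
  haveI : IsPretransitive G (Fin k ↪ β) := h
  obtain ⟨x⟩ : Nonempty (Fin k ↪ β) := by
    rw [Function.Embedding.nonempty_iff_card_le, Fintype.card_fin]; exact hk
  have h1 := @index_stabilizer_of_transitive G (Fin k ↪ β) _ _ x h
  rw [Nat.card_eq_fintype_card, Fintype.card_embedding_eq, Fintype.card_fin] at h1
  exact h1 ▸ Subgroup.index_dvd_card _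

/-- A group generated by two elements of odd order has no subgroup of index two. -/
theorem index_ne_two {G : Subgroup (Perm β)} {a b : Perm β}
    (hgen : Subgroup.closure {a, b} = G) {p q : ℕ} (hp : Odd p) (hq : Odd q) (hap : a ^ p = 1)
    (hbq : b ^ q = 1) (K : Subgroup G) : K.index ≠ 2 := by
  intro hK
  have key : ∀ (x : G) (r : ℕ), Odd r → x ^ r = 1 → x ∈ K := by
    intro x r hr hxr
    obtain ⟨j, rfl⟩ := hr
    rw [pow_succ, pow_mul] at hxr
    have h2 : (x ^ 2) ^ j ∈ K := K.pow_mem (Subgroup.sq_mem_of_index_two hK x) j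
    rw [eq_inv_of_mul_eq_one_right hxr]
    exact K.inv_mem h2
  have htop : K = ⊤ := by
    rw [eq_top_iff]
    intro x _
    have hle : G ≤ K.map G.subtype := by
      refine hgen.symm.le.trans ((Subgroup.closure_le _).2 ?_)
      intro y hy
      rcases hy with rfl | rfl
      · have hyG : y ∈ G := hgen ▸ Subgroup.subset_closure (Or.inl rfl)
        exact ⟨⟨y, hyG⟩, key _ p hp (Subtype.ext hap), rfl⟩
      · have hyG : y ∈ G := hgen ▸ Subgroup.subset_closure (Or.inr rfl)
        exact ⟨⟨y, hyG⟩, key _ q hq (Subtype.ext hbq), rfl⟩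
    obtain ⟨k, hk, hkx⟩ := hle x.2
    rw [← Subtype.ext hkx]
    exact hk
  rw [htop, Subgroup.index_top] at hK
  exact absurd hK (by norm_num)

/-- A proper subgroup of a simple group has index `i` with the order dividing `i!`. -/
theorem card_dvd_factorial {A : Type*} [Group A] [Finite A] [IsSimpleGroup A] (K : Subgroup A)
    (hK : K ≠ ⊤) : Nat.card A ∣ K.index.factorial := by
  have hinj : Function.Injective (toPermHom A (A ⧸ K)) := by
    rw [← MonoidHom.ker_eq_bot_iff]
    refine (IsSimpleGroup.eq_bot_or_eq_top_of_normal _ inferInstance).resolve_right fun h => hK ?_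
    rw [eq_top_iff, ← h, ← Subgroup.normalCore_eq_ker]
    exact Subgroup.normalCore_le K
  have := Subgroup.card_dvd_of_injective _ hinj
  rwa [Nat.card_perm, ← Subgroup.index_eq_card] at this

end CfsgLib.Perm.CycleGen
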