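import Mathlib.GroupTheory.Transfer
import Mathlib.GroupTheory.SpecificGroups.Cyclic
import Mathlib.NumberTheory.Basic
import Cfsg.Agent.Perm.Basic
import Cfsg.Agent.Perm.PComp
import Cfsg.Agent.Solv.Basic

/-!
Burnside transfer for cyclic Sylow subgroups.
-/

set_option autoImplicit false
set_option linter.style.haveILetI false

namespace CfsgLib.Perm

variable {G : Type*} [Group G]

/-- If two coprime powers of `x` lie in `H` then so does `x`. -/
theorem mem_of_pow_mem_pow_mem {x : G} {a b : ℕ} {H : Subgroup G} (hab : a.Coprime b)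
    (ha : x ^ a ∈ H) (hb : x ^ b ∈ H) : x ∈ H := by
  have h := Int.gcd_eq_gcd_ab (a : ℤ) (b : ℤ)
  rw [Int.gcd_natCast_natCast, hab.gcd_eq_one, Nat.cast_one] at h
  rw [← zpow_one x, h, zpow_add, zpow_mul, zpow_mul, zpow_natCast, zpow_natCast]
  exact mul_mem (zpow_mem ha _) (zpow_mem hb _)

/-- An element of order prime to `p` normalising a cyclic `p`-group centralises it as soon as it
fixes a non-trivial element or acts trivially on a proper quotient of it. -/
theorem mem_centralizer_cyclic [Finite G] {p : ℕ} [hp : Fact p.Prime] {P : Subgroup G} (hPp : IsPGroup p P)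
    (hP : IsCyclic P) {z : G} (hzN : z ∈ Subgroup.normalizer (P : Set G))
    (hz : (orderOf z).Coprime p)
    (h : (∃ u ∈ P, u ≠ 1 ∧ z * u = u * z) ∨
      ∃ Q : Subgroup G, Q < P ∧ ∀ y ∈ P, z * y * z⁻¹ * y⁻¹ ∈ Q) :
    z ∈ Subgroup.centralizer (P : Set G) := by
  obtain ⟨y, hy⟩ := Subgroup.isCyclic_iff_exists_zpowers_eq_top P |>.1 hP
  have hyP : y ∈ P := hy ▸ Subgroup.mem_zpowers y
  obtain ⟨r, hr⟩ := Subgroup.mem_zpowers_iff.1
    (hy.symm ▸ (Subgroup.mem_normalizer_iff.1 hzN y).1 hyP : z * y * z⁻¹ ∈ Subgroup.zpowers y)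
  obtain ⟨k, hk⟩ : ∃ k, orderOf y = p ^ k := by
    obtain ⟨k, hk⟩ := IsPGroup.iff_card.1 hPp
    exact ⟨k, by rw [← Nat.card_zpowers, hy, hk]⟩
  have hp' : Prime (p : ℤ) := Nat.prime_iff_prime_int.1 hp.out
  have hord : ∀ i : ℤ, y ^ i = 1 ↔ (p : ℤ) ^ k ∣ i := fun i => by
    rw [← orderOf_dvd_iff_zpow_eq_one, hk]; push_cast; rfl
  have hr1 : (p : ℤ) ∣ r - 1 := by
    by_contra hnd
    have hco : IsCoprime ((p : ℤ) ^ k) (r - 1) := (hp'.coprime_iff_not_dvd.2 hnd).pow_left
    rcases h with ⟨u, hu, hu1, hzu⟩ | ⟨Q, hQ, hQy⟩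
    · rw [← hy] at hu
      obtain ⟨i, rfl⟩ := Subgroup.mem_zpowers_iff.1 hu
      have h1 : y ^ (r * i) = y ^ i := by
        rw [zpow_mul, hr, conj_zpow, hzu, mul_inv_cancel_right]
      apply hu1
      rw [hord]
      apply hco.dvd_of_dvd_mul_left
      rw [← hord, sub_mul, one_mul, zpow_sub, h1, mul_inv_cancel]
    · apply hQ.not_ge
      rw [← hy, Subgroup.zpowers_le]
      have h1 : y ^ (r - 1) ∈ Q := by
        rw [zpow_sub, zpow_one, hr]; exact hQy y hyP
      obtain ⟨a, b, hab⟩ := hco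
      rw [← zpow_one y, ← hab, zpow_add, mul_comm b, zpow_mul _ (r - 1),
        (hord _).2 (dvd_mul_left _ _), one_mul]
      exact zpow_mem h1 _
  have hconj : ∀ n : ℕ, z ^ n * y * (z ^ n)⁻¹ = y ^ (r ^ n) := by
    intro n
    induction n with
    | zero => simp
    | succ n ih =>
      calc z ^ (n + 1) * y * (z ^ (n + 1))⁻¹ = z * (z ^ n * y * (z ^ n)⁻¹) * z⁻¹ := by
            rw [pow_succ']; group
        _ = (z * y * z⁻¹) ^ (r ^ n) := by rw [ih, conj_zpow]
        _ = _ := by rw [← hr, ← zpow_mul, ← pow_succ']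
  have hcent : z ^ (p ^ k) ∈ Subgroup.centralizer ({y} : Set G) := by
    have h1 := dvd_sub_pow_of_dvd_sub (R := ℤ) (p := p) (a := r) (b := 1) hr1 k
    rw [one_pow] at h1
    have h2 : y ^ (r ^ p ^ k - 1) = 1 := (hord _).2 (dvd_trans (pow_dvd_pow _ (Nat.le_succ k)) h1)
    rw [zpow_sub, zpow_one, mul_inv_eq_one] at h2
    rw [Subgroup.mem_centralizer_singleton_iff]
    exact mul_inv_eq_iff_eq_mul.1 ((hconj _).trans h2)
  have hzC := mem_of_pow_mem_of_coprime (hz.pow_right k) hcent
  rw [← hy, Subgroup.mem_centralizer_iff]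
  intro w hw
  obtain ⟨i, rfl⟩ := Subgroup.mem_zpowers_iff.1 hw
  exact ((show Commute y z from
    (Subgroup.mem_centralizer_singleton_iff.1 hzC).symm).zpow_left i).eq

/-- Burnside: if the elements of order prime to `p` normalising an abelian Sylow `p`-subgroup
centralise it then there is a normal `p`-complement. -/
theorem hasNormalPComplement_of_ctrl [Finite G] {p : ℕ} [hp : Fact p.Prime] (P : Sylow p G)
    (hab : IsMulCommutative (P : Subgroup G))
    (h : ∀ z ∈ Subgroup.normalizer ((P : Subgroup G) : Set G), (orderOf z).Coprime p →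
      z ∈ Subgroup.centralizer ((P : Subgroup G) : Set G)) : Cfsg.HasNormalPComplement p G := by
  set N := Subgroup.normalizer ((P : Subgroup G) : Set G) with hN
  set C := Subgroup.centralizer ((P : Subgroup G) : Set G) with hC
  haveI := hab
  have hPC : (P : Subgroup G) ≤ C := Subgroup.le_centralizer _
  haveI : (C.subgroupOf N).Normal := by
    rw [hC, hN, ← Subgroup.normalizerMonoidHom_ker]; infer_instance
  have hle : N ≤ C := by
    intro z hz
    set q := p ^ (orderOf z).factorization p with hq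
    have h1 : z ^ C.relIndex N ∈ C :=
      Subgroup.mem_subgroupOf.1 (Subgroup.pow_index_mem (C.subgroupOf N) ⟨z, hz⟩)
    have h2 : z ^ q ∈ C := by
      refine h _ (pow_mem hz _) ?_
      rw [orderOf_pow_of_dvd (pow_ne_zero _ hp.out.ne_zero) (Nat.ordProj_dvd _ _)]
      exact (Nat.coprime_ordCompl hp.out (orderOf_pos z).ne').symm
    refine mem_of_pow_mem_pow_mem ?_ h2 h1
    refine (hp.out.coprime_iff_not_dvd.2 fun hd => P.not_dvd_index ?_).pow_left _
    have h3 : C.relIndex N ∣ (P : Subgroup G).relIndex N := Subgroup.relIndex_dvd_of_le_left N hPC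
    exact hd.trans (h3.trans (Subgroup.relIndex_dvd_index_of_le Subgroup.le_normalizer))
  exact ⟨P, _, inferInstance, MonoidHom.ker_transferSylow_isComplement' P hle⟩

end CfsgLib.Perm
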