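import Mathlib.GroupTheory.SpecificGroups.Cyclic
import Cfsg.Agent.Perm.CyclicSylow
import Cfsg.Agent.Inv.Component
import Cfsg.Agent.Solv.FittingBasic
import Cfsg.Agent.Solv.CompBasic

/-!
Groups with a cyclic Sylow `p`-subgroup and trivial `p'`-core: either the Sylow subgroup is normal
and self-centralizing, or the generalized Fitting subgroup is simple of index prime to `p`.
-/

set_option autoImplicit false
set_option linter.style.haveILetI false
set_option linter.unusedSectionVars false

open scoped commutatorElement IsMulCommutative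
open CfsgLib.Inv

namespace CfsgLib.Perm.CycSyl

variable {K : Type*} [Group K] [Finite K] {p : ℕ} [hp : Fact p.Prime] (P : Sylow p K)

theorem le_centralizer_self (hP : IsCyclic (P : Subgroup K)) :
    (P : Subgroup K) ≤ Subgroup.centralizer ((P : Subgroup K) : Set K) := by
  letI := hP.commGroup
  exact fun x hx => Subgroup.mem_centralizer_iff.2 fun y hy => congrArg Subtype.val
    (mul_comm (⟨y, hy⟩ : (P : Subgroup K)) ⟨x, hx⟩)

/-- The `p'`-part of a normalising element decides whether it centralises. -/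
theorem split_part (hP : IsCyclic (P : Subgroup K)) {v : K}
    (hv : v ∈ Subgroup.normalizer ((P : Subgroup K) : Set K)) :
    ∃ e : ℕ, (orderOf (v ^ p ^ e)).Coprime p ∧
      (v ^ p ^ e ∈ Subgroup.centralizer ((P : Subgroup K) : Set K) →
        v ∈ Subgroup.centralizer ((P : Subgroup K) : Set K)) := by
  obtain ⟨e, m, hm, hem⟩ :=
    Nat.exists_eq_pow_mul_and_not_dvd (orderOf_pos v).ne' p hp.out.one_lt.ne'
  have hmc : m.Coprime p := (hp.out.coprime_iff_not_dvd.2 hm).symm
  refine ⟨e, ?_, fun h => mem_of_pow_mem_pow_mem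
    ((hp.out.coprime_iff_not_dvd.2 hm).pow_left e) h ?_⟩
  · rw [orderOf_pow' _ (pow_ne_zero _ hp.out.ne_zero), hem, Nat.gcd_eq_right (dvd_mul_right _ _),
      Nat.mul_div_cancel_left _ (pow_pos hp.out.pos _)]
    exact hmc
  · have hord : orderOf (v ^ m) = p ^ e := by
      have hm0 : m ≠ 0 := fun h0 => hm (h0 ▸ dvd_zero p)
      rw [orderOf_pow' _ hm0, hem, Nat.gcd_eq_right (dvd_mul_left _ _),
        Nat.mul_div_cancel _ (Nat.pos_of_ne_zero hm0)]
    have hpg : IsPGroup p (Subgroup.zpowers (v ^ m)) :=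
      IsPGroup.of_card (n := e) (by rw [Nat.card_zpowers, hord])
    have h1 : (P : Subgroup K) ⊔ Subgroup.zpowers (v ^ m) = P :=
      P.is_maximal' (P.isPGroup'.to_sup_of_normal_left' hpg
        (Subgroup.zpowers_le.2 (Subgroup.pow_mem _ hv m))) le_sup_left
    exact le_centralizer_self P hP (h1 ▸ le_sup_right (a := (P : Subgroup K))
      (Subgroup.mem_zpowers (v ^ m)))

theorem centralizes_of_fixed (hP : IsCyclic (P : Subgroup K)) {v u : K}
    (hv : v ∈ Subgroup.normalizer ((P : Subgroup K) : Set K)) (hu : u ∈ P) (hu1 : u ≠ 1)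
    (h : Commute v u) : v ∈ Subgroup.centralizer ((P : Subgroup K) : Set K) := by
  obtain ⟨e, he, hc⟩ := split_part P hP hv
  exact hc (mem_centralizer_cyclic P.isPGroup' hP (Subgroup.pow_mem _ hv _) he
    (Or.inl ⟨u, hu, hu1, (h.pow_left _).eq⟩))

theorem centralizes_of_quotient (hP : IsCyclic (P : Subgroup K)) {H : Type*} [Group H] (π : K →* H)
    {v : K} (hv : v ∈ Subgroup.normalizer ((P : Subgroup K) : Set K))
    (hker : ¬ (P : Subgroup K) ≤ π.ker) (h : ∀ y ∈ P, Commute (π v) (π y)) :
    v ∈ Subgroup.centralizer ((P : Subgroup K) : Set K) := by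
  obtain ⟨e, he, hc⟩ := split_part P hP hv
  have hvn := Subgroup.pow_mem _ hv (p ^ e)
  refine hc (mem_centralizer_cyclic P.isPGroup' hP hvn he (Or.inr ⟨(P : Subgroup K) ⊓ π.ker,
    lt_of_le_of_ne inf_le_left fun e' => hker (inf_eq_left.1 e'), fun y hy => ⟨?_, ?_⟩⟩))
  · exact Subgroup.mul_mem _ ((Subgroup.mem_normalizer_iff.1 hvn y).1 hy) (Subgroup.inv_mem _ hy)
  · show π (v ^ p ^ e * y * (v ^ p ^ e)⁻¹ * y⁻¹) = 1
    rw [map_mul, map_mul, map_mul, map_inv, map_inv, map_pow, ((h y hy).pow_left _).eq,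
      mul_inv_cancel_right, mul_inv_cancel]

theorem cyclic_of_pgroup (hP : IsCyclic (P : Subgroup K)) {H : Subgroup K} (hH : IsPGroup p H) :
    IsCyclic H := by
  obtain ⟨Q, hQ⟩ := hH.exists_le_sylow
  haveI : IsCyclic (Q : Subgroup K) := (Sylow.equiv Q P).isCyclic.2 hP
  exact isCyclic_of_injective (Subgroup.inclusion hQ) (Subgroup.inclusion_injective hQ)

/-- Commuting elements of order `p` generate the same subgroup. -/
theorem mem_zpowers_of_commute (hP : IsCyclic (P : Subgroup K)) {x y : K} (hx : orderOf x = p)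
    (hy : orderOf y = p) (h : Commute x y) : y ∈ Subgroup.zpowers x := by
  classical
  have hxp : IsPGroup p (Subgroup.zpowers x) :=
    IsPGroup.of_card (n := 1) (by rw [Nat.card_zpowers, hx, pow_one])
  have hyp : IsPGroup p (Subgroup.zpowers y) :=
    IsPGroup.of_card (n := 1) (by rw [Nat.card_zpowers, hy, pow_one])
  set H := Subgroup.zpowers x ⊔ Subgroup.zpowers y
  have hH : IsPGroup p H := hxp.to_sup_of_normal_left' hyp (Subgroup.zpowers_le.2 (by
    rw [Subgroup.mem_normalizer_iff]
    intro z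
    constructor
    · rintro ⟨i, rfl⟩
      exact ⟨i, by rw [(h.symm.zpow_right i).eq, mul_inv_cancel_right]⟩
    · rintro ⟨i, hi⟩
      refine ⟨i, mul_left_cancel (a := y) ?_⟩
      rw [(h.symm.zpow_right i).eq, show x ^ i = y * z * y⁻¹ from hi, inv_mul_cancel_right]))
  haveI := cyclic_of_pgroup P hP hH
  haveI := Fintype.ofFinite H
  set x' : H := ⟨x, (le_sup_left : _ ≤ H) (Subgroup.mem_zpowers x)⟩
  set y' : H := ⟨y, (le_sup_right : _ ≤ H) (Subgroup.mem_zpowers y)⟩
  have hs1 : (Finset.univ.image fun i : Fin p => x' ^ (i : ℕ)) ⊆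
      Finset.univ.filter (fun z : H => z ^ p = 1) := by
    intro z hz
    obtain ⟨i, -, rfl⟩ := Finset.mem_image.1 hz
    refine Finset.mem_filter.2 ⟨Finset.mem_univ _, Subtype.ext ?_⟩
    show (x ^ (i : ℕ)) ^ p = 1
    have h0 : x ^ p = 1 := hx ▸ pow_orderOf_eq_one x
    rw [← pow_mul, mul_comm, pow_mul, h0, one_pow]
  have hs2 : (Finset.univ.filter (fun z : H => z ^ p = 1)).card ≤ p :=
    IsCyclic.card_pow_eq_one_le hp.out.pos
  have hs3 : (Finset.univ.image fun i : Fin p => x' ^ (i : ℕ)).card = p := by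
    rw [Finset.card_image_of_injective, Finset.card_univ, Fintype.card_fin]
    intro i j hij
    have h1 : x ^ (i : ℕ) = x ^ (j : ℕ) := congrArg Subtype.val hij
    rw [pow_eq_pow_iff_modEq, hx] at h1
    exact Fin.ext (Nat.ModEq.eq_of_lt_of_lt h1 i.2 j.2)
  have h4 : y' ∈ Finset.univ.filter (fun z : H => z ^ p = 1) :=
    Finset.mem_filter.2 ⟨Finset.mem_univ _, Subtype.ext (by
      show y ^ p = 1
      exact hy ▸ pow_orderOf_eq_one y)⟩
  rw [← Finset.eq_of_subset_of_card_le hs1 (hs3.symm ▸ hs2)] at h4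
  obtain ⟨i, -, hi⟩ := Finset.mem_image.1 h4
  exact ⟨(i : ℕ), by simpa using congrArg Subtype.val hi⟩

/-- Transfer: no central element of order `p` lies in the derived subgroup. -/
theorem not_dvd_card_center {X : Type*} [Group X] [Finite X] (S : Sylow p X)
    (hS : IsCyclic (S : Subgroup X)) (hperf : commutator X = ⊤) :
    ¬ p ∣ Nat.card (Subgroup.center X) := by
  intro hd
  obtain ⟨⟨x, hx⟩, hxo⟩ := exists_prime_orderOf_dvd_card' p hd
  rw [← Subgroup.orderOf_coe] at hxo
  change orderOf x = p at hxo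
  haveI : IsMulCommutative (S : Subgroup X) := by
    letI := hS.commGroup
    exact ⟨⟨fun a b => mul_comm a b⟩⟩
  have key : ∀ (k : ℕ) (g₀ : X), g₀⁻¹ * x ^ k * g₀ ∈ (S : Subgroup X) →
      g₀⁻¹ * x ^ k * g₀ = x ^ k := fun k g₀ _ => by
    rw [mul_assoc, ← Subgroup.mem_center_iff.1 (Subgroup.pow_mem _ hx k) g₀, inv_mul_cancel_left]
  have h1 := MonoidHom.transfer_eq_pow (MonoidHom.id (S : Subgroup X)) x key
  have h2 : MonoidHom.transfer (MonoidHom.id (S : Subgroup X)) x = 1 :=
    MonoidHom.mem_ker.1 ((Abelianization.commutator_subset_ker _ : commutator X ≤ _)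
      (hperf ▸ Subgroup.mem_top x))
  rw [h2] at h1
  have h3 : x ^ (S : Subgroup X).index = 1 := (congrArg Subtype.val h1).symm
  exact S.not_dvd_index (hxo.symm.dvd.trans (orderOf_dvd_of_pow_eq_one h3))

theorem main (hp' : p ∣ Nat.card K) (hO : Cfsg.pPrimeCore p K = ⊥) (hP : IsCyclic (P : Subgroup K)) :
    ((P : Subgroup K).Normal ∧
      Subgroup.centralizer ((P : Subgroup K) : Set K) = (P : Subgroup K) ∧
      (∀ (_ : (P : Subgroup K).Normal), IsCyclic (K ⧸ (P : Subgroup K))) ∧
      (P : Subgroup K).index ∣ p - 1) ∨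
    (IsSimpleGroup (Cfsg.generalizedFittingSubgroup K) ∧
      ¬ IsMulCommutative (Cfsg.generalizedFittingSubgroup K) ∧
      ¬ p ∣ (Cfsg.generalizedFittingSubgroup K).index) := by
  classical
  have hF := CfsgLib.Solv.fittingSubgroup_eq_pCore hO
  by_cases hE : Cfsg.layer K = ⊥
  · left
    have hC := CfsgLib.Solv.centralizer_fitting_le_iff.2 hE
    rw [hF] at hC
    haveI := CfsgLib.Solv.pCore_normal K p
    have hFP : Cfsg.pCore p K ≤ (P : Subgroup K) := by
      have h := P.is_maximal' (P.isPGroup'.to_sup_of_normal_right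
        (CfsgLib.Solv.pCore_isPGroup K p)) le_sup_left
      exact h ▸ le_sup_right
    have hPC : (P : Subgroup K) ≤ Subgroup.centralizer (Cfsg.pCore p K : Set K) :=
      (le_centralizer_self P hP).trans (Subgroup.centralizer_le (SetLike.coe_subset_coe.2 hFP))
    have hPeq : (P : Subgroup K) = Cfsg.pCore p K := le_antisymm (hPC.trans hC) hFP
    have hPn : (P : Subgroup K).Normal := hPeq ▸ inferInstance
    rw [← hPeq] at hC
    have hCP := le_antisymm hC (le_centralizer_self P hP)
    obtain ⟨q, hq⟩ := exists_prime_orderOf_dvd_card' p (P.dvd_card_of_dvd_card hp')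
    set Q := Subgroup.zpowers (q : K) with hQdef
    have hqo : orderOf (q : K) = p := by rw [Subgroup.orderOf_coe]; exact hq
    have hq1 : (q : K) ≠ 1 := fun h1 => by
      rw [h1, orderOf_one] at hqo
      exact hp.out.one_lt.ne hqo
    have hQn : Q.Normal := ⟨fun z hz g => by
      obtain ⟨i, rfl⟩ := hz
      have h1 : g * (q : K) * g⁻¹ ∈ Q := by
        refine mem_zpowers_of_commute P hP hqo
          ((MulEquiv.orderOf_eq (MulAut.conj g) (q : K)).trans hqo) ?_
        exact (Subgroup.mem_centralizer_iff.1 (le_centralizer_self P hP q.2) _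
          (hPn.conj_mem _ q.2 g)).symm
      rw [show (fun i : ℤ => (q : K) ^ i) i = (q : K) ^ i from rfl, ← conj_zpow]
      exact zpow_mem h1 i⟩
    let f : K →* MulAut Q := MulAut.conjNormal
    have hker : f.ker = (P : Subgroup K) := by
      refine le_antisymm (fun g hg => ?_) fun g hg => ?_
      · rw [← hCP]
        refine centralizes_of_fixed P hP ?_ q.2 hq1 ?_
        · rw [Subgroup.normalizer_eq_top (P : Subgroup K)]
          trivial
        · have h1 := congrArg (fun φ : MulAut Q => (φ ⟨_, Subgroup.mem_zpowers _⟩ : K)) hg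
          simp only [f, MulAut.conjNormal_apply, MulAut.one_apply] at h1
          exact mul_inv_eq_iff_eq_mul.1 h1
      · refine MonoidHom.mem_ker.2 (MulEquiv.ext fun z => Subtype.ext ?_)
        show g * (z : K) * g⁻¹ = z
        have hz : (z : K) ∈ (P : Subgroup K) := Subgroup.zpowers_le.2 q.2 z.2
        rw [(Subgroup.mem_centralizer_iff.1 (le_centralizer_self P hP hg) _ hz).symm,
          mul_inv_cancel_right]
    let e := IsCyclic.mulAutMulEquiv Q
    haveI : Fact (Nat.card Q).Prime := ⟨by rw [Nat.card_zpowers, hqo]; exact hp.out⟩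
    let g' := (QuotientGroup.kerLift f)
    have hinj : Function.Injective (e.toMonoidHom.comp g') :=
      e.injective.comp (QuotientGroup.kerLift_injective f)
    refine ⟨hPn, hCP, fun _ => ?_, ?_⟩
    · have := isCyclic_of_injective (e.toMonoidHom.comp g') hinj
      exact (QuotientGroup.quotientMulEquivOfEq hker).isCyclic.1 this
    · have h1 := Subgroup.card_dvd_of_injective _ hinj
      rw [← Subgroup.index_eq_card, hker, Nat.card_units, Nat.card_zmod, Nat.card_zpowers,
        hqo] at h1
      exact h1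
  · right
    obtain ⟨L, hL⟩ : ∃ L : Subgroup K, Cfsg.IsComponent L := by
      by_contra h
      push Not at h
      exact hE (layer_eq_bot_iff.2 h)
    have hdiv : ∀ M : Subgroup K, M.IsSubnormal → M ≠ ⊥ → p ∣ Nat.card M := fun M hM hM1 => by
      by_contra hd
      exact hM1 (le_bot_iff.1 (hO ▸ CfsgLib.Fus.subnormal_le_pPrimeCore hM
        (hp.out.coprime_iff_not_dvd.2 hd).symm))
    have hperf : ∀ M : Subgroup K, Cfsg.IsComponent M → commutator M = ⊤ := fun M hM =>
      hM.2.1.commutator_eq_top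
    have hcyc : ∀ (M : Subgroup K) (S : Sylow p M), IsCyclic (S : Subgroup M) := fun M S => by
      have h1 := cyclic_of_pgroup P hP (S.isPGroup'.map M.subtype)
      exact ((S : Subgroup M).equivMapOfInjective M.subtype M.subtype_injective).isCyclic.2 h1
    have hcen : ∀ M : Subgroup K, Cfsg.IsComponent M → Subgroup.center M = ⊥ := fun M hM => by
      by_contra h1
      obtain ⟨S⟩ : Nonempty (Sylow p M) := inferInstance
      refine not_dvd_card_center S (hcyc M S) (hperf M hM) ?_
      have h2 := hdiv ((Subgroup.center M).map M.subtype)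
        (Subgroup.IsSubnormal.trans' (inferInstance : (Subgroup.center M).Normal).isSubnormal hM.1)
        (fun e => h1 ((Subgroup.map_eq_bot_iff_of_injective _ M.subtype_injective).1 e))
      rwa [Subgroup.card_map_of_injective M.subtype_injective] at h2
    have hfree : ∀ {x : K}, orderOf x = p → ∀ M : Subgroup K, Cfsg.IsComponent M →
        (∀ m ∈ M, m * x = x * m) → False := by
      intro x hx M hM hcomm
      obtain ⟨⟨y, hyM⟩, hy⟩ := exists_prime_orderOf_dvd_card' p
        (hdiv M hM.1 (component_ne_bot hM))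
      rw [← Subgroup.orderOf_coe] at hy
      obtain ⟨i, hi⟩ := mem_zpowers_of_commute P hP hy hx (hcomm y hyM)
      have hxM : x ∈ M := hi ▸ Subgroup.zpow_mem _ hyM i
      have hxc : (⟨x, hxM⟩ : M) ∈ Subgroup.center M :=
        Subgroup.mem_center_iff.2 fun m => Subtype.ext (hcomm m m.2)
      rw [hcen M hM, Subgroup.mem_bot] at hxc
      rw [show x = 1 from congrArg Subtype.val hxc, orderOf_one] at hx
      exact hp.out.one_lt.ne hx
    have huniq : ∀ M : Subgroup K, Cfsg.IsComponent M → M = L := fun M hM => by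
      by_contra hne
      obtain ⟨⟨x, hxM⟩, hx⟩ := exists_prime_orderOf_dvd_card' p
        (hdiv M hM.1 (component_ne_bot hM))
      rw [← Subgroup.orderOf_coe] at hx
      refine hfree hx L hL fun l hl => ?_
      exact ((Subgroup.mem_centralizer_iff.1 (Subgroup.commutator_eq_bot_iff_le_centralizer.1
        (components_commute hL hM (Ne.symm hne)) hl)) x hxM).symm
    have hlay : Cfsg.layer K = L :=
      le_antisymm (sSup_le fun M hM => (huniq M hM).le) (component_le_layer hL)
    haveI hLn : L.Normal := hlay ▸ layer_normal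
    have hFbot : Cfsg.fittingSubgroup K = ⊥ := by
      by_contra hne
      haveI : (Cfsg.fittingSubgroup K).Normal := CfsgLib.Solv.fittingSubgroup_normal K
      obtain ⟨⟨x, hxF⟩, hx⟩ := exists_prime_orderOf_dvd_card' p
        (hdiv _ (inferInstance : (Cfsg.fittingSubgroup K).Normal).isSubnormal hne)
      rw [← Subgroup.orderOf_coe] at hx
      refine hfree hx L hL fun l hl => ?_
      exact ((Subgroup.mem_centralizer_iff.1 (Subgroup.commutator_eq_bot_iff_le_centralizer.1
        layer_commute_fitting (hlay ▸ hl))) x hxF).symm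
    have hFs : Cfsg.generalizedFittingSubgroup K = L := by
      rw [Cfsg.generalizedFittingSubgroup, hlay, hFbot, sup_bot_eq]
    rw [hFs]
    have hsimple : IsSimpleGroup L :=
      ((QuotientGroup.quotientMulEquivOfEq (hcen L hL)).trans
        QuotientGroup.quotientBot).isSimpleGroup_congr.1 hL.2.2
    have hna : ¬ IsMulCommutative L := fun h => by
      open scoped IsMulCommutative in exact component_not_solvable hL inferInstance
    refine ⟨hsimple, hna, fun hidx => ?_⟩
    obtain ⟨S⟩ : Nonempty (Sylow p L) := inferInstance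
    obtain ⟨P₁, hP₁⟩ := (S.isPGroup'.map L.subtype).exists_le_sylow
    haveI hP₁c : IsCyclic (P₁ : Subgroup K) := (Sylow.equiv P₁ P).isCyclic.2 hP
    have hSc := hcyc L S
    have hS1 : (S : Subgroup L) ≠ ⊥ := S.ne_bot_of_dvd_card (hdiv L hL.1 (component_ne_bot hL))
    obtain ⟨y, hyN, hyC⟩ : ∃ y : L, y ∈ Subgroup.normalizer ((S : Subgroup L) : Set L) ∧
        y ∉ Subgroup.centralizer ((S : Subgroup L) : Set L) := by
      by_contra h
      push Not at h
      have hc := MonoidHom.ker_transferSylow_isComplement' S h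
      haveI := hsimple
      rcases (inferInstance : (MonoidHom.transferSylow S h).ker.Normal).eq_bot_or_eq_top with h0 | h0
      · rw [h0, Subgroup.isComplement'_bot_left] at hc
        have htop : IsCyclic L := by
          rw [hc] at hSc
          exact Subgroup.topEquiv.isCyclic.1 hSc
        exact hna (open scoped IsMulCommutative in by
          letI := htop.commGroup; exact ⟨⟨fun a b => mul_comm a b⟩⟩)
      · rw [h0, Subgroup.isComplement'_top_left] at hc
        exact hS1 hc
    obtain ⟨s, hs⟩ := Subgroup.isCyclic_iff_exists_zpowers_eq_top (S : Subgroup L) |>.1 hSc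
    set q : K := (s : K) with hqdef
    have hsS : s ∈ (S : Subgroup L) := hs ▸ Subgroup.mem_zpowers s
    have hqP : q ∈ (P₁ : Subgroup K) := hP₁ ⟨s, hsS, rfl⟩
    have hq1 : q ≠ 1 := fun h1 => hS1 (by
      rw [← hs, show s = 1 from Subtype.ext h1, Subgroup.zpowers_one_eq_bot])
    have hyq : ¬ Commute (y : K) q := fun h1 => hyC (by
      rw [← hs, Subgroup.mem_centralizer_iff]
      rintro z ⟨i, rfl⟩
      exact ((show Commute y s from Subtype.ext h1.eq).zpow_right i).eq.symm)
    obtain ⟨a, ha⟩ := Subgroup.isCyclic_iff_exists_zpowers_eq_top (P₁ : Subgroup K) |>.1 hP₁c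
    set C := Subgroup.centralizer ({q} : Set K)
    let π := QuotientGroup.mk' L
    set T := (Subgroup.centralizer ({π a} : Set (K ⧸ L))).comap π
    have hPC : (P₁ : Subgroup K) ≤ C := fun x hx => Subgroup.mem_centralizer_singleton_iff.2
      (Subgroup.mem_centralizer_iff.1 (le_centralizer_self P₁ hP₁c hx) q hqP).symm
    have hPT : (P₁ : Subgroup K) ≤ T := fun x hx => by
      show π x ∈ Subgroup.centralizer ({π a} : Set (K ⧸ L))
      rw [Subgroup.mem_centralizer_singleton_iff, ← map_mul, ← map_mul,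
        Subgroup.mem_centralizer_iff.1 (le_centralizer_self P₁ hP₁c hx) a
          (ha ▸ Subgroup.mem_zpowers a)]
    have hmodL : ∀ x : K, π ((y : K) * x * (y : K)⁻¹) = π x := fun x => by
      have h1 : π (y : K) = 1 := (QuotientGroup.eq_one_iff _).2 y.2
      rw [map_mul, map_mul, map_inv, h1, one_mul, inv_one, mul_one]
    have hyP : ((y : K) • P₁ : Sylow p K) ≤ C ⊓ T := by
      intro x hx
      rw [Sylow.coe_subgroup_smul] at hx
      obtain ⟨z, hz, rfl⟩ := hx
      refine Subgroup.mem_inf.2 ⟨Subgroup.mem_centralizer_singleton_iff.2 ?_, ?_⟩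
      · show (y : K) * z * (y : K)⁻¹ * q = q * ((y : K) * z * (y : K)⁻¹)
        have h1 : y⁻¹ * s * y ∈ (S : Subgroup L) := (Subgroup.mem_normalizer_iff''.1 hyN s).1 hsS
        have h2 : (y : K)⁻¹ * q * y ∈ (P₁ : Subgroup K) := hP₁ ⟨_, h1, rfl⟩
        have h3 := Subgroup.mem_centralizer_iff.1 (le_centralizer_self P₁ hP₁c hz) _ h2
        calc (y : K) * z * (y : K)⁻¹ * q
            = (y : K) * (z * ((y : K)⁻¹ * q * y)) * (y : K)⁻¹ := by group
          _ = (y : K) * (((y : K)⁻¹ * q * y) * z) * (y : K)⁻¹ := by rw [h3]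
          _ = _ := by group
      · show π ((y : K) * z * (y : K)⁻¹) ∈ Subgroup.centralizer ({π a} : Set (K ⧸ L))
        rw [hmodL]
        exact hPT hz
    obtain ⟨d, hd⟩ := MulAction.exists_smul_eq (↥(C ⊓ T))
      (((y : K) • P₁).subtype hyP) (P₁.subtype (le_inf hPC hPT))
    set v : K := (d : K) * y
    have hv : v ∈ Subgroup.normalizer ((P₁ : Subgroup K) : Set K) := by
      refine Sylow.smul_eq_iff_mem_normalizer.1 ?_
      have h1 : (((d : K) • ((y : K) • P₁) : Sylow p K)).subtype
          (Sylow.smul_le hyP d) = P₁.subtype (le_inf hPC hPT) := by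
        rw [← hd, Sylow.smul_subtype]
        rfl
      rw [mul_smul]
      exact Sylow.subtype_injective h1
    have hvc : ∀ x ∈ P₁, Commute (π v) (π x) := by
      intro x hx
      obtain ⟨i, rfl⟩ := Subgroup.mem_zpowers_iff.1 (ha.symm ▸ hx : x ∈ Subgroup.zpowers a)
      rw [map_zpow, show π v = π (d : K) by
        rw [map_mul, show π (y : K) = 1 from (QuotientGroup.eq_one_iff _).2 y.2, mul_one]]
      exact Commute.zpow_right (Subgroup.mem_centralizer_singleton_iff.1 d.2.2) i
    have hnc : ¬ Commute v q := fun h1 => by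
      have h2 : Commute (d : K) q := Subgroup.mem_centralizer_singleton_iff.1 d.2.1
      have h3 : (d : K)⁻¹ * v = y := inv_mul_cancel_left _ _
      exact hyq (h3 ▸ h2.inv_left.mul_left h1)
    have hle : (P₁ : Subgroup K) ≤ π.ker := by
      by_contra hle
      exact hnc (Subgroup.mem_centralizer_iff.1 (centralizes_of_quotient P₁ hP₁c π hv hle hvc)
        q hqP).symm
    rw [QuotientGroup.ker_mk'] at hle
    exact P₁.not_dvd_index (hidx.trans (Subgroup.index_dvd_of_le hle))

end CfsgLib.Perm.CycSyl
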