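import Mathlib
import Cfsg.Agent.Perm.MinClass
import Cfsg.Agent.Solv.FittingBasic

/-!
Derived length of finite `p`-groups of linear maps: `dim V < 2^k` gives trivial `k`-th derived
subgroup in characteristic different from `p` over an algebraically closed field, and
`dim V ≤ 2^k` does in characteristic `p`.
-/

set_option autoImplicit false
set_option linter.style.haveILetI false

namespace CfsgLib.Perm.DerivedLinear

open Module

universe uP uK uV

variable {K : Type uK} [Field K]

theorem derivedSeries_mono' {G : Type*} [Group G] (N : Subgroup G) (h : commutator G ≤ N) :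
    ∀ k, derivedSeries G (k + 1) ≤ (derivedSeries N k).map N.subtype
  | 0 => by
    rw [derivedSeries_one, derivedSeries_zero, ← MonoidHom.range_eq_map, Subgroup.range_subtype]
    exact h
  | k + 1 => by
    rw [derivedSeries_succ G (k + 1), derivedSeries_succ N k, Subgroup.map_commutator]
    exact Subgroup.commutator_mono (derivedSeries_mono' N h k) (derivedSeries_mono' N h k)

theorem commutator_le_coatom {G : Type*} [Group G] [Finite G] {p : ℕ} [Fact p.Prime]
    (hG : IsPGroup p G) {M : Subgroup G} (hM : IsCoatom M) : commutator G ≤ M :=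
  (CfsgLib.Solv.commutator_le_frattini hG).trans (frattini_le_coatom hM)

variable {P : Type uP} [Group P] {V : Type uV} [AddCommGroup V] [Module K V]

/-- The representation on an invariant subspace. -/
def sub (ρ : Representation K P V) (W : Submodule K V) (hW : ∀ g, ∀ w ∈ W, ρ g w ∈ W) :
    Representation K P W where
  toFun g := (ρ g).restrict (hW g)
  map_one' := LinearMap.ext fun w => Subtype.ext (by simp)
  map_mul' a b := LinearMap.ext fun w => Subtype.ext (by simp)

/-- The representation on the quotient by an invariant subspace. -/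
def quo (ρ : Representation K P V) (W : Submodule K V) (hW : ∀ g, ∀ w ∈ W, ρ g w ∈ W) :
    Representation K P (V ⧸ W) where
  toFun g := W.mapQ W (ρ g) (hW g)
  map_one' := Submodule.linearMap_qext _ (LinearMap.ext fun v => by simp)
  map_mul' a b := Submodule.linearMap_qext _ (LinearMap.ext fun v => by simp)

theorem mem_of_quo_fix (ρ : Representation K P V) {W : Submodule K V}
    (hW : ∀ g, ∀ w ∈ W, ρ g w ∈ W) {g : P} (h : g ∈ (quo ρ W hW).ker) (v : V) :
    ρ g v - v ∈ W := by
  rw [← Submodule.Quotient.eq]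
  exact LinearMap.congr_fun (MonoidHom.mem_ker.1 h) (Submodule.Quotient.mk v)

theorem fix_of_sub_fix (ρ : Representation K P V) {W : Submodule K V}
    (hW : ∀ g, ∀ w ∈ W, ρ g w ∈ W) {g : P} (h : g ∈ (sub ρ W hW).ker) {w : V} (hw : w ∈ W) :
    ρ g w = w :=
  congrArg Subtype.val (LinearMap.congr_fun (MonoidHom.mem_ker.1 h) ⟨w, hw⟩)

/-- A `p`-element stabilising a short series is trivial away from characteristic `p`. -/
theorem eq_one_of_series {p : ℕ} (hP : IsPGroup p P) (hK : (p : K) ≠ 0)
    (ρ : Representation K P V) {W : Submodule K V} (hW : ∀ g, ∀ w ∈ W, ρ g w ∈ W) {g : P}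
    (h1 : g ∈ (sub ρ W hW).ker) (h2 : g ∈ (quo ρ W hW).ker) : g ∈ ρ.ker := by
  refine MonoidHom.mem_ker.2 (LinearMap.ext fun v => ?_)
  set d := ρ g v - v with hd
  have hdW : d ∈ W := mem_of_quo_fix ρ hW h2 v
  have hpow : ∀ j : ℕ, ρ (g ^ j) v = v + (j : K) • d := by
    intro j
    induction j with
    | zero => simp
    | succ j ih =>
      rw [pow_succ', map_mul, Module.End.mul_apply, ih, map_add, map_smul,
        fix_of_sub_fix ρ hW h1 hdW, Nat.cast_succ, add_smul, one_smul, hd]
      abel
  obtain ⟨j, hj⟩ := hP g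
  have h3 := hpow (p ^ j)
  rw [hj, map_one, Module.End.one_apply] at h3
  have h4 : ((p ^ j : ℕ) : K) • d = 0 := left_eq_add.1 h3
  rw [smul_eq_zero, Nat.cast_pow] at h4
  have h5 : d = 0 := h4.resolve_left (pow_ne_zero _ hK)
  simpa [sub_eq_zero, hd] using h5

/-- An irreducible faithful non-abelian `p`-group has a maximal subgroup acting reducibly. -/
theorem exists_reducible [IsAlgClosed K] [Finite P] {p : ℕ} [hp : Fact p.Prime] (hP : IsPGroup p P)
    (hK : (p : K) ≠ 0) [FiniteDimensional K V] [Nontrivial V] (ρ : Representation K P V)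
    (hρ : Function.Injective ρ)
    (hirr : ∀ W : Submodule K V, (∀ g, ∀ w ∈ W, ρ g w ∈ W) → W = ⊥ ∨ W = ⊤)
    (hna : ¬ IsMulCommutative P) :
    ∃ M : Subgroup P, IsCoatom M ∧ ∃ U : Submodule K V, (∀ g ∈ M, ∀ w ∈ U, ρ g w ∈ U) ∧
      U ≠ ⊥ ∧ U ≠ ⊤ := by
  classical
  obtain ⟨A, hAn, hAc, hAself⟩ := CfsgLib.Perm.exists_self_centralizing_normal_abelian hP
  have hcomm : ∀ a ∈ A, ∀ b ∈ A, ∀ v, ρ a (ρ b v) = ρ b (ρ a v) := fun a ha b hb v => by
    have h : a * b = b * a := congrArg Subtype.val (mul_comm' (⟨a, ha⟩ : A) ⟨b, hb⟩)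
    rw [← Module.End.mul_apply, ← map_mul, h, map_mul, Module.End.mul_apply]
  obtain ⟨U1, ⟨hU1, hU1ne⟩, hU1min⟩ := exists_minimal_of_wellFoundedLT
    (fun U : Submodule K V => (∀ a ∈ A, ∀ w ∈ U, ρ a w ∈ U) ∧ U ≠ ⊥)
    ⟨⊤, fun _ _ _ _ => trivial, top_ne_bot⟩
  obtain ⟨v0, hv0, hv00⟩ := Submodule.exists_mem_ne_zero_of_ne_bot hU1ne
  have hscal : ∀ a : A, ∃ c : K, ∀ v ∈ U1, ρ a v = c • v := by
    intro a
    have : Nontrivial U1 := Submodule.nontrivial_iff_ne_bot.2 hU1ne
    obtain ⟨c, hc⟩ := Module.End.exists_eigenvalue ((ρ a).restrict (hU1 a a.2))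
    obtain ⟨u, hu, hu0⟩ := hc.exists_hasEigenvector
    rw [Module.End.mem_eigenspace_iff] at hu
    have hu' : ρ a u = c • (u : V) := congrArg Subtype.val hu
    let E := U1 ⊓ Module.End.eigenspace (ρ a) c
    have hE : ∀ b ∈ A, ∀ w ∈ E, ρ b w ∈ E := by
      intro b hb w hw
      refine ⟨hU1 b hb w hw.1, Module.End.mem_eigenspace_iff.2 ?_⟩
      rw [hcomm a a.2 b hb, Module.End.mem_eigenspace_iff.1 hw.2, map_smul]
    have hE0 : E ≠ ⊥ := (Submodule.ne_bot_iff E).2
      ⟨u, ⟨u.2, Module.End.mem_eigenspace_iff.2 hu'⟩, by simpa using hu0⟩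
    refine ⟨c, fun v hv => ?_⟩
    exact Module.End.mem_eigenspace_iff.1 (hU1min ⟨hE, hE0⟩ inf_le_left hv).2
  choose lam hlam using hscal
  have huniq : ∀ a : A, ∀ c : K, ρ a v0 = c • v0 → c = lam a := fun a c h =>
    smul_left_injective K hv00 (h.symm.trans (hlam a v0 hv0))
  let conj : P → A → A := fun g a => ⟨g⁻¹ * a * g, by simpa using hAn.conj_mem a a.2 g⁻¹⟩
  let W : Submodule K V := ⨅ a : A, Module.End.eigenspace (ρ a) (lam a)
  have hWmem : ∀ v, v ∈ W ↔ ∀ a : A, ρ a v = lam a • v := fun v => by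
    simp [W, Submodule.mem_iInf]
  have hv0W : v0 ∈ W := (hWmem v0).2 fun a => hlam a v0 hv0
  let H : Subgroup P :=
    { carrier := {g | ∀ a : A, lam (conj g a) = lam a}
      one_mem' := fun a => congrArg lam (Subtype.ext (by simp [conj]))
      mul_mem' := fun {g h} hg hh a => by
        refine Eq.trans ?_ (hg a)
        rw [← hh (conj g a)]
        exact congrArg lam (Subtype.ext (by simp [conj, mul_assoc]))
      inv_mem' := fun {g} hg a => by
        rw [← hg (conj g⁻¹ a)]
        exact congrArg lam (Subtype.ext (by simp [conj, mul_assoc])) }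
  have hweight : ∀ (g : P), ∀ v ∈ W, ∀ a : A, ρ a (ρ g v) = lam (conj g a) • ρ g v := by
    intro g v hv a
    rw [← map_smul, ← (hWmem v).1 hv (conj g a), ← Module.End.mul_apply, ← map_mul,
      ← Module.End.mul_apply, ← map_mul]
    congr 2
    simp [conj, ← mul_assoc]
  have hWtop : W ≠ ⊤ := by
    intro h
    have hcen : ∀ a : A, ∀ x : P, x * a = a * x := fun a x => hρ (LinearMap.ext fun v => by
      have e1 := (hWmem v).1 (h ▸ trivial) a
      have e2 := (hWmem (ρ x v)).1 (h ▸ trivial) a
      simp [map_mul, Module.End.mul_apply, e1, e2])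
    refine hna ⟨⟨fun x y => ?_⟩⟩
    have hyA : y ∈ A := hAself ▸ Subgroup.mem_centralizer_iff.2 fun a ha => (hcen ⟨a, ha⟩ y).symm
    exact hcen ⟨y, hyA⟩ x
  have hWbot : W ≠ ⊥ := (Submodule.ne_bot_iff W).2 ⟨v0, hv0W, hv00⟩
  have hH : H ≠ ⊤ := by
    intro h
    rcases hirr W (fun g w hw => (hWmem _).2 fun a => by
      rw [hweight g w hw a, (show g ∈ H by rw [h]; trivial) a]) with h1 | h1
    · exact hWbot h1
    · exact hWtop h1
  obtain ⟨M, hM, hHM⟩ := (eq_top_or_exists_le_coatom H).resolve_left hH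
  let U : Submodule K V := ⨆ m : M, W.map (ρ (m : P))
  refine ⟨M, hM, U, ?_, ?_, ?_⟩
  · intro g hg
    have hle : U.map (ρ g) ≤ U := by
      rw [Submodule.map_iSup]
      refine iSup_le fun m => ?_
      rw [← Submodule.map_comp, show (ρ g).comp (ρ (m : P)) = ρ ((⟨g, hg⟩ * m : M) : P) from
        (map_mul ρ g (m : P)).symm]
      exact le_iSup (fun m : M => W.map (ρ (m : P))) _
    exact fun w hw => hle ⟨w, hw, rfl⟩
  · intro h
    have h1 : W.map (ρ ((1 : M) : P)) ≤ ⊥ := h ▸ le_iSup (fun m : M => W.map (ρ (m : P))) 1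
    exact hv00 ((Submodule.mem_bot K).1 (h1 ⟨v0, hv0W, by simp⟩))
  · intro h
    obtain ⟨g0, hg0⟩ : ∃ g : P, g ∉ M := by
      by_contra hcon
      push Not at hcon
      exact hM.1 (eq_top_iff.2 fun g _ => hcon g)
    have hAz : ∀ g : P, ∀ a b : A, lam (conj g (a * b)) = lam (conj g a) * lam (conj g b) := by
      intro g a b
      symm
      apply huniq
      have e : (conj g (a * b) : P) = conj g a * conj g b := by simp [conj, mul_assoc]
      rw [e, map_mul, Module.End.mul_apply, hlam (conj g b) v0 hv0, map_smul,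
        hlam (conj g a) v0 hv0, smul_smul, mul_comm]
    have h1' : ∀ g : P, lam (conj g 1) = 1 := fun g => by
      symm; apply huniq; simp [conj]
    let ψ : P → (A →* K) := fun g =>
      { toFun := fun a => lam (conj g a), map_one' := h1' g, map_mul' := hAz g }
    let χ : P → (A →* K) := fun m =>
      { toFun := fun a => ψ g0 a⁻¹ * ψ m a
        map_one' := by simp
        map_mul' := fun a b => by rw [mul_inv_rev, map_mul, map_mul]; ring }
    haveI := Fintype.ofFinite A
    let e : V →ₗ[K] V := ∑ a : A, ψ g0 a⁻¹ • ρ a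
    have he : ∀ (g : P), ∀ v ∈ W, e (ρ g v) = (∑ a : A, χ g a) • ρ g v := by
      intro g v hv
      simp only [e, LinearMap.coe_sum, Finset.sum_apply, LinearMap.smul_apply, Finset.sum_smul]
      exact Finset.sum_congr rfl fun a _ => by rw [hweight g v hv a, smul_smul]; rfl
    have hker : U ≤ LinearMap.ker e := by
      refine iSup_le fun m => ?_
      rintro _ ⟨v, hv, rfl⟩
      rw [LinearMap.mem_ker, he _ v hv, sum_hom_units_eq_zero, zero_smul]
      intro hχ
      have heq : ∀ a, ψ g0 a = ψ m a := fun a => by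
        have h2 : ψ g0 a⁻¹ * ψ m a = 1 := DFunLike.congr_fun hχ a
        have h3 : ψ g0 a * ψ g0 a⁻¹ = 1 := by rw [← map_mul, mul_inv_cancel, map_one]
        calc ψ g0 a = ψ g0 a * (ψ g0 a⁻¹ * ψ m a) := by rw [h2, mul_one]
          _ = ψ m a := by rw [← mul_assoc, h3, one_mul]
      have hmem : (m : P)⁻¹ * g0 ∈ H := fun a => by
        have h5 : lam (conj g0 (conj (m : P)⁻¹ a)) = lam (conj (m : P) (conj (m : P)⁻¹ a)) :=
          heq (conj (m : P)⁻¹ a)
        have h6 : conj g0 (conj (m : P)⁻¹ a) = conj ((m : P)⁻¹ * g0) a :=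
          Subtype.ext (by simp [conj, mul_assoc])
        have h7 : conj (m : P) (conj (m : P)⁻¹ a) = a := Subtype.ext (by simp [conj, mul_assoc])
        rwa [h6, h7] at h5
      exact hg0 (by simpa using M.mul_mem m.2 (hHM hmem))
    have h2 : ρ g0 v0 ∈ LinearMap.ker e := hker (by rw [h]; trivial)
    rw [LinearMap.mem_ker, he _ v0 hv0W] at h2
    have hone : ∀ a, χ g0 a = 1 := fun a => by
      show ψ g0 a⁻¹ * ψ g0 a = 1
      rw [← map_mul, inv_mul_cancel, map_one]
    obtain ⟨n, hn⟩ := IsPGroup.iff_card.1 (hP.to_subgroup A)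
    simp only [hone, Finset.sum_const, Finset.card_univ, nsmul_eq_mul, mul_one] at h2
    rw [← Nat.card_eq_fintype_card, hn, Nat.cast_pow, smul_eq_zero] at h2
    refine hv00 (?_ : v0 = 0)
    have h3 := congrArg (ρ g0⁻¹) (h2.resolve_left (pow_ne_zero _ hK))
    rwa [← Module.End.mul_apply, ← map_mul, inv_mul_cancel, map_one, map_zero,
      Module.End.one_apply] at h3

theorem derived_trivial_aux [IsAlgClosed K] {p : ℕ} [hp : Fact p.Prime] (hK : (p : K) ≠ 0) :
    ∀ (k d : ℕ) (P : Type uP) [Group P] [Finite P] (V : Type uV) [AddCommGroup V] [Module K V]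
      [FiniteDimensional K V], IsPGroup p P → ∀ ρ : Representation K P V, finrank K V = d →
      d < 2 ^ k → derivedSeries P k ≤ ρ.ker := by
  intro k
  induction k with
  | zero =>
    intro d P _ _ V _ _ _ _ ρ hd hlt g _
    have : Subsingleton V := (finrank_zero_iff (R := K)).1 (by simp only [pow_zero] at hlt; omega)
    exact MonoidHom.mem_ker.2 (LinearMap.ext fun v => Subsingleton.elim _ _)
  | succ k ihk =>
    intro d
    induction d using Nat.strong_induction_on with
    | _ d ihd =>
      intro P _ _ V _ _ _ hP ρ hd hlt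
      by_cases hred : ∃ W : Submodule K V, (∀ g, ∀ w ∈ W, ρ g w ∈ W) ∧ W ≠ ⊥ ∧ W ≠ ⊤
      · obtain ⟨W, hW, hW0, hW1⟩ := hred
        intro g hg
        have hd1 : finrank K W < d := hd ▸ Submodule.finrank_lt hW1
        have hd2 : finrank K (V ⧸ W) < d := by
          have h1 := Submodule.finrank_quotient_add_finrank W
          have h2 : finrank K W ≠ 0 := fun h => hW0 (Submodule.finrank_eq_zero.1 h)
          omega
        exact eq_one_of_series hP hK ρ hW (ihd _ hd1 P W hP (sub ρ W hW) rfl (hd1.trans hlt) hg)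
          (ihd _ hd2 P (V ⧸ W) hP (quo ρ W hW) rfl (hd2.trans hlt) hg)
      push Not at hred
      let Q := P ⧸ ρ.ker
      let π : P →* Q := QuotientGroup.mk' ρ.ker
      let σ : Representation K Q V := QuotientGroup.lift ρ.ker ρ le_rfl
      by_cases hna : IsMulCommutative Q
      · intro g hg
        have h1 : derivedSeries P (k + 1) ≤ commutator P := by
          rw [← derivedSeries_one]; exact derivedSeries_antitone P (Nat.le_add_left 1 k)
        letI : CommGroup Q :=
          { (inferInstance : Group Q) with mul_comm := fun a b => hna.is_comm.comm a b }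
        have h2 := Abelianization.commutator_subset_ker π (h1 hg)
        exact (QuotientGroup.eq_one_iff g).1 (MonoidHom.mem_ker.1 h2)
      rcases subsingleton_or_nontrivial V with hV | hV
      · exact fun g _ => MonoidHom.mem_ker.2 (LinearMap.ext fun v => Subsingleton.elim _ _)
      have hσinj : Function.Injective σ := by
        intro a b
        refine QuotientGroup.induction_on a fun x => QuotientGroup.induction_on b fun y => ?_
        intro h
        have h' : ρ x = ρ y := h
        refine QuotientGroup.eq.2 (MonoidHom.mem_ker.2 ?_)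
        rw [map_mul, ← h', ← map_mul, inv_mul_cancel, map_one]
      obtain ⟨M0, hM0, U, hU, hU0, hU1⟩ := exists_reducible (hP.to_quotient ρ.ker) hK σ hσinj
        (fun W hW => or_iff_not_imp_left.2
          (hred W (fun g w hw => hW (π g) w hw))) hna
      obtain ⟨hM0n, -⟩ := CfsgLib.Solv.isCoatom_normal_and_card_quotient (hP.to_quotient ρ.ker) hM0
      let M := M0.comap π
      have hMn : M.Normal := hM0n.comap π
      have hcM : commutator P ≤ M := by
        rw [← Subgroup.map_le_iff_le_comap, commutator_def, Subgroup.map_commutator]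
        exact (Subgroup.commutator_mono le_top le_top).trans
          (commutator_le_coatom (hP.to_quotient ρ.ker) hM0)
      let Inv : Submodule K V → Prop := fun U => ∀ g ∈ M, ∀ w ∈ U, ρ g w ∈ U
      obtain ⟨U0, hU0le, ⟨hU0i, hU0ne⟩, hmin⟩ := exists_minimal_le_of_wellFoundedLT
        (fun U : Submodule K V => Inv U ∧ U ≠ ⊥) U ⟨fun g hg w hw => hU (π g) hg w hw, hU0⟩
      have htr : ∀ g, Inv (U0.map (ρ g)) := by
        rintro g m hm _ ⟨u, hu, rfl⟩
        refine ⟨ρ (g⁻¹ * m * g) u, hU0i _ (by simpa using hMn.conj_mem m hm g⁻¹) u hu, ?_⟩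
        rw [← Module.End.mul_apply, ← map_mul, ← Module.End.mul_apply, ← map_mul]
        simp [← mul_assoc]
      have hinjρ : ∀ g : P, Function.Injective (ρ g) := fun g x y h => by
        have := congrArg (ρ g⁻¹) h
        rwa [← Module.End.mul_apply, ← map_mul, ← Module.End.mul_apply, ← map_mul, inv_mul_cancel,
          map_one, Module.End.one_apply, Module.End.one_apply] at this
      have hfr : ∀ g, finrank K (U0.map (ρ g)) = finrank K U0 := fun g =>
        (LinearEquiv.finrank_eq (Submodule.equivMapOfInjective _ (hinjρ g) U0)).symm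
      obtain ⟨g1, hg1⟩ : ∃ g, U0.map (ρ g) ≠ U0 := by
        by_contra hcon
        push Not at hcon
        exact hU1 (eq_top_iff.2 ((hred U0 (fun g w hw => (hcon g).le (Submodule.mem_map_of_mem hw)) hU0ne).ge.trans
          hU0le))
      have hdisj : U0 ⊓ U0.map (ρ g1) = ⊥ := by
        by_contra hne
        have h1 : U0 ≤ U0.map (ρ g1) :=
          (hmin ⟨fun g hg w hw => Submodule.mem_inf.2 ⟨hU0i g hg w hw.1, htr g1 g hg w hw.2⟩, hne⟩ inf_le_left).trans
            inf_le_right
        exact hg1 (Submodule.eq_of_le_of_finrank_eq h1 (hfr g1).symm).symm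
      have hsmall : finrank K U0 < 2 ^ k := by
        have h1 := Submodule.finrank_sup_add_finrank_inf_eq U0 (U0.map (ρ g1))
        rw [hdisj, finrank_bot, hfr, add_zero] at h1
        have h2 : finrank K ↥(U0 ⊔ U0.map (ρ g1)) ≤ finrank K V := Submodule.finrank_le _
        rw [pow_succ] at hlt
        omega
      intro g hg
      obtain ⟨m, hm, rfl⟩ := derivedSeries_mono' M hcM k hg
      let T : Submodule K V := ⨆ g : P, U0.map (ρ g)
      have hT : T = ⊤ := by
        refine hred T (fun g => ?_) (ne_bot_of_le_ne_bot hU0ne (le_iSup_of_le 1 ?_))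
        · have hle : T.map (ρ g) ≤ T := by
            rw [Submodule.map_iSup]
            refine iSup_le fun h => ?_
            rw [← Submodule.map_comp, show (ρ g).comp (ρ h) = ρ (g * h) from (map_mul ρ g h).symm]
            exact le_iSup (fun g => U0.map (ρ g)) _
          exact fun w hw => hle ⟨w, hw, rfl⟩
        · exact fun w hw => ⟨w, hw, by simp⟩
      refine MonoidHom.mem_ker.2 (LinearMap.ext fun v => ?_)
      have hle : T ≤ LinearMap.eqLocus (ρ (m : P)) LinearMap.id := by
        refine iSup_le fun x w hw => ?_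
        have hk : m ∈ (sub (ρ.comp M.subtype) (U0.map (ρ x)) (fun g => htr x g g.2)).ker :=
          ihk _ M _ (hP.to_subgroup M) _ (hfr x) hsmall hm
        exact fix_of_sub_fix (ρ.comp M.subtype) (fun g => htr x g g.2) hk hw
      exact hle (hT ▸ Submodule.mem_top)

/-- Derived length bound over an algebraically closed field of characteristic not `p`. -/
theorem derived_trivial [IsAlgClosed K] [Finite P] [FiniteDimensional K V] {p : ℕ} [Fact p.Prime]
    (hK : (p : K) ≠ 0) (hP : IsPGroup p P) (ρ : Representation K P V) {k : ℕ}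
    (h : finrank K V < 2 ^ k) : derivedSeries P k ≤ ρ.ker :=
  derived_trivial_aux hK k _ P V hP ρ rfl h

/-- In characteristic `p` a `p`-group fixes a non-zero vector. -/
theorem exists_fixed [Finite P] {p : ℕ} [hp : Fact p.Prime] (hP : IsPGroup p P) [CharP K p]
    [Nontrivial V] (ρ : Representation K P V) : ∃ v : V, v ≠ 0 ∧ ∀ g, ρ g v = v := by
  obtain ⟨v, hv⟩ := exists_ne (0 : V)
  have hpv : ∀ w : V, p • w = 0 := fun w => by
    rw [← Nat.cast_smul_eq_nsmul K, CharP.cast_eq_zero, zero_smul]
  haveI : Module (ZMod p) V := AddCommGroup.zmodModule hpv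
  let S : Submodule (ZMod p) V := Submodule.span (ZMod p) (Set.range fun g : P => ρ g v)
  haveI : Module.Finite (ZMod p) S := Module.Finite.span_of_finite (ZMod p) (Set.finite_range fun g : P => ρ g v)
  haveI : Finite S := Module.finite_of_finite (ZMod p)
  have hinv : ∀ g : P, ∀ w ∈ S, ρ g w ∈ S := by
    intro g w hw
    induction hw using Submodule.span_induction with
    | mem x hx =>
      obtain ⟨h, rfl⟩ := hx
      exact Submodule.subset_span ⟨g * h, by simp⟩
    | zero => simp
    | add x y _ _ hx hy => rw [map_add]; exact S.add_mem hx hy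
    | smul c x _ hx =>
      rw [← ZMod.natCast_zmod_val c, Nat.cast_smul_eq_nsmul, map_nsmul,
        ← Nat.cast_smul_eq_nsmul (ZMod p)]
      exact S.smul_mem _ hx
  letI : MulAction P S :=
    { smul := fun g w => ⟨ρ g w, hinv g w w.2⟩
      one_smul := fun w => Subtype.ext (by show ρ 1 (w : V) = w; simp)
      mul_smul := fun a b w => Subtype.ext (by show ρ (a * b) (w : V) = _; rw [map_mul]; rfl) }
  have hvS : v ∈ S := Submodule.subset_span ⟨1, by simp⟩
  haveI : Nontrivial S := ⟨⟨⟨v, hvS⟩, 0, fun h => hv (congrArg Subtype.val h)⟩⟩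
  have hdvd : p ∣ Nat.card S := by
    rw [Module.natCard_eq_pow_finrank (K := ZMod p), Nat.card_zmod]
    exact dvd_pow_self p finrank_pos.ne'
  obtain ⟨b, hb, hb0⟩ := hP.exists_fixed_point_of_prime_dvd_card_of_fixed_point S hdvd
    (a := (0 : S)) (fun g => Subtype.ext (map_zero (ρ g)))
  exact ⟨b, fun h => hb0 (Subtype.ext h).symm, fun g => congrArg Subtype.val (hb g)⟩

/-- In characteristic `p` there are invariant subspaces of every dimension. -/
theorem exists_invariant [Finite P] {p : ℕ} [hp : Fact p.Prime] (hP : IsPGroup p P) [CharP K p]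
    [FiniteDimensional K V] (ρ : Representation K P V) :
    ∀ d, d ≤ finrank K V → ∃ W : Submodule K V, (∀ g, ∀ w ∈ W, ρ g w ∈ W) ∧ finrank K W = d
  | 0, _ => ⟨⊥, fun g w hw => by simp [(Submodule.mem_bot K).1 hw], finrank_bot K V⟩
  | d + 1, hd => by
    obtain ⟨W, hW, hWd⟩ := exists_invariant hP ρ d (by omega)
    have hq : 0 < finrank K (V ⧸ W) := by
      have := Submodule.finrank_quotient_add_finrank W; omega
    haveI : Nontrivial (V ⧸ W) := Module.nontrivial_of_finrank_pos hq
    obtain ⟨v, hv0, hv⟩ := exists_fixed hP (quo ρ W hW)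
    obtain ⟨x, rfl⟩ := Submodule.Quotient.mk_surjective W v
    have hxW : x ∉ W := fun h => hv0 ((Submodule.Quotient.mk_eq_zero W).2 h)
    refine ⟨W ⊔ K ∙ x, ?_, ?_⟩
    · intro g w hw
      obtain ⟨a, ha, b, hb, rfl⟩ := Submodule.mem_sup.1 hw
      obtain ⟨c, rfl⟩ := Submodule.mem_span_singleton.1 hb
      rw [map_add, map_smul]
      refine Submodule.add_mem _ (Submodule.mem_sup_left (hW g a ha))
        (Submodule.smul_mem _ c ?_)
      have h1 : ρ g x - x ∈ W := (Submodule.Quotient.eq W).1 (hv g)
      simpa using Submodule.add_mem _ (Submodule.mem_sup_left (T := K ∙ x) h1)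
        (Submodule.mem_sup_right (Submodule.mem_span_singleton_self x))
    · have h1 := Submodule.finrank_sup_add_finrank_inf_eq W (K ∙ x)
      have hx0 : x ≠ 0 := fun h => hxW (h ▸ W.zero_mem)
      rw [finrank_span_singleton hx0, (Submodule.disjoint_span_singleton' hx0).2 hxW |>.eq_bot,
        finrank_bot, hWd] at h1
      omega

/-- Derived length bound in characteristic `p`. -/
theorem derived_trivial_char [Finite P] {p : ℕ} [hp : Fact p.Prime] (hP : IsPGroup p P) [CharP K p]
    (k : ℕ) : ∀ (V : Type uV) [AddCommGroup V] [Module K V] [FiniteDimensional K V]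
      (ρ : Representation K P V), finrank K V ≤ 2 ^ k → derivedSeries P k ≤ ρ.ker := by
  induction k with
  | zero =>
    intro V _ _ _ ρ hd g _
    rcases subsingleton_or_nontrivial V with hV | hV
    · exact MonoidHom.mem_ker.2 (LinearMap.ext fun v => Subsingleton.elim _ _)
    obtain ⟨v, hv0, hv⟩ := exists_fixed hP ρ
    have h1 : (K ∙ v) = ⊤ := Submodule.eq_top_of_finrank_eq (by
      have := finrank_pos (R := K) (M := V)
      rw [finrank_span_singleton hv0]; simp only [pow_zero] at hd; omega)
    refine MonoidHom.mem_ker.2 (LinearMap.ext fun w => ?_)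
    obtain ⟨c, rfl⟩ := Submodule.mem_span_singleton.1 (h1 ▸ Submodule.mem_top (x := w))
    simp [hv g]
  | succ k ih =>
    intro V _ _ _ ρ hd
    obtain ⟨W, hW, hWd⟩ := exists_invariant hP ρ (finrank K V / 2) (Nat.div_le_self _ _)
    have hq := Submodule.finrank_quotient_add_finrank W
    rw [pow_succ] at hd
    have i1 := ih W (sub ρ W hW) (by omega)
    have i2 := ih (V ⧸ W) (quo ρ W hW) (by omega)
    rw [derivedSeries_succ, Subgroup.commutator_le]
    intro a ha b hb
    refine MonoidHom.mem_ker.2 ?_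
    have hab : ρ (a * b) = ρ (b * a) := by
      refine LinearMap.ext fun v => ?_
      have e : ∀ a b, a ∈ derivedSeries P k → b ∈ derivedSeries P k →
          ρ (a * b) v = (ρ a v - v) + (ρ b v - v) + v := by
        intro a b ha hb
        have h1 := fix_of_sub_fix ρ hW (i1 ha) (mem_of_quo_fix ρ hW (i2 hb) v)
        rw [map_sub] at h1
        rw [map_mul, Module.End.mul_apply]
        calc ρ a (ρ b v) = (ρ a (ρ b v) - ρ a v) + ρ a v := by abel
          _ = _ := by rw [h1]; abel
      rw [e a b ha hb, e b a hb ha]; abel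
    rw [commutatorElement_def, show a * b * a⁻¹ * b⁻¹ = a * b * (b * a)⁻¹ by group, map_mul, hab,
      ← map_mul, mul_inv_cancel, map_one]

end CfsgLib.Perm.DerivedLinear
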