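import Cfsg.Agent.Perm.ExtraTwoTypes
import Cfsg.Agent.Spor.Fischer.ExtraPairing

/-!
The automorphism group of the extraspecial group of order 32 of minus type.
-/

set_option autoImplicit false
set_option linter.style.haveILetI false
set_option linter.deprecated false
set_option linter.unusedSectionVars false

open scoped commutatorElement

namespace CfsgLib.Perm.ExtraTwo

open CfsgLib.Solv

/-- Two groups of order eight generated by matching pairs. -/
theorem base_map {A B : Type*} [Group A] [Group B] [Finite A] [Finite B]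
    (hZA : Nat.card (Subgroup.center A) = 2) (h2A : commutator A ≤ Subgroup.center A)
    (hZB : Nat.card (Subgroup.center B) = 2) (h2B : commutator B ≤ Subgroup.center B)
    {x y : A} {x' y' : B} (hcA : ⁅x, y⁆ ≠ 1) (hcB : ⁅x', y'⁆ ≠ 1)
    (h8A : Nat.card A = 8) (h8B : Nat.card B = 8) (e : ℕ)
    (hx : x ^ 2 = ⁅x, y⁆ ^ e) (hy : y ^ 2 = ⁅x, y⁆ ^ e) (hx' : x' ^ 2 = ⁅x', y'⁆ ^ e)
    (hy' : y' ^ 2 = ⁅x', y'⁆ ^ e) :
    ∃ φ : A ≃* B, φ x = x' ∧ φ y = y' := by
  haveI : Fact (Nat.Prime 2) := ⟨Nat.prime_two⟩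
  have hDA : Nat.card (Subgroup.centralizer ({x, y} : Set A)) = 2 := by
    have := sympl_card_eq hZA h2A hcA; omega
  have hDB : Nat.card (Subgroup.centralizer ({x', y'} : Set B)) = 2 := by
    have := sympl_card_eq hZB h2B hcB; omega
  have hma : ⁅x, y⁆ ∈ Subgroup.centralizer ({x, y} : Set A) := Subgroup.center_le_centralizer _
    (h2A (Subgroup.commutator_mem_commutator (Subgroup.mem_top _) (Subgroup.mem_top _)))
  have hmb : ⁅x', y'⁆ ∈ Subgroup.centralizer ({x', y'} : Set B) := Subgroup.center_le_centralizer _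
    (h2B (Subgroup.commutator_mem_commutator (Subgroup.mem_top _) (Subgroup.mem_top _)))
  have hga : ∀ g, g ∈ Subgroup.zpowers (⟨_, hma⟩ : Subgroup.centralizer ({x, y} : Set A)) :=
    fun g => by
      rw [zpowers_eq_top_of_prime_card (p := 2) hDA fun h => hcA (congrArg Subtype.val h)]; trivial
  have hgb : ∀ g, g ∈ Subgroup.zpowers (⟨_, hmb⟩ : Subgroup.centralizer ({x', y'} : Set B)) :=
    fun g => by
      rw [zpowers_eq_top_of_prime_card (p := 2) hDB fun h => hcB (congrArg Subtype.val h)]; trivial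
  haveI : IsCyclic (Subgroup.centralizer ({x, y} : Set A)) := ⟨⟨_, hga⟩⟩
  let ψ := mulEquivOfOrderOfEq hga hgb (by
    rw [orderOf_eq_prime (p := 2) (by rw [← hDA]; exact pow_card_eq_one') fun h => hcA (congrArg Subtype.val h),
      orderOf_eq_prime (p := 2) (by rw [← hDB]; exact pow_card_eq_one') fun h => hcB (congrArg Subtype.val h)])
  obtain ⟨φ, h1, h2, -⟩ := iso_extend hZA h2A hZB h2B hcA hcB ψ
    (fun _ => congrArg Subtype.val (mulEquivOfOrderOfEq_apply_gen hga hgb _)) hx hx' hy hy'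
  exact ⟨φ, h1, h2⟩

variable {P : Type*} [Group P] [Finite P]

/-- Five involutions, pairwise not commuting. -/
def Five (z : P) (w : Fin 5 → P) : Prop :=
  (∀ i, w i ^ 2 = 1) ∧ ∀ i j, i ≠ j → ⁅w i, w j⁆ = z

variable (hex : Cfsg.IsExtraspecial 2 P)

include hex

theorem comm_mul_left (a b c : P) : ⁅a * b, c⁆ = ⁅a, c⁆ * ⁅b, c⁆ := by
  have h : ∀ g, Commute g ⁅b, c⁆ := fun g =>
    Subgroup.mem_center_iff.1 (CfsgLib.Fischer.Extra.comm_mem hex b c) g
  calc ⁅a * b, c⁆ = a * ⁅b, c⁆ * (c * a⁻¹ * c⁻¹) := by simp only [commutatorElement_def]; group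
    _ = ⁅b, c⁆ * (a * c * a⁻¹ * c⁻¹) := by rw [(h a).eq]; group
    _ = ⁅b, c⁆ * ⁅a, c⁆ := by rw [commutatorElement_def a c]
    _ = ⁅a, c⁆ * ⁅b, c⁆ := (h _).eq.symm

theorem exists_map (h32 : Nat.card P = 32) {z : P} (hz : z ∈ Subgroup.center P) (hz1 : z ≠ 1)
    {u w : Fin 5 → P} (hu : Five z u) (hw : Five z w) :
    ∃ φ : MulAut P, φ (u 0) = w 0 ∧ φ (u 1) = w 1 ∧ φ (u 2 * u 3) = w 2 * w 3 ∧
      φ (u 2 * u 4) = w 2 * w 4 := by
  haveI : Fact (Nat.Prime 2) := ⟨Nat.prime_two⟩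
  have hZ := hex.2
  have h2 : commutator P ≤ Subgroup.center P := CfsgLib.Fischer.Extra.comm_le hex
  have hzz : z * z = 1 := center_elt_sq hZ hz
  have facts : ∀ v : Fin 5 → P, Five z v →
      ⁅v 0, v 1⁆ = z ∧ v 2 * v 3 ∈ Subgroup.centralizer ({v 0, v 1} : Set P) ∧
      v 2 * v 4 ∈ Subgroup.centralizer ({v 0, v 1} : Set P) ∧
      ⁅v 2 * v 3, v 2 * v 4⁆ = z ∧ (v 2 * v 3) ^ 2 = z ∧ (v 2 * v 4) ^ 2 = z := by
    rintro v ⟨hs, hc⟩
    have hcomm : ∀ i j k, i ≠ j → i ≠ k → v i * (v j * v k) = v j * v k * v i := fun i j k hj hk => by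
      rw [← commutatorElement_eq_one_iff_mul_comm, CfsgLib.Fischer.Extra.comm_mul_right hex,
        hc i j hj, hc i k hk, hzz]
    have hsq : ∀ i j, i ≠ j → (v i * v j) ^ 2 = z := fun i j hij => by
      rw [← hc i j hij, commutatorElement_def, inv_eq_of_mul_eq_one_left (by rw [← sq]; exact hs i),
        inv_eq_of_mul_eq_one_left (by rw [← sq]; exact hs j), sq, mul_assoc, mul_assoc, mul_assoc]
    refine ⟨hc 0 1 (by decide), ?_, ?_, ?_, hsq 2 3 (by decide), hsq 2 4 (by decide)⟩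
    · rw [Subgroup.mem_centralizer_iff]
      rintro g (rfl | rfl)
      · exact hcomm 0 2 3 (by decide) (by decide)
      · exact hcomm 1 2 3 (by decide) (by decide)
    · rw [Subgroup.mem_centralizer_iff]
      rintro g (rfl | rfl)
      · exact hcomm 0 2 4 (by decide) (by decide)
      · exact hcomm 1 2 4 (by decide) (by decide)
    · rw [comm_mul_left hex, CfsgLib.Fischer.Extra.comm_mul_right hex,
        CfsgLib.Fischer.Extra.comm_mul_right hex, commutatorElement_self, hc 2 4 (by decide),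
        hc 3 2 (by decide), hc 3 4 (by decide), hzz, one_mul, mul_one]
  obtain ⟨hu01, hu3, hu4, huc, hu3s, hu4s⟩ := facts u hu
  obtain ⟨hw01, hw3, hw4, hwc, hw3s, hw4s⟩ := facts w hw
  have hcu : ⁅u 0, u 1⁆ ≠ 1 := hu01 ▸ hz1
  have hcw : ⁅w 0, w 1⁆ ≠ 1 := hw01 ▸ hz1
  obtain ⟨hZu, h2u⟩ := sympl_centralizer hZ h2 hcu
  obtain ⟨hZw, h2w⟩ := sympl_centralizer hZ h2 hcw
  have h8u : Nat.card (Subgroup.centralizer ({u 0, u 1} : Set P)) = 8 := by
    have := sympl_card_eq hZ h2 hcu; omega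
  have h8w : Nat.card (Subgroup.centralizer ({w 0, w 1} : Set P)) = 8 := by
    have := sympl_card_eq hZ h2 hcw; omega
  have sub : ∀ {S : Subgroup P} {a b : P} (ha : a ∈ S) (hb : b ∈ S),
      ((⁅(⟨a, ha⟩ : S), ⟨b, hb⟩⁆ : S) : P) = ⁅a, b⁆ := fun _ _ => rfl
  obtain ⟨ψ, hψ3, hψ4⟩ := base_map hZu h2u hZw h2w
    (x := ⟨_, hu3⟩) (y := ⟨_, hu4⟩) (x' := ⟨_, hw3⟩) (y' := ⟨_, hw4⟩)
    (fun h => hz1 (huc ▸ (sub hu3 hu4).symm.trans (congrArg Subtype.val h)))
    (fun h => hz1 (hwc ▸ (sub hw3 hw4).symm.trans (congrArg Subtype.val h))) h8u h8w 1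
    (Subtype.ext (by rw [pow_one, sub hu3 hu4, huc]; exact hu3s))
    (Subtype.ext (by rw [pow_one, sub hu3 hu4, huc]; exact hu4s))
    (Subtype.ext (by rw [pow_one, sub hw3 hw4, hwc]; exact hw3s))
    (Subtype.ext (by rw [pow_one, sub hw3 hw4, hwc]; exact hw4s))
  obtain ⟨φ, h0, h1, hd⟩ := iso_extend hZ h2 hZ h2 hcu hcw ψ
    (fun h => by
      have e : (⟨⁅u 0, u 1⁆, h⟩ : Subgroup.centralizer ({u 0, u 1} : Set P)) =
          ⁅(⟨_, hu3⟩ : Subgroup.centralizer ({u 0, u 1} : Set P)), ⟨_, hu4⟩⁆ :=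
        Subtype.ext (hu01.trans ((sub hu3 hu4).trans huc).symm)
      rw [e, map_commutatorElement, hψ3, hψ4, sub hw3 hw4, hwc, hw01])
    (a := 0) (b := 0) (by rw [pow_zero]; exact hu.1 0) (by rw [pow_zero]; exact hw.1 0)
    (by rw [pow_zero]; exact hu.1 1) (by rw [pow_zero]; exact hw.1 1)
  refine ⟨φ, h0, h1, ?_, ?_⟩
  · rw [hd ⟨_, hu3⟩, hψ3]
  · rw [hd ⟨_, hu4⟩, hψ4]

theorem minus_aut (h32 : Nat.card P = 32)
    (hminus : ∀ A : Subgroup P, Cfsg.IsElementaryAbelian 2 A → Nat.card A ≤ 4)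
    [(MulAut.conj : P →* MulAut P).range.Normal] :
    Nat.card (MulAut.conj : P →* MulAut P).range = 16 ∧ Nat.card (MulAut P) = 1920 ∧
      Nonempty ((MulAut P ⧸ (MulAut.conj : P →* MulAut P).range) ≃* Equiv.Perm (Fin 5)) := by
  classical
  haveI : Fact (Nat.Prime 2) := ⟨Nat.prime_two⟩
  have hZ := hex.2
  have h2 : commutator P ≤ Subgroup.center P := CfsgLib.Fischer.Extra.comm_le hex
  obtain ⟨z, hz, hz1⟩ := exists_gen_center hZ
  have hzz : z * z = 1 := center_elt_sq hZ hz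
  obtain ⟨e, x, y, he, hc, hx, hy⟩ := sympl_two_pick (n := 32) (by norm_num) P z h32 hZ h2 hz hz1
  obtain rfl : e = 0 := he.resolve_right fun h => by omega
  rw [pow_zero] at hx hy
  have hc1 : ⁅x, y⁆ ≠ 1 := hc ▸ hz1
  obtain ⟨hZD, h2D⟩ := sympl_centralizer hZ h2 hc1
  set D := Subgroup.centralizer ({x, y} : Set P) with hDdef
  have h8 : Nat.card D = 8 := by
    have := sympl_card_eq hZ h2 hc1
    rw [← hDdef] at this
    omega
  have hzD : z ∈ D := Subgroup.center_le_centralizer _ hz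
  have hzD1 : (⟨z, hzD⟩ : D) ≠ 1 := fun e => hz1 (congrArg Subtype.val e)
  obtain ⟨e', ⟨a, ha⟩, ⟨b, hb⟩, he', hc', hxa, hyb⟩ := sympl_two_pick (n := 8) (by norm_num) D
    ⟨z, hzD⟩ h8 hZD h2D (Subgroup.mem_center_iff.2 fun g => Subtype.ext
      (Subgroup.mem_center_iff.1 hz g)) hzD1
  have hab : ⁅a, b⁆ = z := congrArg Subtype.val hc'
  have hxa' : ∀ g ∈ D, Commute x g ∧ Commute y g := fun g hg =>
    ⟨Subgroup.mem_centralizer_iff.1 hg x (Or.inl rfl), Subgroup.mem_centralizer_iff.1 hg y (Or.inr rfl)⟩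
  obtain rfl : e' = 1 := by
    rcases he' with rfl | ⟨rfl, -⟩
    · exfalso
      have ha2 : a ^ 2 = 1 := by simpa using congrArg Subtype.val hxa
      let A := Subgroup.closure ({x, a, z} : Set P)
      have hgen : ∀ g ∈ ({x, a, z} : Set P), ∀ h ∈ ({x, a, z} : Set P), g * h = h * g := by
        have hzc : ∀ g, g * z = z * g := Subgroup.mem_center_iff.1 hz
        rintro g (rfl | rfl | rfl) h (rfl | rfl | rfl)
        exacts [rfl, (hxa' _ ha).1.eq, hzc _, (hxa' _ ha).1.eq.symm, rfl, hzc _, (hzc _).symm,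
          (hzc _).symm, rfl]
      haveI : IsMulCommutative A := Subgroup.isMulCommutative_closure hgen
      have hA : Cfsg.IsElementaryAbelian 2 A := ⟨inferInstance, fun g hg => by
        induction hg using Subgroup.closure_induction with
        | mem g hg =>
          rcases hg with rfl | rfl | rfl
          · exact hx
          · exact ha2
          · rw [sq]; exact hzz
        | one => simp
        | mul g h hg' hh' hg2 hh2 =>
          rw [(show Commute g h from congrArg Subtype.val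
            ((inferInstance : IsMulCommutative A).1.1 ⟨g, hg'⟩ ⟨h, hh'⟩)).mul_pow, hg2, hh2, one_mul]
        | inv g _ hg2 => rw [inv_pow, hg2, inv_one]⟩
      let f : Fin 2 × Fin 2 × Fin 2 → A := fun t => ⟨x ^ (t.1 : ℕ) * (a ^ (t.2.1 : ℕ) * z ^ (t.2.2 : ℕ)),
        A.mul_mem (A.pow_mem (Subgroup.subset_closure (by simp)) _)
          (A.mul_mem (A.pow_mem (Subgroup.subset_closure (by simp)) _)
            (A.pow_mem (Subgroup.subset_closure (by simp)) _))⟩
      have hf : Function.Injective f := by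
        rintro ⟨i, j, k⟩ ⟨i', j', k'⟩ h
        have h' : x ^ (i : ℕ) * y ^ 0 * (a ^ (j : ℕ) * z ^ (k : ℕ)) =
            x ^ (i' : ℕ) * y ^ 0 * (a ^ (j' : ℕ) * z ^ (k' : ℕ)) := by
          rw [pow_zero, mul_one, mul_one]; exact congrArg Subtype.val h
        obtain ⟨hi, -, hjk⟩ := sympl_decomp_unique hZ h2 hc1 i.2 two_pos i'.2 two_pos
          (D.mul_mem (D.pow_mem ha _) (D.pow_mem hzD _)) (D.mul_mem (D.pow_mem ha _) (D.pow_mem hzD _)) h'
        have hab1 : ⁅(⟨a, ha⟩ : D), (⟨b, hb⟩ : D)⁆ ≠ 1 := hc' ▸ hzD1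
        have hzmem : (⟨z, hzD⟩ : D) ∈ Subgroup.centralizer ({⟨a, ha⟩, ⟨b, hb⟩} : Set D) :=
          Subgroup.center_le_centralizer _ (Subgroup.mem_center_iff.2 fun g => Subtype.ext
            (Subgroup.mem_center_iff.1 hz g))
        obtain ⟨hj, -, hk⟩ := sympl_decomp_unique hZD h2D hab1 j.2 two_pos j'.2 two_pos
          (Subgroup.pow_mem _ hzmem (k : ℕ)) (Subgroup.pow_mem _ hzmem (k' : ℕ))
          (Subtype.ext (by simpa using hjk))
        have hk' : z ^ (k : ℕ) = z ^ (k' : ℕ) := congrArg Subtype.val hk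
        have hkk : k = k' := by
          fin_cases k <;> fin_cases k' <;> simp at hk' <;> first
            | rfl
            | exact absurd hk' hz1
            | exact absurd hk'.symm hz1
        simp [Fin.ext hi, Fin.ext hj, hkk]
      have h8' := Nat.card_le_card_of_injective f hf
      simp only [Nat.card_prod, Nat.card_fin] at h8'
      have := hminus A hA
      omega
    · rfl
  have ha2 : a ^ 2 = z := by simpa using congrArg Subtype.val hxa
  have hb2 : b ^ 2 = z := by simpa using congrArg Subtype.val hyb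
  -- commutation table
  have hzinv : z⁻¹ = z := inv_eq_of_mul_eq_one_left hzz
  have c1 : ⁅x, a⁆ = 1 := commutatorElement_eq_one_iff_mul_comm.2 (hxa' a ha).1.eq
  have c2 : ⁅x, b⁆ = 1 := commutatorElement_eq_one_iff_mul_comm.2 (hxa' b hb).1.eq
  have c3 : ⁅y, a⁆ = 1 := commutatorElement_eq_one_iff_mul_comm.2 (hxa' a ha).2.eq
  have c4 : ⁅y, b⁆ = 1 := commutatorElement_eq_one_iff_mul_comm.2 (hxa' b hb).2.eq
  have c1' : ⁅a, x⁆ = 1 := by rw [← commutatorElement_inv, c1, inv_one]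
  have c2' : ⁅b, x⁆ = 1 := by rw [← commutatorElement_inv, c2, inv_one]
  have c3' : ⁅a, y⁆ = 1 := by rw [← commutatorElement_inv, c3, inv_one]
  have c4' : ⁅b, y⁆ = 1 := by rw [← commutatorElement_inv, c4, inv_one]
  have hc0 : ⁅y, x⁆ = z := by rw [← commutatorElement_inv, hc, hzinv]
  have hba : ⁅b, a⁆ = z := by rw [← commutatorElement_inv, hab, hzinv]
  have hsqmul : ∀ g h : P, (g * h) ^ 2 = g ^ 2 * ⁅h, g⁆ * h ^ 2 ∧ True := fun g h => ⟨by
    have hcen : Commute g ⁅h, g⁆ := Subgroup.mem_center_iff.1 (CfsgLib.Fischer.Extra.comm_mem hex h g) g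
    calc (g * h) ^ 2 = g * (⁅h, g⁆ * g * h) * h := by rw [sq, commutatorElement_def]; group
      _ = g * ⁅h, g⁆ * g * h * h := by group
      _ = _ := by rw [mul_assoc g ⁅h, g⁆ g, ← hcen.eq, sq, sq]; group, trivial⟩
  have hxy2 : (x * y) ^ 2 = z := by rw [(hsqmul x y).1, hx, hy, hc0, one_mul, mul_one]
  have hab2 : (a * b) ^ 2 = z := by rw [(hsqmul a b).1, ha2, hb2, hba, hzz, one_mul]
  have hmix : ∀ {g}, g ∈ D → ∀ i j : ℕ, (x ^ i * y ^ j * g) ^ 2 = (x ^ i * y ^ j) ^ 2 * g ^ 2 :=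
    fun hg i j => (((hxa' _ hg).1.pow_left i).mul_left ((hxa' _ hg).2.pow_left j)).mul_pow 2
  have hmix1 : ∀ {g}, g ∈ D → g ^ 2 = z → (x * y * g) ^ 2 = 1 := fun hg h => by
    have h' := hmix hg 1 1
    rw [pow_one, pow_one] at h'
    rw [h', hxy2, h, hzz]
  let u : Fin 5 → P := ![x, y, x * y * a, x * y * b, x * y * (a * b)]
  have hu : Five z u := by
    refine ⟨fun i => ?_, fun i j hij => ?_⟩
    · fin_cases i
      · exact hx
      · exact hy
      · exact hmix1 ha ha2
      · exact hmix1 hb hb2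
      · exact hmix1 (D.mul_mem ha hb) hab2
    · fin_cases i <;> fin_cases j <;> simp only [u] <;>
        simp [comm_mul_left hex, CfsgLib.Fischer.Extra.comm_mul_right hex, hc, hc0, hab, hba,
          c1, c2, c3, c4, c1', c2', c3', c4', hzz, mul_assoc] at hij ⊢
  set Z := Subgroup.center P
  let π := QuotientGroup.mk' Z
  have hπ1 : ∀ g, π g = 1 ↔ g ∈ Z := fun g => QuotientGroup.eq_one_iff g
  have hQcomm : ∀ p q : P ⧸ Z, p * q = q * p := fun p q => by
    obtain ⟨g, rfl⟩ := QuotientGroup.mk'_surjective Z p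
    obtain ⟨h, rfl⟩ := QuotientGroup.mk'_surjective Z q
    rw [← commutatorElement_eq_one_iff_mul_comm, ← map_commutatorElement]
    exact (hπ1 _).2 (CfsgLib.Fischer.Extra.comm_mem hex g h)
  have hQsq : ∀ p : P ⧸ Z, p * p = 1 := fun p => by
    obtain ⟨g, rfl⟩ := QuotientGroup.mk'_surjective Z p
    rw [← sq, ← map_pow]
    exact (hπ1 _).2 (sympl_pow_mem hZ h2 g)
  letI : CommGroup (P ⧸ Z) := { (inferInstance : Group (P ⧸ Z)) with mul_comm := hQcomm }
  have hQ2 : ∀ p : P ⧸ Z, p ^ 2 = 1 := fun p => by rw [sq, hQsq]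
  have huinj : Function.Injective (fun i => π (u i)) := by
    intro i j h
    by_contra hij
    refine hz1 ((hu.2 i j hij).symm.trans (commutatorElement_eq_one_iff_mul_comm.2 ?_))
    have h1 : (u i)⁻¹ * u j ∈ Z := QuotientGroup.eq.1 h
    have h3 := Subgroup.mem_center_iff.1 h1 (u i)
    have h4 : u i * ((u i)⁻¹ * u j) = u j := mul_inv_cancel_left _ _
    calc u i * u j = u i * ((u i)⁻¹ * u j * u i) := by rw [← h3, h4]
      _ = u j * u i := by group
  have huprod : ∏ i, π (u i) = 1 := by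
    rw [Fin.prod_univ_five]
    show π x * π y * π (x * y * a) * π (x * y * b) * π (x * y * (a * b)) = 1
    simp only [map_mul]
    calc π x * π y * (π x * π y * π a) * (π x * π y * π b) * (π x * π y * (π a * π b))
        = (π x) ^ 2 * (π x) ^ 2 * ((π y) ^ 2 * (π y) ^ 2) * ((π a) ^ 2 * (π b) ^ 2) := by
          simp only [sq, mul_assoc, mul_left_comm, mul_comm]
      _ = 1 := by simp [hQ2]
  have hclass : ∀ g : P, g ∉ Z → g ^ 2 = 1 → ∃ i, π g = π (u i) := by
    intro g hg hg2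
    obtain ⟨i, hi, j, hj, d, hd, rfl⟩ := sympl_decomp hZ h2 hc1 g
    have hab1 : ⁅(⟨a, ha⟩ : D), (⟨b, hb⟩ : D)⁆ ≠ 1 := hc' ▸ hzD1
    obtain ⟨k, hk, l, hl, d0, hd0, hde⟩ := sympl_decomp hZD h2D hab1 ⟨d, hd⟩
    have hd0c : (d0 : P) = 1 ∨ (d0 : P) = z := by
      have h2' : Nat.card (Subgroup.centralizer ({⟨a, ha⟩, ⟨b, hb⟩} : Set D)) = 2 := by
        have := sympl_card_eq hZD h2D hab1; omega
      have hm : (⟨z, hzD⟩ : D) ∈ Subgroup.centralizer ({⟨a, ha⟩, ⟨b, hb⟩} : Set D) :=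
        Subgroup.center_le_centralizer _ (Subgroup.mem_center_iff.2 fun g => Subtype.ext
          (Subgroup.mem_center_iff.1 hz g))
      by_cases h0 : d0 = 1
      · exact Or.inl (by rw [h0]; rfl)
      · have h5 := ((Nat.card_eq_two_iff' (1 : Subgroup.centralizer
          ({⟨a, ha⟩, ⟨b, hb⟩} : Set D))).1 h2').unique (y₁ := ⟨d0, hd0⟩) (y₂ := ⟨_, hm⟩)
          (fun e => h0 (congrArg Subtype.val e)) (fun e => hzD1 (congrArg Subtype.val e))
        exact Or.inr (congrArg Subtype.val (congrArg Subtype.val h5))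
    have hd0Z : (d0 : P) ∈ Z := by
      rcases hd0c with h | h <;> rw [h]
      · exact Z.one_mem
      · exact hz
    have hd0sq : (d0 : P) ^ 2 = 1 := by
      rcases hd0c with h | h <;> rw [h]
      · simp
      · rw [sq, hzz]
    have hde' : d = a ^ k * b ^ l * d0 := congrArg Subtype.val hde
    have hd2 : d ^ 2 = (a ^ k * b ^ l) ^ 2 := by
      rw [hde', (show Commute (a ^ k * b ^ l) (d0 : P) from
        Subgroup.mem_center_iff.1 hd0Z _).mul_pow, hd0sq, mul_one]
    rw [hmix hd, hd2] at hg2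
    have hπd : π d = π a ^ k * π b ^ l := by
      rw [hde', map_mul, map_mul, map_pow, map_pow, (hπ1 _).2 hd0Z, mul_one]
    simp only [map_mul, map_pow, hπd]
    interval_cases i <;> interval_cases j <;> interval_cases k <;> interval_cases l <;>
      simp [hx, hy, ha2, hb2, hxy2, hab2, hz1, hzz] at hg2 <;>
      first
        | (refine ⟨0, ?_⟩; simp [u]; done)
        | (refine ⟨1, ?_⟩; simp [u]; done)
        | (refine ⟨2, ?_⟩; simp [u]; done)
        | (refine ⟨3, ?_⟩; simp [u]; done)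
        | (refine ⟨4, ?_⟩; simp [u]; done)
        | (exfalso; exact hg (by rw [hde']; simpa using hd0Z))
  have huZ : ∀ i, u i ∉ Z := fun i h => by
    obtain ⟨j, hj⟩ : ∃ j : Fin 5, j ≠ i := exists_ne i
    exact hz1 ((hu.2 j i hj).symm.trans
      (commutatorElement_eq_one_iff_mul_comm.2 (Subgroup.mem_center_iff.1 h (u j))))
  -- the action on the five classes
  have hperm : ∀ φ : MulAut P, ∀ i, ∃ j, π (φ (u i)) = π (u j) := fun φ i =>
    hclass _ (fun h => huZ i (by
      rw [Subgroup.mem_center_iff] at h ⊢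
      exact fun g => φ.injective (by rw [map_mul, map_mul]; exact h (φ g))))
      (by rw [← map_pow, hu.1 i, map_one])
  choose f hf using hperm
  have hfun : ∀ φ : MulAut P, ∀ g h : P, π g = π h → π (φ g) = π (φ h) := fun φ g h e => by
    have h1 : g⁻¹ * h ∈ Z := QuotientGroup.eq.1 e
    refine QuotientGroup.eq.2 ?_
    rw [← map_inv, ← map_mul, Subgroup.mem_center_iff]
    intro k
    obtain ⟨k', rfl⟩ := φ.surjective k
    rw [← map_mul, ← map_mul, Subgroup.mem_center_iff.1 h1 k']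
  have hf1 : ∀ i, f 1 i = i := fun i => huinj (hf 1 i).symm
  have hfmul : ∀ φ ψ i, f (φ * ψ) i = f φ (f ψ i) := fun φ ψ i => huinj (by
    show π (u (f (φ * ψ) i)) = π (u (f φ (f ψ i)))
    rw [← hf, ← hf]
    exact hfun φ _ _ (hf ψ i))
  let ρ : MulAut P →* Equiv.Perm (Fin 5) :=
    MonoidHom.mk' (fun φ => ⟨f φ, f φ⁻¹, fun i => by rw [← hfmul, inv_mul_cancel, hf1],
      fun i => by rw [← hfmul, mul_inv_cancel, hf1]⟩)
      fun φ ψ => Equiv.ext fun i => hfmul φ ψ i
  -- recovering the classes from four images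
  have hrec : ∀ q : Fin 5 → P ⧸ Z, ∏ i, q i = 1 →
      q 2 = q 0 * q 1 * (q 2 * q 3) * (q 2 * q 4) ∧ q 3 = q 2 * (q 2 * q 3) ∧ q 4 = q 2 * (q 2 * q 4) := by
    intro q hq
    rw [Fin.prod_univ_five] at hq
    refine ⟨?_, by rw [← mul_assoc, hQsq, one_mul], by rw [← mul_assoc, hQsq, one_mul]⟩
    calc q 2 = q 2 * (q 0 * q 1 * q 2 * q 3 * q 4) := by rw [hq, mul_one]
      _ = q 0 * q 1 * (q 2 * q 3) * (q 2 * q 4) := by
        simp only [mul_assoc, mul_left_comm, mul_comm]
  have hsurj : Function.Surjective ρ := by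
    intro σ
    obtain ⟨φ, h0, h1, h23, h24⟩ := exists_map hex h32 hz hz1 hu (w := fun i => u (σ i))
      ⟨fun i => hu.1 _, fun i j hij => hu.2 _ _ (σ.injective.ne hij)⟩
    refine ⟨φ, Equiv.ext fun i => huinj ?_⟩
    show π (u (f φ i)) = π (u (σ i))
    rw [← hf]
    have hp1 : ∏ i, π (φ (u i)) = 1 := by
      let φQ : P →* P ⧸ Z := π.comp φ.toMonoidHom
      have e : ∀ i, π (φ (u i)) = φQ (u i) := fun _ => rfl
      rw [Fin.prod_univ_five] at huprod ⊢
      rw [← map_mul, ← map_mul, ← map_mul, ← map_mul] at huprod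
      rw [← map_mul, ← map_mul, ← map_mul, ← map_mul, ← map_mul, ← map_mul, ← map_mul, ← map_mul,
        hfun φ _ 1 (by rw [huprod, map_one]), map_one, map_one]
    have hp2 : ∏ i, π (u (σ i)) = 1 := (Equiv.prod_comp σ fun i => π (u i)).trans huprod
    obtain ⟨a2, a3, a4⟩ := hrec _ hp1
    obtain ⟨b2, b3, b4⟩ := hrec _ hp2
    have e2 : π (φ (u 2)) = π (u (σ 2)) := by
      rw [a2, b2, ← map_mul π (φ (u 2)), ← map_mul φ, ← map_mul π (φ (u 2)) (φ (u 4)), ← map_mul φ,
        h0, h1, h23, h24, map_mul, map_mul]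
    fin_cases i
    · exact congrArg π h0
    · exact congrArg π h1
    · exact e2
    · show π (φ (u 3)) = π (u (σ 3))
      rw [a3, b3, e2, ← e2, ← map_mul π (φ (u 2)), ← map_mul φ, h23, e2, map_mul]
    · show π (φ (u 4)) = π (u (σ 4))
      rw [a4, b4, e2, ← e2, ← map_mul π (φ (u 2)) (φ (u 4)), ← map_mul φ, h24, e2, map_mul]
  have hker : ρ.ker = (MulAut.conj : P →* MulAut P).range := by
    refine le_antisymm (fun φ hφ => ?_) ?_
    · have hfix : ∀ i, π (φ (u i)) = π (u i) := fun i => by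
        rw [hf, show f φ i = i from congrArg (fun s : Equiv.Perm (Fin 5) => s i) hφ]
      have hall : ∀ g : P, π (φ g) = π g := by
        let K : Subgroup P := (π.comp φ.toMonoidHom).eqLocus π
        have hK : ∀ g, g ∈ K ↔ π (φ g) = π g := fun g => Iff.rfl
        have hxK : x ∈ K := hfix 0
        have hyK : y ∈ K := hfix 1
        have haK : a ∈ K := by
          have h := K.mul_mem (K.inv_mem (K.mul_mem hxK hyK)) ((hK _).2 (hfix 2))
          rwa [show u 2 = x * y * a from rfl, inv_mul_cancel_left] at h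
        have hbK : b ∈ K := by
          have h := K.mul_mem (K.inv_mem (K.mul_mem hxK hyK)) ((hK _).2 (hfix 3))
          rwa [show u 3 = x * y * b from rfl, inv_mul_cancel_left] at h
        have hZK : Z ≤ K := fun g hg => (hK g).2 (by
          rw [hfun φ g 1 (by rw [(hπ1 g).2 hg, map_one]), map_one, (hπ1 g).2 hg, map_one])
        intro g
        refine (hK g).1 ?_
        obtain ⟨i, -, j, -, d, hd, rfl⟩ := sympl_decomp hZ h2 hc1 g
        refine K.mul_mem (K.mul_mem (K.pow_mem hxK i) (K.pow_mem hyK j)) ?_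
        have hab1 : ⁅(⟨a, ha⟩ : D), (⟨b, hb⟩ : D)⁆ ≠ 1 := hc' ▸ hzD1
        obtain ⟨k, -, l, -, d0, hd0, hde⟩ := sympl_decomp hZD h2D hab1 ⟨d, hd⟩
        rw [show d = a ^ k * b ^ l * d0 from congrArg Subtype.val hde]
        refine K.mul_mem (K.mul_mem (K.pow_mem haK k) (K.pow_mem hbK l)) (hZK ?_)
        rw [Subgroup.mem_center_iff]
        intro g'
        obtain ⟨i', -, j', -, d', hd', rfl⟩ := sympl_decomp hZ h2 hc1 g'
        obtain ⟨k', -, l', -, d0', hd0', hde'⟩ := sympl_decomp hZD h2D hab1 ⟨d', hd'⟩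
        have hc0' : ∀ t : D, Commute (t : P) (d0 : P) → True := fun _ _ => trivial
        have e1 : Commute x (d0 : P) := (hxa' _ d0.2).1
        have e2 : Commute y (d0 : P) := (hxa' _ d0.2).2
        have e3 : Commute a (d0 : P) :=
          congrArg Subtype.val (Subgroup.mem_centralizer_iff.1 hd0 ⟨a, ha⟩ (Or.inl rfl))
        have e4 : Commute b (d0 : P) :=
          congrArg Subtype.val (Subgroup.mem_centralizer_iff.1 hd0 ⟨b, hb⟩ (Or.inr rfl))
        have e5 : Commute (d0' : P) (d0 : P) := by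
          have h2' : Nat.card (Subgroup.centralizer ({⟨a, ha⟩, ⟨b, hb⟩} : Set D)) = 2 := by
            have := sympl_card_eq hZD h2D hab1; omega
          haveI : IsCyclic (Subgroup.centralizer ({⟨a, ha⟩, ⟨b, hb⟩} : Set D)) :=
            isCyclic_of_prime_card (p := 2) h2'
          letI := IsCyclic.commGroup (α := Subgroup.centralizer ({⟨a, ha⟩, ⟨b, hb⟩} : Set D))
          exact congrArg (fun t : Subgroup.centralizer ({⟨a, ha⟩, ⟨b, hb⟩} : Set D) => ((t : D) : P))
            (mul_comm ⟨d0', hd0'⟩ ⟨d0, hd0⟩)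
        have e6 : d' = a ^ k' * b ^ l' * d0' := congrArg Subtype.val hde'
        rw [e6]
        exact (((e1.pow_left i').mul_left (e2.pow_left j')).mul_left
          (((e3.pow_left k').mul_left (e4.pow_left l')).mul_left e5)).eq
      obtain ⟨g, hg⟩ := CfsgLib.Fischer.Extra.inner_of_central hex φ fun g => by
        rw [← hπ1, map_mul, map_inv, hall g, mul_inv_cancel]
      exact ⟨g, MulEquiv.ext fun h => (hg h).symm⟩
    · rintro _ ⟨g, rfl⟩
      refine Equiv.ext fun i => huinj ?_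
      show π (u (f (MulAut.conj g) i)) = π (u i)
      rw [← hf]
      show π (g * u i * g⁻¹) = π (u i)
      rw [map_mul, map_mul, map_inv, hQcomm (π g), mul_inv_cancel_right]
  have h16 : Nat.card (MulAut.conj : P →* MulAut P).range = 16 := by
    have hk : (MulAut.conj : P →* MulAut P).ker = Z := by
      ext g
      rw [MonoidHom.mem_ker, Subgroup.mem_center_iff]
      constructor
      · intro h k
        exact (mul_inv_eq_iff_eq_mul.1 (show g * k * g⁻¹ = k from MulEquiv.congr_fun h k)).symm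
      · intro h
        exact MulEquiv.ext fun k => show g * k * g⁻¹ = k by rw [← h k, mul_inv_cancel_right]
    have h1 := Subgroup.card_eq_card_quotient_mul_card_subgroup (MulAut.conj : P →* MulAut P).ker
    rw [h32, Nat.card_congr (QuotientGroup.quotientKerEquivRange (MulAut.conj : P →* MulAut P)).toEquiv,
      hk, hZ] at h1
    omega
  refine ⟨h16, ?_, ⟨(QuotientGroup.quotientMulEquivOfEq hker.symm).trans
    (QuotientGroup.quotientKerEquivOfSurjective ρ hsurj)⟩⟩
  rw [Subgroup.card_eq_card_quotient_mul_card_subgroup ρ.ker,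
    Nat.card_congr (QuotientGroup.quotientKerEquivOfSurjective ρ hsurj).toEquiv, hker, h16,
    Nat.card_perm, Nat.card_fin]
  decide

end CfsgLib.Perm.ExtraTwo
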