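import Cfsg.Agent.Perm.ExtraTwoTypes
import Cfsg.Agent.Inv.ExtraTwo

/-!
The rank of an extraspecial 2-group and its type.
-/

set_option autoImplicit false
set_option linter.style.haveILetI false
set_option linter.deprecated false

open scoped commutatorElement

namespace CfsgLib.Perm.ExtraTwo

open CfsgLib.Solv

/-- An abelian subgroup of an extraspecial group of order `2^(2m+1)` has order at most `2^(m+1)`. -/
theorem card_abelian_le {E : Type*} [Group E] [Finite E] (hE : Cfsg.IsExtraspecial 2 E) {m : ℕ}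
    (hcard : Nat.card E = 2 ^ (2 * m + 1)) (A : Subgroup E) (hA : IsMulCommutative A) :
    Nat.card A ≤ 2 ^ (m + 1) := by
  set C := Subgroup.centralizer (A : Set E)
  have hAC : A ≤ C := fun a ha => Subgroup.mem_centralizer_iff.2 fun b hb =>
    congrArg Subtype.val (hA.is_comm.comm (⟨b, hb⟩ : A) ⟨a, ha⟩)
  have hZC : Subgroup.center E ≤ C := Subgroup.center_le_centralizer _
  haveI : C.Normal := ⟨fun c hc g => by
    rw [show g * c * g⁻¹ = ⁅g, c⁆ * c by rw [commutatorElement_def]; group]
    exact C.mul_mem (hZC (CfsgLib.Fischer.Extra.comm_mem hE g c)) hc⟩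
  letI : CommGroup (E ⧸ C) :=
    { (inferInstance : Group (E ⧸ C)) with
      mul_comm := fun p q => by
        obtain ⟨x, rfl⟩ := QuotientGroup.mk_surjective p
        obtain ⟨y, rfl⟩ := QuotientGroup.mk_surjective q
        rw [← QuotientGroup.mk_mul, ← QuotientGroup.mk_mul, QuotientGroup.eq,
          show (x * y)⁻¹ * (y * x) = ⁅y⁻¹, x⁻¹⁆ by simp only [commutatorElement_def]; group]
        exact hZC (CfsgLib.Fischer.Extra.comm_mem hE _ _) }
  let f : A → (E ⧸ C →* ℂˣ) := fun a =>
    QuotientGroup.lift C ((CfsgLib.Fischer.Extra.pairing hE (a : E)).comp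
      (QuotientGroup.mk' (Subgroup.center E))) fun c hc => by
      rw [MonoidHom.mem_ker, MonoidHom.comp_apply, QuotientGroup.mk'_apply,
        CfsgLib.Fischer.Extra.pairing_mk]
      rw [show (⟨⁅(a : E), c⁆, CfsgLib.Fischer.Extra.comm_mem hE (a : E) c⟩ : Subgroup.center E) = 1 from
        Subtype.ext (commutatorElement_eq_one_iff_mul_comm.2 (Subgroup.mem_centralizer_iff.1 hc a a.2))]
      exact map_one _
  haveI : Nonempty A := ⟨1⟩
  have hz : ∀ a : A, (a : E) * ((Function.invFun f (f a) : A) : E)⁻¹ ∈ Subgroup.center E := by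
    intro a
    have h1 : f (Function.invFun f (f a)) = f a := Function.invFun_eq ⟨a, rfl⟩
    refine Subgroup.mem_center_iff.2 fun g => ?_
    have h2 := congrArg Subtype.val (CfsgLib.Fischer.Extra.sign_injective hE
      (congrArg (fun χ : E ⧸ C →* ℂˣ => χ (QuotientGroup.mk g)) h1))
    simp only [commutatorElement_def] at h2
    set r : E := ((Function.invFun f (f a) : A) : E)
    have h3 : r * g * r⁻¹ = (a : E) * g * (a : E)⁻¹ := mul_right_cancel h2
    have har : (a : E) * r⁻¹ = r⁻¹ * a :=
      congrArg Subtype.val (hA.is_comm.comm a (Function.invFun f (f a))⁻¹)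
    calc g * ((a : E) * r⁻¹) = r⁻¹ * (r * g * r⁻¹) * a := by rw [har]; group
      _ = r⁻¹ * ((a : E) * g * (a : E)⁻¹) * a := by rw [h3]
      _ = _ := by rw [har]; group
  haveI : Finite (E ⧸ C →* ℂˣ) := Nat.finite_of_card_ne_zero (by
    rw [CommGroup.card_monoidHom_of_hasEnoughRootsOfUnity]; exact Nat.card_pos.ne')
  have h1 := Nat.card_le_card_of_injective
    (fun a : A => (f a, (⟨_, hz a⟩ : Subgroup.center E))) (fun a b h => by
      simp only [Prod.mk.injEq, Subtype.mk.injEq] at h
      rw [h.1] at h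
      exact Subtype.ext (mul_right_cancel h.2))
  rw [Nat.card_prod, CommGroup.card_monoidHom_of_hasEnoughRootsOfUnity, hE.2] at h1
  have h2 : Nat.card (E ⧸ C) * Nat.card A ≤ Nat.card E := by
    rw [Subgroup.card_eq_card_quotient_mul_card_subgroup C]
    exact Nat.mul_le_mul_left _ (Subgroup.card_le_of_le hAC)
  have h3 : Nat.card A * Nat.card A ≤ 2 ^ (m + 1) * 2 ^ (m + 1) := by
    rw [← pow_add, show m + 1 + (m + 1) = 2 * m + 1 + 1 by ring, pow_succ _ (2 * m + 1), ← hcard]
    calc Nat.card A * Nat.card A ≤ Nat.card (E ⧸ C) * 2 * Nat.card A := Nat.mul_le_mul_right _ h1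
      _ = Nat.card (E ⧸ C) * Nat.card A * 2 := by ring
      _ ≤ _ := Nat.mul_le_mul_right _ h2
  exact Nat.mul_self_le_mul_self_iff.1 h3

/-- An elementary abelian subgroup of order `2^(m+1)` makes the type plus. -/
theorem excess_of_elab {E : Type*} [Group E] [Finite E] (hE : Cfsg.IsExtraspecial 2 E) {m : ℕ}
    (hcard : Nat.card E = 2 ^ (2 * m + 1)) {A : Subgroup E} (hA : Cfsg.IsElementaryAbelian 2 A)
    (hAc : Nat.card A = 2 ^ (m + 1)) : excess E = 2 ^ (m + 1) := by
  classical
  have h := CfsgLib.Inv.extraspecialTwo_card_order_four m hE hcard hA hAc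
  have hs : Nat.card {x : E // x ^ 2 = 1} + Nat.card {x : E // ¬ x ^ 2 = 1} = Nat.card E := by
    rw [← Nat.card_sum, Nat.card_congr (Equiv.sumCompl fun x : E => x ^ 2 = 1)]
  have h4 : Nat.card {x : E // orderOf x = 4} = Nat.card {x : E // ¬ x ^ 2 = 1} := by
    haveI : Fact (Nat.Prime 2) := ⟨Nat.prime_two⟩
    refine Nat.card_congr (Equiv.subtypeEquivRight fun x => ?_)
    constructor
    · intro ho hx
      have := orderOf_dvd_of_pow_eq_one hx
      rw [ho] at this
      norm_num at this
    · intro hx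
      refine orderOf_eq_prime_pow (p := 2) (n := 1) (by simpa using hx) ?_
      have h2 := sympl_pow_mem hE.2 hE.1.2.2.le x
      have := center_elt_sq hE.2 h2
      rwa [← pow_add] at this
  rw [← h4, h] at hs
  have hle : 2 ^ m ≤ 2 ^ (2 * m) := Nat.pow_le_pow_right two_pos (by omega)
  have hs' : (Nat.card {x : E // x ^ 2 = 1} : ℤ) = 2 ^ (2 * m + 1) - (2 ^ (2 * m) - 2 ^ m) := by
    rw [hcard] at hs
    have := congrArg (Nat.cast : ℕ → ℤ) hs
    push_cast [Nat.cast_sub hle] at this
    linarith
  rw [excess, hs', hcard]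
  push_cast
  ring

theorem exists_elab : ∀ (m : ℕ) (G : Type*) [Group G] [Finite G], Nat.card G = 2 ^ (2 * m + 1) →
    Nat.card (Subgroup.center G) = 2 → commutator G ≤ Subgroup.center G →
    ∃ A : Subgroup G, Cfsg.IsElementaryAbelian 2 A ∧ 2 ^ m ≤ Nat.card A ∧
      (excess G = 2 ^ (m + 1) → 2 ^ (m + 1) ≤ Nat.card A) := by
  intro m
  induction m with
  | zero =>
    intro G _ _ hn hZ h2
    have hG : ∀ g : G, g ^ 2 = 1 := fun g => by
      rw [show (2 : ℕ) = Nat.card G by simpa using hn.symm]; exact pow_card_eq_one'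
    refine ⟨Subgroup.center G, ⟨inferInstance, fun a _ => hG a⟩, by rw [hZ]; norm_num,
      fun _ => by rw [hZ]; norm_num⟩
  | succ m ih =>
    intro G _ _ hn hZ h2
    obtain ⟨z, hz, hz1⟩ := exists_gen_center hZ
    have hsmall : Nat.card G ≠ 2 := by
      have := Nat.pow_le_pow_right (two_pos : 0 < 2) (show 3 ≤ 2 * (m + 1) + 1 by omega)
      omega
    obtain ⟨e, x, y, he, hc, hx, hy⟩ := sympl_two_pick hsmall G z rfl hZ h2 hz hz1
    have hc1 : ⁅x, y⁆ ≠ 1 := hc ▸ hz1
    obtain ⟨hZD, h2D⟩ := sympl_centralizer hZ h2 hc1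
    have hD : Nat.card (Subgroup.centralizer ({x, y} : Set G)) = 2 ^ (2 * m + 1) := by
      have h := sympl_card_eq hZ h2 hc1
      rw [hn, show 2 * (m + 1) + 1 = 2 + (2 * m + 1) by ring, pow_add] at h
      exact (Nat.eq_of_mul_eq_mul_left (by norm_num) h).symm
    have hstep := excess_step hZ h2 hz hz1 hc e (he.imp id And.left) hx hy
    rcases he with rfl | ⟨rfl, h8⟩
    · obtain ⟨B, hB, hBc, hBp⟩ := ih _ hD hZD h2D
      have hx2 : x ^ 2 = 1 := by simpa using hx
      let B' := B.map (Subgroup.centralizer ({x, y} : Set G)).subtype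
      have hBle : B' ≤ Subgroup.centralizer ({x, y} : Set G) := Subgroup.map_subtype_le B
      haveI := hB.1
      haveI : IsMulCommutative B' := inferInstance
      let f : B' × Subgroup.zpowers x →* G := MonoidHom.noncommCoprod B'.subtype (Subgroup.zpowers x).subtype
        fun b w => by
          obtain ⟨i, hi⟩ := w.2
          show Commute (b : G) (w : G)
          rw [← hi]
          exact (show Commute (b : G) x from
            (Subgroup.mem_centralizer_iff.1 (hBle b.2) x (Or.inl rfl)).symm).zpow_right i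
      have hf : Function.Injective f := by
        rw [injective_iff_map_eq_one]
        rintro ⟨b, w, hw⟩ h
        replace h : (b : G) * w = 1 := h
        have hw' : w = 1 := by
          obtain ⟨i, rfl⟩ := hw
          rcases Int.emod_two_eq i with hi | hi
          · show x ^ i = 1
            rw [← Int.emod_add_mul_ediv i 2, hi, zero_add, zpow_mul, zpow_ofNat, hx2, one_zpow]
          · exfalso
            have hxi : x ^ i = x := by
              rw [← Int.emod_add_mul_ediv i 2, hi, zpow_add, zpow_one, zpow_mul, zpow_ofNat, hx2, one_zpow, mul_one]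
            have hxD : x ∈ Subgroup.centralizer ({x, y} : Set G) := by
              have h' : (b : G) * x = 1 := by rw [← hxi]; exact h
              have e := eq_inv_of_mul_eq_one_right h'
              have h5 := Subgroup.inv_mem _ (hBle b.2)
              rwa [← e] at h5
            exact hc1 (commutatorElement_eq_one_iff_mul_comm.2
              (Subgroup.mem_centralizer_iff.1 hxD y (Or.inr rfl)).symm)
        subst hw'
        rw [mul_one] at h
        exact Prod.ext (Subtype.ext h) rfl
      have hcard : Nat.card f.range = Nat.card B * 2 := by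
        rw [← Nat.card_congr (MonoidHom.ofInjective hf).toEquiv, Nat.card_prod, Nat.card_zpowers,
          orderOf_eq_prime (p := 2) hx2 (fun h => hc1 (by rw [h]; simp)),
          Subgroup.card_map_of_injective (Subgroup.subtype_injective _)]
      refine ⟨f.range, ⟨⟨⟨?_⟩⟩, ?_⟩, ?_, fun hp => ?_⟩
      · rintro ⟨_, u, rfl⟩ ⟨_, v, rfl⟩
        refine Subtype.ext ?_
        show f u * f v = f v * f u
        rw [← map_mul, ← map_mul]
        congr 1
        refine Prod.ext (mul_comm' u.1 v.1) (mul_comm' u.2 v.2)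
      · rintro _ ⟨⟨⟨b, hb⟩, ⟨w, hw⟩⟩, rfl⟩
        have hw2 : w ^ 2 = 1 := by
          obtain ⟨i, rfl⟩ := hw
          show (x ^ i) ^ 2 = 1
          rw [← zpow_natCast, ← zpow_mul, mul_comm, zpow_mul, zpow_natCast, hx2, one_zpow]
        obtain ⟨b₀, hb₀, rfl⟩ := hb
        rw [← map_pow, ← map_one f]
        congr 1
        refine Prod.ext (Subtype.ext ?_) (Subtype.ext hw2)
        show ((b₀ : G)) ^ 2 = 1
        exact congrArg Subtype.val (hB.2 b₀ hb₀)
      · rw [hcard, pow_succ]
        exact Nat.mul_le_mul_right _ hBc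
      · rw [hcard, pow_succ]
        refine Nat.mul_le_mul_right _ (hBp ?_)
        rw [hstep, if_pos rfl, pow_succ _ (m + 1)] at hp
        linarith
    · have hm : m = 0 := by
        rw [hn] at h8
        have := Nat.pow_right_injective (le_refl 2) (h8.trans (show (8 : ℕ) = 2 ^ 3 by norm_num))
        omega
      subst hm
      refine ⟨Subgroup.center G, ⟨inferInstance, fun a ha => by rw [sq]; exact center_elt_sq hZ ha⟩,
        by rw [hZ]; norm_num, fun hp => ?_⟩
      rw [hstep, if_neg one_ne_zero, excess_two (G := Subgroup.centralizer ({x, y} : Set G)) (by simpa using hD)] at hp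
      norm_num at hp

end CfsgLib.Perm.ExtraTwo
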