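import Cfsg.Agent.Solv.Extraspecial
import Cfsg.Agent.Spor.Fischer.ExtraPairing

/-!
The two types of extraspecial 2-groups, told apart by their numbers of involutions.
-/

set_option autoImplicit false
set_option linter.style.haveILetI false
set_option linter.deprecated false
set_option linter.unusedSectionVars false

open scoped commutatorElement

namespace CfsgLib.Perm.ExtraTwo

open CfsgLib.Solv

variable {p : ℕ}

section Extend

variable {G₁ G₂ : Type*} [Group G₁] [Group G₂] [Finite G₁] [Finite G₂] [hp : Fact p.Prime]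

set_option maxHeartbeats 400000 in
/-- Extend an isomorphism of the centralisers of two matching non-commuting pairs. -/
theorem iso_extend
    (hZ₁ : Nat.card (Subgroup.center G₁) = p) (h2₁ : commutator G₁ ≤ Subgroup.center G₁)
    (hZ₂ : Nat.card (Subgroup.center G₂) = p) (h2₂ : commutator G₂ ≤ Subgroup.center G₂)
    {x₁ y₁ : G₁} {x₂ y₂ : G₂} (hc₁ : ⁅x₁, y₁⁆ ≠ 1) (hc₂ : ⁅x₂, y₂⁆ ≠ 1)
    (ψ : Subgroup.centralizer ({x₁, y₁} : Set G₁) ≃* Subgroup.centralizer ({x₂, y₂} : Set G₂))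
    (hψc : ∀ h : ⁅x₁, y₁⁆ ∈ Subgroup.centralizer ({x₁, y₁} : Set G₁),
      (ψ ⟨_, h⟩ : G₂) = ⁅x₂, y₂⁆)
    {a b : ℕ} (hxa₁ : x₁ ^ p = ⁅x₁, y₁⁆ ^ a) (hxa₂ : x₂ ^ p = ⁅x₂, y₂⁆ ^ a)
    (hyb₁ : y₁ ^ p = ⁅x₁, y₁⁆ ^ b) (hyb₂ : y₂ ^ p = ⁅x₂, y₂⁆ ^ b) :
    ∃ φ : G₁ ≃* G₂, φ x₁ = x₂ ∧ φ y₁ = y₂ ∧
      ∀ d : Subgroup.centralizer ({x₁, y₁} : Set G₁), φ d = ψ d := by
  have hcD1 : ⁅x₁, y₁⁆ ∈ (Subgroup.centralizer ({x₁, y₁} : Set G₁)) := Subgroup.center_le_centralizer _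
    (h2₁ (Subgroup.commutator_mem_commutator (Subgroup.mem_top _) (Subgroup.mem_top _)))
  let γ : (Subgroup.centralizer ({x₁, y₁} : Set G₁)) →* G₁ × G₂ := (Subgroup.centralizer ({x₁, y₁} : Set G₁)).subtype.prod ((Subgroup.centralizer ({x₂, y₂} : Set G₂)).subtype.comp ψ.toMonoidHom)
  let X : G₁ × G₂ := (x₁, x₂)
  let Y : G₁ × G₂ := (y₁, y₂)
  let C : G₁ × G₂ := (⁅x₁, y₁⁆, ⁅x₂, y₂⁆)
  have hC : C = γ ⟨⁅x₁, y₁⁆, hcD1⟩ := Prod.ext rfl (hψc hcD1).symm
  have hXp : X ^ p = γ (⟨⁅x₁, y₁⁆, hcD1⟩ ^ a) := by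
    rw [map_pow, ← hC]; exact Prod.ext hxa₁ hxa₂
  have hYp : Y ^ p = γ (⟨⁅x₁, y₁⁆, hcD1⟩ ^ b) := by
    rw [map_pow, ← hC]; exact Prod.ext hyb₁ hyb₂
  have hcomm : ∀ d : (Subgroup.centralizer ({x₁, y₁} : Set G₁)), Commute (γ d) X ∧ Commute (γ d) Y := fun d =>
    ⟨Prod.ext (Subgroup.mem_centralizer_iff.1 d.2 x₁ (Or.inl rfl)).symm
      (Subgroup.mem_centralizer_iff.1 (ψ d).2 x₂ (Or.inl rfl)).symm,
    Prod.ext (Subgroup.mem_centralizer_iff.1 d.2 y₁ (Or.inr rfl)).symm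
      (Subgroup.mem_centralizer_iff.1 (ψ d).2 y₂ (Or.inr rfl)).symm⟩
  have hXY : ⁅X, Y⁆ = C := rfl
  have hswap : ∀ j k : ℕ, ∃ d, Y ^ j * X ^ k = X ^ k * Y ^ j * γ d := by
    intro j k
    refine ⟨(⟨⁅x₁, y₁⁆, hcD1⟩ ^ (k * j))⁻¹, ?_⟩
    have h1 : ⁅X ^ k, Y ^ j⁆ = γ (⟨⁅x₁, y₁⁆, hcD1⟩ ^ (k * j)) := by
      rw [map_pow, ← hC]
      have hX : Commute ⁅X, Y ^ j⁆ X := by
        rw [pow_commutator_right (by rw [hXY, hC]; exact (hcomm _).2), hXY, hC]
        exact (hcomm _).1.pow_left j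
      rw [pow_commutator_left hX, pow_commutator_right (by rw [hXY, hC]; exact (hcomm _).2), hXY,
        ← pow_mul, mul_comm]
    set d := (⟨⁅x₁, y₁⁆, hcD1⟩ : (Subgroup.centralizer ({x₁, y₁} : Set G₁))) ^ (k * j)
    have h3 := commutator_mul_eq (X ^ k) (Y ^ j)
    rw [h1] at h3
    have h4 : Commute (γ d) (Y ^ j * X ^ k) := ((hcomm d).2.pow_right j).mul_right ((hcomm d).1.pow_right k)
    rw [h3, h4.eq, map_inv, mul_inv_cancel_right]
  let T : Submonoid (G₁ × G₂) :=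
    { carrier := {t | ∃ i j : ℕ, ∃ d, t = X ^ i * Y ^ j * γ d}
      one_mem' := ⟨0, 0, 1, by simp⟩
      mul_mem' := by
        rintro _ _ ⟨i, j, d, rfl⟩ ⟨k, l, e, rfl⟩
        obtain ⟨f, hf⟩ := hswap j k
        refine ⟨i + k, j + l, f * d * e, ?_⟩
        have h1 := ((hcomm d).1.pow_right k).mul_right ((hcomm d).2.pow_right l)
        calc X ^ i * Y ^ j * γ d * (X ^ k * Y ^ l * γ e)
            = X ^ i * Y ^ j * (γ d * (X ^ k * Y ^ l)) * γ e := by group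
          _ = X ^ i * (Y ^ j * X ^ k) * Y ^ l * γ d * γ e := by rw [h1.eq]; group
          _ = X ^ i * X ^ k * Y ^ j * (γ f * Y ^ l) * γ d * γ e := by rw [hf]; group
          _ = _ := by rw [((hcomm f).2.pow_right l).eq, pow_add, pow_add, map_mul, map_mul]; group }
  have hTsmall : ∀ t ∈ T, ∃ i < p, ∃ j < p, ∃ d, t = X ^ i * Y ^ j * γ d := by
    rintro _ ⟨i, j, d, rfl⟩
    refine ⟨i % p, Nat.mod_lt _ hp.out.pos, j % p, Nat.mod_lt _ hp.out.pos,
      (⟨⁅x₁, y₁⁆, hcD1⟩ ^ a) ^ (i / p) * (⟨⁅x₁, y₁⁆, hcD1⟩ ^ b) ^ (j / p) * d, ?_⟩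
    conv_lhs => rw [← Nat.mod_add_div i p, ← Nat.mod_add_div j p, pow_add, pow_add, pow_mul, pow_mul,
      hXp, hYp]
    rw [← map_pow, ← map_pow, map_mul, map_mul]
    have h1 := (hcomm ((⟨⁅x₁, y₁⁆, hcD1⟩ ^ a) ^ (i / p))).2.pow_right (j % p)
    rw [mul_assoc (X ^ (i % p)), ← mul_assoc (γ _) (Y ^ (j % p)), h1.eq]
    group
  let π₁ : T → G₁ := fun t => (t : G₁ × G₂).1
  let π₂ : T → G₂ := fun t => (t : G₁ × G₂).2
  have hs₁ : Function.Surjective π₁ := by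
    intro g
    obtain ⟨i, -, j, -, d, hd, rfl⟩ := sympl_decomp hZ₁ h2₁ hc₁ g
    exact ⟨⟨_, i, j, ⟨d, hd⟩, rfl⟩, rfl⟩
  have hs₂ : Function.Surjective π₂ := by
    intro g
    obtain ⟨i, -, j, -, d, hd, rfl⟩ := sympl_decomp hZ₂ h2₂ hc₂ g
    obtain ⟨d', hd'⟩ := ψ.surjective ⟨d, hd⟩
    exact ⟨⟨_, i, j, d', rfl⟩, by simp [π₂, γ, X, Y, hd']⟩
  have hcard : Nat.card T ≤ Nat.card (Fin p × Fin p × (Subgroup.centralizer ({x₁, y₁} : Set G₁))) := by
    refine Nat.card_le_card_of_surjective (fun t => ⟨X ^ (t.1 : ℕ) * Y ^ (t.2.1 : ℕ) * γ t.2.2,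
      ⟨_, _, _, rfl⟩⟩) ?_
    rintro ⟨t, ht⟩
    obtain ⟨i, hi, j, hj, d, rfl⟩ := hTsmall t ht
    exact ⟨(⟨i, hi⟩, ⟨j, hj⟩, d), rfl⟩
  have hD : Nat.card (Subgroup.centralizer ({x₂, y₂} : Set G₂)) = Nat.card (Subgroup.centralizer ({x₁, y₁} : Set G₁)) := Nat.card_congr ψ.symm.toEquiv
  rw [Nat.card_prod, Nat.card_prod, Nat.card_fin, ← mul_assoc, ← sq] at hcard
  have hb₁ : Function.Bijective π₁ :=
    (Nat.bijective_iff_surjective_and_card π₁).2 ⟨hs₁, le_antisymm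
      (hcard.trans (sympl_card_eq hZ₁ h2₁ hc₁).ge) (Nat.card_le_card_of_surjective π₁ hs₁)⟩
  have hb₂ : Function.Bijective π₂ :=
    (Nat.bijective_iff_surjective_and_card π₂).2 ⟨hs₂, le_antisymm
      (hcard.trans (by rw [← hD]; exact (sympl_card_eq hZ₂ h2₂ hc₂).ge))
      (Nat.card_le_card_of_surjective π₂ hs₂)⟩
  let e₁ : T ≃* G₁ := MulEquiv.ofBijective ((MonoidHom.fst G₁ G₂).comp T.subtype) hb₁
  let e₂ : T ≃* G₂ := MulEquiv.ofBijective ((MonoidHom.snd G₁ G₂).comp T.subtype) hb₂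
  refine ⟨e₁.symm.trans e₂, ?_, ?_, fun d => ?_⟩
  · have h : e₁.symm x₁ = ⟨X, 1, 0, 1, by simp⟩ := by
      rw [MulEquiv.symm_apply_eq]; rfl
    show e₂ (e₁.symm x₁) = _
    rw [h]
    rfl
  · have h : e₁.symm y₁ = ⟨Y, 0, 1, 1, by simp⟩ := by
      rw [MulEquiv.symm_apply_eq]; rfl
    show e₂ (e₁.symm y₁) = _
    rw [h]
    rfl
  · have h : e₁.symm (d : G₁) = ⟨γ d, 0, 0, d, by simp⟩ := by
      rw [MulEquiv.symm_apply_eq]; rfl
    show e₂ (e₁.symm (d : G₁)) = _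
    rw [h]
    rfl

end Extend

section Count

variable {G : Type*} [Group G] [Finite G]

/-- Involutions (with `1`) minus elements of order four. -/
noncomputable def excess (G : Type*) [Group G] : ℤ :=
  2 * (Nat.card {x : G // x ^ 2 = 1} : ℤ) - Nat.card G

theorem center_elt_sq (hZ : Nat.card (Subgroup.center G) = 2) {z : G} (hz : z ∈ Subgroup.center G) :
    z * z = 1 := by
  have h := pow_card_eq_one' (x := (⟨z, hz⟩ : Subgroup.center G))
  rw [hZ, pow_two] at h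
  exact congrArg Subtype.val h

theorem center_elt_cases (hZ : Nat.card (Subgroup.center G) = 2) {z w : G}
    (hz : z ∈ Subgroup.center G) (hz1 : z ≠ 1) (hw : w ∈ Subgroup.center G) : w = 1 ∨ w = z := by
  by_cases h : w = 1
  · exact Or.inl h
  · exact Or.inr (congrArg Subtype.val
      (((Nat.card_eq_two_iff' (1 : Subgroup.center G)).1 hZ).unique
        (y₁ := ⟨w, hw⟩) (y₂ := ⟨z, hz⟩) (fun e => h (congrArg Subtype.val e))
        (fun e => hz1 (congrArg Subtype.val e))))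

theorem sq_cases (hZ : Nat.card (Subgroup.center G) = 2) (h2 : commutator G ≤ Subgroup.center G)
    {z : G} (hz : z ∈ Subgroup.center G) (hz1 : z ≠ 1) (g : G) : g ^ 2 = 1 ∨ g ^ 2 = z :=
  center_elt_cases hZ hz hz1 (sympl_pow_mem hZ h2 g)

theorem excess_two (hG : Nat.card G = 2) : excess G = 2 := by
  have h : ∀ x : G, x ^ 2 = 1 := fun x => hG ▸ pow_card_eq_one'
  rw [excess, Nat.card_congr (Equiv.subtypeUnivEquiv h), hG]
  norm_num

theorem excess_step (hZ : Nat.card (Subgroup.center G) = 2) (h2 : commutator G ≤ Subgroup.center G)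
    {z x y : G} (hz : z ∈ Subgroup.center G) (hz1 : z ≠ 1) (hc : ⁅x, y⁆ = z) (e : ℕ)
    (he : e = 0 ∨ e = 1) (hx : x ^ 2 = z ^ e) (hy : y ^ 2 = z ^ e) :
    excess G = (if e = 0 then 2 else -2) * excess (Subgroup.centralizer ({x, y} : Set G)) := by
  classical
  haveI : Fintype G := Fintype.ofFinite G
  set D := Subgroup.centralizer ({x, y} : Set G)
  have hc1 : ⁅x, y⁆ ≠ 1 := hc ▸ hz1
  let f : Fin 2 × Fin 2 × D → G := fun t => x ^ (t.1 : ℕ) * y ^ (t.2.1 : ℕ) * (t.2.2 : G)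
  have hf : Function.Bijective f := by
    constructor
    · rintro ⟨i, j, d⟩ ⟨i', j', d'⟩ h
      obtain ⟨h1, h3, h4⟩ := sympl_decomp_unique hZ h2 hc1 i.2 j.2 i'.2 j'.2 d.2 d'.2 h
      simp only [Prod.mk.injEq]
      exact ⟨Fin.ext h1, Fin.ext h3, Subtype.ext h4⟩
    · intro g
      obtain ⟨i, hi, j, hj, d, hd, rfl⟩ := sympl_decomp hZ h2 hc1 g
      exact ⟨(⟨i, hi⟩, ⟨j, hj⟩, ⟨d, hd⟩), rfl⟩
  have hzz : z * z = 1 := center_elt_sq hZ hz
  have hxy : (x * y) ^ 2 = z := by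
    have h1 : y * x = z * (x * y) := by
      rw [← hc, commutatorElement_def]
      have h3 : (x * y * x⁻¹ * y⁻¹) * (x * y * x⁻¹ * y⁻¹) = 1 := by
        rw [← commutatorElement_def, hc]; exact hzz
      calc y * x = (x * y * x⁻¹ * y⁻¹) * (x * y * x⁻¹ * y⁻¹) * (y * x) := by rw [h3, one_mul]
        _ = _ := by group
    calc (x * y) ^ 2 = x * (y * x) * y := by rw [sq]; group
      _ = z * (x ^ 2 * y ^ 2) := by
        rw [h1, ← mul_assoc, Subgroup.mem_center_iff.1 hz x, sq, sq]; group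
      _ = z := by rw [hx, hy, ← pow_add, ← two_mul, pow_mul, pow_two, hzz, one_pow, mul_one]
  let sD : G → ℕ := fun s => Nat.card {d : D // (d : G) ^ 2 = s}
  have hsq : ∀ t : Fin 2 × Fin 2 × D,
      f t ^ 2 = (x ^ (t.1 : ℕ) * y ^ (t.2.1 : ℕ)) ^ 2 * (t.2.2 : G) ^ 2 := fun t => by
    have hdx : Commute x (t.2.2 : G) := Subgroup.mem_centralizer_iff.1 t.2.2.2 x (Or.inl rfl)
    have hdy : Commute y (t.2.2 : G) := Subgroup.mem_centralizer_iff.1 t.2.2.2 y (Or.inr rfl)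
    exact ((hdx.pow_left _).mul_left (hdy.pow_left _)).mul_pow 2
  have hsum : Nat.card {g : G // g ^ 2 = 1} = sD 1 + sD (z ^ e) + sD (z ^ e) + sD z := by
    rw [← Nat.card_congr ((Equiv.ofBijective f hf).subtypeEquiv
      (p := fun t => f t ^ 2 = 1) (q := fun g => g ^ 2 = 1) fun t => Iff.rfl)]
    rw [Nat.card_congr ((Equiv.prodAssoc (Fin 2) (Fin 2) D).symm.subtypeEquiv
      (p := fun t => f t ^ 2 = 1) (q := fun t => f (t.1.1, t.1.2, t.2) ^ 2 = 1) fun t => Iff.rfl)]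
    rw [Nat.card_congr (Equiv.subtypeProdEquivSigmaSubtype fun (u : Fin 2 × Fin 2) (d : D) =>
      f (u.1, u.2, d) ^ 2 = 1), Nat.card_sigma, Fintype.sum_prod_type, Fin.sum_univ_two,
      Fin.sum_univ_two, Fin.sum_univ_two]
    have key : ∀ (i j : Fin 2) (s : G), s * s = 1 → (x ^ (i : ℕ) * y ^ (j : ℕ)) ^ 2 = s →
        Nat.card {d : D // f (i, j, d) ^ 2 = 1} = sD s := fun i j s hs h =>
      Nat.card_congr (Equiv.subtypeEquivRight fun d => by
        rw [hsq, h]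
        exact ⟨fun h4 => by rw [← one_mul ((d : G) ^ 2), ← hs, mul_assoc, h4, mul_one],
          fun h4 => by rw [h4, hs]⟩)
    have hze : z ^ e * z ^ e = 1 := by rw [← pow_add, ← two_mul, pow_mul, pow_two, hzz, one_pow]
    rw [key 0 0 1 (one_mul 1) (by simp), key 0 1 (z ^ e) hze (by simpa using hy),
      key 1 0 (z ^ e) hze (by simpa using hx), key 1 1 z hzz (by simpa using hxy)]
    ring
  obtain ⟨hZD, -⟩ := sympl_centralizer hZ h2 hc1
  have hpart : sD 1 + sD z = Nat.card D := by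
    rw [← Nat.card_congr (Equiv.sumCompl fun d : D => (d : G) ^ 2 = 1), Nat.card_sum]
    congr 1
    refine Nat.card_congr (Equiv.subtypeEquivRight fun d => ?_)
    exact ⟨fun h h1 => hz1 (h.symm.trans h1), fun h => (sq_cases hZ h2 hz hz1 _).resolve_left h⟩
  have hfD : Nat.card {d : D // d ^ 2 = 1} = sD 1 :=
    Nat.card_congr (Equiv.subtypeEquivRight fun d => by rw [← Subgroup.coe_pow]; exact OneMemClass.coe_eq_one.symm)
  have hcard : Nat.card G = 4 * Nat.card D := sympl_card_eq hZ h2 hc1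
  rw [excess, excess, hsum, hfD, hcard, ← hpart]
  rcases he with rfl | rfl <;> simp only [pow_zero, pow_one, if_true, one_ne_zero, if_false] <;>
    push_cast <;> ring

end Count

theorem exists_gen_center {G : Type*} [Group G] [Finite G] (hZ : Nat.card (Subgroup.center G) = 2) :
    ∃ z ∈ Subgroup.center G, z ≠ 1 := exists_ne_one_of_card_prime hZ

theorem excess_eq : ∀ (m : ℕ) (G : Type*) [Group G] [Finite G], Nat.card G = 2 ^ (2 * m + 1) →
    Nat.card (Subgroup.center G) = 2 → commutator G ≤ Subgroup.center G →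
    excess G = 2 ^ (m + 1) ∨ (1 ≤ m ∧ excess G = -2 ^ (m + 1)) := by
  intro m
  induction m with
  | zero => intro G _ _ hn _ _; left; rw [excess_two (by simpa using hn)]; norm_num
  | succ m ih =>
    intro G _ _ hn hZ h2
    obtain ⟨z, hz, hz1⟩ := exists_gen_center hZ
    have hsmall : Nat.card G ≠ 2 := by
      have := Nat.pow_le_pow_right (two_pos : 0 < 2) (show 3 ≤ 2 * (m + 1) + 1 by omega)
      omega
    obtain ⟨e, x, y, he, hc, hx, hy⟩ := sympl_two_pick hsmall G z rfl hZ h2 hz hz1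
    have hc1 : ⁅x, y⁆ ≠ 1 := hc ▸ hz1
    obtain ⟨hZD, h2D⟩ := sympl_centralizer hZ h2 hc1
    have hD : Nat.card (Subgroup.centralizer ({x, y} : Set G)) = 2 ^ (2 * m + 1) := by
      have h := sympl_card_eq hZ h2 hc1
      rw [hn, show 2 * (m + 1) + 1 = 2 + (2 * m + 1) by ring, pow_add] at h
      exact (Nat.eq_of_mul_eq_mul_left (by norm_num) h).symm
    rw [excess_step hZ h2 hz hz1 hc e (he.imp id And.left) hx hy]
    rcases ih _ hD hZD h2D with h | ⟨-, h⟩ <;> rcases he with rfl | ⟨rfl, -⟩ <;>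
      rw [h, pow_succ _ (m + 1)] <;>
      simp only [if_true, one_ne_zero, if_false]
    · left; ring
    · right; exact ⟨by omega, by ring⟩
    · right; exact ⟨by omega, by ring⟩
    · left; ring

theorem iso_of_excess : ∀ (n : ℕ) (A : Type*) (B : Type*) [Group A] [Group B] [Finite A] [Finite B],
    Nat.card A = n → Nat.card B = n → Nat.card (Subgroup.center A) = 2 →
    commutator A ≤ Subgroup.center A → Nat.card (Subgroup.center B) = 2 →
    commutator B ≤ Subgroup.center B → excess A = excess B →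
    ∀ a ∈ Subgroup.center A, a ≠ 1 → ∀ b ∈ Subgroup.center B, b ≠ 1 →
      ∃ φ : A ≃* B, φ a = b := by
  intro n
  induction n using Nat.strong_induction_on with
  | _ n ih =>
    intro A B _ _ _ _ hnA hnB hZA h2A hZB h2B hs a ha ha1 b hb hb1
    by_cases hsmall : n = 2
    · haveI : Fact (Nat.Prime 2) := ⟨Nat.prime_two⟩
      have hga : ∀ g, g ∈ Subgroup.zpowers a := fun g => by
        rw [zpowers_eq_top_of_prime_card (p := 2) (hnA.trans hsmall) ha1]; trivial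
      have hgb : ∀ g, g ∈ Subgroup.zpowers b := fun g => by
        rw [zpowers_eq_top_of_prime_card (p := 2) (hnB.trans hsmall) hb1]; trivial
      haveI : IsCyclic A := ⟨⟨a, hga⟩⟩
      let φ := mulEquivOfOrderOfEq hga hgb (by
        rw [orderOf_eq_prime (p := 2) (by rw [← hnA.trans hsmall]; exact pow_card_eq_one') ha1,
          orderOf_eq_prime (p := 2) (by rw [← hnB.trans hsmall]; exact pow_card_eq_one') hb1])
      exact ⟨φ, mulEquivOfOrderOfEq_apply_gen _ _ _⟩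
    obtain ⟨eA, xA, yA, heA, hcA, hxA, hyA⟩ := sympl_two_pick hsmall A a hnA hZA h2A ha ha1
    obtain ⟨eB, xB, yB, heB, hcB, hxB, hyB⟩ := sympl_two_pick hsmall B b hnB hZB h2B hb hb1
    have hA1 : ⁅xA, yA⁆ ≠ 1 := hcA ▸ ha1
    have hB1 : ⁅xB, yB⁆ ≠ 1 := hcB ▸ hb1
    obtain ⟨hZA', h2A'⟩ := sympl_centralizer hZA h2A hA1
    obtain ⟨hZB', h2B'⟩ := sympl_centralizer hZB h2B hB1
    have hkA := sympl_card_eq hZA h2A hA1
    have hkB := sympl_card_eq hZB h2B hB1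
    have hlt := hnA ▸ card_lt_of_pair h2A one_lt_two hkA
    rw [hnA] at hkA
    rw [hnB] at hkB
    have hmA : a ∈ Subgroup.centralizer ({xA, yA} : Set A) := Subgroup.center_le_centralizer _ ha
    have hmB : b ∈ Subgroup.centralizer ({xB, yB} : Set B) := Subgroup.center_le_centralizer _ hb
    have hsA := excess_step hZA h2A ha ha1 hcA eA (heA.imp id And.left) hxA hyA
    have hsB := excess_step hZB h2B hb hb1 hcB eB (heB.imp id And.left) hxB hyB
    have hee : eA = eB := by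
      by_cases h8 : n = 8
      · rw [excess_two (G := Subgroup.centralizer ({xA, yA} : Set A)) (by omega)] at hsA
        rw [excess_two (G := Subgroup.centralizer ({xB, yB} : Set B)) (by omega)] at hsB
        rcases heA with rfl | ⟨rfl, -⟩ <;> rcases heB with rfl | ⟨rfl, -⟩ <;> first
          | rfl
          | (exfalso; rw [hsA, hsB] at hs; norm_num at hs)
      · exact (heA.resolve_right fun h => h8 h.2).trans (heB.resolve_right fun h => h8 h.2).symm
    subst hee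
    have hs' : excess (Subgroup.centralizer ({xA, yA} : Set A)) =
        excess (Subgroup.centralizer ({xB, yB} : Set B)) := by
      rw [hsA, hsB] at hs
      exact mul_left_cancel₀ (by split_ifs <;> norm_num) hs
    obtain ⟨ψ, hψ⟩ := ih _ hlt _ _ rfl
      (Nat.eq_of_mul_eq_mul_left (by norm_num : 0 < 2 ^ 2) (hkB.symm.trans hkA))
      hZA' h2A' hZB' h2B' hs' ⟨a, hmA⟩
      (Subgroup.mem_center_iff.2 fun g => Subtype.ext (Subgroup.mem_center_iff.1 ha g))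
      (fun e => ha1 (congrArg Subtype.val e)) ⟨b, hmB⟩
      (Subgroup.mem_center_iff.2 fun g => Subtype.ext (Subgroup.mem_center_iff.1 hb g))
      (fun e => hb1 (congrArg Subtype.val e))
    obtain ⟨φ, hφ⟩ := sympl_iso_extend hZA h2A hZB h2B hA1 hB1 ψ
      (fun h => by
        have e : (⟨⁅xA, yA⁆, h⟩ : Subgroup.centralizer ({xA, yA} : Set A)) = ⟨a, hmA⟩ := Subtype.ext hcA
        rw [e, hψ]; exact hcB.symm)
      (a := eA) (b := eA) (by rw [hcA]; exact hxA) (by rw [hcB]; exact hxB) (by rw [hcA]; exact hyA)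
      (by rw [hcB]; exact hyB)
    exact ⟨φ, by rw [show a = ((⟨a, hmA⟩ : Subgroup.centralizer ({xA, yA} : Set A)) : A) from rfl, hφ, hψ]⟩

end CfsgLib.Perm.ExtraTwo
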