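import Mathlib

/-!
Elementary arithmetic for groups with four automorphism orbits.
-/

set_option autoImplicit false

namespace CfsgLib.Perm.FourOrbits

theorem geom_odd_one {x : ℤ} {i n : ℕ} (hx : Odd x) (hi : Odd i) (S : ℤ) (hS : S = ∑ k ∈ Finset.range i, x ^ k)
    (hd : S ∣ (2 : ℤ) ^ n) : S = 1 ∨ S = -1 := by
  have hodd : Odd S := by
    have h2 : ((S : ℤ) : ZMod 2) = 1 := by
      have hx2 : ((x : ℤ) : ZMod 2) = 1 := ZMod.intCast_eq_one_iff_odd.2 hx
      rw [hS]; push_cast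
      simp only [hx2, one_pow, Finset.sum_const, Finset.card_range, nsmul_eq_mul, mul_one]
      exact ZMod.natCast_eq_one_iff_odd.2 hi
    exact ZMod.intCast_eq_one_iff_odd.1 h2
  have hd' : S.natAbs ∣ 2 ^ n := by
    have := Int.natAbs_dvd_natAbs.2 hd
    simpa [Int.natAbs_pow] using this
  obtain ⟨m, -, hm⟩ := (Nat.dvd_prime_pow Nat.prime_two).1 hd'
  have ho : Odd S.natAbs := Int.natAbs_odd.2 hodd
  rcases Nat.eq_zero_or_pos m with e | e
  · subst e
    exact Int.natAbs_eq_iff.1 (by simpa using hm)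
  · exfalso
    rw [hm] at ho
    exact (Nat.not_odd_iff_even.2 (Nat.even_pow.2 ⟨even_two, e.ne'⟩)) ho

theorem exp_eq_one_of_two_pow {r i n : ℕ} (hr : 2 ≤ r) (hr2 : Odd r) (hi : 1 ≤ i) (hn : 2 ≤ n)
    (h : r ^ i + 1 = 2 ^ n) : i = 1 := by
  rcases Nat.even_or_odd i with ⟨m, hm⟩ | hodd
  · exfalso
    obtain ⟨s, hs⟩ := hr2.pow (n := m)
    have e : r ^ i = (r ^ m) * (r ^ m) := by rw [← pow_add, hm]
    have h4 : 4 ∣ 2 ^ n := by
      rw [show n = (n - 2) + 2 by omega, pow_add]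
      exact dvd_mul_left 4 _
    rw [← h, e, hs, show (2 * s + 1) * (2 * s + 1) + 1 = 4 * (s * s + s) + 2 by ring] at h4
    omega
  · have hd : (∑ k ∈ Finset.range i, (-(r : ℤ)) ^ k) * (-(r : ℤ) - 1) = (-(r : ℤ)) ^ i - 1 :=
      geom_sum_mul _ _
    rw [hodd.neg_pow] at hd
    have hz : ((r : ℤ) ^ i + 1) = 2 ^ n := by exact_mod_cast h
    have hS := geom_odd_one (x := -(r : ℤ)) (n := n) ((Int.odd_coe_nat r).2 hr2).neg hodd _ rfl
      ⟨(r : ℤ) + 1, by rw [← hz]; linear_combination hd⟩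
    have hri : r ^ i = r ^ 1 := by
      rw [pow_one]
      have : ((r : ℤ) ^ i : ℤ) = r := by
        rcases hS with e | e <;> rw [e] at hd
        · linarith
        · exfalso
          have : (0 : ℤ) < (r : ℤ) ^ i := by positivity
          have : (2 : ℤ) ≤ r := by exact_mod_cast hr
          linarith
      exact_mod_cast this
    exact Nat.pow_right_injective hr hri

theorem pow_eq_two_pow_add_one {q l n : ℕ} (hq : 3 ≤ q) (hq2 : Odd q) (hl : 2 ≤ l)
    (h : q ^ l = 2 ^ n + 1) : q ^ l = 9 := by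
  rcases Nat.even_or_odd l with ⟨m, hm⟩ | hodd
  · set x := q ^ m with hx
    have e : q ^ l = x * x := by rw [hm, pow_add]
    have hx3 : 3 ≤ x := hq.trans (Nat.le_self_pow (by omega) q)
    have hfac : (x - 1) * (x + 1) = 2 ^ n := by
      have := h ▸ e
      obtain ⟨y, hy⟩ : ∃ y, x = y + 1 := ⟨x - 1, by omega⟩
      rw [hy] at this ⊢
      simp only [Nat.add_sub_cancel]
      ring_nf at this ⊢
      omega
    obtain ⟨u, -, hu⟩ := (Nat.dvd_prime_pow Nat.prime_two).1 (Dvd.intro _ hfac)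
    obtain ⟨v, -, hv⟩ := (Nat.dvd_prime_pow Nat.prime_two).1 (Dvd.intro_left _ hfac)
    have hu1 : u = 1 := by
      by_contra hne
      rcases Nat.lt_or_ge u 2 with h2 | h2
      · obtain rfl : u = 0 := by omega
        simp at hu
        omega
      · have h4u : 4 ∣ 2 ^ u := by
          rw [show u = (u - 2) + 2 by omega, pow_add]; exact dvd_mul_left 4 _
        have hv2 : 2 ≤ v := by
          by_contra hc
          have : 2 ^ v ≤ 2 ^ 1 := Nat.pow_le_pow_right two_pos (by omega)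
          omega
        have h4v : 4 ∣ 2 ^ v := by
          rw [show v = (v - 2) + 2 by omega, pow_add]; exact dvd_mul_left 4 _
        omega
    rw [hu1, pow_one] at hu
    rw [e, show x = 3 by omega]
  · exfalso
    have hd : (∑ k ∈ Finset.range l, (q : ℤ) ^ k) * ((q : ℤ) - 1) = (q : ℤ) ^ l - 1 :=
      geom_sum_mul _ _
    have hz : ((q : ℤ) ^ l) = 2 ^ n + 1 := by exact_mod_cast h
    have hS := geom_odd_one (x := (q : ℤ)) (n := n) ((Int.odd_coe_nat q).2 hq2) hodd _ rfl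
      ⟨(q : ℤ) - 1, by rw [hd, hz]; ring⟩
    have hlt : (q : ℤ) ^ 1 < (q : ℤ) ^ l := pow_lt_pow_right₀ (by exact_mod_cast (by omega : 1 < q)) (by omega)
    have : (3 : ℤ) ≤ q := by exact_mod_cast hq
    rcases hS with e | e <;> rw [e] at hd <;> linarith

theorem twin_eq {p m c : ℕ} (hp : 3 ≤ p) (hc : 3 ≤ c) (hm : m = 1 ∨ p ≤ m)
    (h : (p + 1) * (p * m + c) = 2 * (p * m) * c + 2) : m = 1 ∧ c = p + 2 := by
  rcases hm with rfl | hm
  · refine ⟨rfl, ?_⟩
    simp only [mul_one] at h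
    zify at h ⊢
    have : ((p : ℤ) - 1) * ((c : ℤ) - p - 2) = 0 := by linear_combination -h
    rcases mul_eq_zero.1 this with e | e <;> omega
  · exfalso
    by_cases h2 : 2 * c ≤ p + 1
    · have := Nat.mul_le_mul_left (p * m) h2
      have : (p + 1) * 3 ≤ (p + 1) * c := Nat.mul_le_mul_left _ hc
      nlinarith
    · have hodd : Odd p ∨ Even p := (Nat.even_or_odd p).symm
      obtain ⟨d, hd⟩ : ∃ d, 2 * c = p + 1 + d ∧ 1 ≤ d := ⟨2 * c - (p + 1), by omega, by omega⟩
      have hm' : p * p ≤ p * m := Nat.mul_le_mul_left p hm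
      have h2' : (p + 1) * (p + 1 + d) = 2 * (p * m) * d + 4 := by
        rw [← hd.1]
        zify at h ⊢
        have hd' : (2 * (c : ℤ)) = (p : ℤ) + 1 + d := by exact_mod_cast hd.1
        linear_combination 2 * h + 2 * ((p : ℤ) * m) * hd'
      have := Nat.mul_le_mul_right d hm'
      nlinarith [Nat.mul_le_mul_left (p + 1) hd.2, Nat.mul_le_mul hp hp, hd.2]

end CfsgLib.Perm.FourOrbits
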