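import Cfsg.Agent.Perm.FourOrbitsBasic
import Cfsg.Agent.Perm.FourOrbitsArith
import Cfsg.Agent.Base.Small.OrderSixty

/-!
A finite insoluble group with four orbits of its automorphism group has order sixty.
-/

set_option autoImplicit false
set_option linter.style.haveILetI false

namespace CfsgLib.Perm.FourOrbits

open Subgroup

variable {G : Type*} [Group G] [Finite G]

/-- The primes dividing the group order are among `2`, `p`, `q`. -/
def Primes (G : Type*) [Group G] (p q : ℕ) : Prop :=
  ∀ r : ℕ, r.Prime → r ∣ Nat.card G → r = 2 ∨ r = p ∨ r = q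

theorem solvable_of_no_prime {r : ℕ} (hr : r.Prime) (K : Subgroup G) {p q : ℕ}
    (hall : ∀ s, s.Prime → s ∣ Nat.card G → s = r ∨ s = p ∨ s = q) (hp : p.Prime) (hq : q.Prime)
    (hnd : ¬ r ∣ Nat.card K) : Group.IsSolvable K :=
  solvable_of_two p q hp hq fun s hs hd =>
    (hall s hs (hd.trans K.card_subgroup_dvd_card)).resolve_left fun e => hnd (e ▸ hd)

/-- Burnside transfer: the normaliser of an abelian Sylow subgroup is larger. -/
theorem normalizer_ne_of_comm (h : Hyp G) {r p q : ℕ} [hr : Fact r.Prime] (hp : p.Prime) (hq : q.Prime)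
    (hall : ∀ s, s.Prime → s ∣ Nat.card G → s = r ∨ s = p ∨ s = q) (P : Sylow r G)
    (hc : ∀ a ∈ (P : Subgroup G), ∀ b ∈ (P : Subgroup G), a * b = b * a) :
    Subgroup.normalizer ((P : Subgroup G) : Set G) ≠ (P : Subgroup G) := by
  intro e
  have hPC : Subgroup.normalizer ((P : Subgroup G) : Set G) ≤
      Subgroup.centralizer ((P : Subgroup G) : Set G) := fun a ha =>
    Subgroup.mem_centralizer_iff.2 fun b hb => (hc b hb a (e ▸ ha))
  have hK := MonoidHom.ker_transferSylow_isComplement' P hPC
  set f := MonoidHom.transferSylow P hPC with hf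
  have hidx : f.ker.index ∣ Nat.card (P : Subgroup G) := by
    rw [hK.symm.index_eq_card]
  have hnd : ¬ r ∣ Nat.card f.ker := by
    rw [← hK.index_eq_card]
    exact P.not_dvd_index
  haveI := solvable_of_no_prime hr.out f.ker hall hp hq hnd
  haveI : Group.IsSolvable (G ⧸ f.ker) := by
    obtain ⟨k, hk⟩ := IsPGroup.iff_card.1 P.2
    rw [hk] at hidx
    obtain ⟨m, -, hm⟩ := (Nat.dvd_prime_pow hr.out).1 hidx
    haveI : Group.IsNilpotent (G ⧸ f.ker) :=
      (IsPGroup.of_card (p := r) (n := m) (by rw [← Subgroup.index_eq_card]; exact hm)).isNilpotent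
    infer_instance
  exact h.ns ((Group.isSolvable_iff_subgroup_quotient f.ker).2 ⟨inferInstance, inferInstance⟩)

theorem ne_bot_of_dvd {p : ℕ} [Fact p.Prime] (hd : p ∣ Nat.card G) (P : Sylow p G) :
    (P : Subgroup G) ≠ ⊥ := P.ne_bot_of_dvd_card hd

theorem two_mul_num (h : Hyp G) {p : ℕ} [hp : Fact p.Prime] (hp2 : p ≠ 2) (hd : p ∣ Nat.card G)
    (P : Sylow p G) {t : G} (ht : orderOf t = 2)
    (htn : t ∈ Subgroup.normalizer ((P : Subgroup G) : Set G)) :
    num G p * (2 * Nat.card (P : Subgroup G)) + Nat.card G =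
      Nat.card G * Nat.card (P : Subgroup G) := by
  obtain ⟨-, hM⟩ := normalizer_dihedral h hp2 P (ne_bot_of_dvd hd P) ht htn
  have hn := num_mul h P
  rw [hM] at hn
  have hi := inverted h hp2 P ht htn
  have hz := zc_eq_of_comm P fun a ha b hb => comm_of_inverted P hi ha hb
  rw [hn, ← Nat.mul_succ, Nat.succ_eq_add_one, card_fib P, hz]

/-- The three kinds of odd Sylow subgroups. -/
theorem odd_cases (h : Hyp G) {r p q : ℕ} [hr : Fact r.Prime] (hr2 : r ≠ 2) (hp : p.Prime) (hq : q.Prime)
    (hall : ∀ s, s.Prime → s ∣ Nat.card G → s = r ∨ s = p ∨ s = q) (P : Sylow r G) :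
    (∃ t : G, orderOf t = 2 ∧ t ∈ Subgroup.normalizer ((P : Subgroup G) : Set G)) ∨
    (9 * num G r ≤ Nat.card G) ∨
    (∃ e : ℕ, 3 ≤ e ∧ Odd e ∧ e ∣ Nat.card G ∧ ¬ r ∣ e ∧
      num G r * (Nat.card (P : Subgroup G) * e) + Nat.card G = Nat.card G * zc P ∧
      zc P ≤ Nat.card (P : Subgroup G) ∧
      (zc P = Nat.card (P : Subgroup G) ∨ r * r * zc P ≤ Nat.card (P : Subgroup G))) := by
  classical
  set N := Subgroup.normalizer ((P : Subgroup G) : Set G) with hN
  set e := (P : Subgroup G).relIndex N with he
  have hM : Nat.card (P : Subgroup G) * e = Nat.card N := by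
    rw [he, ← Subgroup.relIndex_bot_left, ← Subgroup.relIndex_bot_left,
      Subgroup.relIndex_mul_relIndex _ _ _ bot_le Subgroup.le_normalizer]
  rcases Nat.even_or_odd e with hev | hodd
  · left
    obtain ⟨t, ht⟩ := exists_prime_orderOf_dvd_card' 2
      ((even_iff_two_dvd.1 hev).trans (hM ▸ dvd_mul_left e _))
    exact ⟨t, by rw [Subgroup.orderOf_coe]; exact ht, t.2⟩
  right
  have hn := num_mul h P
  rw [← hN, ← hM] at hn
  have hzdich : zc P = Nat.card (P : Subgroup G) ∨ r * r * zc P ≤ Nat.card (P : Subgroup G) := by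
    obtain ⟨k, hk⟩ := P.2.index (Subgroup.center (P : Subgroup G))
    have hcard := (Subgroup.center (P : Subgroup G)).card_mul_index
    rw [hk] at hcard
    by_cases h2 : 2 ≤ k
    · right
      rw [zc, ← hcard, mul_comm (r * r), ← pow_two]
      exact Nat.mul_le_mul_left _ (Nat.pow_le_pow_right hr.out.pos h2)
    · left
      have hcyc : IsCyclic ((P : Subgroup G) ⧸ Subgroup.center (P : Subgroup G)) := by
        have hc : Nat.card ((P : Subgroup G) ⧸ Subgroup.center (P : Subgroup G)) = r ^ k := by
          rw [← Subgroup.index_eq_card, hk]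
        rcases Nat.lt_or_ge k 1 with h0 | h1
        · obtain rfl : k = 0 := by omega
          rw [pow_zero] at hc
          haveI := (Nat.card_eq_one_iff_unique.1 hc).1
          exact isCyclic_of_subsingleton
        · obtain rfl : k = 1 := by omega
          exact isCyclic_of_prime_card (p := r) (by rw [hc, pow_one])
      refine zc_eq_of_comm P fun a ha b hb => ?_
      haveI := hcyc
      have := commutative_of_cyclic_center_quotient
        (QuotientGroup.mk' (Subgroup.center (P : Subgroup G))) (by rw [QuotientGroup.ker_mk'])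
      exact congrArg Subtype.val (this ⟨a, ha⟩ ⟨b, hb⟩)
  by_cases he1 : e = 1
  · left
    have hne : zc P ≠ Nat.card (P : Subgroup G) := by
      intro hz
      have hc : ∀ a ∈ (P : Subgroup G), ∀ b ∈ (P : Subgroup G), a * b = b * a := by
        intro a ha b hb
        have hct : Subgroup.center (P : Subgroup G) = ⊤ := Subgroup.eq_top_of_card_eq _ hz
        have hb' : (⟨b, hb⟩ : (P : Subgroup G)) ∈ Subgroup.center (P : Subgroup G) := by
          rw [hct]; trivial
        exact congrArg Subtype.val (Subgroup.mem_center_iff.1 hb' ⟨a, ha⟩)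
      refine normalizer_ne_of_comm h hp hq hall P hc (le_antisymm ?_ Subgroup.le_normalizer)
      rw [← Subgroup.relIndex_eq_one, ← hN, ← he]
      exact he1
    have hle := hzdich.resolve_left hne
    rw [he1, mul_one] at hn
    have hf := card_fib P
    have h9 : 9 ≤ r * r := by
      have : 3 ≤ r := by
        rcases hr.out.eq_two_or_odd with e2 | e2
        · exact absurd e2 hr2
        · have := hr.out.two_le; omega
      nlinarith
    have hpos : 0 < Nat.card (P : Subgroup G) := Nat.card_pos
    refine Nat.le_of_mul_le_mul_right ?_ hpos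
    calc 9 * num G r * Nat.card (P : Subgroup G) = 9 * (num G r * Nat.card (P : Subgroup G)) := by ring
      _ = Nat.card G * (9 * Nat.card (fib P)) := by rw [hn]; ring
      _ ≤ Nat.card G * Nat.card (P : Subgroup G) := Nat.mul_le_mul_left _ (by nlinarith)
  · right
    refine ⟨e, ?_, hodd, (hM ▸ dvd_mul_left e _).trans N.card_subgroup_dvd_card, ?_, ?_, ?_, hzdich⟩
    · rcases hodd with ⟨k, hk⟩; omega
    · intro hre
      have : (P : Subgroup G).relIndex N ∣ (P : Subgroup G).index :=
        Subgroup.relIndex_dvd_index_of_le Subgroup.le_normalizer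
      exact P.not_dvd_index (hre.trans this)
    · rw [hn, ← card_fib P]; ring
    · exact Nat.card_le_card_of_injective _ Subtype.val_injective

/-- Involutions: none of the nontrivial normal subgroups is a `2`-group. -/
theorem no_normal_two (h : Hyp G) {p q : ℕ} (hp : p.Prime) (hq : q.Prime) (hPr : Primes G p q)
    (N : Subgroup G) [N.Normal] (hN : IsPGroup 2 N) : N = ⊥ := by
  classical
  haveI := Fact.mk Nat.prime_two
  by_contra hne
  obtain ⟨⟨n, hn⟩, hn1⟩ := Subgroup.ne_bot_iff_exists_ne_one.1 hne
  have hn1' : n ≠ 1 := fun e => hn1 (Subtype.ext e)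
  obtain ⟨P, hNP⟩ := hN.exists_le_sylow
  have hc : ∀ a ∈ (P : Subgroup G), ∀ b ∈ (P : Subgroup G), a * b = b * a := by
    have hsq : ∀ a ∈ (P : Subgroup G), a * a = 1 := fun a ha => by
      by_cases h1 : a = 1
      · rw [h1, one_mul]
      · have := pow_orderOf_eq_one a
        rwa [order_eq_of_mem h ha h1, pow_two] at this
    intro a ha b hb
    have e := hsq _ (mul_mem ha hb)
    calc a * b = (a * b)⁻¹ := eq_inv_of_mul_eq_one_left e
      _ = b⁻¹ * a⁻¹ := mul_inv_rev a b
      _ = b * a := by rw [inv_eq_of_mul_eq_one_left (hsq a ha), inv_eq_of_mul_eq_one_left (hsq b hb)]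
  haveI hPn : (P : Subgroup G).Normal := ⟨fun x hx g => by
    have hm : g⁻¹ * n * g ∈ N := by simpa using (inferInstance : N.Normal).conj_mem n hn g⁻¹
    have hm1 : g⁻¹ * n * g ≠ 1 := fun e => hn1' (by
      calc n = g * (g⁻¹ * n * g) * g⁻¹ := by group
        _ = 1 := by rw [e]; group)
    have hx' := (cen_eq_of_comm h P hc (hNP hm) hm1).symm ▸ hx
    rw [← cen_eq_of_comm h P hc (hNP hn) hn1', mem_cen]
    calc g * x * g⁻¹ * n = g * (x * (g⁻¹ * n * g)) * g⁻¹ := by group
      _ = g * ((g⁻¹ * n * g) * x) * g⁻¹ := by rw [mem_cen.1 hx']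
      _ = n * (g * x * g⁻¹) := by group⟩
  haveI : Group.IsNilpotent (P : Subgroup G) := P.2.isNilpotent
  haveI : Group.IsSolvable (G ⧸ (P : Subgroup G)) := by
    refine solvable_of_two p q hp hq fun s hs hd => ?_
    rw [← Subgroup.index_eq_card] at hd
    exact (hPr s hs (hd.trans (P : Subgroup G).index_dvd_card)).resolve_left
      fun e => P.not_dvd_index (e ▸ hd)
  exact h.ns ((Group.isSolvable_iff_subgroup_quotient (P : Subgroup G)).2 ⟨inferInstance, inferInstance⟩)

theorem involutions (h : Hyp G) {p q : ℕ} (hp : p.Prime) (hq : q.Prime) (hPr : Primes G p q)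
    {t : G} (ht : orderOf t = 2) : num G 2 * Nat.card (cen t) = Nat.card G := by
  classical
  haveI := Fact.mk Nat.prime_two
  have hconj : ∀ y : G, orderOf y = 2 → IsConj t y := by
    by_contra hcon
    push Not at hcon
    obtain ⟨y, hy, hny⟩ := hcon
    have key : ∀ g : G, y * (g * t * g⁻¹) = g * t * g⁻¹ * y := by
      intro g
      set x := g * t * g⁻¹ with hx
      have hxt : IsConj t x := isConj_iff.2 ⟨g, rfl⟩
      have hxo : orderOf x = 2 := by rw [hx, ← MulAut.conj_apply, MulEquiv.orderOf_eq, ht]
      clear_value x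
      have hx2 : x * x = 1 := by
        have := pow_orderOf_eq_one x
        rwa [hxo, pow_two] at this
      have hy2 : y * y = 1 := by
        have := pow_orderOf_eq_one y
        rwa [hy, pow_two] at this
      set d := x * y with hd
      have hd1 : d ≠ 1 := fun e => hny (by
        have : y = x := by
          calc y = (x * x) * y := by rw [hx2, one_mul]
            _ = x * d := by rw [hd, mul_assoc]
            _ = x := by rw [e, mul_one]
        rw [this]; exact hxt)
      rcases (h.pr d hd1).eq_two_or_odd' with e2 | hodd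
      · have := pow_orderOf_eq_one d
        rw [e2, pow_two, hd] at this
        calc y * x = (x * x) * (y * x) * (y * y) := by rw [hx2, hy2]; group
          _ = x * (x * y * (x * y)) * y := by group
          _ = x * y := by rw [this, mul_one]
      · exfalso
        obtain ⟨j, hj⟩ := exists_half hodd
        set w := (d ^ j)⁻¹ with hw
        have hinv : x * d * x⁻¹ = d⁻¹ := by
          rw [hd, mul_inv_rev, inv_eq_of_mul_eq_one_left hx2, inv_eq_of_mul_eq_one_left hy2,
            ← mul_assoc x x y, hx2, one_mul]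
        have hwx : w * x * w⁻¹ = y := by
          have hxw : x * w⁻¹ * x⁻¹ = w := by
            rw [hw, inv_inv, ← conj_pow, hinv, inv_pow]
          calc w * x * w⁻¹ = w * (x * w⁻¹ * x⁻¹) * x := by group
            _ = w * w * x := by rw [hxw]
            _ = (d ^ j * d ^ j)⁻¹ * x := by rw [hw, mul_inv_rev]
            _ = d⁻¹ * x := by rw [hj]
            _ = y := by
              rw [hd, mul_inv_rev, inv_eq_of_mul_eq_one_left hy2, mul_assoc, inv_mul_cancel, mul_one]
        exact hny (hxt.trans (isConj_iff.2 ⟨w, hwx⟩))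
    have hle : Subgroup.normalClosure ({t} : Set G) ≤ cen y := by
      rw [Subgroup.normalClosure, Subgroup.closure_le]
      intro z hz
      obtain ⟨s, hs, hsz⟩ := Group.mem_conjugatesOfSet_iff.1 hz
      rw [Set.mem_singleton_iff] at hs
      subst hs
      obtain ⟨g, hg⟩ := isConj_iff.1 hsz
      rw [← hg]
      exact mem_cen.2 (key g).symm
    have hbot := no_normal_two h hp hq hPr (Subgroup.normalClosure ({t} : Set G))
      ((isPGroup_cen h hy).to_le hle)
    have : t ∈ Subgroup.normalClosure ({t} : Set G) := Subgroup.subset_normalClosure rfl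
    rw [hbot, Subgroup.mem_bot] at this
    rw [this, orderOf_one] at ht
    omega
  have : num G 2 = (cen t).index := by
    rw [cen, ← ncard_carrier_eq_index, num, ← Nat.card_coe_set_eq]
    refine Nat.card_congr (Equiv.subtypeEquivRight fun z => ?_)
    rw [ConjClasses.mem_carrier_iff_mk_eq, ConjClasses.mk_eq_mk_iff_isConj]
    refine ⟨fun hz => (hconj z hz).symm, fun hz => ?_⟩
    obtain ⟨g, hg⟩ := isConj_iff.1 hz.symm
    rw [← hg, ← MulAut.conj_apply, MulEquiv.orderOf_eq, ht]
  rw [this, Subgroup.index_mul_card]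

end CfsgLib.Perm.FourOrbits
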