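import Mathlib
import Cfsg.Agent.Perm.ClassSize
import Cfsg.Agent.Char.Burnside
import Cfsg.Agent.Solv.ConverseHall
import Cfsg.Agent.Solv.MinimalNormal

/-!
Groups in which every nontrivial element has prime order and elements of equal order are
conjugate under an automorphism: centralisers, element counts, normalisers of Sylow subgroups.
-/

set_option autoImplicit false
set_option linter.style.haveILetI false

namespace CfsgLib.Perm.FourOrbits

open Subgroup

/-- The standing hypothesis. -/
structure Hyp (G : Type*) [Group G] : Prop where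
  pr : ∀ g : G, g ≠ 1 → (orderOf g).Prime
  tr : ∀ x y : G, orderOf x = orderOf y → ∃ φ : MulAut G, φ x = y
  ns : ¬ Group.IsSolvable G

variable {G : Type*} [Group G] [Finite G]

/-- The centraliser of an element. -/
abbrev cen (x : G) : Subgroup G := Subgroup.centralizer ({x} : Set G)

theorem mem_cen {x y : G} : y ∈ cen x ↔ y * x = x * y := Subgroup.mem_centralizer_singleton_iff

theorem self_mem_cen (x : G) : x ∈ cen x := mem_cen.2 rfl

theorem solvable_of_two (p q : ℕ) (hp : p.Prime) (hq : q.Prime) {H : Type*} [Group H] [Finite H]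
    (h : ∀ r, r.Prime → r ∣ Nat.card H → r = p ∨ r = q) : Group.IsSolvable H := by
  obtain ⟨a, b, e⟩ := CfsgLib.Solv.card_eq_prod_two_of_primeFactors Nat.card_pos.ne' h hp hq
  exact CfsgLib.Char.solvable_of_card_two_primes p q a b hp hq e

theorem order_eq_of_commute (h : Hyp G) {p : ℕ} (hp : p.Prime) {x y : G} (hx : orderOf x = p)
    (hc : y * x = x * y) (hy : y ≠ 1) : orderOf y = p := by
  by_contra hne
  have hyp := h.pr y hy
  have hcop : (orderOf y).Coprime (orderOf x) := hx ▸ (Nat.coprime_primes hyp hp).2 hne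
  have e := Commute.orderOf_mul_eq_mul_orderOf_of_coprime (x := y) (y := x) hc hcop
  have hxy : y * x ≠ 1 := by
    intro e1
    rw [e1, orderOf_one, hx] at e
    exact hp.one_lt.ne' (Nat.eq_one_of_mul_eq_one_left e.symm)
  have := h.pr _ hxy
  rw [e, hx] at this
  exact Nat.not_prime_mul hyp.ne_one hp.ne_one this

theorem order_eq_of_mem (h : Hyp G) {p : ℕ} [Fact p.Prime] {S : Sylow p G} {x : G}
    (hx : x ∈ (S : Subgroup G)) (hx1 : x ≠ 1) : orderOf x = p := by
  obtain ⟨k, hk⟩ := IsPGroup.iff_orderOf.1 S.2 ⟨x, hx⟩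
  rw [Subgroup.orderOf_mk] at hk
  have := h.pr x hx1
  rw [hk] at this ⊢
  rw [Nat.Prime.eq_one_of_pow this, pow_one]

theorem isPGroup_cen (h : Hyp G) {p : ℕ} [hp : Fact p.Prime] {x : G} (hx : orderOf x = p) :
    IsPGroup p (cen x) := by
  refine IsPGroup.iff_orderOf.2 fun y => ?_
  by_cases hy : (y : G) = 1
  · exact ⟨0, by rw [← Subgroup.orderOf_coe, hy, orderOf_one, pow_zero]⟩
  · exact ⟨1, by rw [← Subgroup.orderOf_coe, pow_one,
      order_eq_of_commute h hp.out hx (mem_cen.1 y.2) hy]⟩

/-- The centraliser of an element of order `p` is a Sylow `p`-subgroup. -/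
theorem exists_sylow_cen (h : Hyp G) {p : ℕ} [hp : Fact p.Prime] {x : G} (hx : orderOf x = p) :
    ∃ S : Sylow p G, (S : Subgroup G) = cen x := by
  obtain ⟨P⟩ : Nonempty (Sylow p G) := inferInstance
  have hPb : (P : Subgroup G) ≠ ⊥ := P.ne_bot_of_dvd_card (hx ▸ orderOf_dvd_natCard x)
  haveI : Nontrivial P := (Subgroup.nontrivial_iff_ne_bot _).2 hPb
  haveI : Nontrivial (Subgroup.center P) := P.2.center_nontrivial
  obtain ⟨⟨z, hz⟩, hz1⟩ := exists_ne (1 : Subgroup.center P)
  have hzG : (z : G) ≠ 1 := fun e => hz1 (Subtype.ext (Subtype.ext e))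
  have hzo : orderOf (z : G) = p := order_eq_of_mem h z.2 hzG
  have hle : (P : Subgroup G) ≤ cen (z : G) := fun u hu =>
    mem_cen.2 (congrArg Subtype.val (Subgroup.mem_center_iff.1 hz ⟨u, hu⟩))
  have heq := P.is_maximal' (isPGroup_cen h hzo) hle
  obtain ⟨φ, hφ⟩ := h.tr (z : G) x (hzo.trans hx.symm)
  have hmap : cen x = (P : Subgroup G).map φ.toMonoidHom := by
    rw [← heq]
    ext u
    rw [Subgroup.mem_map_equiv, mem_cen, mem_cen, ← φ.injective.eq_iff (a := φ.symm u * (z : G)), map_mul, map_mul, hφ,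
      MulEquiv.apply_symm_apply]
  refine ⟨Sylow.ofCard (cen x) ?_, Sylow.coe_ofCard _ _⟩
  rw [hmap, Subgroup.card_map_of_injective φ.injective, Sylow.card_eq_multiplicity]

theorem exists_sylow_mem (h : Hyp G) {p : ℕ} [hp : Fact p.Prime] {x : G} (hx : orderOf x = p) :
    ∃ S : Sylow p G, (S : Subgroup G) = cen x ∧ x ∈ (S : Subgroup G) := by
  obtain ⟨S, hS⟩ := exists_sylow_cen h hx
  exact ⟨S, hS, hS ▸ self_mem_cen x⟩

/-- The nontrivial central elements of a Sylow subgroup. -/
def fib {p : ℕ} (P : Sylow p G) : Set G :=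
  {x | x ∈ (P : Subgroup G) ∧ (∀ y ∈ (P : Subgroup G), y * x = x * y) ∧ x ≠ 1}

/-- The size of the centre of a Sylow subgroup. -/
noncomputable def zc {p : ℕ} (P : Sylow p G) : ℕ := Nat.card (Subgroup.center (P : Subgroup G))

theorem card_fib {p : ℕ} (P : Sylow p G) : Nat.card (fib P) + 1 = zc P := by
  classical
  letI := Fintype.ofFinite (Subgroup.center (P : Subgroup G))
  have e : fib P ≃ {z : Subgroup.center (P : Subgroup G) // z ≠ 1} :=
    { toFun := fun x => ⟨⟨⟨x.1, x.2.1⟩, Subgroup.mem_center_iff.2 fun y =>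
          Subtype.ext (x.2.2.1 y.1 y.2)⟩, fun e => x.2.2.2 (by
            exact congrArg (fun z : Subgroup.center (P : Subgroup G) => ((z : (P : Subgroup G)) : G)) e)⟩
      invFun := fun z => ⟨((z.1 : (P : Subgroup G)) : G), (z.1 : (P : Subgroup G)).2, fun y hy =>
          congrArg Subtype.val (Subgroup.mem_center_iff.1 z.1.2 ⟨y, hy⟩),
          fun e => z.2 (Subtype.ext (Subtype.ext e))⟩
      left_inv := fun x => rfl
      right_inv := fun z => rfl }
  rw [Nat.card_congr e, zc, Nat.card_eq_fintype_card, Nat.card_eq_fintype_card,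
    Fintype.card_subtype_compl, Fintype.card_subtype_eq]
  exact Nat.sub_add_cancel Fintype.card_pos

theorem mem_fib_iff (h : Hyp G) {p : ℕ} [hp : Fact p.Prime] (P : Sylow p G) (x : G) :
    x ∈ fib P ↔ orderOf x = p ∧ cen x = (P : Subgroup G) := by
  constructor
  · rintro ⟨hx, hc, h1⟩
    have hxo := order_eq_of_mem h hx h1
    exact ⟨hxo, P.is_maximal' (isPGroup_cen h hxo) fun u hu => mem_cen.2 (hc u hu)⟩
  · rintro ⟨hxo, hC⟩
    refine ⟨hC ▸ self_mem_cen x, fun u hu => mem_cen.1 (hC.symm ▸ hu), ?_⟩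
    rintro rfl
    exact hp.out.one_lt.ne (orderOf_one (G := G) ▸ hxo)

/-- The number of elements of order `p`. -/
noncomputable def num (G : Type*) [Group G] (p : ℕ) : ℕ := Nat.card {x : G // orderOf x = p}

theorem num_mul (h : Hyp G) {p : ℕ} [hp : Fact p.Prime] (P : Sylow p G) :
    num G p * Nat.card (Subgroup.normalizer ((P : Subgroup G) : Set G)) =
      Nat.card G * Nat.card (fib P) := by
  classical
  letI := Fintype.ofFinite (Sylow p G)
  choose f hf using fun x : {x : G // orderOf x = p} => exists_sylow_cen h x.2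
  have hsum : num G p = ∑ S : Sylow p G, Nat.card (fib S) := by
    rw [num, ← Nat.card_congr (Equiv.sigmaFiberEquiv f), Nat.card_sigma]
    refine Finset.sum_congr rfl fun S _ => Nat.card_congr
      { toFun := fun x => ⟨x.1.1, (mem_fib_iff h S _).2 ⟨x.1.2, by rw [← hf x.1, x.2]⟩⟩
        invFun := fun x => ⟨⟨x.1, ((mem_fib_iff h S _).1 x.2).1⟩, Sylow.ext (by
          rw [hf]; exact ((mem_fib_iff h S _).1 x.2).2)⟩
        left_inv := fun x => rfl
        right_inv := fun x => rfl }
  have hconst : ∀ S : Sylow p G, Nat.card (fib S) = Nat.card (fib P) := by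
    intro S
    have e : zc S = zc P := Nat.card_congr (Subgroup.centerCongr (S.equiv P)).toEquiv
    have := card_fib S
    have := card_fib P
    omega
  rw [hsum, Finset.sum_congr rfl fun S _ => hconst S, Finset.sum_const, Finset.card_univ,
    ← Nat.card_eq_fintype_card, smul_eq_mul, Sylow.card_eq_index_normalizer P,
    mul_right_comm]
  simp only [Sylow.coe_coe, Subgroup.index_mul_card]

theorem card_eq_one_add (h : Hyp G) (s : Finset ℕ) (hs : ∀ r ∈ s, r.Prime)
    (hall : ∀ g : G, g ≠ 1 → orderOf g ∈ s) : Nat.card G = 1 + ∑ r ∈ s, num G r := by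
  classical
  letI := Fintype.ofFinite G
  have key : (Finset.univ : Finset G).erase 1 =
      s.biUnion fun r => Finset.univ.filter fun g : G => orderOf g = r := by
    ext g
    simp only [Finset.mem_erase, Finset.mem_univ, and_true, Finset.mem_biUnion, Finset.mem_filter,
      true_and]
    refine ⟨fun hg => ⟨_, hall g hg, rfl⟩, ?_⟩
    rintro ⟨r, hr, e⟩ rfl
    rw [orderOf_one] at e
    exact (hs r hr).ne_one e.symm
  have hc := Finset.card_erase_add_one (Finset.mem_univ (1 : G))
  rw [key, Finset.card_biUnion, Finset.card_univ] at hc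
  · rw [Nat.card_eq_fintype_card, ← hc, add_comm]
    congr 1
    refine Finset.sum_congr rfl fun r _ => ?_
    rw [num, Nat.card_eq_fintype_card, Fintype.card_subtype]
  · intro a _ b _ hab
    rw [Function.onFun, Finset.disjoint_left]
    intro g ha hb
    simp only [Finset.mem_filter] at ha hb
    exact hab (ha.2 ▸ hb.2)

/-- An involution normalising a Sylow subgroup of odd order inverts it. -/
theorem inverted (h : Hyp G) {p : ℕ} [hp : Fact p.Prime] (hp2 : p ≠ 2) (P : Sylow p G) {t : G}
    (ht : orderOf t = 2) (htn : t ∈ Subgroup.normalizer ((P : Subgroup G) : Set G)) :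
    ∀ u ∈ (P : Subgroup G), t * u * t⁻¹ = u⁻¹ := by
  classical
  have ht2 : t * t = 1 := by
    have := pow_orderOf_eq_one t
    rwa [ht, pow_two] at this
  let φ : (P : Subgroup G) →* (P : Subgroup G) :=
    { toFun := fun u => ⟨t * u * t⁻¹, ((Subgroup.mem_normalizer_iff.1 htn) u).1 u.2⟩
      map_one' := Subtype.ext (by simp)
      map_mul' := fun a b => Subtype.ext (by simp [mul_assoc]) }
  have hfix : MonoidHom.FixedPointFree φ := by
    intro u hu
    by_contra hu1
    have huG : (u : G) ≠ 1 := fun e => hu1 (Subtype.ext e)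
    have e : t * (u : G) * t⁻¹ = u := congrArg Subtype.val hu
    have hc : (u : G) * t = t * u := (mul_inv_eq_iff_eq_mul.1 e).symm
    have := order_eq_of_commute h Nat.prime_two ht hc huG
    exact hp2 ((order_eq_of_mem h u.2 huG).symm.trans this)
  have hinv : Function.Involutive φ := fun u => Subtype.ext (by
    show t * (t * (u : G) * t⁻¹) * t⁻¹ = u
    have hti : t⁻¹ = t := inv_eq_of_mul_eq_one_left ht2
    rw [hti, ← mul_assoc, ← mul_assoc, ht2, one_mul, mul_assoc, ht2, mul_one])
  intro u hu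
  have := congrFun (hfix.coe_eq_inv_of_involutive hinv) ⟨u, hu⟩
  exact congrArg Subtype.val this

/-- A Sylow subgroup inverted by an involution is abelian. -/
theorem comm_of_inverted {p : ℕ} (P : Sylow p G) {t : G}
    (hi : ∀ u ∈ (P : Subgroup G), t * u * t⁻¹ = u⁻¹) {a b : G} (ha : a ∈ (P : Subgroup G))
    (hb : b ∈ (P : Subgroup G)) : a * b = b * a := by
  have e : (a * b)⁻¹ = a⁻¹ * b⁻¹ := by
    rw [← hi _ (mul_mem ha hb), ← hi a ha, ← hi b hb]
    group
  apply inv_injective
  rw [e, mul_inv_rev]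

theorem zc_eq_of_comm {p : ℕ} (P : Sylow p G)
    (hc : ∀ a ∈ (P : Subgroup G), ∀ b ∈ (P : Subgroup G), a * b = b * a) :
    zc P = Nat.card (P : Subgroup G) := by
  have : Subgroup.center (P : Subgroup G) = ⊤ :=
    top_le_iff.1 fun u _ => Subgroup.mem_center_iff.2 fun v => Subtype.ext (hc v v.2 u u.2)
  rw [zc, this, Subgroup.card_top]

theorem cen_eq_of_comm (h : Hyp G) {p : ℕ} [Fact p.Prime] (P : Sylow p G)
    (hc : ∀ a ∈ (P : Subgroup G), ∀ b ∈ (P : Subgroup G), a * b = b * a) {u : G}
    (hu : u ∈ (P : Subgroup G)) (hu1 : u ≠ 1) : cen u = (P : Subgroup G) :=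
  P.is_maximal' (isPGroup_cen h (order_eq_of_mem h hu hu1)) fun v hv => mem_cen.2 (hc v hv u hu)

theorem exists_half {w : G} (hodd : Odd (orderOf w)) : ∃ j : ℕ, (w ^ j) * (w ^ j) = w := by
  obtain ⟨m, hm⟩ := hodd
  refine ⟨m + 1, ?_⟩
  rw [← pow_add, show m + 1 + (m + 1) = (2 * m + 1) + 1 by ring, ← hm, pow_succ, pow_orderOf_eq_one,
    one_mul]

/-- If an involution normalises a Sylow subgroup of odd order, the normaliser is generalised
dihedral. -/
theorem normalizer_dihedral (h : Hyp G) {p : ℕ} [hp : Fact p.Prime] (hp2 : p ≠ 2) (P : Sylow p G)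
    (hPne : (P : Subgroup G) ≠ ⊥)
    {t : G} (ht : orderOf t = 2) (htn : t ∈ Subgroup.normalizer ((P : Subgroup G) : Set G)) :
    (∀ y ∈ Subgroup.normalizer ((P : Subgroup G) : Set G),
      y ∈ (P : Subgroup G) ∨ t * y ∈ (P : Subgroup G)) ∧
    Nat.card (Subgroup.normalizer ((P : Subgroup G) : Set G)) = 2 * Nat.card (P : Subgroup G) := by
  classical
  have hi := inverted h hp2 P ht htn
  have hc : ∀ a ∈ (P : Subgroup G), ∀ b ∈ (P : Subgroup G), a * b = b * a :=
    fun a ha b hb => comm_of_inverted P hi ha hb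
  obtain ⟨⟨x, hx⟩, hx1'⟩ := Subgroup.ne_bot_iff_exists_ne_one.1 hPne
  have hx1 : x ≠ 1 := fun e => hx1' (Subtype.ext e)
  have hC := cen_eq_of_comm h P hc hx hx1
  have ht2 : t * t = 1 := by
    have := pow_orderOf_eq_one t
    rwa [ht, pow_two] at this
  have hti : t⁻¹ = t := inv_eq_of_mul_eq_one_left ht2
  have htP : t ∉ (P : Subgroup G) := fun e => hp2 ((order_eq_of_mem h e fun e1 => by
    rw [e1, orderOf_one] at ht; omega).symm.trans ht)
  have htu : ∀ u ∈ (P : Subgroup G), t * u = u⁻¹ * t := fun u hu => by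
    rw [← hi u hu]; group
  have hmain : ∀ y ∈ Subgroup.normalizer ((P : Subgroup G) : Set G),
      y ∈ (P : Subgroup G) ∨ t * y ∈ (P : Subgroup G) := by
    intro y hy
    have hinv' : ∀ u ∈ (P : Subgroup G), (y * t * y⁻¹) * u * (y * t * y⁻¹)⁻¹ = u⁻¹ := by
      intro u hu
      have hu' : y⁻¹ * u * y ∈ (P : Subgroup G) := by
        have := ((Subgroup.mem_normalizer_iff.1 (inv_mem hy)) u).1 hu
        simpa using this
      have := hi _ hu'
      calc (y * t * y⁻¹) * u * (y * t * y⁻¹)⁻¹ = y * (t * (y⁻¹ * u * y) * t⁻¹) * y⁻¹ := by group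
        _ = u⁻¹ := by rw [this]; group
    set v := y * t * y⁻¹ * t with hv
    have hvP : v ∈ (P : Subgroup G) := by
      rw [← hC, mem_cen]
      have e1 := hinv' _ (inv_mem hx)
      have e2 := htu x hx
      calc v * x = y * t * y⁻¹ * (t * x) := by rw [hv]; group
        _ = y * t * y⁻¹ * (x⁻¹ * t) := by rw [e2]
        _ = (y * t * y⁻¹ * x⁻¹ * (y * t * y⁻¹)⁻¹) * (y * t * y⁻¹ * t) := by group
        _ = x * v := by rw [e1, inv_inv]
    have hodd : Odd (orderOf v) := by
      by_cases h1 : v = 1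
      · rw [h1, orderOf_one]; exact odd_one
      · rw [order_eq_of_mem h hvP h1]; exact hp.out.odd_of_ne_two hp2
    obtain ⟨j, hj⟩ := exists_half hodd
    set u := (v ^ j)⁻¹ with hu
    have huP : u ∈ (P : Subgroup G) := inv_mem (pow_mem hvP j)
    have hyt : y * t = v * t * y := by
      have hvt : v * t = y * t * y⁻¹ := by rw [hv, mul_assoc, ht2, mul_one]
      rw [hvt]; group
    have hcomm : (u * y) * t = t * (u * y) := by
      have huv : u * v = u⁻¹ := by rw [hu, inv_inv]; nth_rw 2 [← hj]; group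
      calc (u * y) * t = u * (y * t) := by group
        _ = (u * v) * t * y := by rw [hyt]; group
        _ = t * u * y := by rw [huv, ← htu u huP]
        _ = t * (u * y) := by group
    by_cases h1 : u * y = 1
    · left
      rw [eq_inv_of_mul_eq_one_right h1]
      exact inv_mem huP
    right
    have hord := order_eq_of_commute h Nat.prime_two ht hcomm h1
    have huy : u * y ∈ Subgroup.normalizer ((P : Subgroup G) : Set G) :=
      mul_mem (Subgroup.le_normalizer huP) hy
    have hi2 := inverted h hp2 P hord huy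
    have : t * (u * y) ∈ (P : Subgroup G) := by
      rw [← hC, mem_cen]
      have e1 := hi2 x hx
      have e2 := hi x⁻¹ (inv_mem hx)
      calc t * (u * y) * x = t * (u * y * x * (u * y)⁻¹) * (u * y) := by group
        _ = t * x⁻¹ * t⁻¹ * (t * (u * y)) := by rw [e1]; group
        _ = x * (t * (u * y)) := by rw [e2, inv_inv]
    have e : t * (u * y) = u⁻¹ * (t * y) := by rw [← mul_assoc, htu u huP, mul_assoc]
    rw [e] at this
    exact (Subgroup.mul_mem_cancel_left _ (inv_mem huP)).1 this
  refine ⟨hmain, ?_⟩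
  set f : (P : Subgroup G) ⊕ (P : Subgroup G) → Subgroup.normalizer ((P : Subgroup G) : Set G) :=
    Sum.elim (fun u => ⟨u.1, Subgroup.le_normalizer u.2⟩)
      (fun u => ⟨t * u.1, mul_mem htn (Subgroup.le_normalizer u.2)⟩) with hf
  have hbij : Function.Bijective f := by
    constructor
    · rintro (a | a) (b | b) e <;> have e' := congrArg Subtype.val e <;>
        simp only [hf, Sum.elim_inl, Sum.elim_inr] at e'
      · exact congrArg _ (Subtype.ext e')
      · exact absurd ((Subgroup.mul_mem_cancel_right _ b.2).1 (e' ▸ a.2)) htP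
      · exact absurd ((Subgroup.mul_mem_cancel_right _ a.2).1 (e' ▸ b.2)) htP
      · exact congrArg _ (Subtype.ext (mul_left_cancel e'))
    · intro y
      rcases hmain y y.2 with hy | hy
      · exact ⟨Sum.inl ⟨_, hy⟩, rfl⟩
      · refine ⟨Sum.inr ⟨_, hy⟩, Subtype.ext ?_⟩
        show t * (t * (y : G)) = y
        rw [← mul_assoc, ht2, one_mul]
  rw [← Nat.card_eq_of_bijective f hbij, Nat.card_sum, two_mul]

/-- Elements of two different odd prime orders: neither normalises the Sylow subgroup of the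
other, if that normaliser is generalised dihedral. -/
theorem not_mem_normalizer (h : Hyp G) {p r : ℕ} [hp : Fact p.Prime] (hp2 : p ≠ 2) (hr2 : r ≠ 2)
    (hr : r.Prime) (hrp : r ≠ p) (P : Sylow p G) (hPne : (P : Subgroup G) ≠ ⊥) {t : G} (ht : orderOf t = 2)
    (htn : t ∈ Subgroup.normalizer ((P : Subgroup G) : Set G)) {x : G} (hx : orderOf x = r) :
    x ∉ Subgroup.normalizer ((P : Subgroup G) : Set G) := by
  intro hxn
  have hx1 : x ≠ 1 := fun e => by
    rw [e, orderOf_one] at hx
    exact hr.ne_one hx.symm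
  obtain ⟨hmain, -⟩ := normalizer_dihedral h hp2 P hPne ht htn
  rcases hmain x hxn with hy | hy
  · exact hrp (hx.symm.trans (order_eq_of_mem h hy hx1))
  · have ht2 : t * t = 1 := by
      have := pow_orderOf_eq_one t
      rwa [ht, pow_two] at this
    have hi := inverted h hp2 P ht htn
    have e := hi _ hy
    have : x * x = 1 := by
      have hti : t⁻¹ = t := inv_eq_of_mul_eq_one_left ht2
      rw [mul_inv_rev, ← mul_assoc t t x, ht2, one_mul, hti] at e
      calc x * x = x * (x * t) * t := by rw [mul_assoc, mul_assoc x t t, ht2, mul_one]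
        _ = x * (x⁻¹ * t) * t := by rw [e]
        _ = t * t := by group
        _ = 1 := ht2
    have hdvd := orderOf_dvd_of_pow_eq_one (show x ^ 2 = 1 by rw [pow_two]; exact this)
    rw [hx] at hdvd
    exact hr2 ((Nat.prime_dvd_prime_iff_eq hr Nat.prime_two).1 hdvd)

end CfsgLib.Perm.FourOrbits
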