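import Cfsg.Agent.Perm.FourOrbitsMain

/-!
Final steps for groups with four automorphism orbits: the order is sixty.
-/

set_option autoImplicit false
set_option linter.style.haveILetI false

namespace CfsgLib.Perm.FourOrbits

open Subgroup
open scoped Pointwise

variable {G : Type*} [Group G] [Finite G] {p q : ℕ}

theorem mem_smul_sylow {r : ℕ} (g u : G) (P : Sylow r G) :
    u ∈ ((g • P : Sylow r G) : Subgroup G) ↔ g⁻¹ * u * g ∈ (P : Subgroup G) := by
  rw [Sylow.coe_subgroup_smul, Subgroup.mem_pointwise_smul_iff_inv_smul_mem, MulAut.smul_def,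
    ← map_inv, MulAut.conj_apply, inv_inv]

/-- Not both odd primes divide `part G 2 - 1`. -/
theorem Setup.not_both (S : Setup G p q) (hp : Inverted G p) :
    ¬ (p ∣ part G 2 - 1 ∧ q ∣ part G 2 - 1) := by
  classical
  rintro ⟨hpd, hqd⟩
  haveI := Fact.mk Nat.prime_two
  obtain ⟨-, ha, hA⟩ := S.two_facts
  obtain ⟨t, ht⟩ := exists_prime_orderOf_dvd_card' (G := G) 2 S.d2
  obtain ⟨A, -, -, -, hN⟩ := hA t ht
  set H := Subgroup.normalizer ((A : Subgroup G) : Set G) with hH
  set A' := (A : Subgroup G).subgroupOf H with hA'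
  haveI : A'.Normal := Subgroup.normal_in_normalizer
  have hcA : Nat.card A' = part G 2 := by
    rw [hA', Nat.card_congr (Subgroup.subgroupOfEquivOfLe Subgroup.le_normalizer).toEquiv,
      card_sylow_eq_part A]
  have hidx : A'.index = part G 2 - 1 := by
    have := A'.card_mul_index
    rw [hcA, hN] at this
    exact Nat.eq_of_mul_eq_mul_left (by omega) this
  have hcop : (Nat.card A').Coprime A'.index := by
    rw [hcA, hidx, Nat.coprime_comm]
    have : part G 2 = part G 2 - 1 + 1 := by omega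
    conv => arg 2; rw [this]
    simp
  obtain ⟨K, hK⟩ := Subgroup.exists_right_complement'_of_coprime hcop
  have hcK : Nat.card K = part G 2 - 1 := by rw [← hidx, hK.symm.index_eq_card]
  have hKo : ∀ r : ℕ, r.Prime → r ∣ Nat.card K → r = p ∨ r = q := by
    intro r hr hd
    refine (S.only r hr ((hd.trans K.card_subgroup_dvd_card).trans H.card_subgroup_dvd_card)).resolve_left ?_
    rintro rfl
    rw [hcK] at hd
    have : 2 ∣ part G 2 := dvd_pow_self 2
      (Nat.prime_two.factorization_pos_of_dvd Nat.card_pos.ne' S.d2).ne'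
    omega
  haveI : Group.IsSolvable K := solvable_of_two p q S.pp S.qq hKo
  haveI : Nontrivial K := by
    rw [← Finite.one_lt_card_iff_nontrivial, hcK]; omega
  obtain ⟨M, s, hs, hM, hMc, -, hMp⟩ := CfsgLib.Solv.exists_minimal_normal_pGroup (G := K)
  haveI := hM.1
  haveI := Fact.mk hs
  obtain ⟨⟨y, hy⟩, hy1⟩ := Subgroup.ne_bot_iff_exists_ne_one.1 hM.2.1
  have hy1' : ((y : H) : G) ≠ 1 := fun e => hy1 (Subtype.ext (Subtype.ext (Subtype.ext e)))
  have hMcard : s ∣ Nat.card M := by
    obtain ⟨k, hk⟩ := IsPGroup.iff_card.1 hMp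
    rw [hk]
    refine dvd_pow_self s fun e => hM.2.1 (Subgroup.card_eq_one.1 ?_)
    rw [hk, e, pow_zero]
  have hs' := hKo s hs (hMcard.trans M.card_subgroup_dvd_card)
  obtain ⟨r, hr, hrs, hrK⟩ : ∃ r, r.Prime ∧ r ≠ s ∧ r ∣ Nat.card K := by
    rcases hs' with rfl | rfl
    · exact ⟨q, S.qq, S.pq.symm, hcK ▸ hqd⟩
    · exact ⟨p, S.pp, S.pq, hcK ▸ hpd⟩
  have hs2 : s ≠ 2 := by rcases hs' with rfl | rfl; exacts [S.p2, S.q2]
  have hr2 : r ≠ 2 := by rcases hKo r hr hrK with rfl | rfl; exacts [S.p2, S.q2]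
  haveI := Fact.mk hr
  obtain ⟨x, hx⟩ := exists_prime_orderOf_dvd_card' r hrK
  obtain ⟨P, t', ht', htn⟩ : Inverted G s := by
    rcases hs' with rfl | rfl
    exacts [hp, S.both_inverted hp]
  obtain ⟨hcomm⟩ : Nonempty (∀ R : Sylow s G, ∀ a ∈ (R : Subgroup G), ∀ b ∈ (R : Subgroup G),
      a * b = b * a) := by
    refine ⟨fun R => ?_⟩
    obtain ⟨g, hg⟩ := MulAction.exists_smul_eq G P R
    intro a ha b hb
    subst hg
    rw [mem_smul_sylow] at ha hb
    have e := comm_of_inverted P (inverted S.hyp hs2 P ht' htn) ha hb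
    calc a * b = g * (g⁻¹ * a * g * (g⁻¹ * b * g)) * g⁻¹ := by group
      _ = g * (g⁻¹ * b * g * (g⁻¹ * a * g)) * g⁻¹ := by rw [e]
      _ = b * a := by group
  have hyo : orderOf ((y : H) : G) = s := by
    obtain ⟨k, hk⟩ := IsPGroup.iff_orderOf.1 hMp ⟨y, hy⟩
    rw [Subgroup.orderOf_mk, ← Subgroup.orderOf_coe, ← Subgroup.orderOf_coe] at hk
    have := S.hyp.pr _ hy1'
    rw [hk] at this ⊢
    rw [Nat.Prime.eq_one_of_pow this, pow_one]
  obtain ⟨R, hR, hyR⟩ := exists_sylow_mem S.hyp hyo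
  set z : G := ((x : H) : G) with hz
  set y' : G := ((y : H) : G) with hy'
  have hzn : z ∈ Subgroup.normalizer ((R : Subgroup G) : Set G) := by
    have hmem : x * y * x⁻¹ ∈ M := hM.1.conj_mem y hy x
    have hcy : (x * y * x⁻¹) * y = y * (x * y * x⁻¹) :=
      congrArg Subtype.val (hMc.is_comm.comm ⟨_, hmem⟩ ⟨y, hy⟩)
    have hin : z * y' * z⁻¹ ∈ (R : Subgroup G) := by
      rw [hR, mem_cen]
      exact congrArg (fun w : K => ((w : H) : G)) hcy
    have hne : z * y' * z⁻¹ ≠ 1 := fun e => hy1' (by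
      rw [conj_eq_one_iff] at e; exact e)
    have e1 : cen (z * y' * z⁻¹) = (R : Subgroup G) := cen_eq_of_comm S.hyp R (hcomm R) hin hne
    rw [Subgroup.mem_normalizer_iff]
    intro u
    conv_rhs => rw [← e1]
    rw [hR, mem_cen, mem_cen]
    refine ⟨fun e => ?_, fun e => ?_⟩
    · calc z * u * z⁻¹ * (z * y' * z⁻¹) = z * (u * y') * z⁻¹ := by group
        _ = z * (y' * u) * z⁻¹ := by rw [e]
        _ = z * y' * z⁻¹ * (z * u * z⁻¹) := by group
    · calc u * y' = z⁻¹ * (z * u * z⁻¹ * (z * y' * z⁻¹)) * z := by group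
        _ = z⁻¹ * (z * y' * z⁻¹ * (z * u * z⁻¹)) * z := by rw [e]
        _ = y' * u := by group
  obtain ⟨t'', ht'', htn''⟩ : ∃ t, orderOf t = 2 ∧ t ∈ Subgroup.normalizer ((R : Subgroup G) : Set G) := by
    obtain ⟨g, hg⟩ := MulAction.exists_smul_eq G P R
    refine ⟨MulAut.conj g t', by rw [MulEquiv.orderOf_eq]; exact ht', ?_⟩
    subst hg
    rw [Subgroup.mem_normalizer_iff]
    intro u
    rw [mem_smul_sylow, mem_smul_sylow]
    refine (Subgroup.mem_normalizer_iff.1 htn _).trans (iff_of_eq ?_)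
    congr 1
    simp only [MulAut.conj_apply]
    group
  refine not_mem_normalizer S.hyp hs2 hr2 hr hrs R ?_ ht'' htn'' (x := z) ?_ hzn
  · exact fun e => hy1' (by rw [e, Subgroup.mem_bot] at hyR; exact hyR)
  · rw [hz, Subgroup.orderOf_coe, Subgroup.orderOf_coe]; exact hx

theorem Setup.two_eq (S : Setup G p q) (hp : Inverted G p) :
    part G 2 = p + 1 ∨ part G 2 = q + 1 := by
  classical
  obtain ⟨-, ha, hA⟩ := S.two_facts
  obtain ⟨t, ht⟩ := exists_prime_orderOf_dvd_card' (G := G) 2 S.d2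
  obtain ⟨A, -, -, -, hN⟩ := hA t ht
  have hd : part G 2 - 1 ∣ Nat.card G := by
    refine (hN ▸ dvd_mul_left (part G 2 - 1) (part G 2)).trans ?_
    exact Subgroup.card_subgroup_dvd_card _
  have h2 : 2 ∣ part G 2 := dvd_pow_self 2
    (Nat.prime_two.factorization_pos_of_dvd Nat.card_pos.ne' S.d2).ne'
  have key : ∀ {p q : ℕ}, Setup G p q → ¬ q ∣ part G 2 - 1 → part G 2 = p + 1 := by
    intro p q S hq
    have hpp : ∀ r, r.Prime → r ∣ part G 2 - 1 → r = p := by
      intro r hr hrd
      rcases S.only r hr (hrd.trans hd) with e | e | e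
      · subst e; omega
      · exact e
      · exact absurd (e ▸ hrd) hq
    have hne : part G 2 - 1 ≠ 0 := by omega
    have hpow : part G 2 - 1 = p ^ (part G 2 - 1).primeFactorsList.length :=
      Nat.eq_prime_pow_of_unique_prime_dvd hne fun {r} hr hrd => hpp r hr hrd
    set i := (part G 2 - 1).primeFactorsList.length
    have hi : 1 ≤ i := by
      by_contra h0
      obtain h0' : i = 0 := by omega
      rw [h0', pow_zero] at hpow; omega
    have hn : 2 ≤ (Nat.card G).factorization 2 := by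
      by_contra h'
      have : part G 2 ≤ 2 ^ 1 := Nat.pow_le_pow_right two_pos (by omega)
      omega
    have := exp_eq_one_of_two_pow S.pp.two_le (S.pp.odd_of_ne_two S.p2) hi hn
      (show p ^ i + 1 = 2 ^ (Nat.card G).factorization 2 by
        show p ^ i + 1 = part G 2
        omega)
    rw [this, pow_one] at hpow
    omega
  by_cases hq : q ∣ part G 2 - 1
  · exact Or.inr (key S.symm fun hp' => S.not_both hp ⟨hp', hq⟩)
  · exact Or.inl (key S hq)

theorem Setup.parts (S : Setup G p q) (hp : Inverted G p) (h : part G 2 = p + 1) :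
    part G p = p ∧ part G q = p + 2 := by
  have he := S.equation hp
  have hp3 : 3 ≤ p := by have := S.pp.two_le; have := S.p2; omega
  obtain ⟨k, hk⟩ : ∃ k, part G p = p * p ^ k := by
    refine ⟨(Nat.card G).factorization p - 1, ?_⟩
    rw [← pow_succ', part]
    congr 1
    have := S.pp.factorization_pos_of_dvd Nat.card_pos.ne' S.dp
    omega
  rw [h, hk] at he
  obtain ⟨h1, h2⟩ := twin_eq hp3 S.symm.three_le
    (by
      rcases Nat.eq_zero_or_pos k with e | e
      · exact Or.inl (by rw [e, pow_zero])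
      · exact Or.inr (Nat.le_self_pow e.ne' p)) he
  exact ⟨by rw [hk, h1, mul_one], h2⟩

theorem Setup.sixty_or (S : Setup G p q) (hp : Inverted G p) (h : part G 2 = p + 1) :
    (part G 2 = 4 ∧ p = 3 ∧ q = 5 ∧ Nat.card G = 60) ∨
    (part G 2 = 8 ∧ p = 7 ∧ q = 3 ∧ part G q = 9) := by
  obtain ⟨hb, hc⟩ := S.parts hp h
  obtain ⟨-, ha, -⟩ := S.two_facts
  have hg := S.card_eq
  set n := (Nat.card G).factorization 2
  set l := (Nat.card G).factorization q with hl
  have hl1 : 1 ≤ l := S.qq.factorization_pos_of_dvd Nat.card_pos.ne' S.dq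
  have hn : part G 2 = 2 ^ n := rfl
  have hq : part G q = q ^ l := rfl
  have hq3 : 3 ≤ q := by have := S.qq.two_le; have := S.q2; omega
  rcases Nat.lt_or_ge l 2 with hl' | hl'
  · obtain h1 : l = 1 := by omega
    rw [h1, pow_one] at hq
    left
    have h3 : ¬ 3 ∣ 2 ^ n := fun e => by
      have := Nat.prime_three.dvd_of_dvd_pow e
      omega
    have h3' : 3 ∣ p ∨ 3 ∣ q := by omega
    have hp3 : p = 3 := by
      rcases h3' with e | e
      · exact ((Nat.prime_dvd_prime_iff_eq Nat.prime_three S.pp).1 e).symm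
      · have := ((Nat.prime_dvd_prime_iff_eq Nat.prime_three S.qq).1 e).symm
        have := S.pp.two_le
        omega
    refine ⟨by omega, hp3, by omega, ?_⟩
    rw [hg, hb, hq, h, hp3, show q = 5 by omega]
  · right
    have h9 := pow_eq_two_pow_add_one hq3 (S.qq.odd_of_ne_two S.q2) hl'
      (show q ^ l = 2 ^ n + 1 by omega)
    refine ⟨by omega, by omega, ?_, by omega⟩
    have : q ∣ 3 ^ 2 := ⟨q ^ (l - 1), by rw [← pow_succ', show l - 1 + 1 = l by omega, h9]; norm_num⟩
    exact (Nat.prime_dvd_prime_iff_eq S.qq Nat.prime_three).1 (S.qq.dvd_of_dvd_pow this)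

/-- Points of the affine plane of order three, with the permutations induced by an involution and
by the translations. -/
def swapF (s : Fin 2) (v : Fin 3 × Fin 3) : Fin 3 × Fin 3 :=
  if v = (1, 0) then (0, 1) else if v = (0, 1) then (1, 0)
  else if v = (2, 0) then (0, 2) else if v = (0, 2) then (2, 0)
  else if v = (0, 0) then (0, 0)
  else if s = 0 then
    (if v = (1, 1) then (1, 2) else if v = (1, 2) then (1, 1) else if v = (2, 2) then (2, 1) else (2, 2))
  else
    (if v = (1, 1) then (2, 1) else if v = (2, 1) then (1, 1) else if v = (2, 2) then (1, 2) else (2, 2))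

theorem exists_bad : ∀ s : Fin 2, ∃ v : Fin 3 × Fin 3,
    ∀ k ∈ [1, 2, 3, 7], ∃ x, (fun x => swapF s (x + v))^[k] x ≠ x := by decide

theorem Setup.not_504 (S : Setup G p q) (hp : Inverted G p)
    (h : part G 2 = 8) (hp7 : p = 7) (hq : q = 3) (hc : part G q = 9) : False := by
  classical
  subst hp7 hq
  haveI := Fact.mk Nat.prime_two
  haveI := Fact.mk Nat.prime_three
  obtain ⟨hb, -⟩ := S.parts hp h
  obtain ⟨Q, t, ht, htn⟩ := S.both_inverted hp
  have hi := inverted S.hyp (by norm_num) Q ht htn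
  have hQc : ∀ a ∈ (Q : Subgroup G), ∀ b ∈ (Q : Subgroup G), a * b = b * a :=
    fun a ha b hb => comm_of_inverted Q hi ha hb
  have hQ9 : Nat.card (Q : Subgroup G) = 9 := by rw [card_sylow_eq_part Q, hc]
  obtain ⟨-, -, hA⟩ := S.two_facts
  obtain ⟨A, hAc, htA, hAcomm, hN⟩ := hA t ht
  set H := Subgroup.normalizer ((A : Subgroup G) : Set G) with hH
  have hH56 : Nat.card H = 56 := by rw [hN, h]
  have hidx : H.index = 9 := by
    have := H.index_mul_card
    rw [hH56, S.card_eq, h, hb, hc] at this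
    omega
  have ht2 : t * t = 1 := by
    have := pow_orderOf_eq_one t
    rwa [ht, pow_two] at this
  have ht1 : t ≠ 1 := fun e => by rw [e, orderOf_one] at ht; omega
  have htH : t ∈ H := Subgroup.le_normalizer htA
  have hQH : (Q : Subgroup G) ⊓ H = ⊥ :=
    Subgroup.inf_eq_bot_of_coprime (by rw [hQ9, hH56]; norm_num)
  have hQ1 : ∀ u ∈ (Q : Subgroup G), u ∈ H → u = 1 := fun u hu hu' => by
    have : u ∈ (Q : Subgroup G) ⊓ H := ⟨hu, hu'⟩
    rwa [hQH, Subgroup.mem_bot] at this
  have hcube : ∀ u ∈ (Q : Subgroup G), u ^ 3 = 1 := fun u hu => by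
    by_cases hu1 : u = 1
    · rw [hu1, one_pow]
    · rw [← order_eq_of_mem S.hyp hu hu1]; exact pow_orderOf_eq_one u
  -- the coset map
  have hbij : Function.Bijective (fun u : (Q : Subgroup G) => ((u : G) : G ⧸ H)) := by
    refine (Nat.bijective_iff_injective_and_card _).2 ⟨fun u v e => ?_, ?_⟩
    · exact Subtype.ext (inv_mul_eq_one.1
        (hQ1 _ (mul_mem (inv_mem u.2) v.2) (QuotientGroup.eq.1 e)))
    · rw [hQ9, ← Subgroup.index_eq_card, hidx]
  -- an element of `A` besides `1`, `t`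
  obtain ⟨a, haA, ha1, hat⟩ : ∃ a ∈ (A : Subgroup G), a ≠ 1 ∧ a ≠ t := by
    by_contra hcon
    push Not at hcon
    have hle : Nat.card (A : Subgroup G) ≤ 2 := by
      have := Nat.card_le_card_of_injective (fun x : (A : Subgroup G) => decide ((x : G) = 1))
        (fun x y e => Subtype.ext (by
          simp only [decide_eq_decide] at e
          by_cases hx : (x : G) = 1
          · rw [hx, e.1 hx]
          · rw [hcon x x.2 hx, hcon y y.2 (fun hy => hx (e.2 hy))]))
      simpa using this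
    rw [card_sylow_eq_part A, h] at hle
    omega
  have ha2 : a * a = 1 := by
    have := pow_orderOf_eq_one a
    rwa [order_eq_of_mem S.hyp haA ha1, pow_two] at this
  have hta : a * t = t * a := hAcomm a haA t htA
  have haH : a ∈ H := Subgroup.le_normalizer haA
  -- no nontrivial element of `A` fixes a coset `uH`, `u ≠ 1`
  have hfree : ∀ b ∈ (A : Subgroup G), b ≠ 1 → ∀ u ∈ (Q : Subgroup G),
      ((b * u : G) : G ⧸ H) = (u : G ⧸ H) → u = 1 := by
    intro b hb hb1 u hu e
    refine hQ1 u hu ?_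
    have hm : u⁻¹ * b * u ∈ H := by
      have := QuotientGroup.eq.1 e.symm
      simpa [mul_assoc] using this
    have hbo := order_eq_of_mem S.hyp hb hb1
    have hm2 : u⁻¹ * b * u ∈ (A : Subgroup G) := by
      have hP : IsPGroup 2 (Subgroup.zpowers (u⁻¹ * b * u)) := by
        refine IsPGroup.of_card (n := 1) ?_
        rw [Nat.card_zpowers, pow_one, show u⁻¹ * b * u = MulAut.conj u⁻¹ b by simp,
          MulEquiv.orderOf_eq, hbo]
      have hsup := IsPGroup.to_sup_of_normal_right' hP A.2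
        ((Subgroup.zpowers_le.2 hm))
      have := A.is_maximal' hsup le_sup_right
      exact this ▸ le_sup_left (a := Subgroup.zpowers (u⁻¹ * b * u)) (Subgroup.mem_zpowers _)
    have hne : u⁻¹ * b * u ≠ 1 := fun e => hb1 (by
      calc b = u * (u⁻¹ * b * u) * u⁻¹ := by group
        _ = 1 := by rw [e]; group)
    have e1 := cen_eq_of_comm S.hyp A hAcomm hb hb1
    have e2 := cen_eq_of_comm S.hyp A hAcomm hm2 hne
    rw [hH, Subgroup.mem_normalizer_iff]
    intro v
    conv_lhs => rw [← e2]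
    conv_rhs => rw [← e1]
    rw [mem_cen, mem_cen]
    refine ⟨fun e => ?_, fun e => ?_⟩
    · calc u * v * u⁻¹ * b = u * (v * (u⁻¹ * b * u)) * u⁻¹ := by group
        _ = u * ((u⁻¹ * b * u) * v) * u⁻¹ := by rw [e]
        _ = b * (u * v * u⁻¹) := by group
    · calc v * (u⁻¹ * b * u) = u⁻¹ * (u * v * u⁻¹ * b) * u := by group
        _ = u⁻¹ * (b * (u * v * u⁻¹)) * u := by rw [e]
        _ = u⁻¹ * b * u * v := by group
  -- the map induced by `a` on `Q`
  choose σ hσ using fun u : (Q : Subgroup G) => hbij.2 (((a * u : G) : G ⧸ H))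
  have hσ' : ∀ u : (Q : Subgroup G), (((σ u : G)) : G ⧸ H) = ((a * u : G) : G ⧸ H) := hσ
  have hact : ∀ (g x y : G), (x : G ⧸ H) = (y : G ⧸ H) → ((g * x : G) : G ⧸ H) = ((g * y : G) : G ⧸ H) := by
    intro g x y e
    rw [QuotientGroup.eq] at e ⊢
    simpa [mul_assoc] using e
  have htq : ∀ u : (Q : Subgroup G), ((t * (u : G) : G) : G ⧸ H) = (((u⁻¹ : (Q : Subgroup G)) : G) : G ⧸ H) := by
    intro u
    rw [QuotientGroup.eq]
    have e : (t * (u : G))⁻¹ * ((u⁻¹ : (Q : Subgroup G)) : G) = t⁻¹ := by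
      have := hi _ u.2
      rw [Subgroup.coe_inv, ← this]; group
    rw [e]; exact inv_mem htH
  have hσinj : Function.Injective σ := fun u v e => by
    refine hbij.1 ?_
    have h1 := hact a _ _ (hσ' u)
    have h2 := hact a _ _ (hσ' v)
    rw [e] at h1
    rw [← mul_assoc, ha2, one_mul] at h1 h2
    exact h1.symm.trans h2
  have hσσ : ∀ u, σ (σ u) = u := fun u => by
    refine hbij.1 ?_
    show ((σ (σ u) : G) : G ⧸ H) = _
    rw [hσ', hact a _ _ (hσ' u), ← mul_assoc, ha2, one_mul]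
  have hσinv : ∀ u, σ u⁻¹ = (σ u)⁻¹ := fun u => by
    refine hbij.1 ?_
    show ((σ u⁻¹ : G) : G ⧸ H) = _
    rw [hσ', ← hact a _ _ (htq u)]
    show _ = ((((σ u)⁻¹ : (Q : Subgroup G)) : G) : G ⧸ H)
    rw [← htq (σ u), hact t _ _ (hσ' u), ← mul_assoc, hta, mul_assoc]
  have hσ1 : σ 1 = 1 := by
    refine hbij.1 ?_
    show ((σ 1 : G) : G ⧸ H) = _
    rw [hσ', QuotientGroup.eq]
    simpa using inv_mem haH
  have hσfix : ∀ u, σ u = u → u = 1 := fun u e => by
    have := hσ' u
    rw [e] at this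
    exact Subtype.ext (hfree a haA ha1 u u.2 this.symm)
  have hσneg : ∀ u, σ u = u⁻¹ → u = 1 := fun u e => by
    have := hσ' u
    rw [e, ← htq u] at this
    refine Subtype.ext (hfree (t * a) (mul_mem htA haA) ?_ u u.2 ?_)
    · intro e1
      exact hat (by rw [eq_inv_of_mul_eq_one_right e1, inv_eq_of_mul_eq_one_left ht2])
    · rw [mul_assoc, ← hact t _ _ this, ← mul_assoc, ht2, one_mul]
  -- coordinates
  haveI : Nontrivial (Q : Subgroup G) := by
    rw [← Finite.one_lt_card_iff_nontrivial, hQ9]; norm_num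
  obtain ⟨e₁, he₁⟩ := exists_ne (1 : (Q : Subgroup G))
  set e₂ := σ e₁ with he₂
  have hQcomm : ∀ u v : (Q : Subgroup G), u * v = v * u := fun u v => Subtype.ext (hQc u u.2 v v.2)
  have hQ3 : ∀ u : (Q : Subgroup G), u ^ 3 = 1 := fun u => Subtype.ext (hcube u u.2)
  letI : CommGroup (Q : Subgroup G) := { (inferInstance : Group (Q : Subgroup G)) with mul_comm := hQcomm }
  let em : Fin 3 × Fin 3 → (Q : Subgroup G) := fun v => e₁ ^ v.1.val * e₂ ^ v.2.val
  have hmod : ∀ (u : (Q : Subgroup G)) (n : ℕ), u ^ (n % 3) = u ^ n := fun u n => by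
    conv_rhs => rw [← Nat.mod_add_div n 3, pow_add, pow_mul, hQ3, one_pow, mul_one]
  have hadd : ∀ v w, em (v + w) = em v * em w := by
    intro v w
    simp only [em, Prod.fst_add, Prod.snd_add, Fin.val_add, hmod, pow_add]
    exact mul_mul_mul_comm _ _ _ _
  have hsq : ∀ u : (Q : Subgroup G), u ^ 2 = u⁻¹ := fun u =>
    eq_inv_of_mul_eq_one_left (by rw [← pow_succ]; exact hQ3 u)
  have hv10 : em (1, 0) = e₁ := by simp [em]
  have hv01 : em (0, 1) = e₂ := by simp [em]
  have hker : ∀ v, em v = 1 → v = 0 := by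
    have h21 : e₂ ≠ e₁ := fun e => he₁ (hσfix _ e)
    have h2i : e₂ ≠ e₁⁻¹ := fun e => he₁ (hσneg _ e)
    have h20 : e₂ ≠ 1 := fun e => he₁ (hσinj (e.trans hσ1.symm))
    intro v hv
    obtain ⟨i, j⟩ := v
    fin_cases i <;> fin_cases j <;> simp only [em] at hv <;> simp [hsq] at hv <;> try rfl
    all_goals exfalso
    all_goals first
      | exact h20 hv
      | exact he₁ hv
      | exact h2i (eq_inv_of_mul_eq_one_right hv)
      | exact h21 ((eq_inv_of_mul_eq_one_right hv).trans (inv_inv e₁))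
      | exact h21 (inv_injective (eq_inv_of_mul_eq_one_right hv))
      | exact h21 (eq_inv_of_mul_eq_one_right hv ▸ by simp)
      | exact h2i (inv_injective (by rw [inv_inv]; exact eq_inv_of_mul_eq_one_right hv ▸ by simp))
      | (rw [mul_eq_one_iff_eq_inv] at hv; simp_all)
  have hemb : Function.Bijective em := by
    refine (Nat.bijective_iff_injective_and_card _).2 ⟨fun v w e => ?_, ?_⟩
    · have h0 : em (v - w) = 1 := by
        have := hadd (v - w) w
        rw [sub_add_cancel, e] at this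
        exact mul_eq_right.1 this.symm
      exact sub_eq_zero.1 (hker _ h0)
    · rw [hQ9, Nat.card_prod]; simp
  have hem0 : em (0, 0) = 1 := by simp [em]
  have heneg : ∀ v w, v + w = (0, 0) → em w = (em v)⁻¹ := fun v w e => by
    apply eq_inv_of_mul_eq_one_right
    rw [← hadd, e, hem0]
  have hσ10 : σ (em (1, 0)) = em (0, 1) := by rw [hv10, hv01]
  have hσ01 : σ (em (0, 1)) = em (1, 0) := by rw [hv10, hv01, hσσ]
  have hσ20 : σ (em (2, 0)) = em (0, 2) := by
    rw [heneg (1, 0) (2, 0) (by decide), heneg (0, 1) (0, 2) (by decide), hσinv, hσ10]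
  have hσ02 : σ (em (0, 2)) = em (2, 0) := by
    rw [heneg (1, 0) (2, 0) (by decide), heneg (0, 1) (0, 2) (by decide), hσinv, hσ01]
  obtain ⟨w, hw⟩ := hemb.2 (σ (em (1, 1)))
  have hwcases : w = (1, 2) ∨ w = (2, 1) := by
    obtain ⟨i, j⟩ := w
    have hne : ∀ v w', σ (em v) = em w' → em (1, 1) = σ (em w') → em (1, 1) = em v := fun v w' e1 e2 => by
      rw [e2, ← e1, hσσ]
    fin_cases i <;> fin_cases j <;> simp only [Prod.mk.injEq] <;> try decide
    all_goals exfalso
    all_goals have hw' := (hσσ (em (1, 1))).symm.trans (congrArg σ hw.symm)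
    · have : em (1, 1) = em (0, 0) := hw'.trans ((congrArg σ hem0).trans (hσ1.trans hem0.symm))
      exact absurd (hemb.1 this) (by decide)
    · exact absurd (hemb.1 (hw'.trans hσ01)) (by decide)
    · exact absurd (hemb.1 (hw'.trans hσ02)) (by decide)
    · exact absurd (hemb.1 (hw'.trans hσ10)) (by decide)
    · have := hσfix (em (1, 1)) hw.symm
      exact absurd (hemb.1 (this.trans hem0.symm)) (by decide)
    · exact absurd (hemb.1 (hw'.trans hσ20)) (by decide)
    · have := hσneg (em (1, 1)) (hw.symm.trans (heneg (1, 1) (2, 2) (by decide)))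
      exact absurd (hemb.1 (this.trans hem0.symm)) (by decide)
  obtain ⟨s, hs⟩ : ∃ s : Fin 2, ∀ v, σ (em v) = em (swapF s v) := by
    have h22 : σ (em (2, 2)) = (em w)⁻¹ := by
      rw [heneg (1, 1) (2, 2) (by decide), hσinv, hw]
    have hww : σ (em w) = em (1, 1) := by rw [hw, hσσ]
    rcases hwcases with rfl | rfl
    · refine ⟨0, fun v => ?_⟩
      have h21 : σ (em (2, 1)) = em (2, 2) := by
        rw [heneg (1, 2) (2, 1) (by decide), hσinv, hww, heneg (1, 1) (2, 2) (by decide)]
      have h22' : σ (em (2, 2)) = em (2, 1) := by rw [h22, heneg (1, 2) (2, 1) (by decide)]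
      obtain ⟨i, j⟩ := v
      fin_cases i <;> fin_cases j
      exacts [((congrArg σ hem0).trans hσ1).trans hem0.symm, hσ01, hσ02, hσ10, hw.symm, hww, hσ20, h21, h22']
    · refine ⟨1, fun v => ?_⟩
      have h12 : σ (em (1, 2)) = em (2, 2) := by
        rw [heneg (2, 1) (1, 2) (by decide), hσinv, hww, heneg (1, 1) (2, 2) (by decide)]
      have h22' : σ (em (2, 2)) = em (1, 2) := by rw [h22, heneg (2, 1) (1, 2) (by decide)]
      obtain ⟨i, j⟩ := v
      fin_cases i <;> fin_cases j
      exacts [((congrArg σ hem0).trans hσ1).trans hem0.symm, hσ01, hσ02, hσ10, hw.symm, h12, hσ20, hww, h22']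
  obtain ⟨v, hv⟩ := exists_bad s
  set g : G := a * (em v : G) with hg
  have hstep : ∀ (k : ℕ) (x : Fin 3 × Fin 3), ((g ^ k * (em x : G) : G) : G ⧸ H) =
      ((em ((fun x => swapF s (x + v))^[k] x) : G) : G ⧸ H) := by
    intro k
    induction k with
    | zero => intro x; simp
    | succ k ih =>
      intro x
      rw [Function.iterate_succ_apply, ← ih, pow_succ, mul_assoc]
      refine hact _ _ _ ?_
      rw [hg, ← hs, hσ', mul_assoc, add_comm x v, hadd]
      rfl
  obtain ⟨k, hk, hgk⟩ : ∃ k ∈ [1, 2, 3, 7], g ^ k = 1 := by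
    by_cases hg1 : g = 1
    · exact ⟨1, by simp, by simp [hg1]⟩
    · refine ⟨orderOf g, ?_, pow_orderOf_eq_one g⟩
      rcases S.only _ (S.hyp.pr g hg1) (orderOf_dvd_natCard g) with e | e | e <;> simp [e]
  obtain ⟨x, hx⟩ := hv k hk
  refine hx (hemb.1 (hbij.1 ?_))
  show ((em _ : G) : G ⧸ H) = _
  rw [← hstep, hgk, one_mul]

theorem Setup.card_sixty (S : Setup G p q) (hp : Inverted G p) :
    Nat.card G = 60 ∧ num G 3 + num G 5 = 44 := by
  have fin : ∀ {p q : ℕ}, Setup G p q → Inverted G p → part G 2 = p + 1 →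
      Nat.card G = 60 ∧ num G 3 + num G 5 = 44 := by
    intro p q S hp h
    rcases S.sixty_or hp h with ⟨h4, rfl, rfl, hg⟩ | ⟨h8, h7, h3, h9⟩
    · refine ⟨hg, ?_⟩
      have hc := S.class_eq
      rw [hg, S.two_facts.1, (S.parts hp h).1, (S.parts hp h).2] at hc
      omega
    · exact (S.not_504 hp h8 h7 h3 h9).elim
  rcases S.two_eq hp with h | h
  · exact fin S hp h
  · exact fin S.symm (S.both_inverted hp) h

end CfsgLib.Perm.FourOrbits
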