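import Cfsg.Agent.Perm.FourOrbits

/-!
The order computation for groups with four automorphism orbits.
-/

set_option autoImplicit false
set_option linter.style.haveILetI false

namespace CfsgLib.Perm.FourOrbits

open Subgroup

variable {G : Type*} [Group G] [Finite G]

/-- The standing setup: three primes. -/
structure Setup (G : Type*) [Group G] (p q : ℕ) : Prop where
  hyp : Hyp G
  pp : p.Prime
  qq : q.Prime
  p2 : p ≠ 2
  q2 : q ≠ 2
  pq : p ≠ q
  dp : p ∣ Nat.card G
  dq : q ∣ Nat.card G
  d2 : 2 ∣ Nat.card G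
  only : Primes G p q

/-- The `r`-part of the group order. -/
noncomputable def part (G : Type*) [Group G] (r : ℕ) : ℕ := r ^ (Nat.card G).factorization r

theorem card_sylow_eq_part {r : ℕ} [Fact r.Prime] (P : Sylow r G) :
    Nat.card (P : Subgroup G) = part G r := Sylow.card_eq_multiplicity P

theorem part_pos {r : ℕ} (hr : r.Prime) : 0 < part G r := pow_pos hr.pos _

/-- `r` is inverted by an involution. -/
def Inverted (G : Type*) [Group G] (r : ℕ) : Prop :=
  ∃ (P : Sylow r G) (t : G), orderOf t = 2 ∧ t ∈ Subgroup.normalizer ((P : Subgroup G) : Set G)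

variable {p q : ℕ}

theorem Setup.symm (S : Setup G p q) : Setup G q p :=
  ⟨S.hyp, S.qq, S.pp, S.q2, S.p2, S.pq.symm, S.dq, S.dp, S.d2, fun r hr hd => by
    rcases S.only r hr hd with e | e | e
    · exact Or.inl e
    · exact Or.inr (Or.inr e)
    · exact Or.inr (Or.inl e)⟩

theorem Setup.card_eq (S : Setup G p q) :
    Nat.card G = part G 2 * part G p * part G q := by
  classical
  have hne : Nat.card G ≠ 0 := Nat.card_pos.ne'
  have hs : (Nat.card G).primeFactors = {2, p, q} := by
    ext r
    simp only [Nat.mem_primeFactors, Finset.mem_insert, Finset.mem_singleton]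
    refine ⟨fun ⟨hr, hd, _⟩ => S.only r hr hd, ?_⟩
    rintro (rfl | rfl | rfl)
    · exact ⟨Nat.prime_two, S.d2, hne⟩
    · exact ⟨S.pp, S.dp, hne⟩
    · exact ⟨S.qq, S.dq, hne⟩
  conv_lhs => rw [← Nat.factorization_prod_pow_eq_self hne]
  rw [Finsupp.prod, Nat.support_factorization, hs, Finset.prod_insert, Finset.prod_insert,
    Finset.prod_singleton, part, part, part, mul_assoc]
  · simpa using S.pq
  · simp [S.p2.symm, S.q2.symm]

theorem part_ge {r : ℕ} (hr : r.Prime) (hd : r ∣ Nat.card G) : r ≤ part G r :=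
  Nat.le_self_pow (hr.factorization_pos_of_dvd Nat.card_pos.ne' hd).ne' r

theorem Setup.class_eq (S : Setup G p q) :
    Nat.card G = 1 + num G 2 + num G p + num G q := by
  rw [card_eq_one_add S.hyp {2, p, q}]
  · rw [Finset.sum_insert (by simp [S.p2.symm, S.q2.symm]),
      Finset.sum_insert (by simpa using S.pq), Finset.sum_singleton]
    ring
  · intro r hr
    simp only [Finset.mem_insert, Finset.mem_singleton] at hr
    rcases hr with rfl | rfl | rfl
    exacts [Nat.prime_two, S.pp, S.qq]
  · intro g hg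
    have := S.only _ (S.hyp.pr g hg) (orderOf_dvd_natCard g)
    simpa using this

theorem Setup.two_facts (S : Setup G p q) :
    num G 2 = part G p * part G q ∧ 4 ≤ part G 2 ∧
    ∀ t : G, orderOf t = 2 → ∃ A : Sylow 2 G, (A : Subgroup G) = cen t ∧ t ∈ (A : Subgroup G) ∧
      (∀ a ∈ (A : Subgroup G), ∀ b ∈ (A : Subgroup G), a * b = b * a) ∧
      Nat.card (Subgroup.normalizer ((A : Subgroup G) : Set G)) = part G 2 * (part G 2 - 1) := by
  classical
  haveI := Fact.mk Nat.prime_two
  have hI : ∀ t : G, orderOf t = 2 → ∃ A : Sylow 2 G, (A : Subgroup G) = cen t ∧ t ∈ (A : Subgroup G) ∧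
      (∀ a ∈ (A : Subgroup G), ∀ b ∈ (A : Subgroup G), a * b = b * a) ∧
      num G 2 * part G 2 = Nat.card G ∧
      Nat.card (Subgroup.normalizer ((A : Subgroup G) : Set G)) = part G 2 * (part G 2 - 1) := by
    intro t ht
    obtain ⟨A, hA, htA⟩ := exists_sylow_mem S.hyp ht
    have hsq : ∀ a ∈ (A : Subgroup G), a * a = 1 := fun a ha => by
      by_cases h1 : a = 1
      · rw [h1, one_mul]
      · have := pow_orderOf_eq_one a
        rwa [order_eq_of_mem S.hyp ha h1, pow_two] at this
    have hc : ∀ a ∈ (A : Subgroup G), ∀ b ∈ (A : Subgroup G), a * b = b * a := by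
      intro a ha b hb
      have e := hsq _ (mul_mem ha hb)
      calc a * b = (a * b)⁻¹ := eq_inv_of_mul_eq_one_left e
        _ = b⁻¹ * a⁻¹ := mul_inv_rev a b
        _ = b * a := by
          rw [inv_eq_of_mul_eq_one_left (hsq a ha), inv_eq_of_mul_eq_one_left (hsq b hb)]
    have h1 := involutions S.hyp S.pp S.qq S.only ht
    rw [← hA, card_sylow_eq_part A] at h1
    refine ⟨A, hA, htA, hc, h1, ?_⟩
    have hn := num_mul S.hyp A
    have hf := card_fib A
    rw [zc_eq_of_comm A hc, card_sylow_eq_part A] at hf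
    have hpos : 0 < num G 2 := by
      haveI : Nonempty {x : G // orderOf x = 2} := ⟨⟨t, ht⟩⟩
      exact Nat.card_pos
    refine Nat.eq_of_mul_eq_mul_left hpos ?_
    rw [hn, ← mul_assoc, h1, show part G 2 - 1 = Nat.card (fib A) by omega]
  obtain ⟨t, ht⟩ := exists_prime_orderOf_dvd_card' (G := G) 2 S.d2
  obtain ⟨A, -, -, hc, h1, hN⟩ := hI t ht
  refine ⟨?_, ?_, fun t ht => ?_⟩
  · refine Nat.eq_of_mul_eq_mul_right (part_pos (G := G) Nat.prime_two) ?_
    rw [h1, S.card_eq]; ring
  · have hk := Nat.prime_two.factorization_pos_of_dvd Nat.card_pos.ne' S.d2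
    by_contra hlt
    have h2 : part G 2 = 2 := by
      rw [part] at hlt ⊢
      rcases Nat.lt_or_ge ((Nat.card G).factorization 2) 2 with h' | h'
      · rw [show (Nat.card G).factorization 2 = 1 by omega, pow_one]
      · exact absurd (Nat.pow_le_pow_right two_pos h') hlt
    refine normalizer_ne_of_comm S.hyp S.pp S.qq (fun s hs hd => S.only s hs hd) A hc ?_
    refine (Subgroup.eq_of_le_of_card_ge Subgroup.le_normalizer ?_).symm
    rw [hN, card_sylow_eq_part A, h2]
  · obtain ⟨A, a, b, c, -, d⟩ := hI t ht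
    exact ⟨A, a, b, c, d⟩

theorem Setup.num_inverted (S : Setup G p q) (h : Inverted G p) :
    2 * num G p + part G 2 * part G q = part G 2 * part G p * part G q := by
  obtain ⟨P, t, ht, htn⟩ := h
  haveI := Fact.mk S.pp
  have := two_mul_num S.hyp S.p2 S.dp P ht htn
  rw [card_sylow_eq_part P, S.card_eq] at this
  refine Nat.eq_of_mul_eq_mul_right (part_pos (G := G) S.pp) ?_
  linarith

theorem Setup.three_le (S : Setup G p q) : 3 ≤ part G p := by
  have := part_ge (G := G) S.pp S.dp
  have := S.pp.two_le
  have := S.p2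
  omega

theorem Setup.some_inverted (S : Setup G p q) : Inverted G p ∨ Inverted G q := by
  by_contra hcon
  push Not at hcon
  obtain ⟨hnp, hnq⟩ := hcon
  obtain ⟨hI, ha, -⟩ := S.two_facts
  have bound : ∀ {p q : ℕ}, Setup G p q → ¬ Inverted G p → 3 * num G p ≤ Nat.card G := by
    intro p q S hn
    haveI := Fact.mk S.pp
    obtain ⟨P⟩ : Nonempty (Sylow p G) := inferInstance
    rcases odd_cases S.hyp S.p2 S.qq Nat.prime_two
      (fun s hs hd => by rcases S.only s hs hd with e | e | e <;> simp [e]) P with
      ⟨t, ht, htn⟩ | h9 | ⟨e, he, -, -, -, heq, hz, -⟩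
    · exact absurd ⟨P, t, ht, htn⟩ hn
    · omega
    · refine Nat.le_of_mul_le_mul_right ?_ (Nat.card_pos (α := (P : Subgroup G)))
      have h1 : Nat.card G * zc P ≤ Nat.card G * Nat.card (P : Subgroup G) := Nat.mul_le_mul_left _ hz
      have h2 : num G p * Nat.card (P : Subgroup G) * 3 ≤ num G p * Nat.card (P : Subgroup G) * e :=
        Nat.mul_le_mul_left _ he
      nlinarith
  have := bound S hnp
  have := bound S.symm hnq
  have hc := S.class_eq
  have hg := S.card_eq
  have hb := S.three_le
  have hb' := S.symm.three_le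
  rw [hI] at hc
  have h4 : 4 * (part G p * part G q) ≤ part G 2 * (part G p * part G q) := Nat.mul_le_mul_right _ ha
  have : 9 ≤ part G p * part G q := Nat.mul_le_mul hb hb'
  rw [mul_assoc] at hg
  omega

theorem Setup.both_inverted (S : Setup G p q) (hp : Inverted G p) : Inverted G q := by
  by_contra hnq
  haveI := Fact.mk S.qq
  haveI := Fact.mk S.pp
  obtain ⟨hI, ha, hA⟩ := S.two_facts
  have hc := S.class_eq
  have hg := S.card_eq
  have hb := S.three_le
  have hc3 := S.symm.three_le
  have hNp := S.num_inverted hp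
  rw [hI, hg] at hc
  obtain ⟨Q⟩ : Nonempty (Sylow q G) := inferInstance
  have hcases := odd_cases S.hyp S.q2 S.pp Nat.prime_two
      (fun s hs hd => by rcases S.only s hs hd with e | e | e <;> simp [e]) Q
  rw [card_sylow_eq_part Q] at hcases
  rcases hcases with ⟨t, ht, htn⟩ | h9 | ⟨e, he, heodd, heg, heq', hEq, hz, hz2⟩
  · exact hnq ⟨Q, t, ht, htn⟩
  · rw [hg] at h9
    rcases Nat.lt_or_ge (part G 2) 8 with h8 | h8
    · nlinarith [Nat.mul_le_mul_left (part G 2) (Nat.mul_le_mul hb hc3)]
    · nlinarith [Nat.mul_le_mul_right (part G p * part G q) h8, Nat.mul_le_mul hb hc3]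
  · rw [hg] at hEq
    set a := part G 2 with hadef
    set b := part G p with hbdef
    set c := part G q with hcdef
    set Nq := num G q with hNq
    set z := zc Q with hzdef
    have hle : e * Nq + a * b ≤ a * b * c := by
      refine Nat.le_of_mul_le_mul_right ?_ (by omega : 0 < c)
      calc (e * Nq + a * b) * c = Nq * (c * e) + a * b * c := by ring
        _ = a * b * c * z := hEq
        _ ≤ a * b * c * c := Nat.mul_le_mul_left _ hz
    have h9 : 9 ≤ b * c := Nat.mul_le_mul hb hc3
    have ha4 : a = 4 := by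
      obtain ⟨k, hk⟩ : ∃ k, a = 2 ^ k := ⟨_, rfl⟩
      by_contra hne
      have h8 : 8 ≤ a := by
        rcases Nat.lt_or_ge k 3 with h' | h'
        · interval_cases k <;> omega
        · exact hk ▸ (Nat.pow_le_pow_right two_pos h' : 2 ^ 3 ≤ 2 ^ k)
      have h3 : 3 * Nq ≤ e * Nq := Nat.mul_le_mul_right _ he
      nlinarith [Nat.mul_le_mul_right (b * c) h8]
    rw [ha4] at hc hNp hle hEq
    have he3 : e = 3 := by
      by_contra hne
      have h5 : 5 * Nq ≤ e * Nq := Nat.mul_le_mul_right _ (by rcases heodd with ⟨k, hk⟩; omega)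
      nlinarith
    subst he3
    have hp3 : p = 3 := by
      rcases S.only 3 Nat.prime_three heg with e | e | e
      · omega
      · exact e.symm
      · exact absurd (e ▸ dvd_rfl) heq'
    have hq5 : 5 ≤ q := S.qq.five_le_of_ne_two_of_ne_three S.q2 (fun e => S.pq (hp3.trans e.symm))
    rcases hz2 with hz2 | hz2
    swap
    · have : 25 * z ≤ c := le_trans (Nat.mul_le_mul_right _ (Nat.mul_le_mul hq5 hq5)) hz2
      nlinarith [Nat.mul_le_mul_left (4 * b * c) this]
    rw [hz2] at hEq
    have hfin : b * c + 3 = 4 * b + 6 * c := by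
      have : 3 * Nq + 4 * b = 4 * b * c := by
        refine Nat.eq_of_mul_eq_mul_right (by omega : 0 < c) ?_
        linarith
      linarith
    have h3b : 3 ∣ b := by
      rw [hbdef, part, hp3]
      exact dvd_pow_self 3 (Nat.prime_three.factorization_pos_of_dvd Nat.card_pos.ne'
        (hp3 ▸ S.dp)).ne'
    have hqc : q ∣ c := dvd_pow_self q (S.qq.factorization_pos_of_dvd Nat.card_pos.ne' S.dq).ne'
    obtain ⟨B, hB⟩ := h3b
    rw [hB] at hfin hb
    rcases Nat.lt_or_ge B 3 with hB3 | hB3
    · interval_cases B <;> omega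
    have hc11 : c ≤ 11 := by nlinarith [Nat.mul_le_mul_right c hB3]
    have hc5 : 5 ≤ c := hq5.trans (Nat.le_of_dvd (by omega) hqc)
    obtain ⟨y, hy⟩ := exists_prime_orderOf_dvd_card' (G := Subgroup.normalizer ((Q : Subgroup G) : Set G)) 3 (by
      have hM : (Q : Subgroup G).relIndex (Subgroup.normalizer ((Q : Subgroup G) : Set G)) ∣
          Nat.card (Subgroup.normalizer ((Q : Subgroup G) : Set G)) := by
        exact Subgroup.index_dvd_card _
      have hn := num_mul S.hyp Q
      have hf := card_fib Q
      rw [← hzdef, hz2] at hf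
      have hNq0 : 0 < Nq := by nlinarith
      have hcard : Nat.card (Subgroup.normalizer ((Q : Subgroup G) : Set G)) = c * 3 := by
        refine Nat.eq_of_mul_eq_mul_left hNq0 ?_
        rw [← hNq, hg, ha4] at hn
        have hf' : 4 * b * c * (Nat.card (fib Q) + 1) = 4 * b * c * c := by rw [hf]
        rw [hn]
        rw [hB] at hn hEq hf'
        rw [hB]
        linarith
      exact ⟨c, by rw [hcard, mul_comm]⟩)
    have hy' : orderOf (y : G) = 3 := by rw [Subgroup.orderOf_coe]; exact hy
    have h3 : 3 ∣ Nat.card (Q : Subgroup G) - 1 := by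
      classical
      letI := Fintype.ofFinite (Q : Subgroup G)
      let φ : MulAut (Q : Subgroup G) := Subgroup.normalizerMonoidHom (Q : Subgroup G) y
      let σ : Equiv.Perm (Q : Subgroup G) := φ.toEquiv
      have hσ : σ ^ (3 ^ 1) = 1 := by
        rw [pow_one]
        have e : φ ^ 3 = 1 := by rw [← map_pow, ← hy, pow_orderOf_eq_one, map_one]
        ext u
        have := congrArg (fun f : MulAut (Q : Subgroup G) => f u) e
        simp only [pow_succ, pow_zero, one_mul, MulAut.mul_apply, MulAut.one_apply,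
          Equiv.Perm.mul_apply, Equiv.Perm.one_apply] at this ⊢
        exact congrArg Subtype.val this
      haveI := Fact.mk Nat.prime_three
      have hmod := Equiv.Perm.card_compl_support_modEq hσ
      have hsupp : σ.supportᶜ = {1} := by
        ext u
        simp only [Finset.mem_compl, Equiv.Perm.mem_support, not_not, Finset.mem_singleton]
        refine ⟨fun e => ?_, fun e => by subst e; exact map_one φ⟩
        by_contra hu
        have hu' : (u : G) ≠ 1 := fun e => hu (Subtype.ext e)
        have e' : (y : G) * u * (y : G)⁻¹ = u := congrArg Subtype.val e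
        have := order_eq_of_commute S.hyp Nat.prime_three hy' (mul_inv_eq_iff_eq_mul.1 e').symm hu'
        rw [order_eq_of_mem S.hyp u.2 hu'] at this
        omega
      rw [hsupp, Finset.card_singleton, ← Nat.card_eq_fintype_card] at hmod
      exact (Nat.modEq_iff_dvd' Nat.card_pos).1 hmod
    rw [card_sylow_eq_part Q, ← hcdef] at h3
    interval_cases c <;> omega

theorem Setup.equation (S : Setup G p q) (hp : Inverted G p) :
    part G 2 * (part G p + part G q) = 2 * part G p * part G q + 2 := by
  obtain ⟨hI, -, -⟩ := S.two_facts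
  have hc := S.class_eq
  rw [hI, S.card_eq] at hc
  have h1 := S.num_inverted hp
  have h2 := S.symm.num_inverted (S.both_inverted hp)
  linarith [h1, h2, hc, (by ring : part G 2 * part G q * part G p = part G 2 * part G p * part G q)]

end CfsgLib.Perm.FourOrbits
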