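import Mathlib

/-!
Fixed-point-free matrix representations in characteristic zero, and their construction from
fixed-point-free actions in coprime characteristic.
-/

set_option autoImplicit false
set_option linter.style.haveILetI false

namespace CfsgLib.Perm.Fpf

open Finset MonoidAlgebra

/-- `G` has a rational matrix representation in which every element of prime order has the sum of
its powers equal to zero (no nonzero fixed vectors). -/
def HasFpf (G : Type*) [Group G] : Prop :=
  ∃ (n : ℕ) (θ : G →* Matrix (Fin (n + 1)) (Fin (n + 1)) ℚ),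
    ∀ g : G, (orderOf g).Prime → ∑ i ∈ range (orderOf g), θ g ^ i = 0

theorem HasFpf.of_injective {G H : Type*} [Group G] [Group H] (f : H →* G) (hf : Function.Injective f)
    (h : HasFpf G) : HasFpf H := by
  obtain ⟨n, θ, hθ⟩ := h
  refine ⟨n, θ.comp f, fun g hg => ?_⟩
  have := hθ (f g) (by rwa [orderOf_injective f hf])
  rwa [orderOf_injective f hf] at this

variable {G : Type*} [Group G]

/-- The sum of the powers of `g` in the integral group ring. -/
noncomputable def hat (g : G) : MonoidAlgebra ℤ G := ∑ i ∈ range (orderOf g), single (g ^ i) 1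

theorem single_mul_hat (g : G) : single g (1 : ℤ) * hat g = hat g := by
  rw [hat, mul_sum]
  simp only [single_mul_single, one_mul, ← pow_succ']
  have h := sum_range_succ' (fun i => single (g ^ i) (1 : ℤ)) (orderOf g)
  have h' := sum_range_succ (fun i => single (g ^ i) (1 : ℤ)) (orderOf g)
  rw [h', pow_orderOf_eq_one, pow_zero] at h
  exact (add_right_cancel h).symm

theorem hat_sq (g : G) : hat g * hat g = (orderOf g : ℤ) • hat g := by
  have hi : ∀ i : ℕ, single (g ^ i) (1 : ℤ) * hat g = hat g := by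
    intro i
    induction i with
    | zero => rw [pow_zero, ← MonoidAlgebra.one_def, one_mul]
    | succ i ih =>
      rw [pow_succ', show single (g * g ^ i) (1 : ℤ) = single g (1 : ℤ) * single (g ^ i) 1 by
        rw [single_mul_single, one_mul], mul_assoc, ih, single_mul_hat]
  nth_rw 1 [hat]
  rw [sum_mul, sum_congr rfl fun i _ => hi i, sum_const, card_range, natCast_zsmul]

theorem coeff_zsmul' (n : ℤ) (r : MonoidAlgebra ℤ G) (x : G) : (n • r).coeff x = n * r.coeff x := by
  induction n using Int.induction_on with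
  | zero => simp
  | succ k ih => rw [add_smul, one_smul, MonoidAlgebra.coeff_add, Finsupp.add_apply, ih]; ring
  | pred k ih => rw [sub_smul, one_smul, MonoidAlgebra.coeff_sub, Finsupp.sub_apply, ih]; ring

variable [Finite G]

open Classical in
/-- The elements of prime order. -/
noncomputable def primeElts (G : Type*) [Group G] [Finite G] : Finset G :=
  haveI := Fintype.ofFinite G
  univ.filter fun g => (orderOf g).Prime

theorem mem_primeElts {g : G} : g ∈ primeElts G ↔ (orderOf g).Prime := by
  simp [primeElts]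

/-- The two-sided ideal generated by the sums of powers, as an additive subgroup. -/
noncomputable def idealJ (G : Type*) [Group G] : AddSubgroup (MonoidAlgebra ℤ G) :=
  AddSubgroup.closure {x | ∃ (g : G) (a b : MonoidAlgebra ℤ G), (orderOf g).Prime ∧ x = a * hat g * b}

theorem mem_idealJ {g : G} (hg : (orderOf g).Prime) (a b : MonoidAlgebra ℤ G) :
    a * hat g * b ∈ idealJ G := AddSubgroup.subset_closure ⟨g, a, b, hg, rfl⟩

theorem idealJ_mul_right {x : MonoidAlgebra ℤ G} (hx : x ∈ idealJ G) (r : MonoidAlgebra ℤ G) :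
    x * r ∈ idealJ G := by
  induction hx using AddSubgroup.closure_induction with
  | mem x hx =>
    obtain ⟨g, a, b, hg, rfl⟩ := hx
    rw [mul_assoc _ b r]; exact mem_idealJ hg _ _
  | zero => rw [zero_mul]; exact zero_mem _
  | add x y _ _ hx hy => rw [add_mul]; exact add_mem hx hy
  | neg x _ hx => rw [neg_mul]; exact neg_mem hx

/-- The squared length of an element of the integral group ring. -/
noncomputable def normSq (v : MonoidAlgebra ℤ G) : ℤ :=
  haveI := Fintype.ofFinite G
  ∑ x : G, v.coeff x ^ 2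

theorem eq_zero_of_normSq {v : MonoidAlgebra ℤ G} (h : normSq v = 0) : v = 0 := by
  classical
  letI := Fintype.ofFinite G
  rw [normSq, sum_eq_zero_iff_of_nonneg fun x _ => sq_nonneg _] at h
  refine MonoidAlgebra.coeff_injective (Finsupp.ext fun x => ?_)
  rw [MonoidAlgebra.coeff_zero, Finsupp.zero_apply]
  exact pow_eq_zero_iff two_ne_zero |>.1 (h x (mem_univ _))

/-- Bilinear form. -/
noncomputable def dotP (u v : MonoidAlgebra ℤ G) : ℤ :=
  haveI := Fintype.ofFinite G
  ∑ x : G, u.coeff x * v.coeff x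

theorem dotP_self (v : MonoidAlgebra ℤ G) : dotP v v = normSq v := by
  simp [dotP, normSq, pow_two]

theorem dotP_zero (v : MonoidAlgebra ℤ G) : dotP v 0 = 0 := by simp [dotP]

theorem dotP_sum {ι : Type*} (s : Finset ι) (u : MonoidAlgebra ℤ G) (f : ι → MonoidAlgebra ℤ G) :
    dotP u (∑ i ∈ s, f i) = ∑ i ∈ s, dotP u (f i) := by
  simp only [dotP, MonoidAlgebra.coeff_sum, Finsupp.finsetSum_apply, mul_sum]
  exact Finset.sum_comm

theorem sum_dotP {ι : Type*} (s : Finset ι) (u : MonoidAlgebra ℤ G) (f : ι → MonoidAlgebra ℤ G) :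
    dotP (∑ i ∈ s, f i) u = ∑ i ∈ s, dotP (f i) u := by
  simp only [dotP, MonoidAlgebra.coeff_sum, Finsupp.finsetSum_apply, sum_mul]
  exact Finset.sum_comm

theorem dotP_single_mul (h : G) (u v : MonoidAlgebra ℤ G) :
    dotP (single h 1 * u) v = dotP u (single h⁻¹ 1 * v) := by
  classical
  letI := Fintype.ofFinite G
  simp only [dotP, MonoidAlgebra.coeff_single_mul_eq_mul_coeff]
  refine (Fintype.sum_equiv (Equiv.mulLeft h) _ _ fun x => ?_).symm
  show u.coeff x * (single h⁻¹ (1 : ℤ) * v).coeff x =
    (single h (1 : ℤ) * u).coeff (h * x) * v.coeff (h * x)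
  rw [MonoidAlgebra.coeff_single_mul_eq_mul_coeff (h * x) (by intro m _; simp [inv_mul_eq_iff_eq_mul]),
    MonoidAlgebra.coeff_single_mul_eq_mul_coeff x (by intro m _; simp)]
  simp

theorem dotP_hat (g : G) (u v : MonoidAlgebra ℤ G) : dotP (hat g * u) v = dotP u (hat g * v) := by
  classical
  rw [hat, sum_mul, sum_mul, sum_dotP, dotP_sum]
  simp only [dotP_single_mul]
  have hpos : 0 < orderOf g := orderOf_pos g
  refine Finset.sum_bij' (fun i _ => (orderOf g - i) % orderOf g) (fun i _ => (orderOf g - i) % orderOf g)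
    (fun i hi => mem_range.2 (Nat.mod_lt _ hpos)) (fun i hi => mem_range.2 (Nat.mod_lt _ hpos)) ?_ ?_ ?_
  · intro i hi
    have := mem_range.1 hi
    rcases Nat.eq_zero_or_pos i with rfl | h0
    · simp
    · rw [Nat.mod_eq_of_lt (show orderOf g - i < orderOf g by omega)]
      rw [Nat.mod_eq_of_lt] <;> omega
  · intro i hi
    have := mem_range.1 hi
    rcases Nat.eq_zero_or_pos i with rfl | h0
    · simp
    · rw [Nat.mod_eq_of_lt (show orderOf g - i < orderOf g by omega)]
      rw [Nat.mod_eq_of_lt] <;> omega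
  · intro i hi
    rw [pow_mod_orderOf]
    congr 2
    apply congrArg (fun y => single y (1 : ℤ))
    rw [pow_sub _ (le_of_lt (mem_range.1 hi)), pow_orderOf_eq_one, one_mul]

/-- The central operator. -/
noncomputable def centralC (G : Type*) [Group G] [Finite G] : MonoidAlgebra ℤ G :=
  haveI := Fintype.ofFinite G
  ∑ g ∈ primeElts G, ∑ h : G, single h⁻¹ 1 * hat g * single h 1

theorem centralC_mem : centralC G ∈ idealJ G :=
  sum_mem fun _ hg => sum_mem fun _ _ => mem_idealJ (mem_primeElts.1 hg) _ _

theorem hat_killed {v : MonoidAlgebra ℤ G} (hv : centralC G * v = 0) {g : G}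
    (hg : (orderOf g).Prime) (h : G) : hat g * (single h 1 * v) = 0 := by
  classical
  letI := Fintype.ofFinite G
  have e : dotP v (centralC G * v) = 0 := by rw [hv, dotP_zero]
  simp only [centralC, sum_mul, dotP_sum] at e
  have key : ∀ g ∈ primeElts G, ∀ k : G, dotP v (single k⁻¹ 1 * hat g * single k 1 * v) * orderOf g =
      normSq (hat g * (single k 1 * v)) := by
    intro g _ k
    have hs : dotP v (single k⁻¹ 1 * hat g * single k 1 * v) =
        dotP (single k 1 * v) (hat g * (single k 1 * v)) := by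
      rw [dotP_single_mul, mul_assoc, mul_assoc]
    rw [hs, ← dotP_self, dotP_hat, ← mul_assoc (hat g) (hat g), hat_sq, smul_mul_assoc]
    simp only [dotP, MonoidAlgebra.coeff_smul_apply, smul_eq_mul, sum_mul]
    exact sum_congr rfl fun x _ => by ring
  have hnn : ∀ g ∈ primeElts G, ∀ k : G, 0 ≤ dotP v (single k⁻¹ 1 * hat g * single k 1 * v) := by
    intro g hg k
    have h1 := key g hg k
    have h2 : 0 ≤ normSq (hat g * (single k 1 * v)) := sum_nonneg fun x _ => sq_nonneg _
    have h3 : (0 : ℤ) < orderOf g := by exact_mod_cast (mem_primeElts.1 hg).pos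
    nlinarith
  have h0 := (sum_eq_zero_iff_of_nonneg fun g hg => sum_nonneg fun k _ => hnn g hg k).1 e g
    (mem_primeElts.2 hg)
  have h1 := (sum_eq_zero_iff_of_nonneg fun k _ => hnn g (mem_primeElts.2 hg) k).1 h0 h (mem_univ _)
  exact eq_zero_of_normSq (by rw [← key g (mem_primeElts.2 hg) h, h1, zero_mul])

/-- Either there is a fixed-point-free rational representation, or a nonzero integer lies in the
ideal generated by the sums of powers. -/
theorem hasFpf_or_int_mem (G : Type*) [Group G] [Finite G] :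
    HasFpf G ∨ ∃ D : ℤ, D ≠ 0 ∧ (D : MonoidAlgebra ℤ G) ∈ idealJ G := by
  classical
  haveI hfin : Module.Finite ℤ (MonoidAlgebra ℤ G) := by
    refine Module.Finite.of_surjective
      ({ toFun := fun f => ofCoeff f, map_add' := fun _ _ => rfl, map_smul' := fun _ _ => rfl } :
        (G →₀ ℤ) →ₗ[ℤ] MonoidAlgebra ℤ G) fun x => ⟨x.coeff, rfl⟩
  by_cases hinj : ∀ v : MonoidAlgebra ℤ G, centralC G * v = 0 → v = 0
  · right
    obtain ⟨p, hp, hp0⟩ := IsIntegral.of_finite ℤ (centralC G)
    let P : Set (Polynomial ℤ) := {q | q ≠ 0 ∧ Polynomial.aeval (centralC G) q = 0}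
    have hne : P.Nonempty := ⟨p, hp.ne_zero, hp0⟩
    obtain ⟨q, ⟨hq0, hq⟩, hmin⟩ : ∃ q ∈ P, ∀ r ∈ P, q.natDegree ≤ r.natDegree := by
      have h := Nat.find_spec (p := fun n => ∃ q ∈ P, q.natDegree = n) ⟨_, p, ⟨hp.ne_zero, hp0⟩, rfl⟩
      obtain ⟨q, hq, hd⟩ := h
      exact ⟨q, hq, fun r hr => hd ▸ Nat.find_le ⟨r, hr, rfl⟩⟩
    refine ⟨q.coeff 0, fun h0 => ?_, ?_⟩
    · obtain ⟨r, rfl⟩ := Polynomial.X_dvd_iff.2 h0
      have hr0 : r ≠ 0 := fun e => hq0 (by rw [e, mul_zero])
      rw [map_mul, Polynomial.aeval_X] at hq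
      have := hmin r ⟨hr0, hinj _ hq⟩
      rw [Polynomial.natDegree_mul Polynomial.X_ne_zero hr0, Polynomial.natDegree_X] at this
      omega
    · have e := congrArg (Polynomial.aeval (centralC G)) (Polynomial.X_mul_divX_add q)
      rw [hq, map_add, map_mul, Polynomial.aeval_X, Polynomial.aeval_C] at e
      have : ((q.coeff 0 : ℤ) : MonoidAlgebra ℤ G) =
          centralC G * (-(Polynomial.aeval (centralC G) q.divX)) := by
        rw [mul_neg, eq_neg_iff_add_eq_zero, add_comm]
        simpa using e
      rw [this]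
      exact idealJ_mul_right centralC_mem _
  · left
    push Not at hinj
    obtain ⟨v, hv, hv0⟩ := hinj
    let W : Submodule ℤ (MonoidAlgebra ℤ G) :=
      { carrier := {u | ∀ g : G, (orderOf g).Prime → ∀ h : G, hat g * (single h 1 * u) = 0}
        zero_mem' := fun g _ h => by simp
        add_mem' := fun {a b} ha hb g hg h => by rw [mul_add, mul_add, ha g hg h, hb g hg h, add_zero]
        smul_mem' := fun c a ha g hg h => by
          rw [mul_smul_comm, mul_smul_comm, ha g hg h, smul_zero] }
    have hvW : v ∈ W := fun g hg h => hat_killed hv hg h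
    haveI : Module.Free ℤ (MonoidAlgebra ℤ G) := Module.Free.of_equiv
      ({ toFun := fun f => ofCoeff f, invFun := fun x => x.coeff, map_add' := fun _ _ => rfl,
         map_smul' := fun _ _ => rfl, left_inv := fun _ => rfl, right_inv := fun _ => rfl } :
        (G →₀ ℤ) ≃ₗ[ℤ] MonoidAlgebra ℤ G)
    obtain ⟨n, b⟩ := Submodule.basisOfPid (Module.Free.chooseBasis ℤ (MonoidAlgebra ℤ G)) W
    rcases n with _ | n
    · exfalso
      have : (⟨v, hvW⟩ : W) = 0 := b.ext_elem fun i => i.elim0
      exact hv0 (congrArg Subtype.val this)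
    let L : G →* Module.End ℤ W :=
      { toFun := fun g =>
          { toFun := fun u => ⟨(single g (1 : ℤ) : MonoidAlgebra ℤ G) * (u : MonoidAlgebra ℤ G), fun g' hg' h => by
              rw [← mul_assoc (single h 1), single_mul_single, one_mul]; exact u.2 g' hg' (h * g)⟩
            map_add' := fun a b => Subtype.ext (mul_add _ _ _)
            map_smul' := fun c a => Subtype.ext (mul_smul_comm _ _ _) }
        map_one' := LinearMap.ext fun u => Subtype.ext (by
          show single (1 : G) (1 : ℤ) * (u : MonoidAlgebra ℤ G) = u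
          rw [← MonoidAlgebra.one_def, one_mul])
        map_mul' := fun g h => LinearMap.ext fun u => Subtype.ext (by
          show single (g * h) (1 : ℤ) * (u : MonoidAlgebra ℤ G) = (single g (1 : ℤ) : MonoidAlgebra ℤ G) * ((single h (1 : ℤ) : MonoidAlgebra ℤ G) * (u : MonoidAlgebra ℤ G))
          rw [← mul_assoc, single_mul_single, one_mul]) }
    let Φ : Module.End ℤ W →+* Matrix (Fin (n + 1)) (Fin (n + 1)) ℚ :=
      ((Int.castRingHom ℚ).mapMatrix).comp (LinearMap.toMatrixAlgEquiv b).toRingEquiv.toRingHom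
    refine ⟨n, Φ.toMonoidHom.comp L, fun g hg => ?_⟩
    have hz : ∑ i ∈ range (orderOf g), L g ^ i = 0 := by
      refine LinearMap.ext fun u => Subtype.ext ?_
      rw [LinearMap.sum_apply, Submodule.coe_sum]
      simp only [← map_pow]
      show ∑ i ∈ range (orderOf g), (single (g ^ i) (1 : ℤ) : MonoidAlgebra ℤ G) * (u : MonoidAlgebra ℤ G) = 0
      have := u.2 g hg 1
      rwa [← MonoidAlgebra.one_def, one_mul, hat, sum_mul] at this
    have := congrArg Φ hz
    rw [map_sum, map_zero] at this
    simp only [map_pow] at this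
    exact this

/-- The lifting lemma: a fixed-point-free action in coprime characteristic yields one in
characteristic zero. -/
theorem hasFpf_of_module {l : ℕ} [hl : Fact l.Prime] {V : Type*} [AddCommGroup V] [Nontrivial V]
    (hexp : ∀ v : V, l • v = 0) (hcop : ¬ l ∣ Nat.card G) (ρ : G →* Module.End ℤ V)
    (hfpf : ∀ g : G, g ≠ 1 → ∀ v : V, ρ g v = v → v = 0) : HasFpf G := by
  classical
  letI := Fintype.ofFinite G
  rcases hasFpf_or_int_mem G with h | ⟨D, hD, hDJ⟩
  · exact h
  exfalso
  set R := MonoidAlgebra ℤ G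
  set S := MonoidAlgebra (ZMod l) G
  let π : R →+* S := MonoidAlgebra.mapRingHom G (Int.castRingHom (ZMod l))
  have hπs : ∀ g : G, π (single g 1) = single g 1 := fun g => by
    refine MonoidAlgebra.coeff_injective (Finsupp.ext fun x => ?_)
    rw [MonoidAlgebra.coeff_mapRingHom, MonoidAlgebra.coeff_single, MonoidAlgebra.coeff_single,
      Finsupp.single_apply, Finsupp.single_apply]
    split_ifs <;> simp
  have hsurj : Function.Surjective π := by
    intro x
    induction x using MonoidAlgebra.induction_linear with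
    | zero => exact ⟨0, map_zero _⟩
    | add a b ha hb => obtain ⟨a', rfl⟩ := ha; obtain ⟨b', rfl⟩ := hb; exact ⟨a' + b', map_add _ _ _⟩
    | single m r =>
      obtain ⟨k, rfl⟩ := ZMod.intCast_surjective r
      refine ⟨k • single m 1, ?_⟩
      rw [map_zsmul, hπs, zsmul_eq_mul]
      refine MonoidAlgebra.coeff_injective (Finsupp.ext fun x => ?_)
      rw [← zsmul_eq_mul, MonoidAlgebra.coeff_smul_apply, MonoidAlgebra.coeff_single,
        MonoidAlgebra.coeff_single, Finsupp.single_apply, Finsupp.single_apply]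
      split_ifs <;> simp
  have hker : ∀ x : R, π x = 0 → ∃ z : R, x = (l : ℤ) • z := by
    intro x hx
    refine ⟨ofCoeff (x.coeff.mapRange (fun a => a / (l : ℤ)) (by simp)), ?_⟩
    refine MonoidAlgebra.coeff_injective (Finsupp.ext fun m => ?_)
    rw [MonoidAlgebra.coeff_smul_apply, MonoidAlgebra.coeff_ofCoeff, Finsupp.mapRange_apply, smul_eq_mul]
    have := congrArg (fun z : S => z.coeff m) hx
    simp only [MonoidAlgebra.coeff_zero, Finsupp.zero_apply] at this
    rw [MonoidAlgebra.coeff_mapRingHom] at this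
    exact (Int.mul_ediv_cancel' ((ZMod.intCast_zmod_eq_zero_iff_dvd _ _).1 this)).symm
  let σR : R →+* Module.End ℤ V := (MonoidAlgebra.lift ℤ (Module.End ℤ V) G ρ).toRingHom
  have hσR : ∀ g : G, σR (single g 1) = ρ g := fun g => by
    show MonoidAlgebra.lift ℤ (Module.End ℤ V) G ρ (single g 1) = _
    rw [MonoidAlgebra.lift_single, one_smul]
  have hkσ : RingHom.ker π ≤ RingHom.ker σR := by
    intro x hx
    obtain ⟨z, rfl⟩ := hker x (RingHom.mem_ker.1 hx)
    rw [RingHom.mem_ker, map_zsmul]
    refine LinearMap.ext fun v => ?_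
    rw [LinearMap.smul_apply, LinearMap.zero_apply, natCast_zsmul, hexp]
  let σ : S →+* Module.End ℤ V := π.liftOfSurjective hsurj ⟨σR, hkσ⟩
  have hσπ : ∀ x : R, σ (π x) = σR x := RingHom.liftOfSurjective_comp_apply π hsurj _
  -- the sums of powers act as zero
  have hhat : ∀ g : G, (orderOf g).Prime → σ (π (hat g)) = 0 := by
    intro g hg
    rw [hat, hσπ, map_sum]
    simp only [hσR]
    refine LinearMap.ext fun v => ?_
    rw [LinearMap.sum_apply, LinearMap.zero_apply]
    refine hfpf g (fun e => by rw [e, orderOf_one] at hg; exact Nat.not_prime_one hg) _ ?_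
    rw [map_sum]
    have h := sum_range_succ' (fun i => ρ (g ^ i) v) (orderOf g)
    rw [sum_range_succ, pow_orderOf_eq_one, pow_zero] at h
    refine (sum_congr rfl fun i _ => ?_).trans (add_right_cancel h).symm
    show ρ g (ρ (g ^ i) v) = ρ (g ^ (i + 1)) v
    rw [pow_succ', map_mul]; rfl
  -- a central element acting as the identity and killing the kernel
  haveI : NeZero (Nat.card G : ZMod l) := ⟨fun e => hcop ((ZMod.natCast_eq_zero_iff _ _).1 e)⟩
  obtain ⟨e, he, hK⟩ := IsSemisimpleRing.ideal_eq_span_idempotent (RingHom.ker σ)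
  have heK : e ∈ RingHom.ker σ := by rw [hK]; exact Ideal.mem_span_singleton_self e
  have hright : ∀ x ∈ RingHom.ker σ, x * e = x := by
    intro x hx
    rw [hK, Ideal.mem_span_singleton'] at hx
    obtain ⟨a, rfl⟩ := hx
    rw [mul_assoc, he.eq]
  have hleft : ∀ x ∈ RingHom.ker σ, e * x = x := by
    intro x hx
    rw [← sub_eq_zero]
    set z := e * x - x with hz
    have hzK : z ∈ RingHom.ker σ := by
      rw [RingHom.mem_ker] at hx ⊢
      rw [hz, map_sub, map_mul, hx, mul_zero, sub_zero]
    obtain ⟨f, hf, hzf⟩ := IsSemisimpleRing.ideal_eq_span_idempotent (Ideal.span ({z} : Set S))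
    obtain ⟨a, ha⟩ := Ideal.mem_span_singleton'.1
      (show f ∈ Ideal.span ({z} : Set S) by rw [hzf]; exact Ideal.mem_span_singleton_self f)
    obtain ⟨c, hc⟩ := Ideal.mem_span_singleton'.1
      (show z ∈ Ideal.span ({f} : Set S) by rw [← hzf]; exact Ideal.mem_span_singleton_self z)
    have hez : e * z = 0 := by rw [hz, mul_sub, ← mul_assoc, he.eq, sub_self]
    have hfa : f * a ∈ RingHom.ker σ := by
      rw [RingHom.mem_ker] at hzK ⊢
      rw [← ha, map_mul, map_mul, hzK, mul_zero, zero_mul]
    have hf0 : f = 0 := by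
      rw [← hf.eq]
      nth_rw 2 [← ha]
      rw [← mul_assoc, ← hright _ hfa, mul_assoc, hez, mul_zero]
    rw [← hc, hf0, mul_zero]
  have hcomm : ∀ r : S, r * e = e * r := by
    intro r
    rw [RingHom.mem_ker] at heK
    have h1 : e * r * e = e * r := hright _ (by rw [RingHom.mem_ker, map_mul, heK, zero_mul])
    have h2 : e * (r * e) = r * e := hleft _ (by rw [RingHom.mem_ker, map_mul, heK, mul_zero])
    rw [← h2, ← mul_assoc, h1]
  obtain ⟨y, hy⟩ := hsurj (1 - e)
  have hy0 : ∀ (g : G) (a : R), (orderOf g).Prime → ∃ z : R, a * hat g * y = (l : ℤ) • z := by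
    intro g a hg
    refine hker _ ?_
    rw [map_mul, hy, mul_sub, mul_one, sub_eq_zero, eq_comm]
    refine hright _ ?_
    rw [RingHom.mem_ker, map_mul, map_mul, hhat g hg, mul_zero]
  have hyc : ∀ r : R, ∃ z : R, r * y = y * r + (l : ℤ) • z := by
    intro r
    obtain ⟨z, hz⟩ := hker (r * y - y * r) (by
      rw [map_sub, map_mul, map_mul, hy, mul_sub, sub_mul, mul_one, one_mul, hcomm, sub_self])
    exact ⟨z, by rw [← hz, add_sub_cancel]⟩
  set N : ℤ := (Nat.card G : ℤ) with hN
  have key : ∀ n : ℕ, ∀ x ∈ idealJ G, ∃ z : R, N ^ n • (x * y ^ n) = (l : ℤ) ^ n • z := by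
    intro n
    induction n with
    | zero => intro x _; exact ⟨x, by simp⟩
    | succ n ih =>
      intro x hx
      induction hx using AddSubgroup.closure_induction with
      | mem x hx =>
        obtain ⟨g, a, b, hg, rfl⟩ := hx
        obtain ⟨k, hk⟩ : (orderOf g : ℤ) ∣ N := by rw [hN]; exact_mod_cast orderOf_dvd_natCard g
        have hJ : hat g * b ∈ idealJ G := by simpa using mem_idealJ hg 1 b
        obtain ⟨z₁, hz₁⟩ := hy0 g a hg
        obtain ⟨c, hc⟩ := hyc (hat g * b)
        -- one factor `y` is moved to the left factor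
        have e1 : N • (a * hat g * b * y) = k • ((a * hat g * y) * (hat g * b)) +
            (l : ℤ) • (k • (a * hat g * c)) := by
          have : (orderOf g : ℤ) • (a * hat g * b * y) = a * hat g * ((hat g * b) * y) := by
            calc (orderOf g : ℤ) • (a * hat g * b * y) = a * ((orderOf g : ℤ) • hat g) * b * y := by
                  simp only [mul_smul_comm, smul_mul_assoc]
              _ = _ := by rw [← hat_sq]; simp only [mul_assoc]
          rw [hk, mul_comm, mul_smul, this, hc, mul_add, smul_add, mul_smul_comm, smul_comm k, mul_assoc _ y]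
        have hJ2 : hat g * b ∈ idealJ G := hJ
        obtain ⟨z₂, hz₂⟩ := ih _ hJ2
        have hcJ : hat g * c ∈ idealJ G := by simpa using mem_idealJ hg 1 c
        obtain ⟨z₃, hz₃⟩ := ih _ hcJ
        refine ⟨k • (z₁ * z₂) + k • (a * z₃), ?_⟩
        calc N ^ (n + 1) • (a * hat g * b * y ^ (n + 1))
            = N ^ n • ((N • (a * hat g * b * y)) * y ^ n) := by
              rw [pow_succ' y, ← mul_assoc, smul_mul_assoc, smul_smul, ← pow_succ]
          _ = N ^ n • ((k • ((a * hat g * y) * (hat g * b)) + (l : ℤ) • (k • (a * hat g * c))) * y ^ n) := by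
              rw [e1]
          _ = k • ((a * hat g * y) * (N ^ n • (hat g * b * y ^ n))) +
                (l : ℤ) • (k • (a * (N ^ n • (hat g * c * y ^ n)))) := by
              simp only [add_mul, smul_mul_assoc, mul_smul_comm, smul_add, mul_assoc]
              congr 1
              · rw [smul_comm]
              · rw [smul_comm (N ^ n) (l : ℤ), smul_comm (N ^ n) k]
          _ = (l : ℤ) ^ (n + 1) • (k • (z₁ * z₂) + k • (a * z₃)) := by
              rw [hz₁, hz₂, hz₃]
              simp only [smul_mul_assoc, mul_smul_comm, smul_smul, smul_add]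
              congr 2 <;> ring
      | zero => exact ⟨0, by simp⟩
      | add u v _ _ hu hv =>
        obtain ⟨z, hz⟩ := hu; obtain ⟨w, hw⟩ := hv
        exact ⟨z + w, by rw [add_mul, smul_add, hz, hw, smul_add]⟩
      | neg u _ hu =>
        obtain ⟨z, hz⟩ := hu
        exact ⟨-z, by rw [neg_mul, smul_neg, hz, smul_neg]⟩
  obtain ⟨v, n', hn', hDn⟩ := Nat.exists_eq_pow_mul_and_not_dvd (Int.natAbs_ne_zero.2 hD) l hl.out.ne_one
  obtain ⟨D', hD', rfl⟩ : ∃ D' : ℤ, ¬ (l : ℤ) ∣ D' ∧ D = (l : ℤ) ^ v * D' := by
    rcases Int.natAbs_eq D with e | e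
    · exact ⟨n', by exact_mod_cast hn', by rw [e, hDn]; push_cast; ring⟩
    · exact ⟨-(n' : ℤ), by rw [dvd_neg]; exact_mod_cast hn', by rw [e, hDn]; push_cast; ring⟩
  obtain ⟨z, hz⟩ := key (v + 1) _ hDJ
  have hl0 : (l : ℤ) ≠ 0 := by exact_mod_cast hl.out.ne_zero
  have e2 : (N ^ (v + 1) * D') • y ^ (v + 1) = (l : ℤ) • z := by
    refine MonoidAlgebra.coeff_injective (Finsupp.ext fun x => ?_)
    have h := congrArg (fun r : R => r.coeff x) hz
    rw [← zsmul_eq_mul] at h
    erw [coeff_zsmul', coeff_zsmul', coeff_zsmul'] at h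
    erw [coeff_zsmul', coeff_zsmul']
    refine mul_left_cancel₀ (pow_ne_zero v hl0) ?_
    linear_combination h
  have e3 := congrArg σR e2
  rw [map_zsmul, map_zsmul, map_pow, ← hσπ y, hy, map_sub, map_one,
    (RingHom.mem_ker.1 heK : σ e = 0), sub_zero, one_pow] at e3
  obtain ⟨w, hw⟩ := exists_ne (0 : V)
  have e4 := LinearMap.congr_fun e3 w
  rw [LinearMap.smul_apply, LinearMap.smul_apply, natCast_zsmul, hexp, Module.End.one_apply] at e4
  have hord : addOrderOf w = l := addOrderOf_eq_prime (hexp w) hw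
  have hdvd := addOrderOf_dvd_iff_zsmul_eq_zero.2 e4
  rw [hord] at hdvd
  have hlp : Prime (l : ℤ) := Nat.prime_iff_prime_int.1 hl.out
  rcases hlp.dvd_or_dvd hdvd with h | h
  · exact hcop (Int.natCast_dvd_natCast.1 (hlp.dvd_of_dvd_pow h))
  · exact hD' h

end CfsgLib.Perm.Fpf
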