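import Cfsg.Agent.Perm.FpfAlgebra
import Cfsg.Agent.Solv.UniqueSub
import Cfsg.Agent.Solv.TransferTools
import Cfsg.Agent.Solv.SmallTransfer

/-!
First consequences of a fixed-point-free representation, and of perfectness.
-/

set_option autoImplicit false
set_option linter.style.haveILetI false

namespace CfsgLib.Perm.Fpf

open Finset

variable {G : Type*} [Group G] [Finite G]

/-- The matrix ring. -/
abbrev Mat (n : ℕ) := Matrix (Fin (n + 1)) (Fin (n + 1)) ℚ

theorem natCast_ne_zero' {n : ℕ} {k : ℕ} (hk : k ≠ 0) : (k : Mat n) ≠ 0 := fun e => by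
  have := congrFun (congrFun e 0) 0
  rw [← Matrix.diagonal_natCast, Matrix.diagonal_apply_eq] at this
  simp [hk] at this

theorem injective_of_fpf {n : ℕ} {θ : G →* Mat n}
    (hθ : ∀ g : G, (orderOf g).Prime → ∑ i ∈ range (orderOf g), θ g ^ i = 0) :
    ∀ g : G, θ g = 1 → g = 1 := by
  intro g hg
  by_contra h1
  obtain ⟨p, hp, hd⟩ := Nat.exists_prime_and_dvd (fun e => h1 (orderOf_eq_one_iff.1 e))
  have ho : orderOf (g ^ (orderOf g / p)) = p := orderOf_pow_orderOf_div (orderOf_pos g).ne' hd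
  have := hθ _ (ho ▸ hp)
  rw [ho, map_pow, hg, one_pow] at this
  simp only [one_pow, sum_const, card_range, nsmul_eq_mul, mul_one] at this
  exact natCast_ne_zero' hp.ne_zero this

theorem theta_invol {n : ℕ} {θ : G →* Mat n}
    (hθ : ∀ g : G, (orderOf g).Prime → ∑ i ∈ range (orderOf g), θ g ^ i = 0)
    {t : G} (ht : orderOf t = 2) : θ t = -1 := by
  have := hθ t (ht ▸ Nat.prime_two)
  rw [ht, sum_range_succ, sum_range_one, pow_zero, pow_one] at this
  exact eq_neg_of_add_eq_zero_right this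

/-- The involution is unique. -/
theorem invol_unique (h : HasFpf G) {s t : G} (hs : orderOf s = 2) (ht : orderOf t = 2) : s = t := by
  obtain ⟨n, θ, hθ⟩ := h
  have e : θ (s * t⁻¹) = 1 := by
    have h1 := theta_invol hθ hs
    have h2 : θ t⁻¹ = -1 := by rw [theta_invol hθ (show orderOf t⁻¹ = 2 by rw [orderOf_inv, ht])]
    rw [map_mul, h1, h2, neg_mul_neg, one_mul]
  exact mul_inv_eq_one.1 (injective_of_fpf hθ _ e)

theorem invol_central (h : HasFpf G) {t : G} (ht : orderOf t = 2) (g : G) : g * t = t * g := by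
  have := invol_unique h (show orderOf (MulAut.conj g t) = 2 by rw [MulEquiv.orderOf_eq, ht]) ht
  rw [MulAut.conj_apply] at this
  exact mul_inv_eq_iff_eq_mul.1 this

theorem sum_pow_range_mul {n : ℕ} {θ : G →* Mat n} {p : ℕ} (hp : p.Prime) {y : G} (hy : orderOf y = p)
    (hθy : ∑ k ∈ range p, θ y ^ k = 0) {i : ℕ} (hi : ¬ p ∣ i) : ∑ k ∈ range p, θ (y ^ (k * i)) = 0 := by
  haveI := Fact.mk hp
  refine (Finset.sum_bij' (fun k _ => k * i % p) (fun k _ => k * ((i : ZMod p)⁻¹).val % p)
    (fun k _ => mem_range.2 (Nat.mod_lt _ hp.pos)) (fun k _ => mem_range.2 (Nat.mod_lt _ hp.pos)) ?_ ?_ ?_).trans hθy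
  · intro k hk
    have hi0 : (i : ZMod p) ≠ 0 := fun e => hi ((ZMod.natCast_eq_zero_iff _ _).1 e)
    have : ((k * i % p * ((i : ZMod p)⁻¹).val : ℕ) : ZMod p) = (k : ZMod p) := by
      rw [Nat.cast_mul, ZMod.natCast_mod, Nat.cast_mul, ZMod.natCast_val, ZMod.cast_id, mul_assoc,
        mul_inv_cancel₀ hi0, mul_one]
    have h2 := congrArg ZMod.val this
    rwa [ZMod.val_natCast, ZMod.val_natCast, Nat.mod_eq_of_lt (mem_range.1 hk)] at h2
  · intro k hk
    have hi0 : (i : ZMod p) ≠ 0 := fun e => hi ((ZMod.natCast_eq_zero_iff _ _).1 e)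
    have : ((k * ((i : ZMod p)⁻¹).val % p * i : ℕ) : ZMod p) = (k : ZMod p) := by
      rw [Nat.cast_mul, ZMod.natCast_mod, Nat.cast_mul, ZMod.natCast_val, ZMod.cast_id, mul_assoc,
        inv_mul_cancel₀ hi0, mul_one]
    have h2 := congrArg ZMod.val this
    rwa [ZMod.val_natCast, ZMod.val_natCast, Nat.mod_eq_of_lt (mem_range.1 hk)] at h2
  · intro k _
    rw [← map_pow, ← hy, pow_mod_orderOf]

/-- Commuting elements of the same prime order generate a cyclic group. -/
theorem mem_zpowers_of_commute (h : HasFpf G) {p : ℕ} (hp : p.Prime) {x y : G} (hx : orderOf x = p)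
    (hy : orderOf y = p) (hc : Commute x y) : x ∈ Subgroup.zpowers y := by
  by_contra hne
  obtain ⟨n, θ, hθ⟩ := h
  have hx' : ∀ k : ℕ, orderOf (x * y ^ k) = p := by
    intro k
    haveI := Fact.mk hp
    refine orderOf_eq_prime ?_ fun e => hne ?_
    · rw [(hc.pow_right k).mul_pow, ← pow_mul, mul_comm k p, pow_mul, ← hy, pow_orderOf_eq_one,
        one_pow, mul_one, hy, ← hx, pow_orderOf_eq_one]
    · rw [eq_inv_of_mul_eq_one_left e]
      exact inv_mem (Subgroup.npow_mem_zpowers y k)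
  have h0 : ∀ k : ℕ, ∑ i ∈ range p, θ (x ^ i * y ^ (k * i)) = 0 := by
    intro k
    have := hθ _ ((hx' k).symm ▸ hp)
    rw [hx' k] at this
    rw [← this]
    refine sum_congr rfl fun i _ => ?_
    rw [← map_pow, (hc.pow_right k).mul_pow, ← pow_mul]
  have hy0 : ∑ k ∈ range p, θ y ^ k = 0 := by
    have := hθ y (hy.symm ▸ hp); rwa [hy] at this
  have htot := sum_eq_zero (s := range p) fun k _ => h0 k
  rw [sum_comm, ← add_sum_erase _ _ (mem_range.2 hp.pos)] at htot
  rw [sum_eq_zero (s := (range p).erase 0) fun i hi => ?_, add_zero] at htot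
  · simp only [pow_zero, mul_zero, mul_one, map_one, sum_const, card_range, nsmul_eq_mul] at htot
    exact natCast_ne_zero' hp.ne_zero htot
  · simp only [map_mul]
    rw [← mul_sum, sum_pow_range_mul hp hy hy0, mul_zero]
    intro hd
    obtain ⟨hi0, hi1⟩ := mem_erase.1 hi
    exact hi0 (Nat.eq_zero_of_dvd_of_lt hd (mem_range.1 hi1))

/-- An element of prime order normalising a subgroup of prime order centralises it. -/
theorem commute_of_normalizes (h : HasFpf G) {p q : ℕ} (hp : p.Prime) (hq : q.Prime) {x y : G}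
    (hx : orderOf x = p) (hy : orderOf y = q) (hn : y * x * y⁻¹ ∈ Subgroup.zpowers x) :
    y * x * y⁻¹ = x := by
  by_contra hne
  haveI := Fact.mk hp
  obtain ⟨n, θ, hθ⟩ := h
  obtain ⟨c, hc⟩ : ∃ c : ℕ, y * x * y⁻¹ = x ^ c := by
    obtain ⟨z, hz⟩ := mem_powers_iff_mem_zpowers.2 hn
    exact ⟨z, hz.symm⟩
  have hpow : ∀ j : ℕ, y ^ j * x * (y ^ j)⁻¹ = x ^ (c ^ j) := by
    intro j
    induction j with
    | zero => simp
    | succ j ih =>
      calc y ^ (j + 1) * x * (y ^ (j + 1))⁻¹ = y * (y ^ j * x * (y ^ j)⁻¹) * y⁻¹ := by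
            rw [pow_succ']; group
        _ = (y * x * y⁻¹) ^ (c ^ j) := by rw [ih, conj_pow]
        _ = _ := by rw [hc, ← pow_mul, pow_succ']
  have hord : ∀ k : ℕ, orderOf (x ^ k * y * (x ^ k)⁻¹) = q := fun k => by
    rw [← MulAut.conj_apply, MulEquiv.orderOf_eq, hy]
  have h0 : ∀ k : ℕ, ∑ i ∈ range q, θ (x ^ k * y ^ i * (x ^ k)⁻¹) = 0 := by
    intro k
    have := hθ _ ((hord k).symm ▸ hq)
    rw [hord k] at this
    rw [← this]
    exact sum_congr rfl fun i _ => by rw [← map_pow, conj_pow]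
  have hx0 : ∑ k ∈ range p, θ x ^ k = 0 := by
    have := hθ x (hx.symm ▸ hp); rwa [hx] at this
  have htot := sum_eq_zero (s := range p) fun k _ => h0 k
  rw [sum_comm, ← add_sum_erase _ _ (mem_range.2 hq.pos)] at htot
  rw [sum_eq_zero (s := (range q).erase 0) fun i hi => ?_, add_zero] at htot
  · simp only [pow_zero, mul_one, mul_inv_cancel, map_one, sum_const, card_range, nsmul_eq_mul] at htot
    exact natCast_ne_zero' hp.ne_zero htot
  · obtain ⟨hi0, hi1⟩ := mem_erase.1 hi
    have hi1' := mem_range.1 hi1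
    -- `c ^ i` is not one modulo `p`
    have hci : ¬ (c ^ i ≡ 1 [MOD p]) := by
      intro hmod
      refine hne ?_
      have hfix : y ^ i * x * (y ^ i)⁻¹ = x := by
        rw [hpow]
        conv_rhs => rw [← pow_one x]
        rwa [pow_eq_pow_iff_modEq, hx]
      obtain ⟨m, hm⟩ := exists_pow_eq_self_of_coprime (x := y) (n := i) (by
        rw [hy]
        exact ((Nat.Prime.coprime_iff_not_dvd hq).2 fun hd => hi0 (Nat.eq_zero_of_dvd_of_lt hd hi1')).symm)
      have hcm : Commute (y ^ i) x := mul_inv_eq_iff_eq_mul.1 hfix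
      have := hcm.pow_left m
      rw [hm] at this
      rw [this.eq, mul_inv_cancel_right]
    have hswap : ∀ k : ℕ, x ^ k * y ^ i * (x ^ k)⁻¹ = x ^ (k * (1 + (p - c ^ i % p))) * y ^ i := by
      intro k
      have h1 : y ^ i * (x ^ k)⁻¹ = (x ^ (c ^ i * k))⁻¹ * y ^ i := by
        rw [pow_mul x (c ^ i) k, ← hpow, conj_pow]; group
      rw [mul_assoc, h1, ← mul_assoc]
      congr 1
      rw [mul_inv_eq_iff_eq_mul, ← pow_add, pow_eq_pow_iff_modEq, hx]
      have hlt := Nat.mod_lt (c ^ i) hp.pos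
      have : (c ^ i * k) % p = (c ^ i % p * k) % p := by simp [Nat.mul_mod]
      show k % p = _ % p
      rw [Nat.add_mod, this, ← Nat.add_mod,
        show k * (1 + (p - c ^ i % p)) + c ^ i % p * k = k + k * p by
          rw [mul_comm (c ^ i % p), ← mul_add, add_assoc, Nat.sub_add_cancel hlt.le]; ring,
        Nat.add_mul_mod_self_right]
    simp only [hswap, map_mul]
    rw [← sum_mul, sum_pow_range_mul hp hx hx0, zero_mul]
    intro hd
    have hlt := Nat.mod_lt (c ^ i) hp.pos
    obtain ⟨a, ha⟩ := hd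
    have ha1 : a = 1 := by
      rcases a with _ | _ | a
      · omega
      · rfl
      · nlinarith [hp.two_le, Nat.mul_le_mul_left p (show 2 ≤ a + 1 + 1 by omega), Nat.sub_le p (c ^ i % p)]
    subst ha1
    exact hci (show c ^ i % p = 1 % p by rw [Nat.one_mod_eq_one.2 hp.ne_one]; omega)

theorem pGroup_unique (h : HasFpf G) {p : ℕ} [hp : Fact p.Prime] (R : Subgroup G) (hR : IsPGroup p R)
    (x y : R) (hx : orderOf x = p) (hy : orderOf y = p) : y ∈ Subgroup.zpowers x := by
  have hne : R ≠ ⊥ := fun e => by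
    subst e
    rw [Subsingleton.elim x 1, orderOf_one] at hx
    exact hp.out.ne_one hx.symm
  haveI : Nontrivial R := (Subgroup.nontrivial_iff_ne_bot _).2 hne
  haveI : Nontrivial (Subgroup.center R) := hR.center_nontrivial
  obtain ⟨k, hk⟩ := IsPGroup.iff_card.1 (hR.to_subgroup (Subgroup.center R))
  have hk0 : k ≠ 0 := fun e => by
    have := Finite.one_lt_card (α := Subgroup.center R)
    rw [hk, e, pow_zero] at this
    exact lt_irrefl _ this
  obtain ⟨w, hw⟩ := exists_prime_orderOf_dvd_card' p (hk ▸ dvd_pow_self p hk0)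
  have hw' : orderOf (w : R) = p := by rw [Subgroup.orderOf_coe]; exact hw
  have hc : ∀ v : R, Commute v (w : R) := fun v => Subgroup.mem_center_iff.1 w.2 v
  have hR' : HasFpf R := h.of_injective R.subtype R.subtype_injective
  have hxw := mem_zpowers_of_commute hR' hp.out hx hw' (hc x)
  have hyw := mem_zpowers_of_commute hR' hp.out hy hw' (hc y)
  have : Subgroup.zpowers x = Subgroup.zpowers (w : R) :=
    Subgroup.eq_of_le_of_card_ge (Subgroup.zpowers_le.2 hxw) (by rw [Nat.card_zpowers, Nat.card_zpowers, hx, hw'])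
  rw [this]; exact hyw

theorem isCyclic_odd (h : HasFpf G) {p : ℕ} [Fact p.Prime] (hp2 : p ≠ 2) {R : Subgroup G}
    (hR : IsPGroup p R) : IsCyclic R :=
  (CfsgLib.Solv.pgroup_unique_sub hR (pGroup_unique h R hR)).resolve_right fun e => hp2 e.1

theorem cyclic_or_quaternion (h : HasFpf G) {R : Subgroup G} (hR : IsPGroup 2 R) :
    IsCyclic R ∨ ∃ n : ℕ, Nonempty (R ≃* QuaternionGroup (2 ^ (n + 1))) :=
  haveI := Fact.mk Nat.prime_two
  (CfsgLib.Solv.pgroup_unique_sub hR (pGroup_unique h R hR)).imp_right fun e => e.2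

/-- A Z-group (all Sylow subgroups cyclic) of odd order. -/
theorem isZGroup_of_odd (h : HasFpf G) (ho : Odd (Nat.card G)) : IsZGroup G := by
  refine ⟨fun p hp P => ?_⟩
  haveI := Fact.mk hp
  by_cases hp2 : p = 2
  · subst hp2
    have : Nat.card (P : Subgroup G) = 1 := by
      obtain ⟨k, hk⟩ := IsPGroup.iff_card.1 P.2
      rcases Nat.eq_zero_or_pos k with rfl | hk0
      · rw [hk, pow_zero]
      · exfalso
        have : 2 ∣ Nat.card G := (hk ▸ dvd_pow_self 2 hk0.ne').trans (Subgroup.card_subgroup_dvd_card _)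
        exact (Nat.not_even_iff_odd.2 ho) (even_iff_two_dvd.2 this)
    haveI := (Nat.card_eq_one_iff_unique.1 this).1
    exact isCyclic_of_subsingleton
  · exact isCyclic_odd h hp2 P.2

theorem eq_top_of_normal_solvable_quotient (hperf : commutator G = ⊤) (N : Subgroup G) [N.Normal]
    [hs : Group.IsSolvable (G ⧸ N)] : N = ⊤ := by
  by_contra hne
  haveI : Nontrivial (G ⧸ N) := QuotientGroup.nontrivial_iff.2 hne
  have hlt := hs.commutator_lt_top_of_nontrivial
  have := Subgroup.map_commutator (⊤ : Subgroup G) ⊤ (QuotientGroup.mk' N)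
  rw [← commutator_def, hperf, Subgroup.map_top_of_surjective _ (QuotientGroup.mk'_surjective N),
    ← commutator_def] at this
  exact hlt.ne this.symm

/-- A perfect group has no normal complement to a nontrivial Sylow subgroup. -/
theorem not_hnpc (hperf : commutator G = ⊤) {p : ℕ} [hp : Fact p.Prime] (hd : p ∣ Nat.card G) :
    ¬ Cfsg.HasNormalPComplement p G := by
  rintro ⟨P, N, hN, hc⟩
  haveI := hN
  obtain ⟨k, hk⟩ := IsPGroup.iff_card.1 P.2
  haveI : Group.IsNilpotent (G ⧸ N) :=
    (IsPGroup.of_card (p := p) (n := k) (by rw [← Subgroup.index_eq_card, hc.symm.index_eq_card, hk])).isNilpotent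
  have hNt := eq_top_of_normal_solvable_quotient hperf N
  subst hNt
  exact P.ne_bot_of_dvd_card hd (Subgroup.isComplement'_top_left.1 hc)

theorem even_of_perfect (h : HasFpf G) (hperf : commutator G = ⊤) [Nontrivial G] :
    2 ∣ Nat.card G := by
  by_contra hd
  haveI := isZGroup_of_odd h (Nat.not_even_iff_odd.1 fun e => hd (even_iff_two_dvd.1 e))
  exact (IsZGroup.commutator_lt (G := G)).ne hperf

/-- In a perfect group the normaliser of a nontrivial cyclic Sylow subgroup acts nontrivially. -/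
theorem exists_moving (hperf : commutator G = ⊤) {p : ℕ} [hp : Fact p.Prime] (hd : p ∣ Nat.card G)
    (P : Sylow p G) : ∃ g ∈ Subgroup.normalizer ((P : Subgroup G) : Set G),
      ∃ x ∈ (P : Subgroup G), g * x ≠ x * g := by
  by_contra hcon
  push Not at hcon
  refine not_hnpc hperf hd (CfsgLib.Solv.hnpc_of_normalizer_le_centralizer P fun g hg => ?_)
  exact Subgroup.mem_centralizer_iff.2 fun x hx => (hcon g hg x hx).symm

end CfsgLib.Perm.Fpf
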