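import Mathlib
import Cfsg.Agent.Solv.FrobeniusNilp
import Cfsg.Agent.Solv.FrobeniusFpf

/-!
Which groups occur as Frobenius complements: a group `A` is one iff there is a non-zero rational
function on `A` all of whose sums over cosets of subgroups of prime order vanish.
-/

set_option autoImplicit false
set_option linter.style.haveILetI false

namespace CfsgLib.Perm.Fpf

open scoped Matrix
open Finset

variable {A : Type*} [Group A]

/-- A non-zero function whose sums over right cosets of prime order subgroups vanish. -/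
def HasFun (A : Type*) [Group A] (F : Type*) [AddCommMonoid F] : Prop :=
  ∃ f : A → F, f ≠ 0 ∧ ∀ h : A, (orderOf h).Prime → ∀ g : A, ∑ i ∈ range (orderOf h), f (h ^ i * g) = 0

theorem hasFun_of_linear {F M : Type*} [Field F] [AddCommGroup M] [Module F M] {f : A → M}
    (hf : f ≠ 0) (hs : ∀ h : A, (orderOf h).Prime → ∀ g : A, ∑ i ∈ range (orderOf h), f (h ^ i * g) = 0) :
    HasFun A F := by
  obtain ⟨a, ha⟩ := Function.ne_iff.1 hf
  let b := Module.Free.chooseBasis F M
  obtain ⟨j, hj⟩ : ∃ j, b.coord j (f a) ≠ 0 := by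
    by_contra hcon
    push Not at hcon
    exact ha ((b.forall_coord_eq_zero_iff).1 hcon)
  refine ⟨fun x => b.coord j (f x), fun e => hj (congrFun e a), fun h hh g => ?_⟩
  rw [← map_sum, hs h hh g, map_zero]

theorem hasFun_of_injective {B F : Type*} [Group B] [AddCommMonoid F] (φ : B →* A)
    (hφ : Function.Injective φ) (hA : HasFun A F) : HasFun B F := by
  obtain ⟨f, hf, hs⟩ := hA
  obtain ⟨a, ha⟩ := Function.ne_iff.1 hf
  refine ⟨fun b => f (φ b * a), fun e => ha ?_, fun h hh g => ?_⟩
  · simpa using congrFun e 1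
  · have := hs (φ h) (by rwa [orderOf_injective φ hφ]) (φ g * a)
    rw [orderOf_injective φ hφ] at this
    simpa [mul_assoc] using this

section fpf

/-- A fixed-point-free linear action gives such a function. -/
theorem hasFun_of_fpf {F V : Type*} [Field F] [AddCommGroup V] [Module F V] [Nontrivial V]
    (ρ : A →* (V →ₗ[F] V)) (hfpf : ∀ a : A, a ≠ 1 → ∀ v : V, ρ a v = v → v = 0) : HasFun A F := by
  obtain ⟨v, hv⟩ := exists_ne (0 : V)
  refine hasFun_of_linear (f := fun a => ρ a v) (fun e => hv ?_) fun h hh g => ?_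
  · have h1 : ρ 1 v = 0 := congrFun e 1
    rwa [map_one] at h1
  · have h1 : h ≠ 1 := fun e => hh.ne_one (by rw [e, orderOf_one])
    refine hfpf h h1 _ ?_
    rw [map_sum]
    simp only [map_mul, map_pow, Module.End.mul_apply]
    have hw : ((ρ h) ^ orderOf h) (ρ g v) = ρ g v := by
      rw [← map_pow, pow_orderOf_eq_one, map_one, Module.End.one_apply]
    have e := Finset.sum_range_succ' (fun i => ((ρ h) ^ i) (ρ g v)) (orderOf h)
    rw [Finset.sum_range_succ] at e
    simp only [pow_zero, Module.End.one_apply, hw] at e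
    have e' := add_right_cancel e
    rw [e']
    exact Finset.sum_congr rfl fun i _ => by rw [pow_succ', Module.End.mul_apply]

/-- A nontrivial finite group embedded in a division ring. -/
theorem hasFun_of_divisionRing {D F : Type*} [DivisionRing D] [Field F] [Algebra F D] (φ : A →* Dˣ)
    (hφ : Function.Injective φ) : HasFun A F := by
  refine hasFun_of_linear (f := fun a => (φ a : D)) (fun e => ?_) fun h hh g => ?_
  · have h1 : ((φ 1 : Dˣ) : D) = 0 := congrFun e 1
    simp at h1
  · have h1 : (φ h : D) ≠ 1 := fun e => hh.ne_one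
      (by rw [orderOf_eq_one_iff]; exact hφ (by rw [map_one]; exact Units.ext e))
    simp only [map_mul, map_pow, Units.val_mul, Units.val_pow_eq_pow_val, ← Finset.sum_mul]
    have h2 := mul_geom_sum (φ h : D) (orderOf h)
    rw [← Units.val_pow_eq_pow_val, ← map_pow, pow_orderOf_eq_one, map_one, Units.val_one, sub_self] at h2
    rw [(mul_eq_zero.1 h2).resolve_left (sub_ne_zero.2 h1), zero_mul]

end fpf

/-- The coset incidence matrix. -/
noncomputable def incMatrix (A : Type*) [Group A] [DecidableEq A] (R : Type*) [CommRing R] : Matrix (A × A) A R :=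
  Matrix.of fun p a => if (orderOf p.1).Prime then ∑ i ∈ range (orderOf p.1), if p.1 ^ i * p.2 = a then (1 : R) else 0 else 0

theorem incMatrix_map [DecidableEq A] {R S : Type*} [CommRing R] [CommRing S] (φ : R →+* S) :
    (incMatrix A R).map φ = incMatrix A S := by
  ext p a
  simp only [incMatrix, Matrix.map_apply, Matrix.of_apply]
  split_ifs
  · rw [map_sum]; exact Finset.sum_congr rfl fun i _ => by split_ifs <;> simp
  · simp

theorem incMatrix_mulVec [Fintype A] [DecidableEq A] {R : Type*} [CommRing R] (v : A → R) (p : A × A) :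
    (incMatrix A R *ᵥ v) p = if (orderOf p.1).Prime then ∑ i ∈ range (orderOf p.1), v (p.1 ^ i * p.2) else 0 := by
  simp only [Matrix.mulVec, dotProduct, incMatrix, Matrix.of_apply]
  split_ifs with h
  · simp only [Finset.sum_mul, ite_mul, one_mul, zero_mul]
    rw [Finset.sum_comm]
    simp
  · simp

theorem incMatrix_mulVec_eq_zero [Fintype A] [DecidableEq A] {R : Type*} [CommRing R] (v : A → R) :
    incMatrix A R *ᵥ v = 0 ↔ ∀ h : A, (orderOf h).Prime → ∀ g, ∑ i ∈ range (orderOf h), v (h ^ i * g) = 0 := by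
  constructor
  · intro e h hh g
    have := congrFun e (h, g)
    rwa [incMatrix_mulVec, if_pos hh] at this
  · intro e
    ext ⟨h, g⟩
    rw [incMatrix_mulVec, Pi.zero_apply]
    split_ifs with hh
    · exact e h hh g
    · rfl

theorem hasFun_zmod_of_int [Finite A] {q : ℕ} (hq : q.Prime) (hA : HasFun A ℤ) : HasFun A (ZMod q) := by
  haveI := Fintype.ofFinite A
  obtain ⟨f, hf, hs⟩ := hA
  suffices ∀ n, ∀ f : A → ℤ, ∑ a, (f a).natAbs = n → f ≠ 0 →
      (∀ h : A, (orderOf h).Prime → ∀ g : A, ∑ i ∈ range (orderOf h), f (h ^ i * g) = 0) → HasFun A (ZMod q) from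
    this _ f rfl hf hs
  intro n
  induction n using Nat.strong_induction_on with | _ n ih =>
  intro f hn hf hs
  by_cases h0 : (fun a => (f a : ZMod q)) = 0
  · have hd : ∀ a, (q : ℤ) ∣ f a := fun a => (ZMod.intCast_zmod_eq_zero_iff_dvd _ _).1 (congrFun h0 a)
    choose g hg using hd
    have hq0 : (q : ℤ) ≠ 0 := by exact_mod_cast hq.ne_zero
    have hg0 : g ≠ 0 := fun e => hf (funext fun a => by rw [hg a, e]; simp)
    refine ih (∑ a, (g a).natAbs) ?_ g rfl hg0 fun h hh x => ?_
    · rw [← hn]
      obtain ⟨a, ha⟩ := Function.ne_iff.1 hg0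
      refine Finset.sum_lt_sum (fun b _ => ?_) ⟨a, Finset.mem_univ a, ?_⟩
      · rw [hg b, Int.natAbs_mul, Int.natAbs_natCast]; exact Nat.le_mul_of_pos_left _ hq.pos
      · rw [hg a, Int.natAbs_mul, Int.natAbs_natCast]
        exact lt_mul_of_one_lt_left (Int.natAbs_pos.2 ha) hq.one_lt
    · have := hs h hh x
      simp only [hg, ← Finset.mul_sum] at this
      exact (mul_eq_zero.1 this).resolve_left hq0
  · refine ⟨_, h0, fun h hh g => ?_⟩
    have := congrArg (fun z : ℤ => (z : ZMod q)) (hs h hh g)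
    simpa using this

theorem hasFun_int_of_rat [Finite A] (hA : HasFun A ℚ) : HasFun A ℤ := by
  classical
  haveI := Fintype.ofFinite A
  obtain ⟨f, hf, hs⟩ := hA
  set D := ∏ a, (f a).den
  have hD : D ≠ 0 := Finset.prod_ne_zero_iff.2 fun a _ => (f a).den_nz
  have key : ∀ a, ∃ z : ℤ, (z : ℚ) = (D : ℚ) * f a := fun a => by
    refine ⟨(∏ b ∈ univ.erase a, ((f b).den : ℤ)) * (f a).num, ?_⟩
    have hcast : (D : ℚ) = (∏ b ∈ univ.erase a, ((f b).den : ℚ)) * (f a).den := by
      show ((∏ b, (f b).den : ℕ) : ℚ) = _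
      rw [Nat.cast_prod, ← Finset.prod_erase_mul univ _ (Finset.mem_univ a)]
    rw [hcast]
    push_cast
    rw [mul_assoc]
    congr 1
    rw [mul_comm ((f a).den : ℚ), Rat.mul_den_eq_num]
  choose z hz using key
  refine ⟨z, fun e => ?_, fun h hh g => ?_⟩
  · obtain ⟨a, ha⟩ := Function.ne_iff.1 hf
    have h1 := hz a
    rw [e] at h1
    simp only [Pi.zero_apply, Int.cast_zero] at h1
    exact ha ((mul_eq_zero.1 h1.symm).resolve_left (by exact_mod_cast hD))
  · have h1 : ((∑ i ∈ range (orderOf h), z (h ^ i * g) : ℤ) : ℚ) = 0 := by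
      rw [Int.cast_sum]
      simp only [hz]
      rw [← Finset.mul_sum, hs h hh g, mul_zero]
    exact_mod_cast h1

theorem hasFun_zmod_of_rat [Finite A] {q : ℕ} (hq : q.Prime) (hA : HasFun A ℚ) : HasFun A (ZMod q) :=
  hasFun_zmod_of_int hq (hasFun_int_of_rat hA)

theorem hasFun_translate {F : Type*} [AddCommGroup F] {f : A → F}
    (hs : ∀ h : A, (orderOf h).Prime → ∀ g : A, ∑ i ∈ range (orderOf h), f (h ^ i * g) = 0) (x y : A) :
    ∀ h : A, (orderOf h).Prime → ∀ g : A, ∑ i ∈ range (orderOf h), f (x * (h ^ i * g) * y) = 0 := by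
  intro h hh g
  have e : orderOf (x * h * x⁻¹) = orderOf h := MulEquiv.orderOf_eq (MulAut.conj x) h
  have h1 := hs (x * h * x⁻¹) (by rwa [e]) (x * g * y)
  rw [e] at h1
  convert h1 using 2 with i
  rw [conj_pow]
  group

theorem hasFun_rat_of_zmod [Finite A] {q : ℕ} [Fact q.Prime] (hq : ¬ q ∣ Nat.card A) (hA : HasFun A (ZMod q)) :
    HasFun A ℚ := by
  classical
  haveI := Fintype.ofFinite A
  obtain ⟨f₀, hf₀, hs₀⟩ := hA
  obtain ⟨a₀, ha₀⟩ := Function.ne_iff.1 hf₀
  -- a class function with the vanishing property, not zero at the identity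
  set c : A → ZMod q := fun g => ∑ x : A, f₀ (x * g * (x⁻¹ * a₀)) with hc
  have hcs : ∀ h : A, (orderOf h).Prime → ∀ g : A, ∑ i ∈ range (orderOf h), c (h ^ i * g) = 0 := by
    intro h hh g
    rw [Finset.sum_comm]
    exact Finset.sum_eq_zero fun x _ => hasFun_translate hs₀ x (x⁻¹ * a₀) h hh g
  have hc1 : c 1 ≠ 0 := by
    simp only [hc, mul_one, mul_inv_cancel_left, Finset.sum_const, Finset.card_univ, nsmul_eq_mul]
    refine mul_ne_zero ?_ ha₀
    rw [Ne, ZMod.natCast_eq_zero_iff, ← Nat.card_eq_fintype_card]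
    exact hq
  by_contra hno
  -- over `ℚ` the matrix has trivial kernel, so `Mᵀ M` has non-zero determinant
  set M := incMatrix A ℤ
  set T := Mᵀ * M
  have hdet : T.det ≠ 0 := by
    intro h0
    have h1 : ((incMatrix A ℚ)ᵀ * incMatrix A ℚ).det = 0 := by
      have : T.map (Int.castRingHom ℚ) = (incMatrix A ℚ)ᵀ * incMatrix A ℚ := by
        rw [Matrix.map_mul, Matrix.transpose_map, incMatrix_map]
      rw [← this, ← RingHom.mapMatrix_apply, ← RingHom.map_det, h0, map_zero]
    obtain ⟨v, hv0, hv⟩ := Matrix.exists_mulVec_eq_zero_iff.2 h1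
    refine hno ⟨v, hv0, (incMatrix_mulVec_eq_zero v).1 ?_⟩
    have h2 : (incMatrix A ℚ *ᵥ v) ⬝ᵥ (incMatrix A ℚ *ᵥ v) = 0 := by
      rw [Matrix.dotProduct_mulVec, ← Matrix.mulVec_transpose, Matrix.mulVec_mulVec, hv, zero_dotProduct]
    exact dotProduct_self_eq_zero.1 h2
  -- integral lift of `c`, and its convolution powers
  set C : MonoidAlgebra ℤ A := ∑ a, MonoidAlgebra.single a ((c a).val : ℤ)
  have hCa : ∀ a, C.coeff a = ((c a).val : ℤ) := fun a => by
    simp [C, MonoidAlgebra.coeff_sum, Finsupp.single_apply]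
  have hCq : ∀ a, (C.coeff a : ZMod q) = c a := fun a => by
    rw [hCa, Int.cast_natCast, ZMod.natCast_zmod_val]
  have key : ∀ h : A, (orderOf h).Prime → ∀ j : ℕ, 1 ≤ j → ∀ g,
      ((q : ℤ) ^ j) ∣ (((∑ i ∈ range (orderOf h), MonoidAlgebra.single ((h ^ i)⁻¹) (1 : ℤ)) * C ^ j).coeff g) := by
    intro h hh j hj
    set N : MonoidAlgebra ℤ A := ∑ i ∈ range (orderOf h), MonoidAlgebra.single ((h ^ i)⁻¹) (1 : ℤ)
    set m := orderOf h
    have hNC : ∀ g, (q : ℤ) ∣ (N * C).coeff g := by
      intro g
      rw [← ZMod.intCast_zmod_eq_zero_iff_dvd, Finset.sum_mul, MonoidAlgebra.coeff_sum, Finsupp.finset_sum_apply, Int.cast_sum]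
      simp only [MonoidAlgebra.coeff_single_mul_apply, one_mul, inv_inv, hCq]
      exact hcs h hh g
    obtain ⟨E, hE⟩ : ∃ E : MonoidAlgebra ℤ A, N * C = (q : ℤ) • E := by
      choose e he using hNC
      refine ⟨∑ a, MonoidAlgebra.single a (e a), MonoidAlgebra.ext (Finsupp.ext fun a => ?_)⟩
      rw [he a, MonoidAlgebra.coeff_smul, Finsupp.smul_apply, smul_eq_mul]
      simp [MonoidAlgebra.coeff_sum, Finsupp.single_apply]
    have hNN : N * N = (m : ℤ) • N := by
      have hN : ∀ j, MonoidAlgebra.single ((h ^ j)⁻¹) (1 : ℤ) * N = N := by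
        intro j
        induction j with
        | zero => rw [pow_zero, inv_one]; exact one_mul _
        | succ j ihj =>
          rw [show (MonoidAlgebra.single ((h ^ (j + 1))⁻¹) (1 : ℤ)) = MonoidAlgebra.single ((h ^ j)⁻¹) 1 * MonoidAlgebra.single h⁻¹ 1 by
              rw [MonoidAlgebra.single_mul_single, mul_one, ← mul_inv_rev, pow_succ'], mul_assoc]
          suffices h1 : MonoidAlgebra.single h⁻¹ (1 : ℤ) * N = N by rw [h1, ihj]
          rw [Finset.mul_sum]
          simp only [MonoidAlgebra.single_mul_single, mul_one, ← mul_inv_rev, ← pow_succ]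
          have e := Finset.sum_range_succ' (fun i => MonoidAlgebra.single ((h ^ i)⁻¹) (1 : ℤ)) m
          rw [Finset.sum_range_succ, show h ^ m = h ^ 0 by rw [pow_orderOf_eq_one, pow_zero]] at e
          exact (add_right_cancel e).symm
      conv_lhs => arg 1; rw [show N = ∑ i ∈ range m, MonoidAlgebra.single ((h ^ i)⁻¹) (1 : ℤ) from rfl]
      rw [Finset.sum_mul]
      simp only [hN, Finset.sum_const, Finset.card_range]
      rw [natCast_zsmul]
    have hcomm : Commute N C := by
      refine Commute.sum_left _ _ _ fun i _ => ?_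
      refine MonoidAlgebra.ext (Finsupp.ext fun g => ?_)
      simp only [MonoidAlgebra.coeff_single_mul_apply, MonoidAlgebra.coeff_mul_single_apply, one_mul, mul_one, inv_inv, hCa]
      congr 2
      have hcl : ∀ u w : A, c (u * w) = c (w * u) := by
        intro u w
        simp only [hc]
        refine Fintype.sum_equiv (Equiv.mulRight u) _ _ fun x => ?_
        simp only [Equiv.coe_mulRight]
        congr 1
        group
      exact hcl _ _
    have hpow : ∀ k, (N * C) ^ (k + 1) = (m : ℤ) ^ k • (N * C ^ (k + 1)) := by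
      intro k
      induction k with
      | zero => simp
      | succ k ihk =>
        rw [pow_succ, ihk, smul_mul_assoc, mul_assoc, ← mul_assoc (C ^ (k + 1)), (hcomm.symm.pow_left (k + 1)).eq,
          mul_assoc, ← pow_succ, ← mul_assoc, hNN, smul_mul_assoc, smul_smul, ← pow_succ]
    obtain ⟨k, rfl⟩ : ∃ k, j = k + 1 := ⟨j - 1, by omega⟩
    intro g
    have h1 := congrArg (fun z : MonoidAlgebra ℤ A => z.coeff g) (hpow k)
    rw [hE, smul_pow] at h1
    simp only [MonoidAlgebra.coeff_smul, Finsupp.smul_apply, smul_eq_mul] at h1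
    have hd : (q : ℤ) ^ (k + 1) ∣ (m : ℤ) ^ k * (N * C ^ (k + 1)).coeff g := ⟨_, h1.symm⟩
    refine IsCoprime.dvd_of_dvd_mul_left ?_ hd
    refine IsCoprime.pow ?_
    rw [Int.isCoprime_iff_nat_coprime, Int.natAbs_natCast, Int.natAbs_natCast]
    exact (Nat.Prime.coprime_iff_not_dvd Fact.out).2 fun hqm => hq (hqm.trans (orderOf_dvd_natCard h))
  -- `c` is not nilpotent
  have hCpow : ∀ j : ℕ, ∃ a, ¬ (q : ℤ) ∣ (C ^ j).coeff a := by
    intro j
    by_contra hcon
    push Not at hcon
    set ψ := MonoidAlgebra.mapRingHom A (Int.castRingHom (ZMod q))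
    have h0 : ψ C ^ j = 0 := by
      rw [← map_pow]
      refine MonoidAlgebra.ext (Finsupp.ext fun a => ?_)
      rw [MonoidAlgebra.coeff_zero, Finsupp.zero_apply]
      show ((Int.castRingHom (ZMod q)) ((C ^ j).coeff a)) = 0
      exact (ZMod.intCast_zmod_eq_zero_iff_dvd _ _).2 (hcon a)
    set L := LinearMap.mulLeft (ZMod q) (ψ C)
    have hL : IsNilpotent L := ⟨j, by
      rw [LinearMap.pow_mulLeft, h0]
      exact LinearMap.mulLeft_zero_eq_zero _ _⟩
    let b := MonoidAlgebra.basis A (ZMod q)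
    have htr : LinearMap.trace (ZMod q) (MonoidAlgebra (ZMod q) A) L = Fintype.card A * c 1 := by
      rw [LinearMap.trace_eq_matrix_trace _ b, Matrix.trace]
      have : ∀ a, Matrix.diag (LinearMap.toMatrix b b L) a = c 1 := fun a => by
        rw [Matrix.diag_apply, LinearMap.toMatrix_apply]
        show (ψ C * MonoidAlgebra.single a 1).coeff a = _
        rw [MonoidAlgebra.coeff_mul_single_apply, mul_inv_cancel, mul_one]
        exact hCq 1
      rw [Finset.sum_congr rfl fun a _ => this a, Finset.sum_const, Finset.card_univ, nsmul_eq_mul]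
    have := (LinearMap.isNilpotent_trace_of_isNilpotent hL).eq_zero
    rw [htr] at this
    refine mul_ne_zero ?_ hc1 this
    rw [Ne, ZMod.natCast_eq_zero_iff, ← Nat.card_eq_fintype_card]
    exact hq
  -- divisibility of the determinant
  obtain ⟨j, hj1, hj⟩ : ∃ j : ℕ, 1 ≤ j ∧ T.det.natAbs < q ^ j := by
    refine ⟨T.det.natAbs + 1, Nat.le_add_left _ _, ?_⟩
    exact lt_of_lt_of_le (Nat.lt_succ_self _) (Nat.lt_pow_self (Fact.out : q.Prime).one_lt).le
  obtain ⟨a, ha⟩ := hCpow j
  have hMv : ∀ p : A × A, (q : ℤ) ^ j ∣ (M *ᵥ fun x => (C ^ j).coeff x) p := by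
    rintro ⟨h, g⟩
    rw [incMatrix_mulVec]
    split_ifs with hh
    · have := key h hh j hj1 g
      rw [Finset.sum_mul, MonoidAlgebra.coeff_sum, Finsupp.finset_sum_apply] at this
      simpa only [MonoidAlgebra.coeff_single_mul_apply, one_mul, inv_inv] using this
    · exact dvd_zero _
  set v : A → ℤ := fun x => (C ^ j).coeff x
  have hTv : ∀ x, (q : ℤ) ^ j ∣ (T *ᵥ v) x := fun x => by
    rw [← Matrix.mulVec_mulVec]
    exact Finset.dvd_sum fun p _ => dvd_mul_of_dvd_right (hMv p) _
  have hdv : (q : ℤ) ^ j ∣ T.det * v a := by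
    have h1 : T.adjugate *ᵥ (T *ᵥ v) = T.det • v := by
      rw [Matrix.mulVec_mulVec, Matrix.adjugate_mul, Matrix.smul_mulVec, Matrix.one_mulVec]
    have h2 := congrFun h1 a
    rw [Pi.smul_apply, smul_eq_mul] at h2
    rw [← h2]
    exact Finset.dvd_sum fun x _ => dvd_mul_of_dvd_right (hTv x) _
  have hcop : IsCoprime ((q : ℤ) ^ j) (v a) :=
    ((Nat.prime_iff_prime_int.1 Fact.out).coprime_iff_not_dvd.2 ha).pow_left
  have h3 := Int.natAbs_dvd_natAbs.2 (hcop.dvd_of_dvd_mul_right hdv)
  rw [Int.natAbs_pow, Int.natAbs_natCast] at h3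
  exact hdet (Int.natAbs_eq_zero.1 (Nat.eq_zero_of_dvd_of_lt h3 hj))

section build

theorem frobenius_of_action {V : Type} {B : Type} [Group V] [Finite V] [Nontrivial V] [Group B] [Finite B]
    [Nontrivial B] (φ : B →* MulAut V) (hfpf : ∀ b, b ≠ 1 → ∀ v, φ b v = v → v = 1) :
    ∃ (L : Type) (_ : Group L) (_ : Finite L) (H : Subgroup L), Cfsg.IsFrobeniusComplement H ∧
      Nonempty (B ≃* H) ∧ Nat.card (Cfsg.frobeniusKernel H) = Nat.card V := by
  haveI : Finite (V ⋊[φ] B) := Finite.of_equiv _ SemidirectProduct.equivProd.symm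
  set K : Subgroup (V ⋊[φ] B) := (SemidirectProduct.inl : V →* V ⋊[φ] B).range
  set H : Subgroup (V ⋊[φ] B) := (SemidirectProduct.inr : B →* V ⋊[φ] B).range
  haveI : K.Normal := by
    rw [show K = SemidirectProduct.rightHom.ker from SemidirectProduct.range_inl_eq_ker_rightHom]
    infer_instance
  have hc : Subgroup.IsComplement' K H := by
    refine Subgroup.isComplement'_of_disjoint_and_mul_eq_univ ?_ ?_
    · rw [Subgroup.disjoint_def]
      rintro _ ⟨v, rfl⟩ ⟨b, hb⟩
      have := congrArg SemidirectProduct.left hb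
      simp at this
      rw [← this, map_one]
    · refine Set.eq_univ_of_forall fun x => ⟨_, ⟨x.left, rfl⟩, _, ⟨x.right, rfl⟩, ?_⟩
      exact SemidirectProduct.inl_left_mul_inr_right x
  have hK : K ≠ ⊥ := fun e => by
    obtain ⟨v, hv⟩ := exists_ne (1 : V)
    have h1 : SemidirectProduct.inl v ∈ K := ⟨v, rfl⟩
    rw [e, Subgroup.mem_bot] at h1
    exact hv (SemidirectProduct.inl_injective (by rw [h1, map_one]))
  have hH : H ≠ ⊥ := fun e => by
    obtain ⟨v, hv⟩ := exists_ne (1 : B)
    have h1 : SemidirectProduct.inr v ∈ H := ⟨v, rfl⟩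
    rw [e, Subgroup.mem_bot] at h1
    exact hv (SemidirectProduct.inr_injective (by rw [h1, map_one]))
  obtain ⟨hF, hker⟩ := CfsgLib.Solv.frobenius_of_fpf hc hK hH (by
    rintro _ ⟨b, rfl⟩ hb
    rw [eq_bot_iff]
    rintro _ ⟨⟨v, rfl⟩, hv⟩
    replace hv := Subgroup.mem_centralizer_singleton_iff.1 hv
    rw [Subgroup.mem_bot, hfpf b (fun e => hb (by rw [e, map_one])) v ?_, map_one]
    refine SemidirectProduct.inl_injective (φ := φ) ?_
    rw [SemidirectProduct.inl_aut, ← hv, mul_assoc, ← map_mul, mul_inv_cancel, map_one, mul_one])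
  refine ⟨_, inferInstance, inferInstance, H, hF, ⟨MonoidHom.ofInjective SemidirectProduct.inr_injective⟩, ?_⟩
  rw [hker]
  exact (Nat.card_congr (MonoidHom.ofInjective (SemidirectProduct.inl_injective (φ := φ))).toEquiv).symm

/-- A group with such a function modulo a prime not dividing its order is a Frobenius complement. -/
theorem complement_of_hasFun {A : Type*} [Group A] [Finite A] [Nontrivial A] {q : ℕ} [Fact q.Prime]
    (hq : ¬ q ∣ Nat.card A) (hA : HasFun A (ZMod q)) :
    ∃ (L : Type) (_ : Group L) (_ : Finite L) (H : Subgroup L), Cfsg.IsFrobeniusComplement H ∧ Nonempty (A ≃* H) := by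
  let e : A →* Equiv.Perm (Fin (Nat.card A)) :=
    (Equiv.permCongrHom (Finite.equivFin A)).toMonoidHom.comp (MulAction.toPermHom A A)
  have he : Function.Injective e := fun a b h => by
    have h1 : MulAction.toPermHom A A a = MulAction.toPermHom A A b := (Equiv.permCongrHom (Finite.equivFin A)).injective h
    simpa using congrArg (fun s : Equiv.Perm A => s 1) h1
  let E : A ≃* e.range := MonoidHom.ofInjective he
  set B := e.range
  haveI : Nontrivial B := E.toEquiv.symm.nontrivial
  have hB : HasFun B (ZMod q) := hasFun_of_injective E.symm.toMonoidHom E.symm.injective hA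
  have hqB : ¬ q ∣ Nat.card B := by rwa [← Nat.card_congr E.toEquiv]
  -- the module of all such functions
  let W : AddSubgroup (B → ZMod q) :=
    { carrier := {f | ∀ h : B, (orderOf h).Prime → ∀ g, ∑ i ∈ range (orderOf h), f (h ^ i * g) = 0}
      add_mem' := fun {f f'} hf hf' h hh g => by simp [Finset.sum_add_distrib, hf h hh g, hf' h hh g]
      zero_mem' := fun h hh g => by simp
      neg_mem' := fun {f} hf h hh g => by simp [hf h hh g] }
  let τ : B → W → W := fun b f => ⟨fun x => f.1 (x * b), fun h hh g => by simpa [mul_assoc] using f.2 h hh (g * b)⟩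
  let φ : B →* MulAut (Multiplicative W) :=
    { toFun := fun b =>
        { toFun := fun f => Multiplicative.ofAdd (τ b f.toAdd)
          invFun := fun f => Multiplicative.ofAdd (τ b⁻¹ f.toAdd)
          left_inv := fun f => Multiplicative.toAdd.injective (Subtype.ext (funext fun x => by simp [τ]))
          right_inv := fun f => Multiplicative.toAdd.injective (Subtype.ext (funext fun x => by simp [τ]))
          map_mul' := fun f g => rfl }
      map_one' := MulEquiv.ext fun f => Multiplicative.toAdd.injective (Subtype.ext (funext fun x => by simp [τ]))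
      map_mul' := fun a b => MulEquiv.ext fun f => Multiplicative.toAdd.injective (Subtype.ext (funext fun x => by simp [τ, mul_assoc])) }
  obtain ⟨f, hf, hs⟩ := hB
  haveI : Nontrivial (Multiplicative W) :=
    ⟨⟨Multiplicative.ofAdd ⟨f, hs⟩, 1, fun h => hf (congrArg Subtype.val (congrArg Multiplicative.toAdd h))⟩⟩
  obtain ⟨L, iL, fL, H, hH, ⟨e'⟩, -⟩ := frobenius_of_action φ (fun b hb v hv => by
    set w : W := v.toAdd
    have hw : ∀ x, w.1 (x * b) = w.1 x := fun x => congrFun (congrArg Subtype.val (congrArg Multiplicative.toAdd hv)) x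
    have hp : ∃ k : ℕ, (orderOf (b ^ k)).Prime := by
      refine ⟨orderOf b / (orderOf b).minFac, ?_⟩
      rw [orderOf_pow_orderOf_div (orderOf_pos b).ne' (Nat.minFac_dvd _)]
      exact Nat.minFac_prime (fun h => hb (orderOf_eq_one_iff.1 h))
    obtain ⟨k, hk⟩ := hp
    have hwk : ∀ (i : ℕ) x, w.1 (x * b ^ i) = w.1 x := by
      intro i
      induction i with
      | zero => simp
      | succ i ih => intro x; rw [pow_succ, ← mul_assoc, hw, ih]
    refine Multiplicative.toAdd.injective (Subtype.ext (funext fun x => ?_))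
    have h1 := hasFun_translate w.2 x 1 (b ^ k) hk 1
    simp only [mul_one, ← pow_mul, hwk, Finset.sum_const, Finset.card_range, nsmul_eq_mul] at h1
    refine (mul_eq_zero.1 h1).resolve_left ?_
    rw [ZMod.natCast_eq_zero_iff]
    exact fun h => hqB (h.trans (orderOf_dvd_natCard _)))
  exact ⟨L, iL, fL, H, hH, ⟨E.trans e'⟩⟩

/-- A group with a rational function is a Frobenius complement. -/
theorem complement_of_rat {A : Type*} [Group A] [Finite A] [Nontrivial A] (hA : HasFun A ℚ) :
    ∃ (L : Type) (_ : Group L) (_ : Finite L) (H : Subgroup L), Cfsg.IsFrobeniusComplement H ∧ Nonempty (A ≃* H) := by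
  obtain ⟨q, hq1, hq⟩ := Nat.exists_infinite_primes (Nat.card A + 1)
  haveI : Fact q.Prime := ⟨hq⟩
  exact complement_of_hasFun (fun h => absurd (Nat.le_of_dvd Nat.card_pos h) (by omega)) (hasFun_zmod_of_rat hq hA)

/-- A Frobenius complement has a rational function. -/
theorem hasFun_of_complement {L : Type*} [Group L] [Finite L] {H : Subgroup L}
    (hH : Cfsg.IsFrobeniusComplement H) : HasFun H ℚ := by
  classical
  obtain ⟨K, hK, hKn, hc⟩ := CfsgLib.Solv.frobenius_theorem hH
  haveI := hKn
  have hfpf : ∀ h ∈ H, h ≠ 1 → K ⊓ Subgroup.centralizer {h} = ⊥ :=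
    fun h hh h1 => CfsgLib.Solv.fpf_of_frobenius hH hc.disjoint.eq_bot hh h1
  have hKb : K ≠ ⊥ := fun e => hH.2.1 (Subgroup.isComplement'_bot_left.1 (e ▸ hc))
  have hnil : Group.IsNilpotent K := CfsgLib.Solv.frobenius_isNilpotent hH hc.disjoint.eq_bot
  haveI := hnil
  haveI : Nontrivial K := (Subgroup.nontrivial_iff_ne_bot K).2 hKb
  haveI : Nontrivial (Subgroup.center K) := (Subgroup.nontrivial_iff_ne_bot _).2 (Group.IsNilpotent.center_ne_bot (G := K))
  obtain ⟨q, hq, hqd⟩ := Nat.exists_prime_and_dvd (ne_of_gt (Finite.one_lt_card (α := Subgroup.center K)))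
  haveI : Fact q.Prime := ⟨hq⟩
  have hqH : ¬ q ∣ Nat.card H := fun h => by
    have h2 : q ∣ H.index := by
      rw [hc.index_eq_card]
      exact hqd.trans (Subgroup.card_subgroup_dvd_card _)
    exact hq.not_dvd_one ((CfsgLib.Solv.frobenius_coprime hH) ▸ Nat.dvd_gcd h h2)
  refine hasFun_rat_of_zmod hqH ?_
  letI : CommGroup (Subgroup.center K) := { mul_comm := fun a b => Subtype.ext (Subgroup.mem_center_iff.1 b.2 a) }
  let W : AddSubgroup (Additive (Subgroup.center K)) := (nsmulAddMonoidHom q).ker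
  letI : Module (ZMod q) W := AddCommGroup.zmodModule (n := q) (fun w => Subtype.ext w.2)
  obtain ⟨z, hz⟩ := exists_prime_orderOf_dvd_card' (G := Subgroup.center K) q hqd
  have hz1 : z ≠ 1 := fun e => hq.ne_one (by rw [← hz, e, orderOf_one])
  -- conjugation by `H` on the elements of order dividing `q` in the centre of `K`
  have hmem : ∀ (h : H) (w : Subgroup.center K), (⟨(h : L) * ((w : K) : L) * (h : L)⁻¹, hKn.conj_mem _ (w : K).2 _⟩ : K) ∈ Subgroup.center K := by
    intro h w
    refine Subgroup.mem_center_iff.2 fun g => Subtype.ext ?_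
    have hg : (h : L)⁻¹ * (g : L) * (h : L) ∈ K := hKn.conj_mem' _ g.2 _
    have h1 : ((h : L)⁻¹ * (g : L) * (h : L)) * ((w : K) : L) = ((w : K) : L) * ((h : L)⁻¹ * (g : L) * (h : L)) :=
      congrArg Subtype.val (Subgroup.mem_center_iff.1 w.2 ⟨_, hg⟩)
    show (g : L) * ((h : L) * ((w : K) : L) * (h : L)⁻¹) = (h : L) * ((w : K) : L) * (h : L)⁻¹ * (g : L)
    calc (g : L) * ((h : L) * ((w : K) : L) * (h : L)⁻¹)
        = (h : L) * (((h : L)⁻¹ * (g : L) * (h : L)) * ((w : K) : L)) * (h : L)⁻¹ := by group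
      _ = _ := by rw [h1]; group
  let cz : H → Subgroup.center K →* Subgroup.center K := fun h =>
    { toFun := fun w => ⟨_, hmem h w⟩
      map_one' := Subtype.ext (Subtype.ext (by simp))
      map_mul' := fun v w => Subtype.ext (Subtype.ext (by simp [mul_assoc])) }
  have hWmem : ∀ (h : H) (w : W), Additive.ofMul (cz h (Additive.toMul (w : Additive (Subgroup.center K)))) ∈ W := by
    intro h w
    show q • Additive.ofMul (cz h (Additive.toMul (w : Additive (Subgroup.center K)))) = 0
    have h1 : q • (w : Additive (Subgroup.center K)) = 0 := w.2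
    apply Additive.toMul.injective
    rw [toMul_nsmul, toMul_ofMul, ← map_pow, ← toMul_nsmul, h1, toMul_zero, map_one]
  let ρ : H →* (W →ₗ[ZMod q] W) :=
    { toFun := fun h => AddMonoidHom.toZModLinearMap q
        { toFun := fun w => ⟨_, hWmem h w⟩
          map_zero' := Subtype.ext (congrArg Additive.ofMul (map_one (cz h)))
          map_add' := fun v w => Subtype.ext (congrArg Additive.ofMul (map_mul (cz h) _ _)) }
      map_one' := LinearMap.ext fun w => Subtype.ext (Additive.toMul.injective (Subtype.ext (Subtype.ext (by simp [cz]))))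
      map_mul' := fun a b => LinearMap.ext fun w => Subtype.ext (Additive.toMul.injective (Subtype.ext (Subtype.ext (by simp [cz, mul_assoc])))) }
  haveI : Nontrivial W := ⟨⟨⟨Additive.ofMul z, by
    show q • Additive.ofMul z = 0
    rw [← ofMul_pow, ← hz, pow_orderOf_eq_one, ofMul_one]⟩, 0, fun e => hz1 (congrArg (fun t : W => Additive.toMul (t : Additive (Subgroup.center K))) e)⟩⟩
  refine hasFun_of_fpf ρ fun h h1 w hw => ?_
  have h2 : ((h : L) * (((Additive.toMul (w : Additive (Subgroup.center K)) : Subgroup.center K) : K) : L) * (h : L)⁻¹) =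
      (((Additive.toMul (w : Additive (Subgroup.center K)) : Subgroup.center K) : K) : L) :=
    congrArg (fun t : W => (((Additive.toMul (t : Additive (Subgroup.center K)) : Subgroup.center K) : K) : L)) hw
  set x := (((Additive.toMul (w : Additive (Subgroup.center K)) : Subgroup.center K) : K) : L) with hx
  have h3 : x ∈ K ⊓ Subgroup.centralizer {(h : L)} := Subgroup.mem_inf.2
    ⟨SetLike.coe_mem _, Subgroup.mem_centralizer_singleton_iff.2 (mul_inv_eq_iff_eq_mul.1 h2).symm⟩
  rw [hfpf h h.2 (fun e => h1 (Subtype.ext e)), Subgroup.mem_bot] at h3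
  refine Subtype.ext (Additive.toMul.injective (Subtype.ext (Subtype.ext ?_)))
  exact h3

end build

end CfsgLib.Perm.Fpf
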