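import Cfsg.Agent.Perm.FpfAlgebra
import Cfsg.Agent.Solv.FrobeniusNilp
import Cfsg.Agent.Solv.Frobenius
import Cfsg.Prelude.Def_Solvable

/-!
Sources of fixed-point-free rational representations.
-/

set_option autoImplicit false
set_option linter.style.haveILetI false

namespace CfsgLib.Perm.Fpf

open Finset

theorem hasFpf_of_no_prime {G : Type*} [Group G] (h : ∀ g : G, ¬ (orderOf g).Prime) : HasFpf G :=
  ⟨0, 1, fun g hg => absurd hg (h g)⟩

/-- A fixed-point-free group of automorphisms. -/
theorem hasFpf_of_fpf_action {G K : Type*} [Group G] [Finite G] [Group K] [Finite K] [Nontrivial K]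
    (φ : G →* MulAut K) (hfpf : ∀ g : G, g ≠ 1 → ∀ k : K, φ g k = k → k = 1) : HasFpf G := by
  classical
  by_cases hex : ∃ g : G, (orderOf g).Prime
  swap
  · exact hasFpf_of_no_prime fun g hg => hex ⟨g, hg⟩
  obtain ⟨h, hh⟩ := hex
  haveI := Fact.mk hh
  haveI hnil : Group.IsNilpotent K := by
    refine CfsgLib.Solv.isNilpotent_of_fpf (φ := φ h) (fun x hx => hfpf h (fun e => ?_) x hx)
      (p := orderOf h) fun x => ?_
    · rw [e, orderOf_one] at hh; exact Nat.not_prime_one hh
    · have e : ∀ i, (⇑(φ h))^[i] x = φ (h ^ i) x := fun i => by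
        induction i with
        | zero => simp
        | succ i hi => rw [Function.iterate_succ_apply', hi, pow_succ', map_mul]; rfl
      rw [e, pow_orderOf_eq_one, map_one]; rfl
  haveI : Nontrivial (Subgroup.center K) := (Subgroup.nontrivial_iff_ne_bot _).2 fun e => by
    exact Group.IsNilpotent.center_ne_bot (G := K) e
  obtain ⟨l, hl, hld⟩ := Nat.exists_prime_and_dvd
    (Finite.one_lt_card (α := Subgroup.center K)).ne'
  haveI := Fact.mk hl
  have hcc : ∀ a b : Subgroup.center K, Commute a b := fun a b =>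
    Subtype.ext (Subgroup.mem_center_iff.1 b.2 a)
  let V : Subgroup (Subgroup.center K) :=
    { carrier := {x | x ^ l = 1}
      one_mem' := one_pow l
      mul_mem' := fun {a b} (ha : a ^ l = 1) (hb : b ^ l = 1) => by
        show (a * b) ^ l = 1
        rw [(hcc a b).mul_pow, ha, hb, one_mul]
      inv_mem' := fun {a} (ha : a ^ l = 1) => by
        show a⁻¹ ^ l = 1
        rw [inv_pow, ha, inv_one] }
  letI : CommGroup V := { (inferInstance : Group V) with
    mul_comm := fun a b => Subtype.ext (hcc a b) }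
  obtain ⟨x, hx⟩ := exists_prime_orderOf_dvd_card' l hld
  haveI : Nontrivial V := ⟨⟨⟨x, by show x ^ l = 1; rw [← hx]; exact pow_orderOf_eq_one x⟩, 1, fun e => by
    have := congrArg Subtype.val e
    rw [show x = 1 from this, orderOf_one] at hx
    exact hl.ne_one hx.symm⟩⟩
  have hmem : ∀ (g : G) (v : V), φ g ((v : Subgroup.center K) : K) ∈ Subgroup.center K := fun g v => by
    refine Subgroup.mem_center_iff.2 fun k => ?_
    apply (φ g).symm.injective
    rw [map_mul, map_mul, MulEquiv.symm_apply_apply]
    exact Subgroup.mem_center_iff.1 (v : Subgroup.center K).2 _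
  have hmemV : ∀ (g : G) (v : V), (⟨_, hmem g v⟩ : Subgroup.center K) ∈ V := fun g v => by
    refine Subtype.ext ?_
    show φ g ((v : Subgroup.center K) : K) ^ l = 1
    rw [← map_pow]
    have := congrArg Subtype.val (v.2 : (v : Subgroup.center K) ^ l = 1)
    rw [SubgroupClass.coe_pow] at this
    rw [this]
    exact map_one _
  let act : G → (V →* V) := fun g =>
    { toFun := fun v => ⟨⟨_, hmem g v⟩, hmemV g v⟩
      map_one' := Subtype.ext (Subtype.ext (map_one (φ g)))
      map_mul' := fun a b => Subtype.ext (Subtype.ext (map_mul (φ g) _ _)) }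
  let ρ : G →* Module.End ℤ (Additive V) :=
    { toFun := fun g => (MonoidHom.toAdditive (act g)).toIntLinearMap
      map_one' := LinearMap.ext fun v => by
        refine Additive.toMul.injective (Subtype.ext (Subtype.ext ?_))
        show φ 1 _ = _
        rw [map_one]; rfl
      map_mul' := fun a b => LinearMap.ext fun v => by
        refine Additive.toMul.injective (Subtype.ext (Subtype.ext ?_))
        show φ (a * b) _ = _
        rw [map_mul]; rfl }
  have hexp : ∀ v : Additive V, l • v = 0 := fun v =>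
    Additive.toMul.injective (Subtype.ext (v.toMul.2 : (v.toMul : Subgroup.center K) ^ l = 1))
  have hfix : ∀ g : G, g ≠ 1 → ∀ v : Additive V, ρ g v = v → v = 0 := by
    intro g hg v hv
    refine Additive.toMul.injective (Subtype.ext (Subtype.ext (hfpf g hg _ ?_)))
    exact congrArg (fun w : Additive V => ((w.toMul : Subgroup.center K) : K)) hv
  refine hasFpf_of_module hexp (fun hd => ?_) ρ hfix
  obtain ⟨g, hg⟩ := exists_prime_orderOf_dvd_card' l hd
  have hg1 : g ≠ 1 := fun e => by rw [e, orderOf_one] at hg; exact hl.ne_one hg.symm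
  letI := Fintype.ofFinite V
  let σ : Equiv.Perm V :=
    { toFun := act g
      invFun := act g⁻¹
      left_inv := fun v => Subtype.ext (Subtype.ext (by
        show φ g⁻¹ (φ g _) = _; rw [← MulAut.mul_apply, ← map_mul, inv_mul_cancel, map_one]; rfl))
      right_inv := fun v => Subtype.ext (Subtype.ext (by
        show φ g (φ g⁻¹ _) = _; rw [← MulAut.mul_apply, ← map_mul, mul_inv_cancel, map_one]; rfl)) }
  have hpow : ∀ (i : ℕ) (v : V), ((σ ^ i) v : Subgroup.center K) = (⟨_, hmem (g ^ i) v⟩ : Subgroup.center K) := by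
    intro i
    induction i with
    | zero => intro v; refine Subtype.ext ?_; simp
    | succ i ih =>
      intro v
      refine Subtype.ext ?_
      rw [pow_succ', Equiv.Perm.mul_apply]
      show φ g (((σ ^ i) v : Subgroup.center K) : K) = φ (g ^ (i + 1)) _
      rw [ih v, pow_succ', map_mul]; rfl
  have hσ : σ ^ (l ^ 1) = 1 := by
    refine Equiv.ext fun v => Subtype.ext ?_
    rw [hpow, pow_one, Equiv.Perm.one_apply]
    refine Subtype.ext ?_
    show φ (g ^ l) _ = _
    rw [← hg, pow_orderOf_eq_one, map_one]; rfl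
  have hmod := Equiv.Perm.card_compl_support_modEq hσ
  have hsupp : σ.supportᶜ = {1} := by
    ext v
    simp only [Finset.mem_compl, Equiv.Perm.mem_support, not_not, Finset.mem_singleton]
    refine ⟨fun e => Subtype.ext (Subtype.ext (hfpf g hg1 _ ?_)),
      fun e => by subst e; exact map_one (act g)⟩
    exact congrArg (fun w : V => ((w : Subgroup.center K) : K)) e
  rw [hsupp, Finset.card_singleton, ← Nat.card_eq_fintype_card] at hmod
  have hVp : IsPGroup l V := fun v => ⟨1, by rw [pow_one]; exact Subtype.ext v.2⟩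
  obtain ⟨k, hk⟩ := IsPGroup.iff_card.1 hVp
  rcases Nat.eq_zero_or_pos k with rfl | hk0
  · have := Finite.one_lt_card (α := V)
    rw [hk, pow_zero] at this; omega
  · have h0 : l ∣ Nat.card V := hk ▸ dvd_pow_self l hk0.ne'
    have h1 : Nat.card V ≡ 0 [MOD l] := Nat.modEq_zero_iff_dvd.2 h0
    exact hl.ne_one (Nat.dvd_one.1 (Nat.modEq_zero_iff_dvd.1 (hmod.trans h1)))

/-- A Frobenius complement. -/
theorem hasFpf_of_frobeniusComplement {L : Type*} [Group L] [Finite L] {H : Subgroup L}
    (hH : Cfsg.IsFrobeniusComplement H) : HasFpf H := by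
  obtain ⟨N, -, hN, hc⟩ := CfsgLib.Solv.frobenius_theorem hH
  haveI := hN
  haveI : Nontrivial N := (Subgroup.nontrivial_iff_ne_bot _).2 fun e => by
    rw [e] at hc
    exact hH.2.1 (Subgroup.isComplement'_bot_left.1 hc)
  refine hasFpf_of_fpf_action ((MulAut.conjNormal (H := N)).comp H.subtype) fun h hh k hk => ?_
  have hd : N ⊓ H = ⊥ := hc.disjoint.eq_bot
  have hh1 : (h : L) ≠ 1 := fun e => hh (Subtype.ext e)
  have hb := CfsgLib.Solv.fpf_of_frobenius hH hd h.2 hh1
  have e : (h : L) * (k : L) * (h : L)⁻¹ = k := by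
    have := congrArg Subtype.val hk
    simpa [MulAut.conjNormal_apply] using this
  have hm : (k : L) ∈ N ⊓ Subgroup.centralizer {(h : L)} :=
    Subgroup.mem_inf.2 ⟨k.2, Subgroup.mem_centralizer_singleton_iff.2 (mul_inv_eq_iff_eq_mul.1 e).symm⟩
  rw [hb, Subgroup.mem_bot] at hm
  exact Subtype.ext hm

end CfsgLib.Perm.Fpf
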