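import Cfsg.Agent.Solv.Thompson
import Cfsg.Agent.Solv.MinimalNormal
import Cfsg.Agent.Solv.FrobeniusNilp
import Cfsg.Agent.Solv.TransferTools
import Cfsg.Agent.Char.Burnside
import Cfsg.Agent.Perm.MinClass

set_option autoImplicit false
set_option linter.style.haveILetI false
set_option linter.unusedSectionVars false

/-!
Kegel's theorem: if all elements of a coset `H * σ` of a normal subgroup have order dividing the
prime `p`, then `H` is nilpotent.
-/

namespace CfsgLib.Perm.Hughes

open CfsgLib.Solv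
open scoped IsMulCommutative

universe u

/-- `∏ (B^i A)^j v = 1` for all `i` forces `B = 1`. -/
theorem eq_one_of_norms {V : Type*} [CommGroup V] [Finite V] {p : ℕ} [hp : Fact p.Prime]
    (hc : (Nat.card V).Coprime p) {A B : MulAut V} (hcomm : Commute A B) (hB : B ^ p = 1)
    (h : ∀ (i : ℕ) (v : V), (∏ j ∈ Finset.range p, ((B ^ i * A) ^ j) v) = 1) : B = 1 := by
  classical
  have hp0 : 0 < p := hp.out.pos
  have hmod : ∀ i : ℕ, B ^ (i % p) = B ^ i := fun i => (pow_eq_pow_mod i hB).symm
  let W : V → V := fun v => ∏ k ∈ Finset.range p, (B ^ k) v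
  have hW : ∀ (j : ℕ), j ∈ Finset.range p → j ≠ 0 → ∀ v : V,
      (∏ i ∈ Finset.range p, ((B ^ i * A) ^ j) v) = (A ^ j) (W v) := by
    intro j hj hj0 v
    have himg : (Finset.range p).image (fun i => i * j % p) = Finset.range p := by
      have hinj : Set.InjOn (fun i => i * j % p) (Finset.range p : Set ℕ) := by
        intro a ha b hb hab
        have hjp : Nat.gcd p j = 1 := (hp.out.coprime_iff_not_dvd.2 fun hd => by
          have := Nat.le_of_dvd (Nat.pos_of_ne_zero hj0) hd
          rw [Finset.mem_range] at hj; omega)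
        have h1 : a ≡ b [MOD p] := Nat.ModEq.cancel_right_of_coprime hjp hab
        rw [Finset.coe_range, Set.mem_Iio] at ha hb
        exact h1.eq_of_lt_of_lt ha hb
      refine Finset.eq_of_subset_of_card_le ?_ ?_
      · intro x hx
        obtain ⟨i, -, rfl⟩ := Finset.mem_image.1 hx
        exact Finset.mem_range.2 (Nat.mod_lt _ hp0)
      · rw [Finset.card_image_of_injOn hinj]
    have h1 : ∀ i ∈ Finset.range p, ((B ^ i * A) ^ j) v = (A ^ j) ((B ^ (i * j % p)) v) := by
      intro i _
      rw [(hcomm.pow_right i).symm.mul_pow, ← pow_mul, hmod, ((hcomm.pow_right (i * j)).pow_left j).symm.eq,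
        MulAut.mul_apply]
    rw [Finset.prod_congr rfl h1, ← map_prod (A ^ j)]
    congr 1
    conv_rhs => rw [show W v = ∏ k ∈ Finset.range p, (B ^ k) v from rfl, ← himg]
    rw [Finset.prod_image]
    intro a ha b hb hab
    have hjp : Nat.gcd p j = 1 := (hp.out.coprime_iff_not_dvd.2 fun hd => by
      have := Nat.le_of_dvd (Nat.pos_of_ne_zero hj0) hd
      rw [Finset.mem_range] at hj; omega)
    rw [Finset.coe_range, Set.mem_Iio] at ha hb
    exact (Nat.ModEq.cancel_right_of_coprime hjp hab).eq_of_lt_of_lt ha hb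
  have key : ∀ v : V, v ^ p = W v := by
    intro v
    have h1 : (∏ i ∈ Finset.range p, ∏ j ∈ Finset.range p, ((B ^ i * A) ^ j) v) = 1 :=
      Finset.prod_eq_one fun i _ => h i v
    have h0 : (0 : ℕ) ∈ Finset.range p := Finset.mem_range.2 hp0
    rw [Finset.prod_comm, ← Finset.mul_prod_erase _ _ h0] at h1
    rw [Finset.prod_congr rfl (fun j hj => hW j (Finset.mem_of_mem_erase hj)
      (Finset.ne_of_mem_erase hj) v)] at h1
    have h2 := h 0 (W v)
    rw [pow_zero, one_mul, ← Finset.mul_prod_erase _ _ h0, pow_zero] at h2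
    simp only [pow_zero, MulAut.one_apply, Finset.prod_const, Finset.card_range] at h1 h2
    exact mul_right_cancel (h1.trans h2.symm)
  refine MulEquiv.ext fun v => ?_
  have hfix : B (W v) = W v := by
    show B (∏ k ∈ Finset.range p, (B ^ k) v) = ∏ k ∈ Finset.range p, (B ^ k) v
    rw [map_prod]
    have h1 := Finset.prod_range_succ' (fun k => (B ^ k) v) p
    have h2 := Finset.prod_range_succ (fun k => (B ^ k) v) p
    rw [hB] at h2
    rw [h2, pow_zero] at h1
    refine (Finset.prod_congr rfl fun k _ => ?_).trans (mul_right_cancel h1).symm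
    rw [pow_succ', MulAut.mul_apply]
  refine (powCoprime hc).injective ?_
  show B v ^ p = v ^ p
  rw [← map_pow, key, hfix]

variable {G : Type*} [Group G]

/-- Expanding `(v * x) ^ n` for `v` in a normal subgroup. -/
theorem mul_pow_eq_prod {M : Subgroup G} [M.Normal] [IsMulCommutative M] (v : M) (x : G) (n : ℕ) :
    ((v : G) * x) ^ n =
      ((∏ j ∈ Finset.range n, MulAut.conjNormal (x ^ j) v : M) : G) * x ^ n := by
  induction n with
  | zero => simp
  | succ n ih =>
    rw [pow_succ, ih, Finset.prod_range_succ, Subgroup.coe_mul, MulAut.conjNormal_apply, pow_succ]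
    group

/-- If `x` and all `v * x` have order dividing `n` then the norm of `x` vanishes. -/
theorem norm_eq_one {M : Subgroup G} [M.Normal] [IsMulCommutative M] {x : G} {n : ℕ}
    (hx : x ^ n = 1) (hvx : ∀ v : M, ((v : G) * x) ^ n = 1) (v : M) :
    (∏ j ∈ Finset.range n, ((MulAut.conjNormal x : MulAut M) ^ j) v) = 1 := by
  have h := mul_pow_eq_prod v x n
  rw [hvx v, hx, mul_one] at h
  simp_rw [← map_pow]
  exact Subtype.ext h.symm

theorem isPGroup_zpowers {r : ℕ} {z : G} (hz : z ^ r = 1) : IsPGroup r (Subgroup.zpowers z) := by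
  intro v
  obtain ⟨i, hi⟩ := Subgroup.mem_zpowers_iff.1 v.2
  refine ⟨1, Subtype.ext ?_⟩
  rw [pow_one, SubmonoidClass.coe_pow, ← hi, OneMemClass.coe_one, ← zpow_natCast, ← zpow_mul,
    mul_comm, zpow_mul, zpow_natCast, hz, one_zpow]

theorem normalizer_le_normalizer_centralizer (S : Subgroup G) :
    Subgroup.normalizer (S : Set G) ≤
      Subgroup.normalizer (Subgroup.centralizer (S : Set G) : Set G) :=
  Subgroup.normal_subgroupOf_iff_le_normalizer (Subgroup.centralizer_le_normalizer _) |>.1
    inferInstance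

theorem sylow_normal_of_nilpotent {K : Type*} [Group K] [Finite K] [h : Group.IsNilpotent K]
    {s : ℕ} [hs : Fact s.Prime] (P : Sylow s K) : (P : Subgroup K).Normal := by
  have h1 := (Group.isNilpotent_of_finite_tfae (G := K)).out 0 3
  exact h1.1 h s hs P

theorem exists_frattini [Finite G] {H : Subgroup G} [H.Normal] {q : ℕ} [Fact q.Prime]
    (Q : Sylow q H) (σ : G) :
    ∃ h₀ ∈ H, h₀ * σ ∈ Subgroup.normalizer ((Q : Subgroup H).map H.subtype : Set G) := by
  obtain ⟨n, hn, h, hh, hnh⟩ := Subgroup.mem_sup_of_normal_right.1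
    ((Sylow.normalizer_sup_eq_top Q).symm ▸ Subgroup.mem_top σ :
      σ ∈ Subgroup.normalizer ((Q : Subgroup H).map H.subtype : Set G) ⊔ H)
  refine ⟨σ * h⁻¹ * σ⁻¹, Subgroup.Normal.conj_mem ‹_› _ (inv_mem hh) σ, ?_⟩
  rw [inv_mul_cancel_right, ← hnh, mul_inv_cancel_right]
  exact hn

/-- The statement of Kegel's theorem for subgroups of order `n`. -/
def Splits (p n : ℕ) : Prop :=
  ∀ (G : Type u) [Group G] [Finite G] (H : Subgroup G) [H.Normal] (σ : G), Nat.card H = n →
    (∀ h ∈ H, (h * σ) ^ p = 1) → Group.IsNilpotent H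

section

variable {G : Type u} [Group G] [Finite G] {p : ℕ}

theorem nilpotent_sub {H K : Subgroup G} {τ : G} (ih : ∀ m < Nat.card H, Splits.{u} p m)
    (hKH : K ≤ H) (hK : K ≠ H) (hτK : τ ∈ Subgroup.normalizer (K : Set G))
    (hτ : ∀ h ∈ H, (h * τ) ^ p = 1) : Group.IsNilpotent K := by
  set N := Subgroup.normalizer (K : Set G)
  have hKN : K ≤ N := Subgroup.le_normalizer
  haveI : (K.subgroupOf N).Normal := Subgroup.normal_in_normalizer
  have hlt : Nat.card K < Nat.card H := by
    refine lt_of_le_of_ne (Nat.le_of_dvd Nat.card_pos (Subgroup.card_dvd_of_le hKH)) fun e => hK ?_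
    exact Subgroup.eq_of_le_of_card_ge hKH e.ge
  have := ih _ hlt N (K.subgroupOf N) ⟨τ, hτK⟩ (card_subgroupOf hKN) fun h hh =>
    Subtype.ext (hτ h (hKH hh))
  exact Group.nilpotent_of_mulEquiv (Subgroup.subgroupOfEquivOfLe hKN)

theorem nilpotent_quot {H M : Subgroup G} [H.Normal] [M.Normal] {σ : G}
    (ih : ∀ m < Nat.card H, Splits.{u} p m) (hMH : M ≤ H) (hM : M ≠ ⊥)
    (hσ : ∀ h ∈ H, (h * σ) ^ p = 1) : Group.IsNilpotent (H.map (QuotientGroup.mk' M)) := by
  haveI : (H.map (QuotientGroup.mk' M)).Normal :=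
    Subgroup.Normal.map ‹_› _ (QuotientGroup.mk'_surjective M)
  refine ih _ ?_ (G ⧸ M) _ (QuotientGroup.mk' M σ) rfl ?_
  · have h1 := card_map_mk' M H
    rw [inf_eq_right.2 hMH] at h1
    have h2 : 1 < Nat.card M := (Subgroup.one_lt_card_iff_ne_bot M).2 hM
    have h3 : 0 < Nat.card (H.map (QuotientGroup.mk' M)) := Nat.card_pos
    nlinarith
  · rintro _ ⟨h, hh, rfl⟩
    rw [← map_mul, ← map_pow, hσ h hh, map_one]

theorem normal_of_gen {H X : Subgroup G} {σ : G} (htop : H ⊔ Subgroup.zpowers σ = ⊤)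
    (h1 : H ≤ Subgroup.normalizer (X : Set G)) (h2 : σ ∈ Subgroup.normalizer (X : Set G)) :
    X.Normal :=
  Subgroup.normalizer_eq_top_iff.1 (top_le_iff.1 (htop ▸ sup_le h1 (Subgroup.zpowers_le.2 h2)))

theorem gen_of_coset {H : Subgroup G} {σ h₀ : G} (htop : H ⊔ Subgroup.zpowers σ = ⊤) (hh₀ : h₀ ∈ H) :
    H ⊔ Subgroup.zpowers (h₀ * σ) = ⊤ := by
  rw [eq_top_iff, ← htop]
  refine sup_le le_sup_left (Subgroup.zpowers_le.2 ?_)
  have := mul_mem ((le_sup_left : H ≤ H ⊔ Subgroup.zpowers (h₀ * σ)) (inv_mem hh₀))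
    ((le_sup_right : Subgroup.zpowers (h₀ * σ) ≤ H ⊔ Subgroup.zpowers (h₀ * σ))
      (Subgroup.mem_zpowers _))
  rwa [inv_mul_cancel_left] at this

theorem solvable_of_no_normal [hp : Fact p.Prime] {H : Subgroup G} [H.Normal] {σ : G}
    (ih : ∀ m < Nat.card H, Splits.{u} p m) (hσ : ∀ h ∈ H, (h * σ) ^ p = 1)
    (htop : H ⊔ Subgroup.zpowers σ = ⊤) (hn : ¬ Group.IsNilpotent H)
    (hmin : ∀ X : Subgroup G, X.Normal → X ≤ H → X = ⊥ ∨ X = H) : Group.IsSolvable H := by
  classical
  have hsmall : ∀ q : ℕ, q.Prime → q ∣ Nat.card H → q = 2 ∨ q = p := by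
    intro q hq hqH
    by_contra hne
    push Not at hne
    haveI : Fact q.Prime := ⟨hq⟩
    obtain ⟨Q⟩ : Nonempty (Sylow q H) := inferInstance
    obtain ⟨h₀, hh₀, hτ⟩ := exists_frattini Q σ
    have hτH : ∀ h ∈ H, (h * (h₀ * σ)) ^ p = 1 := fun h hh => by
      rw [← mul_assoc]; exact hσ _ (mul_mem hh hh₀)
    set Q' := (Q : Subgroup H).map H.subtype with hQ'
    have hQ'H : Q' ≤ H := Subgroup.map_subtype_le _
    have hQ'p : IsPGroup q Q' := Q.2.map _
    have hQne : (Q : Subgroup H) ≠ ⊥ := fun e => by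
      have := Q.dvd_card_of_dvd_card hqH
      rw [e, Subgroup.card_bot, Nat.dvd_one] at this
      exact hq.ne_one this
    have hQ'ne : Q' ≠ ⊥ := fun e =>
      hQne ((Subgroup.map_eq_bot_iff_of_injective _ H.subtype_injective).1 e)
    have hX : ∀ X : Subgroup G, X ≤ Q' → X ≠ ⊥ → h₀ * σ ∈ Subgroup.normalizer (X : Set G) →
        Cfsg.HasNormalPComplement q (H ⊓ Subgroup.normalizer (X : Set G) : Subgroup G) := by
      intro X hXQ hX1 hτX
      by_cases hHX : H ≤ Subgroup.normalizer (X : Set G)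
      · have hXn := normal_of_gen (gen_of_coset htop hh₀) hHX hτX
        rcases hmin X hXn (hXQ.trans hQ'H) with e | e
        · exact absurd e hX1
        · exact absurd ((hQ'p.to_le hXQ).isNilpotent) (e ▸ hn)
      · haveI := nilpotent_sub ih (K := H ⊓ Subgroup.normalizer (X : Set G)) inf_le_left
          (fun e => hHX (e ▸ inf_le_right)) (τ := h₀ * σ)
          (mem_normalizer_of_conj_smul_eq ?_) hτH
        · exact hnpc_of_isNilpotent
        · rw [Subgroup.smul_inf, conj_smul_eq_self_of_mem_normalizer (Subgroup.le_normalizer hτX),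
            conj_smul_eq_self_of_mem_normalizer (H := H) (by
              rw [Subgroup.normalizer_eq_top_iff.2 ‹H.Normal›]; exact Subgroup.mem_top _)]
    have h1 : Cfsg.HasNormalPComplement q
        (Subgroup.normalizer (Cfsg.thompsonSubgroupOf q (Q : Subgroup H) : Set H)) := by
      refine hnpc_of_map_le H.subtype_injective ?_
        (hX _ (thompsonSubgroupOf_le _) (thompsonSubgroupOf_ne_bot hQ'p hQ'ne)
          (normalizer_le_normalizer_thompsonSubgroupOf _ hτ))
      refine le_inf (Subgroup.map_subtype_le _) ((Subgroup.le_normalizer_map _).trans ?_)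
      rw [map_thompsonSubgroupOf _ _ H.subtype_injective.injOn]
    have h2 : Cfsg.HasNormalPComplement q
        (Subgroup.normalizer (zOf (Q : Subgroup H) : Set H)) := by
      refine hnpc_of_map_le H.subtype_injective ?_
        (hX _ (zOf_le _) (zOf_ne_bot hQ'p hQ'ne) (normalizer_le_normalizer_zOf _ hτ))
      refine le_inf (Subgroup.map_subtype_le _) ((Subgroup.le_normalizer_map _).trans ?_)
      rw [map_zOf _ H.subtype_injective]
    have hH := thompson hne.1 Q (ThompsonHyp.of_normalizers h1 h2)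
    have hres := hnpc_iff.1 hH
    haveI := pResidual_char q H
    rcases hmin _ ConjAct.normal_of_characteristic_of_normal
      (Subgroup.map_subtype_le (Cfsg.pResidual q H)) with e | e
    · have e' := (Subgroup.map_eq_bot_iff_of_injective _ H.subtype_injective).1 e
      refine hn (IsPGroup.isNilpotent (p := q) (G := H) ?_)
      refine (isPGroup_of_forall_coprime (H := (⊤ : Subgroup H)) (p := q) fun g _ hg => ?_).of_equiv
        Subgroup.topEquiv
      exact Subgroup.mem_bot.1 (e' ▸ CfsgLib.Inv.mem_pResidual hg)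
    · refine hres ?_
      rw [← Subgroup.card_map_of_injective H.subtype_injective, e]
      exact hqH
  refine CfsgLib.Char.solvable_of_card_two_primes 2 p ((Nat.card H).factorization 2)
    (Nat.card H / 2 ^ (Nat.card H).factorization 2).primeFactorsList.length Nat.prime_two hp.out ?_
  conv_lhs => rw [← Nat.ordProj_mul_ordCompl_eq_self (Nat.card H) 2]
  congr 1
  refine Nat.eq_prime_pow_of_unique_prime_dvd (Nat.ordCompl_pos 2 Nat.card_pos.ne').ne' fun {d} hd hdd => ?_
  rcases hsmall d hd (hdd.trans (Nat.ordCompl_dvd _ 2)) with rfl | rfl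
  · exact absurd hdd (Nat.not_dvd_ordCompl Nat.prime_two Nat.card_pos.ne')
  · rfl

set_option maxHeartbeats 1000000 in
theorem key [hp : Fact p.Prime] (H : Subgroup G) [H.Normal] (σ : G)
    (ih : ∀ m < Nat.card H, Splits.{u} p m) (hσ : ∀ h ∈ H, (h * σ) ^ p = 1)
    (htop : H ⊔ Subgroup.zpowers σ = ⊤) : Group.IsNilpotent H := by
  classical
  by_contra hn
  have hH1 : H ≠ ⊥ := by rintro rfl; exact hn inferInstance
  -- solvability
  have hsol : Group.IsSolvable H := by
    by_cases hmin : ∀ X : Subgroup G, X.Normal → X ≤ H → X = ⊥ ∨ X = H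
    · exact solvable_of_no_normal ih hσ htop hn hmin
    push Not at hmin
    obtain ⟨X, hXn, hXH, hX1, hX2⟩ := hmin
    haveI := nilpotent_sub ih hXH hX2 (τ := σ)
      (by rw [Subgroup.normalizer_eq_top_iff.2 hXn]; exact Subgroup.mem_top _) hσ
    haveI := nilpotent_quot ih hXH hX1 hσ
    refine Group.isSolvable_of_ker_le_range (Subgroup.inclusion hXH)
      ((QuotientGroup.mk' X).subgroupMap H) fun x hx => ?_
    have : QuotientGroup.mk' X (x : G) = 1 := congrArg Subtype.val hx
    exact ⟨⟨x, (QuotientGroup.eq_one_iff (x : G)).1 this⟩, rfl⟩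
  obtain ⟨M, hM, hMH⟩ := exists_isMinimalNormal_le H hH1
  haveI := hM.1
  have hMsol : Group.IsSolvable M :=
    isSolvable_of_le (K := H) hMH
  haveI hMab : IsMulCommutative M := isMulCommutative_of_minimal_solvable hM hMsol
  obtain ⟨r, hr, hrexp, hrM⟩ := exists_prime_exponent_of_minimal_solvable hM hMsol
  haveI : Fact r.Prime := ⟨hr⟩
  haveI := nilpotent_quot ih hMH hM.2.1 hσ
  -- a non-normal Sylow subgroup generating `H` with `M`
  obtain ⟨s, hs, S, hSn, hMS⟩ : ∃ (s : ℕ) (_ : Fact s.Prime) (S : Sylow s H),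
      ¬ ((S : Subgroup H)).Normal ∧ M ⊔ (S : Subgroup H).map H.subtype = H := by
    by_contra hno
    push Not at hno
    refine hn (((Group.isNilpotent_of_finite_tfae (G := ↥H)).out 0 3).2 fun s hs S => ?_)
    haveI := hs
    by_contra hSn
    have hne := hno s hs S hSn
    set S' := (S : Subgroup H).map H.subtype with hS'
    have hS'H : S' ≤ H := Subgroup.map_subtype_le _
    let T := S.mapSurjective ((QuotientGroup.mk' M).subgroupMap_surjective H)
    haveI hTn : (T : Subgroup (H.map (QuotientGroup.mk' M))).Normal :=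
      sylow_normal_of_nilpotent T
    haveI := T.characteristic_of_normal hTn
    haveI : (H.map (QuotientGroup.mk' M)).Normal :=
      Subgroup.Normal.map ‹_› _ (QuotientGroup.mk'_surjective M)
    have e1 : (T : Subgroup (H.map (QuotientGroup.mk' M))).map (H.map (QuotientGroup.mk' M)).subtype
        = S'.map (QuotientGroup.mk' M) := by
      rw [Sylow.coe_mapSurjective, Subgroup.map_map, hS', Subgroup.map_map]
      rfl
    haveI hn2 : (S'.map (QuotientGroup.mk' M)).Normal :=
      e1 ▸ ConjAct.normal_of_characteristic_of_normal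
    have hMSn : (M ⊔ S').Normal := by
      have := hn2.comap (QuotientGroup.mk' M)
      rwa [Subgroup.comap_map_eq, QuotientGroup.ker_mk', sup_comm] at this
    haveI := nilpotent_sub ih (sup_le hMH hS'H) hne (τ := σ)
      (by rw [Subgroup.normalizer_eq_top_iff.2 hMSn]; exact Subgroup.mem_top _) hσ
    have hS'MS : S' ≤ M ⊔ S' := le_sup_right
    let S₁ : Sylow s H := S
    have hcard : Nat.card S' = s ^ (Nat.card H).factorization s := by
      rw [hS', Subgroup.card_map_of_injective H.subtype_injective, S.card_eq_multiplicity]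
    let U : Sylow s (M ⊔ S' : Subgroup G) := Sylow.ofCard (S'.subgroupOf (M ⊔ S')) (by
      rw [card_subgroupOf hS'MS, hcard]
      refine congrArg (s ^ ·) (le_antisymm ?_ ?_)
      · exact (Nat.Prime.pow_dvd_iff_le_factorization hs.out Nat.card_pos.ne').1
          (hcard ▸ Subgroup.card_dvd_of_le hS'MS)
      · exact (Nat.factorization_le_iff_dvd Nat.card_pos.ne' Nat.card_pos.ne').2
          (Subgroup.card_dvd_of_le (sup_le hMH hS'H)) s)
    have hUn : (U : Subgroup (M ⊔ S' : Subgroup G)).Normal :=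
      sylow_normal_of_nilpotent U
    haveI := U.characteristic_of_normal hUn
    have e2 : (U : Subgroup (M ⊔ S' : Subgroup G)).map (M ⊔ S').subtype = S' := by
      rw [Sylow.coe_ofCard, Subgroup.map_subgroupOf_eq_of_le hS'MS]
    have hS'n : S'.Normal := e2 ▸ ConjAct.normal_of_characteristic_of_normal
    have := hS'n.comap H.subtype
    rw [hS', Subgroup.comap_map_eq_self_of_injective H.subtype_injective] at this
    exact hSn this
  obtain ⟨h₀, hh₀, hτS⟩ := exists_frattini S σ
  set S' := (S : Subgroup H).map H.subtype with hS'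
  set τ := h₀ * σ with hτdef
  have hS'H : S' ≤ H := Subgroup.map_subtype_le _
  have hS'p : IsPGroup s S' := S.2.map _
  have hτ : ∀ h ∈ H, (h * τ) ^ p = 1 := fun h hh => by
    rw [hτdef, ← mul_assoc]; exact hσ _ (mul_mem hh hh₀)
  have hτp : τ ^ p = 1 := by simpa using hτ 1 (one_mem _)
  have htop' := gen_of_coset htop hh₀
  have hτM : τ ∈ Subgroup.normalizer (M : Set G) := by
    rw [Subgroup.normalizer_eq_top_iff.2 hM.1]; exact Subgroup.mem_top _
  -- the fixed points of `S` in `M` are trivial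
  set X := M ⊓ Subgroup.centralizer (S' : Set G) with hX
  have hXn : X.Normal := by
    refine normal_of_gen htop' (hMS ▸ sup_le ?_ ?_) ?_
    · refine fun m hm => (Subgroup.centralizer_le_normalizer _) (Subgroup.mem_centralizer_iff.2 ?_)
      exact fun x hx => congrArg Subtype.val
        (hMab.is_comm.comm (⟨x, hx.1⟩ : M) ⟨m, hm⟩)
    · refine fun g hg => (Subgroup.centralizer_le_normalizer _) (Subgroup.mem_centralizer_iff.2 ?_)
      exact fun x hx => (Subgroup.mem_centralizer_iff.1 hx.2 g hg).symm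
    · refine mem_normalizer_of_conj_smul_eq ?_
      rw [hX, Subgroup.smul_inf, conj_smul_eq_self_of_mem_normalizer hτM,
        conj_smul_eq_self_of_mem_normalizer
          (normalizer_le_normalizer_centralizer (S' : Subgroup G) hτS)]
  have hXbot : X = ⊥ := by
    refine (hM.2.2 X hXn inf_le_left).resolve_right fun e => hSn ?_
    have hc : M ≤ Subgroup.normalizer (S' : Set G) :=
      (e ▸ inf_le_right : M ≤ Subgroup.centralizer (S' : Set G)).trans
        (Subgroup.centralizer_le_normalizer _)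
    have hHn : H ≤ Subgroup.normalizer (S' : Set G) := hMS ▸ sup_le hc Subgroup.le_normalizer
    have hS'n := normal_of_gen htop' hHn hτS
    have := hS'n.comap H.subtype
    rwa [hS', Subgroup.comap_map_eq_self_of_injective H.subtype_injective] at this
  have hsr : s ≠ r := by
    rintro rfl
    refine hn (IsPGroup.isNilpotent (p := s) (G := H) ?_)
    have : IsPGroup s (M ⊔ S' : Subgroup G) := hrM.to_sup_of_normal_left' hS'p
      (by rw [Subgroup.normalizer_eq_top_iff.2 hM.1]; exact le_top)
    rwa [hMS] at this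
  obtain ⟨e₁, he₁⟩ := hrM.exists_card_eq
  obtain ⟨e₂, he₂⟩ := hS'p.exists_card_eq
  have hinf : M ⊓ S' = ⊥ := Subgroup.inf_eq_bot_of_coprime (by
    rw [he₁, he₂]; exact ((Nat.coprime_primes hr hs.out).2 hsr.symm).pow _ _)
  have hcardH : Nat.card H = r ^ e₁ * s ^ e₂ := by
    have h1 := card_sup_mul_card_inf S' M
    rw [sup_comm, hMS, inf_comm, hinf, Subgroup.card_bot, mul_one, he₁, he₂] at h1
    rw [h1, mul_comm]
  have hexp : ∀ x ∈ H, Commute x τ → x ^ p = 1 := fun x hx hc => by
    have := hτ x hx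
    rwa [hc.mul_pow, hτp, mul_one] at this
  let φ : G →* MulAut M := MulAut.conjNormal
  have hnorm : ∀ h ∈ H, ∀ v : M, (∏ j ∈ Finset.range p, (φ (h * τ) ^ j) v) = 1 := fun h hh =>
    norm_eq_one (hτ h hh) fun v => by rw [← mul_assoc]; exact hτ _ (mul_mem (hMH v.2) hh)
  by_cases hrp : r = p
  · -- the Frobenius trick
    subst hrp
    haveI := Fintype.ofFinite S'
    have hcop : (Nat.card S').Coprime r := by
      rw [he₂]; exact ((Nat.coprime_primes hs.out hr).2 hsr).pow_left _
    have hfpf : ∀ j : ℕ, ¬ r ∣ j → ∀ a ∈ S', Commute a (τ ^ j) → a = 1 := by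
      intro j hj a ha hc
      obtain ⟨k, -, hk⟩ := Nat.exists_mul_mod_eq_one_of_coprime
        ((hr.coprime_iff_not_dvd.2 hj).symm) hr.one_lt
      have hc' : Commute a τ := by
        have := hc.pow_right k
        rwa [← pow_mul, pow_eq_pow_mod _ hτp, hk, pow_one] at this
      have h1 : (⟨a, ha⟩ : S') ^ r = 1 := Subtype.ext (hexp a (hS'H ha) hc')
      have h2 := (powCoprime hcop).injective (a₁ := ⟨a, ha⟩) (a₂ := 1) (by
        show (⟨a, ha⟩ : S') ^ r = (1 : S') ^ r
        rw [h1, one_pow])
      exact congrArg Subtype.val h2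
    have hsum : ∀ w : M, (∏ a : S', φ (a : G) w) = 1 := by
      intro w
      have hw : ((∏ a : S', φ (a : G) w : M) : G) ∈ X := by
        refine ⟨SetLike.coe_mem _, Subgroup.mem_centralizer_iff.2 fun b hb => ?_⟩
        have h1 : φ b (∏ a : S', φ (a : G) w) = ∏ a : S', φ (a : G) w := by
          rw [map_prod]
          refine Fintype.prod_equiv (Equiv.mulLeft (⟨b, hb⟩ : S')) _ _ fun a => ?_
          rw [← MulAut.mul_apply, ← map_mul]; rfl
        have h2 := congrArg Subtype.val h1
        rw [MulAut.conjNormal_apply, mul_inv_eq_iff_eq_mul] at h2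
        exact h2
      rw [hXbot, Subgroup.mem_bot] at hw
      exact Subtype.ext hw
    have hconj : ∀ a : S', (a : G) * τ * (a : G)⁻¹ * τ⁻¹ ∈ S' := fun a => by
      rw [show (a : G) * τ * (a : G)⁻¹ * τ⁻¹ = a * (τ * (a : G)⁻¹ * τ⁻¹) by group]
      exact mul_mem a.2 ((Subgroup.mem_normalizer_iff.1 hτS _).1 (inv_mem a.2))
    have hzero : ∀ v : M, v = 1 := by
      intro v
      have h1 : (∏ a : S', ∏ j ∈ Finset.range r, (φ ((a : G) * τ * (a : G)⁻¹) ^ j) v) = 1 := by
        refine Finset.prod_eq_one fun a _ => ?_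
        have := hnorm _ (hS'H (hconj a)) v
        rwa [inv_mul_cancel_right] at this
      rw [Finset.prod_comm, ← Finset.mul_prod_erase _ _ (Finset.mem_range.2 hr.pos)] at h1
      have h2 : (∏ j ∈ (Finset.range r).erase 0,
          ∏ a : S', (φ ((a : G) * τ * (a : G)⁻¹) ^ j) v) = 1 := by
        refine Finset.prod_eq_one fun j hj => ?_
        obtain ⟨hj0, hjr⟩ := Finset.mem_erase.1 hj
        have hjr' : ¬ r ∣ j := fun hd => by
          have := Nat.le_of_dvd (Nat.pos_of_ne_zero hj0) hd
          rw [Finset.mem_range] at hjr; omega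
        have hτj : τ ^ j ∈ Subgroup.normalizer (S' : Set G) := pow_mem hτS j
        let c : S' → S' := fun a => ⟨(a : G) * τ ^ j * (a : G)⁻¹ * (τ ^ j)⁻¹, by
          rw [show (a : G) * τ ^ j * (a : G)⁻¹ * (τ ^ j)⁻¹ =
            a * (τ ^ j * (a : G)⁻¹ * (τ ^ j)⁻¹) by group]
          exact mul_mem a.2 ((Subgroup.mem_normalizer_iff.1 hτj _).1 (inv_mem a.2))⟩
        have hc : Function.Bijective c := by
          refine Finite.injective_iff_bijective.1 fun a b hab => ?_
          have e : (a : G) * τ ^ j * (a : G)⁻¹ = b * τ ^ j * (b : G)⁻¹ :=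
            mul_right_cancel (congrArg Subtype.val hab)
          have : (b : G)⁻¹ * a = 1 := hfpf j hjr' _ (mul_mem (inv_mem b.2) a.2) (by
            show (b : G)⁻¹ * a * τ ^ j = τ ^ j * ((b : G)⁻¹ * a)
            calc (b : G)⁻¹ * a * τ ^ j = (b : G)⁻¹ * (a * τ ^ j * (a : G)⁻¹) * a := by group
              _ = τ ^ j * ((b : G)⁻¹ * a) := by rw [e]; group)
          exact Subtype.ext (inv_mul_eq_one.1 this).symm
        rw [← hsum (φ (τ ^ j) v)]
        refine Fintype.prod_bijective c hc _ _ fun a => ?_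
        rw [← map_pow, conj_pow, ← MulAut.mul_apply, ← map_mul]
        exact congrArg (fun g => φ g v) (inv_mul_cancel_right _ _).symm
      rw [h2, mul_one] at h1
      simp only [pow_zero, MulAut.one_apply, Finset.prod_const, Finset.card_univ,
        ← Nat.card_eq_fintype_card] at h1
      have hcop' : (Nat.card M).Coprime (Nat.card S') := by
        rw [he₁, he₂]; exact ((Nat.coprime_primes hr hs.out).2 hsr.symm).pow _ _
      exact (powCoprime hcop').injective (show v ^ Nat.card S' = (1 : M) ^ Nat.card S' by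
        rw [h1, one_pow])
    exact hM.2.1 ((Subgroup.eq_bot_iff_forall M).2 fun m hm =>
      congrArg Subtype.val (hzero ⟨m, hm⟩))
  have hcM : (Nat.card M).Coprime p := by
    rw [he₁]; exact ((Nat.coprime_primes hr hp.out).2 hrp).pow_left _
  by_cases hsp : s = p
  · -- a noncyclic group generated by fixed point free elements
    subst hsp
    have hUp : IsPGroup s (S' ⊔ Subgroup.zpowers τ : Subgroup G) :=
      hS'p.to_sup_of_normal_left' (isPGroup_zpowers hτp)
        (Subgroup.zpowers_le.2 hτS)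
    set Ū := (S' ⊔ Subgroup.zpowers τ).map φ with hU
    haveI : ((S'.map φ).subgroupOf Ū).Normal := by
      refine (Subgroup.normal_subgroupOf_iff_le_normalizer (Subgroup.map_mono le_sup_left)).2 ?_
      exact (Subgroup.map_mono (sup_le Subgroup.le_normalizer (Subgroup.zpowers_le.2 hτS))).trans
        (Subgroup.le_normalizer_map _)
    have hne : (S'.map φ).subgroupOf Ū ≠ ⊥ := by
      intro e
      have hle : M ≤ X := fun m hm => ⟨hm, Subgroup.mem_centralizer_iff.2 fun a ha => by
        have h1 : (⟨φ a, Subgroup.mem_map_of_mem φ (Subgroup.mem_sup_left ha)⟩ : Ū) ∈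
            (S'.map φ).subgroupOf Ū := Subgroup.mem_subgroupOf.2 (Subgroup.mem_map_of_mem φ ha)
        rw [e, Subgroup.mem_bot] at h1
        have h2 : φ a = 1 := congrArg Subtype.val h1
        have h3 := congrArg Subtype.val (DFunLike.congr_fun h2 ⟨m, hm⟩)
        rw [MulAut.conjNormal_apply, MulAut.one_apply, mul_inv_eq_iff_eq_mul] at h3
        exact h3⟩
      exact hM.2.1 (le_bot_iff.1 (hXbot ▸ hle))
    have hne2 := CfsgLib.Perm.inf_center_ne_bot (hUp.map φ) _ hne
    obtain ⟨b, hb, hbo⟩ := exists_orderOf_eq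
      ((hUp.map φ).to_subgroup ((S'.map φ).subgroupOf Ū ⊓ Subgroup.center Ū)) hne2
    obtain ⟨⟨u, hu, hub⟩, hbc⟩ := hb
    have hb1 : (b : MulAut M) ≠ 1 := fun e => hs.out.ne_one (by
      rw [← hbo, orderOf_eq_one_iff]; exact Subtype.ext e)
    refine hb1 (eq_one_of_norms hcM (A := φ τ) ?_ ?_ fun i v => ?_)
    · exact congrArg Subtype.val
        (Subgroup.mem_center_iff.1 hbc ⟨φ τ, Subgroup.mem_map_of_mem φ
          (Subgroup.mem_sup_right (Subgroup.mem_zpowers τ))⟩)
    · rw [← hbo, ← Subgroup.orderOf_coe b, pow_orderOf_eq_one]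
    · have e : (b : MulAut M) = φ u := hub.symm
      rw [e, ← map_pow φ u i, ← map_mul]
      exact hnorm _ (pow_mem (hS'H hu) i) v
  -- coprime case
  refine hn (isNilpotent_of_fpf_element (h := τ) hτp ((Subgroup.eq_bot_iff_forall _).2 fun x hx => ?_))
  have hc : Commute x τ := (Subgroup.mem_centralizer_iff.1 hx.2 τ rfl).symm
  have hcop : (Nat.card H).Coprime p := by
    rw [hcardH]
    exact Nat.Coprime.mul_left (((Nat.coprime_primes hr hp.out).2 hrp).pow_left _)
      (((Nat.coprime_primes hs.out hp.out).2 hsp).pow_left _)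
  have h1 := (powCoprime hcop).injective (a₁ := (⟨x, hx.1⟩ : H)) (a₂ := 1)
    (show (⟨x, hx.1⟩ : H) ^ p = (1 : H) ^ p by
      rw [one_pow]; exact Subtype.ext (hexp x hx.1 hc))
  exact congrArg Subtype.val h1

end

theorem splits (p : ℕ) [Fact p.Prime] (n : ℕ) : Splits.{u} p n := by
  induction n using Nat.strong_induction_on with
  | _ n ih =>
    intro G _ _ H _ σ hn hσ
    subst hn
    set L := H ⊔ Subgroup.zpowers σ
    have hHL : H ≤ L := le_sup_left
    haveI := key (H.subgroupOf L) ⟨σ, Subgroup.mem_sup_right (Subgroup.mem_zpowers σ)⟩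
      (by rw [card_subgroupOf hHL]; exact ih) (fun h hh => Subtype.ext (hσ h hh)) (by
        refine Subgroup.map_injective L.subtype_injective ?_
        rw [Subgroup.map_sup, Subgroup.map_subgroupOf_eq_of_le hHL, MonoidHom.map_zpowers,
          ← MonoidHom.range_eq_map, Subgroup.range_subtype]
        rfl)
    exact Group.nilpotent_of_mulEquiv (Subgroup.subgroupOfEquivOfLe hHL)

/-- Kegel: a subgroup with a coset of elements of order dividing `p` is nilpotent. -/
theorem isNilpotent_of_splitting {G : Type u} [Group G] [Finite G] {p : ℕ} [Fact p.Prime]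
    (H : Subgroup G) [H.Normal] (σ : G) (h : ∀ x ∈ H, (x * σ) ^ p = 1) : Group.IsNilpotent H :=
  splits p _ G H σ rfl h

end CfsgLib.Perm.Hughes
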