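import Cfsg.Agent.Inv.BaerSuzuki
import Cfsg.Agent.Inv.Dihedral
import Cfsg.Agent.Solv.Hall

/-!
A criterion for a normal Sylow 2-subgroup: no element of odd order is inverted.
-/

set_option autoImplicit false
set_option linter.style.haveILetI false

namespace CfsgLib.Perm

open scoped Pointwise

variable {G : Type*} [Group G]

/-- An element of odd order equal to its inverse is trivial. -/
theorem eq_one_of_eq_inv_of_odd {x : G} (hx : Odd (orderOf x)) (h : x = x⁻¹) : x = 1 := by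
  have h2 : orderOf x ∣ 2 := orderOf_dvd_of_pow_eq_one (by rw [sq]; exact mul_eq_one_iff_eq_inv.2 h)
  rcases (Nat.dvd_prime Nat.prime_two).1 h2 with h3 | h3
  · exact orderOf_eq_one_iff.1 h3
  · rw [h3] at hx; exact absurd hx (by decide)

/-- If no non-trivial element of odd order is inverted by an involution then the involutions
lie in the 2-core. -/
theorem involution_mem_pCore [Finite G]
    (h : ∀ x t : G, Odd (orderOf x) → orderOf t = 2 → t * x * t⁻¹ = x⁻¹ → x = 1)
    {t : G} (ht : orderOf t = 2) : t ∈ Cfsg.pCore 2 G := by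
  classical
  haveI : Fact (Nat.Prime 2) := ⟨Nat.prime_two⟩
  set Ω : Set (Subgroup G) := {Y | ∃ u : G, orderOf u = 2 ∧ Y = Subgroup.zpowers u} with hΩ
  have hconj : ∀ Y ∈ Ω, ∀ g : G, Y.map (MulAut.conj g).toMonoidHom ∈ Ω := by
    rintro Y ⟨u, hu, rfl⟩ g
    exact ⟨g * u * g⁻¹, CfsgLib.Inv.invol_conj hu g, MonoidHom.map_zpowers _ _⟩
  have hpow2 : ∀ u v : G, orderOf u = 2 → orderOf v = 2 → ∃ m, orderOf (u * v) = 2 ^ m := by
    intro u v hu hv
    obtain ⟨a, m, hm, hd⟩ := Nat.exists_eq_two_pow_mul_odd (orderOf_pos (u * v)).ne'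
    have hx : orderOf ((u * v) ^ (2 ^ a)) = m := by
      rw [orderOf_pow_of_dvd (pow_ne_zero _ two_ne_zero) ⟨m, hd⟩, hd,
        Nat.mul_div_cancel_left _ (pow_pos two_pos _)]
    have h1 := h _ u (hx.symm ▸ hm) hu (by rw [← conj_pow, CfsgLib.Inv.pair_conj hu hv, inv_pow])
    rw [h1, orderOf_one] at hx
    exact ⟨a, by rw [hd, ← hx, mul_one]⟩
  have hpair : ∀ Y ∈ Ω, ∀ Z ∈ Ω, IsPGroup 2 ↥(Y ⊔ Z) := by
    rintro Y ⟨u, hu, rfl⟩ Z ⟨v, hv, rfl⟩
    obtain ⟨m, hm⟩ := hpow2 u v hu hv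
    intro d
    have hd : (d : G) ∈ Subgroup.closure ({u, v} : Set G) :=
      (sup_le (Subgroup.zpowers_le.2 (Subgroup.subset_closure (by simp)))
        (Subgroup.zpowers_le.2 (Subgroup.subset_closure (by simp)))) d.2
    rcases (CfsgLib.Inv.mem_pair_iff hu hv).1 hd with ⟨k, hk⟩ | ⟨k, hk⟩
    · refine ⟨m, Subtype.ext ?_⟩
      rw [Subgroup.coe_pow, hk, ← zpow_natCast ((u * v) ^ k), zpow_comm, zpow_natCast, ← hm,
        pow_orderOf_eq_one, one_zpow]
      rfl
    · refine ⟨1, Subtype.ext ?_⟩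
      rw [Subgroup.coe_pow, hk, pow_one, sq, CfsgLib.Inv.refl_mul_refl hu hv, sub_self, zpow_zero]
      rfl
  have hp := CfsgLib.Inv.baer_suzuki Ω hconj hpair
  haveI : (sSup Ω).Normal := by
    refine ⟨fun y hy g => ?_⟩
    have h1 : (sSup Ω).map (MulAut.conj g).toMonoidHom ≤ sSup Ω := by
      rw [Subgroup.map_le_iff_le_comap]
      refine sSup_le fun Y hY => ?_
      rw [← Subgroup.map_le_iff_le_comap]
      exact le_sSup (hconj Y hY g)
    exact h1 (Subgroup.mem_map_of_mem _ hy)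
  have hmem : Subgroup.zpowers t ∈ Ω := ⟨t, ht, rfl⟩
  exact CfsgLib.Solv.le_pCore hp (le_sSup hmem (Subgroup.mem_zpowers t))

/-- If no 2-element induces a non-trivial automorphism on a cyclic subgroup of odd order then
the Sylow 2-subgroup is normal. -/
theorem sylow_two_normal [Finite G]
    (h : ∀ x t : G, Odd (orderOf x) → (∃ k, orderOf t = 2 ^ k) →
      t ∈ Subgroup.normalizer ((Subgroup.zpowers x : Subgroup G) : Set G) → t * x * t⁻¹ = x)
    (P : Sylow 2 G) : (P : Subgroup G).Normal := by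
  classical
  haveI : Fact (Nat.Prime 2) := ⟨Nat.prime_two⟩
  set M := Cfsg.pCore 2 G with hM
  haveI : M.Normal := CfsgLib.Solv.pCore_normal G 2
  have hMp : IsPGroup 2 M := CfsgLib.Solv.pCore_isPGroup G 2
  have key : ∀ y s : G ⧸ M, Odd (orderOf y) → orderOf s = 2 → s * y * s⁻¹ = y⁻¹ → y = 1 := by
    intro y s hy hs hinv
    obtain ⟨x₀, rfl⟩ := QuotientGroup.mk'_surjective M y
    obtain ⟨t, rfl⟩ := QuotientGroup.mk'_surjective M s
    obtain ⟨a, m, hm, hd⟩ := Nat.exists_eq_two_pow_mul_odd (orderOf_pos x₀).ne'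
    set x := x₀ ^ (2 ^ a) with hxd
    have hox : orderOf x = m := by
      rw [hxd, orderOf_pow_of_dvd (pow_ne_zero _ two_ne_zero) ⟨m, hd⟩, hd,
        Nat.mul_div_cancel_left _ (pow_pos two_pos _)]
    have hfx : QuotientGroup.mk' M x = QuotientGroup.mk' M x₀ ^ (2 ^ a) := map_pow _ _ _
    suffices hx1 : QuotientGroup.mk' M x = 1 by
      rw [hfx, ← orderOf_dvd_iff_pow_eq_one] at hx1
      exact orderOf_eq_one_iff.1 (Nat.eq_one_of_dvd_coprimes
        ((Nat.coprime_two_right.2 hy).pow_right a) dvd_rfl hx1)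
    have hinv' : QuotientGroup.mk' M t * QuotientGroup.mk' M x * (QuotientGroup.mk' M t)⁻¹ =
        (QuotientGroup.mk' M x)⁻¹ := by
      rw [hfx, ← conj_pow, hinv, inv_pow]
    set X := Subgroup.zpowers x with hX
    set Y := MulAut.conj t • X with hY
    have hcopX : (Nat.card X).Coprime (Nat.card M) := by
      obtain ⟨k, hk⟩ := IsPGroup.iff_card.1 hMp
      rw [hk, hX, Nat.card_zpowers, hox]
      exact (Nat.coprime_two_right.2 hm).pow_right k
    have hsup : X ⊔ M = Y ⊔ M := by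
      have e1 : ∀ Z : Subgroup G, Z ⊔ M = (Z.map (QuotientGroup.mk' M)).comap (QuotientGroup.mk' M) :=
        fun Z => by rw [Subgroup.comap_map_eq, QuotientGroup.ker_mk']
      rw [e1, e1, hY, CfsgLib.Solv.conj_smul_eq_map, hX, Subgroup.map_map, MonoidHom.map_zpowers,
        MonoidHom.map_zpowers]
      congr 1
      simp only [MonoidHom.coe_comp, MulEquiv.coe_toMonoidHom, Function.comp_apply,
        MulAut.conj_apply, map_mul, map_inv]
      rw [hinv', Subgroup.zpowers_inv]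
    obtain ⟨g, hg, hgY⟩ := CfsgLib.Solv.conj_complement_in_sup hsup hcopX
      (by rw [hY, CfsgLib.Solv.card_conj_smul]; exact hcopX)
      (Or.inr inferInstance)
    obtain ⟨i, hi, z, hz, rfl⟩ := Subgroup.mem_sup_of_normal_right.1 hg
    have hz' : i * z * i⁻¹ ∈ M := Subgroup.Normal.conj_mem inferInstance z hz i
    set n := (i * z * i⁻¹)⁻¹ * t with hn
    have hnX : n ∈ Subgroup.normalizer ((X : Subgroup G) : Set G) := by
      apply CfsgLib.Solv.mem_normalizer_of_conj_smul_eq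
      have e : MulAut.conj (i * z) • X = MulAut.conj (i * z * i⁻¹) • X := by
        conv_lhs => rw [show i * z = i * z * i⁻¹ * i by group, map_mul, mul_smul,
          CfsgLib.Solv.conj_smul_eq_self_of_mem_normalizer (Subgroup.le_normalizer hi)]
      rw [hn, map_mul, mul_smul, ← hY, ← hgY, e, ← mul_smul, ← map_mul, inv_mul_cancel, map_one,
        one_smul]
    have hfn : QuotientGroup.mk' M n = QuotientGroup.mk' M t := by
      rw [hn, map_mul, map_inv, show QuotientGroup.mk' M (i * z * i⁻¹) = 1 from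
        (QuotientGroup.eq_one_iff _).2 hz', inv_one, one_mul]
    have hn2 : ∃ k, orderOf n = 2 ^ k := by
      have hsq : n ^ 2 ∈ M := by
        rw [← QuotientGroup.eq_one_iff]
        change QuotientGroup.mk' M (n ^ 2) = 1
        rw [map_pow, hfn, ← hs, pow_orderOf_eq_one]
      obtain ⟨k, hk⟩ := hMp ⟨_, hsq⟩
      have hk' : n ^ 2 ^ (k + 1) = 1 := by
        rw [pow_succ', pow_mul]; exact congrArg Subtype.val hk
      obtain ⟨j, _, hj⟩ := (Nat.dvd_prime_pow Nat.prime_two).1 (orderOf_dvd_of_pow_eq_one hk')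
      exact ⟨j, hj⟩
    have hcomm := congrArg (QuotientGroup.mk' M) (h x n (hox.symm ▸ hm) hn2 hnX)
    rw [map_mul, map_mul, map_inv, hfn, hinv'] at hcomm
    exact eq_one_of_eq_inv_of_odd (Odd.of_dvd_nat hm (hox ▸ orderOf_map_dvd _ x)) hcomm.symm
  have hbot : Cfsg.pCore 2 (G ⧸ M) = ⊥ := CfsgLib.Solv.pCore_quotient_self
  have hodd : ¬ 2 ∣ Nat.card (G ⧸ M) := by
    intro hd
    obtain ⟨s, hs⟩ := exists_prime_orderOf_dvd_card' 2 hd
    have h1 := involution_mem_pCore key hs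
    rw [hbot, Subgroup.mem_bot] at h1
    rw [h1, orderOf_one] at hs
    omega
  have hPM : (P : Subgroup G) ≤ M := by
    intro x hx
    rw [← QuotientGroup.eq_one_iff]
    obtain ⟨k, hk⟩ := P.2 ⟨x, hx⟩
    have hk' : x ^ 2 ^ k = 1 := congrArg Subtype.val hk
    rw [← orderOf_eq_one_iff]
    refine Nat.eq_one_of_dvd_coprimes (((Nat.prime_two.coprime_iff_not_dvd.2 hodd)).pow_left k)
      (orderOf_dvd_of_pow_eq_one ?_) (orderOf_dvd_natCard _)
    change (QuotientGroup.mk' M x) ^ 2 ^ k = 1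
    rw [← map_pow, hk', map_one]
  rw [← P.3 hMp hPM]; infer_instance

end CfsgLib.Perm
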