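import Mathlib.GroupTheory.GroupAction.Jordan
import Mathlib.GroupTheory.Sylow
import Mathlib.GroupTheory.SpecificGroups.Cyclic

set_option autoImplicit false
set_option linter.style.haveILetI false

/-!
Jordan's theorem: a primitive group with a cycle of prime length `p ≤ n - 3` contains the
alternating group.
-/

namespace CfsgLib.Perm.Jordan

open Equiv MulAction
open scoped Pointwise

variable {α : Type*} [Fintype α] [DecidableEq α]

/-- Any permutation of the fixed points of a `p`-cycle lifts to the normalizer of that cycle. -/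
theorem exists_lift (G : Subgroup (Perm α)) (hG : IsPreprimitive G α) {p : ℕ} (hp : p.Prime)
    (hpn : p + 3 ≤ Fintype.card α) {g : Perm α} (hgc : g.IsCycle) (hgp : g.support.card = p)
    (hg : g ∈ G) (σ : Perm α) (hσ : ∀ x, g x = x → g (σ x) = σ x) :
    ∃ A ∈ G, (∃ i : ℤ, A * g * A⁻¹ = g ^ i) ∧ ∀ x, g x = x → A x = σ x := by
  classical
  haveI : Fact p.Prime := ⟨hp⟩
  set s : Set α := (g.support : Set α)ᶜ with hs
  have hmem : ∀ x, x ∈ s ↔ g x = x := fun x => by simp [hs]
  have hsc : s.ncard = Fintype.card α - p := by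
    rw [hs, Set.ncard_compl, Set.ncard_coe_finset, hgp, Nat.card_eq_fintype_card]
  obtain ⟨n, hn⟩ : ∃ n, Fintype.card α - p = n + 1 := ⟨Fintype.card α - p - 1, by omega⟩
  haveI := Equiv.Perm.isPretransitive_of_isCycle_mem hgc hg
  have hprim : IsPreprimitive (fixingSubgroup G s) (SubMulAction.ofFixingSubgroup G s) := by
    refine IsPreprimitive.of_prime_card ?_
    convert! hp
    rw [Nat.card_eq_fintype_card, Fintype.card_subtype, ← hgp]
    simp [hs, SubMulAction.mem_ofFixingSubgroup_iff, Perm.support]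
  haveI hmul := hG.isMultiplyPreprimitive (hsc.trans hn)
    (by have := hp.two_le; rw [Nat.card_eq_fintype_card]; omega) hprim
  haveI : IsMultiplyPretransitive G α (n + 2) := hmul.isMultiplyPretransitive
  haveI htr : IsMultiplyPretransitive G α (n + 1) :=
    isMultiplyPretransitive_of_le' (n := n + 2) (by omega)
      (by have := hp.two_le; simp only [ENat.card_eq_coe_fintype_card, Nat.cast_le]; omega)
  haveI : Fintype s := Fintype.ofFinite s
  have hsn : Fintype.card s = n + 1 := by
    rw [← Nat.card_eq_fintype_card, Nat.card_coe_set_eq, hsc, hn]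
  let e : Fin (n + 1) ≃ s := ((Fintype.equivFin s).trans (finCongr hsn)).symm
  obtain ⟨⟨h, hhG⟩, hh⟩ := exists_smul_eq G
    ((⟨fun i => (e i : α), Subtype.val_injective.comp e.injective⟩ : Fin (n + 1) ↪ α))
    (⟨fun i => σ (e i : α), σ.injective.comp (Subtype.val_injective.comp e.injective)⟩)
  have hhσ : ∀ x, g x = x → h x = σ x := by
    intro x hx
    have h1 := DFunLike.congr_fun hh (e.symm ⟨x, (hmem x).2 hx⟩)
    simp only [Function.Embedding.smul_apply, Function.Embedding.coeFn_mk, Subgroup.mk_smul,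
      Perm.smul_def, Equiv.apply_symm_apply] at h1
    exact h1
  -- the pointwise stabiliser of the fixed points
  let K : Subgroup (Perm α) :=
    { carrier := {k | k ∈ G ∧ ∀ x, g x = x → k x = x}
      one_mem' := ⟨one_mem _, fun _ _ => rfl⟩
      mul_mem' := fun {a b} ha hb => ⟨mul_mem ha.1 hb.1, fun x hx => by
        rw [Perm.mul_apply, hb.2 x hx, ha.2 x hx]⟩
      inv_mem' := fun {a} ha => ⟨inv_mem ha.1, fun x hx => by
        conv_lhs => rw [← ha.2 x hx]
        exact a.symm_apply_apply x⟩ }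
  have hgK : g ∈ K := ⟨hg, fun x hx => hx⟩
  have hgK' : h * g * h⁻¹ ∈ K := by
    refine ⟨mul_mem (mul_mem hhG hg) (inv_mem hhG), fun x hx => ?_⟩
    obtain ⟨y, hy, rfl⟩ : ∃ y, g y = y ∧ σ y = x := by
      have hbij : Function.Bijective (fun y : {a // g a = a} => (⟨σ y, hσ y y.2⟩ : {a // g a = a})) :=
        Finite.injective_iff_bijective.1 fun a b hab =>
          Subtype.ext (σ.injective (congrArg Subtype.val hab))
      obtain ⟨y, hy⟩ := hbij.2 ⟨x, hx⟩
      exact ⟨y, y.2, congrArg Subtype.val hy⟩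
    rw [← hhσ y hy, Perm.mul_apply, Perm.mul_apply, Perm.inv_def, Equiv.symm_apply_apply, hy]
  -- its Sylow subgroups have order `p`
  have hpart : ¬ p ^ 2 ∣ Nat.card K := by
    intro hd
    let f : K → Perm {a // g a ≠ a} := fun k =>
      (k : Perm α).subtypePerm (p := fun a => g a ≠ a) fun x => by
        refine ⟨fun hx e => hx ?_, fun hx e => hx ?_⟩
        · rw [k.2.2 x e]; exact e
        · rw [(k : Perm α).injective (k.2.2 _ e)] at e
          exact e
    have hf : Function.Injective f := by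
      intro a b hab
      refine Subtype.ext (Equiv.ext fun x => ?_)
      by_cases hx : g x = x
      · rw [a.2.2 x hx, b.2.2 x hx]
      · exact congrArg Subtype.val (Equiv.ext_iff.1 hab ⟨x, hx⟩)
    let F : K →* Perm {a // g a ≠ a} :=
      { toFun := f, map_one' := Equiv.ext fun x => rfl, map_mul' := fun a b => Equiv.ext fun x => rfl }
    have h1 := Subgroup.card_dvd_of_injective F hf
    have h2 : Nat.card (Perm {a // g a ≠ a}) = p.factorial := by
      rw [Nat.card_perm, Nat.card_eq_fintype_card, Fintype.card_subtype, ← hgp]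
      congr 2
    rw [h2] at h1
    have h3 := hd.trans h1
    obtain ⟨m, rfl⟩ : ∃ m, p = m + 1 := ⟨p - 1, by have := hp.pos; omega⟩
    rw [Nat.factorial_succ, pow_two] at h3
    exact absurd ((hp.dvd_factorial).1 (Nat.dvd_of_mul_dvd_mul_left hp.pos h3)) (by omega)
  have hog : orderOf g = p := by rw [hgc.orderOf, hgp]
  let Q : ∀ z : K, orderOf z = p → Sylow p K := fun z hz => Sylow.ofCard (Subgroup.zpowers z) (by
    rw [Nat.card_zpowers, hz]
    refine (pow_one p).symm.trans (congrArg (p ^ ·) (le_antisymm ?_ ?_))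
    · exact (hp.pow_dvd_iff_le_factorization Nat.card_pos.ne').1
        (by rw [pow_one, ← hz]; exact orderOf_dvd_natCard z)
    · by_contra hlt
      exact hpart ((pow_dvd_pow p (Nat.succ_le_of_lt (not_le.1 hlt))).trans (Nat.ordProj_dvd _ _)))
  obtain ⟨k, hk⟩ := exists_smul_eq K
    (Q ⟨h * g * h⁻¹, hgK'⟩ (by
      rw [← Subgroup.orderOf_coe]; exact ((MulAut.conj h).orderOf_eq g).trans hog))
    (Q ⟨g, hgK⟩ (by rw [← Subgroup.orderOf_coe, hog]))
  refine ⟨(k : Perm α) * h, mul_mem k.2.1 hhG, ?_, fun x hx => ?_⟩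
  · have h1 : k * ⟨h * g * h⁻¹, hgK'⟩ * k⁻¹ ∈ Subgroup.zpowers (⟨g, hgK⟩ : K) := by
      have : MulAut.conj k (⟨h * g * h⁻¹, hgK'⟩ : K) ∈
          MulAut.conj k • (Subgroup.zpowers (⟨h * g * h⁻¹, hgK'⟩ : K)) :=
        Subgroup.smul_mem_pointwise_smul _ (MulAut.conj k) _ (Subgroup.mem_zpowers _)
      have e := congrArg (fun S : Sylow p K => (S : Subgroup K)) hk
      simp only [Sylow.coe_subgroup_smul, Q, Sylow.coe_ofCard] at e
      rw [e] at this
      exact this
    obtain ⟨i, hi⟩ := Subgroup.mem_zpowers_iff.1 h1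
    refine ⟨i, ?_⟩
    have h2 := congrArg Subtype.val hi
    simp only [Subgroup.coe_zpow, Subgroup.coe_mul, Subgroup.coe_inv] at h2
    rw [h2]
    group
  · rw [Perm.mul_apply, hhσ x hx, k.2.2 _ (hσ x hx)]

/-- Jordan's theorem on cycles of prime length. -/
theorem alternatingGroup_le_of_prime_cycle (G : Subgroup (Perm α)) (hG : IsPreprimitive G α)
    {p : ℕ} (hp : p.Prime) (hpn : p + 3 ≤ Fintype.card α) {g : Perm α} (hgc : g.IsCycle)
    (hgp : g.support.card = p) (hg : g ∈ G) : alternatingGroup α ≤ G := by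
  classical
  by_cases hp3 : p = 3
  · exact Equiv.Perm.alternatingGroup_le_of_isPreprimitive_of_isThreeCycle_mem hG
      (card_support_eq_three_iff.1 (hp3 ▸ hgp)) hg
  have hfix : 3 ≤ (g.supportᶜ).card := by rw [Finset.card_compl, hgp]; omega
  obtain ⟨a, ha, b, hb, c, hc, hab, hac, hbc⟩ := Finset.two_lt_card.1 (show 2 < (g.supportᶜ).card by omega)
  simp only [Finset.mem_compl, Perm.notMem_support] at ha hb hc
  have hsw : ∀ u v, g u = u → g v = v → ∀ x, g x = x → g (Equiv.swap u v x) = Equiv.swap u v x := by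
    intro u v hu hv x hx
    rw [Equiv.swap_apply_def]
    split_ifs <;> assumption
  obtain ⟨A, hA, ⟨i, hi⟩, hAf⟩ := exists_lift G hG hp hpn hgc hgp hg _ (hsw a b ha hb)
  obtain ⟨B, hB, ⟨j, hj⟩, hBf⟩ := exists_lift G hG hp hpn hgc hgp hg _ (hsw a c ha hc)
  set C := (B * A)⁻¹ * (A * B) with hC
  have hCg : C * g * C⁻¹ = g := by
    have e1 : A * B * g * (A * B)⁻¹ = g ^ (i * j) := by
      rw [show A * B * g * (A * B)⁻¹ = A * (B * g * B⁻¹) * A⁻¹ by group, hj, ← MulAut.conj_apply,
        map_zpow, MulAut.conj_apply, hi, ← zpow_mul]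
    have e2 : B * A * g * (B * A)⁻¹ = g ^ (i * j) := by
      rw [show B * A * g * (B * A)⁻¹ = B * (A * g * A⁻¹) * B⁻¹ by group, hi, ← MulAut.conj_apply,
        map_zpow, MulAut.conj_apply, hj, ← zpow_mul, mul_comm]
    calc C * g * C⁻¹ = (B * A)⁻¹ * (A * B * g * (A * B)⁻¹) * (B * A) := by rw [hC]; group
      _ = (B * A)⁻¹ * (B * A * g * (B * A)⁻¹) * (B * A) := by rw [e1, e2]
      _ = g := by group
  have hcomm : Commute C g := mul_inv_eq_iff_eq_mul.1 hCg
  set t := Equiv.swap a b * Equiv.swap a c with ht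
  -- on the fixed points `C` acts as `t ^ 2`
  have hinv : ∀ (X : Perm α) (u v : α), g u = u → g v = v →
      (∀ x, g x = x → X x = Equiv.swap u v x) → ∀ x, g x = x → X⁻¹ x = Equiv.swap u v x := by
    intro X u v hu hv hX x hx
    rw [Perm.inv_eq_iff_eq, hX _ (hsw u v hu hv x hx), Equiv.swap_apply_self]
  have hCfix : ∀ x, g x = x → C x = (t ^ 2) x := by
    intro x hx
    have e1 := hsw a c ha hc x hx
    have e2 := hsw a b ha hb _ e1
    have e3 := hsw a c ha hc _ e2
    rw [hC, mul_inv_rev, Perm.mul_apply, Perm.mul_apply, Perm.mul_apply, hBf x hx, hAf _ e1,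
      hinv B a c ha hc hBf _ e2, hinv A a b ha hb hAf _ e3, pow_two, ht]
    rfl
  have htfix : ∀ x, g x ≠ x → t x = x := by
    intro x hx
    have hne : ∀ u, g u = u → x ≠ u := fun u hu e => hx (e ▸ hu)
    rw [ht, Perm.mul_apply, Equiv.swap_apply_of_ne_of_ne (hne a ha) (hne c hc),
      Equiv.swap_apply_of_ne_of_ne (hne a ha) (hne b hb)]
  have htpres : ∀ x, g x = x → g (t x) = t x := fun x hx => by
    rw [ht, Perm.mul_apply]; exact hsw a b ha hb _ (hsw a c ha hc x hx)
  have hCp : ∀ x, (C ^ p) x = ((t ^ 2) ^ p) x := by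
    intro x
    by_cases hx : g x = x
    · have : ∀ n : ℕ, (C ^ n) x = ((t ^ 2) ^ n) x ∧ g (((t ^ 2) ^ n) x) = ((t ^ 2) ^ n) x := by
        intro n
        induction n with
        | zero => exact ⟨rfl, hx⟩
        | succ n ih =>
          refine ⟨?_, ?_⟩
          · rw [pow_succ', Perm.mul_apply, ih.1, hCfix _ ih.2, pow_succ' (t ^ 2) n, Perm.mul_apply]
          · rw [pow_succ' (t ^ 2) n, Perm.mul_apply, pow_two, Perm.mul_apply]
            exact htpres _ (htpres _ ih.2)
      exact (this p).1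
    · have hCx : g (C x) ≠ C x := fun e => hx (by
        have h1 : g (C x) = C (g x) := (DFunLike.congr_fun hcomm.eq x).symm
        exact C.injective (h1.symm.trans e))
      obtain ⟨k, hk⟩ := hgc.sameCycle hx hCx
      have hall : ∀ y, g y ≠ y → C y = (g ^ k) y := by
        intro y hy
        obtain ⟨m, hm⟩ := hgc.sameCycle hx hy
        rw [← hm, ← Perm.mul_apply, (hcomm.zpow_right m).eq, Perm.mul_apply, ← hk,
          ← Perm.mul_apply, ← Perm.mul_apply, ← zpow_add, ← zpow_add, add_comm]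
      have hn : ∀ n : ℕ, (C ^ n) x = ((g ^ k) ^ n) x := by
        intro n
        induction n with
        | zero => rfl
        | succ n ih =>
          rw [pow_succ', Perm.mul_apply, ih, pow_succ' (g ^ k) n, Perm.mul_apply]
          refine hall _ ?_
          rw [← zpow_natCast, ← zpow_mul, ← Perm.mem_support, Perm.zpow_apply_mem_support,
            Perm.mem_support]
          exact hx
      rw [hn p, ← zpow_natCast, ← zpow_mul, mul_comm, zpow_mul, zpow_natCast]
      rw [show g ^ p = 1 by rw [← hgp, ← hgc.orderOf]; exact pow_orderOf_eq_one g, one_zpow]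
      have hn2 : ∀ n : ℕ, (t ^ n) x = x := by
        intro n
        induction n with
        | zero => rfl
        | succ n ih => rw [pow_succ', Perm.mul_apply, ih, htfix x hx]
      rw [← pow_mul, hn2]; rfl
  have ht3 : t.IsThreeCycle := Perm.isThreeCycle_swap_mul_swap_same hab hac hbc
  have hmem : t ^ (2 * p) ∈ G := by
    rw [pow_mul, ← Equiv.ext hCp]
    exact pow_mem (mul_mem (inv_mem (mul_mem hB hA)) (mul_mem hA hB)) p
  refine Equiv.Perm.alternatingGroup_le_of_isPreprimitive_of_isThreeCycle_mem hG ?_ hmem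
  have h6 : ¬ 3 ∣ 2 * p := fun h => by
    rcases Nat.prime_three.dvd_mul.1 h with h | h
    · norm_num at h
    · exact hp3 ((Nat.prime_dvd_prime_iff_eq Nat.prime_three hp).1 h).symm
  rw [pow_eq_pow_mod (2 * p) (by rw [← ht3.orderOf]; exact pow_orderOf_eq_one t : t ^ 3 = 1)]
  rcases (show 2 * p % 3 = 1 ∨ 2 * p % 3 = 2 by omega) with e | e <;> rw [e]
  · rwa [pow_one]
  · rw [pow_two]; exact ht3.isThreeCycle_sq

end CfsgLib.Perm.Jordan
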