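import Cfsg.Agent.Perm.ClassSize
import Cfsg.Agent.Perm.Basic
import Cfsg.Agent.Solv.Basic
import Cfsg.Agent.Solv.MinimalNormal
import Cfsg.Agent.Char.Burnside
import Cfsg.Agent.Blk.Criterion

/-!
Kazarin's theorem: an element with a conjugacy class of prime power size generates a soluble
normal subgroup.
-/

set_option autoImplicit false
set_option linter.style.haveILetI false
set_option linter.unusedSectionVars false

namespace CfsgLib.Perm.Kazarin

open Cfsg CfsgLib.Solv
open scoped ComplexConjugate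

universe u

variable {G : Type u} [Group G] [Finite G]

theorem isSolvable_sup {M N : Subgroup G} [N.Normal] (hM : Group.IsSolvable M)
    (hN : Group.IsSolvable N) : Group.IsSolvable ↥(M ⊔ N) := by
  haveI := hM
  haveI := hN
  have h : ∀ l : ↥(M ⊔ N), QuotientGroup.mk' N (l : G) ∈ M.map (QuotientGroup.mk' N) := fun l => by
    have h1 := Subgroup.mem_map_of_mem (QuotientGroup.mk' N) l.2
    rwa [Subgroup.map_sup, (Subgroup.map_eq_bot_iff N).2 (by rw [QuotientGroup.ker_mk']), sup_bot_eq]
      at h1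
  haveI : Group.IsSolvable (M.map (QuotientGroup.mk' N)) :=
    Group.isSolvable_of_surjective (f := (QuotientGroup.mk' N).subgroupMap M)
      (MonoidHom.subgroupMap_surjective _ _)
  refine Group.isSolvable_of_ker_le_range (Subgroup.inclusion (le_sup_right : N ≤ M ⊔ N))
    (((QuotientGroup.mk' N).comp (M ⊔ N).subtype).codRestrict (M.map (QuotientGroup.mk' N)) h) ?_
  intro l hl
  have h1 : (QuotientGroup.mk' N) (l : G) = 1 := congrArg Subtype.val (MonoidHom.mem_ker.1 hl)
  exact ⟨⟨l, (QuotientGroup.eq_one_iff _).1 h1⟩, rfl⟩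

/-- The soluble radical. -/
def rad (G : Type u) [Group G] : Subgroup G :=
  sSup {N : Subgroup G | N.Normal ∧ Group.IsSolvable N}

theorem rad_spec : (rad G).Normal ∧ Group.IsSolvable (rad G) :=
  normal_and_prop_sSup (fun N : Subgroup G => Group.IsSolvable N) inferInstance
    fun _ _ _ hN hM' hN' => haveI := hN; isSolvable_sup hM' hN'

theorem le_rad {N : Subgroup G} [hN : N.Normal] (h : Group.IsSolvable N) : N ≤ rad G :=
  le_sSup ⟨hN, h⟩

theorem rad_characteristic : (rad G).Characteristic := by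
  refine Subgroup.characteristic_iff_map_le.2 fun e => ?_
  refine map_sSup_normal_le (f := e.toMonoidHom) e.surjective fun N _ hN => ?_
  haveI := hN
  exact Group.isSolvable_of_surjective (f := e.toMonoidHom.subgroupMap N)
    (MonoidHom.subgroupMap_surjective _ _)

theorem normalClosure_le_rad {x : G} (h : x ∈ rad G) :
    Subgroup.normalClosure ({x} : Set G) ≤ rad G := by
  haveI := (rad_spec (G := G)).1
  exact Subgroup.normalClosure_le_normal (Set.singleton_subset_iff.2 h)

theorem isSolvable_normalClosure {x : G} (h : x ∈ rad G) :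
    Group.IsSolvable ↥(Subgroup.normalClosure ({x} : Set G)) := by
  haveI := (rad_spec (G := G)).2
  exact Group.isSolvable_of_isSolvable_injective
    (f := Subgroup.inclusion (normalClosure_le_rad h)) (Subgroup.inclusion_injective _)

/-- A normal soluble subgroup of a normal subgroup lies in the soluble radical. -/
theorem map_rad_le (N : Subgroup G) [N.Normal] : (rad N).map N.subtype ≤ rad G := by
  haveI := rad_characteristic (G := N)
  haveI := normal_map_subtype_of_characteristic (rad N)
  haveI := (rad_spec (G := N)).2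
  exact le_rad (Group.isSolvable_of_surjective (f := N.subtype.subgroupMap (rad N))
    (MonoidHom.subgroupMap_surjective _ _))

/-- A `p`-element whose class has `p`-power size has all its conjugates in one Sylow subgroup. -/
theorem normalClosure_le_sylow {p k : ℕ} [hp : Fact p.Prime] {x : G}
    (hx : ∃ a : ℕ, orderOf x = p ^ a)
    (hk : (Subgroup.centralizer ({x} : Set G)).index = p ^ k) :
    ∃ Q : Sylow p G, Subgroup.normalClosure ({x} : Set G) ≤ Q := by
  set C := Subgroup.centralizer ({x} : Set G)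
  have hxC : x ∈ C := Subgroup.mem_centralizer_singleton_iff.2 rfl
  obtain ⟨a, ha⟩ := hx
  have hX : IsPGroup p (Subgroup.zpowers (⟨x, hxC⟩ : C)) :=
    IsPGroup.of_card (n := a) (by rw [Nat.card_zpowers, ← Subgroup.orderOf_coe, ha])
  obtain ⟨P, hP⟩ := hX.exists_le_sylow
  obtain ⟨Q, hQ⟩ := (P.2.map C.subtype).exists_le_sylow
  refine ⟨Q, ?_⟩
  have hxQ : x ∈ (Q : Subgroup G) := hQ ⟨⟨x, hxC⟩, hP (Subgroup.mem_zpowers _), rfl⟩
  -- `Q` is transitive on the cosets of `C`
  have hdvd : p ^ k ∣ C.relIndex Q := by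
    have h1 : (P.map C.subtype).relIndex Q = C.relIndex Q * (P.map C.subtype).relIndex
        (C ⊓ (Q : Subgroup G)) := by
      rw [mul_comm, ← Subgroup.inf_relIndex_right C]
      exact (Subgroup.relIndex_mul_relIndex _ _ _
        (le_inf (Subgroup.map_subtype_le _) hQ) inf_le_right).symm
    have h2 : ((P : Subgroup C).map C.subtype).index = (P : Subgroup C).index * C.index :=
      Subgroup.index_map_subtype _
    have h3 : ((P : Subgroup C).map C.subtype).relIndex Q * (Q : Subgroup G).index =
        ((P : Subgroup C).map C.subtype).index := Subgroup.relIndex_mul_index hQ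
    rw [h2, hk] at h3
    have h4 : p ^ k ∣ ((P : Subgroup C).map C.subtype).relIndex Q :=
      ((hp.out.coprime_iff_not_dvd.2 Q.not_dvd_index).pow_left k).dvd_of_dvd_mul_right
        (h3 ▸ dvd_mul_left _ _)
    have h5 : ¬ p ∣ (P.map C.subtype).relIndex (C ⊓ (Q : Subgroup G)) := by
      intro h
      have h6 : (P.map C.subtype).relIndex (C ⊓ (Q : Subgroup G)) ∣
          (P.map C.subtype).relIndex C :=
        Dvd.intro _ (Subgroup.relIndex_mul_relIndex _ _ _
          (le_inf (Subgroup.map_subtype_le _) hQ) inf_le_left)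
      have h7 : (P.map C.subtype).relIndex C = (P : Subgroup C).index := by
        rw [Subgroup.relIndex, Subgroup.subgroupOf,
          Subgroup.comap_map_eq_self_of_injective C.subtype_injective]
      exact P.not_dvd_index (h.trans (h7 ▸ h6))
    exact ((hp.out.coprime_iff_not_dvd.2 h5).pow_left k).dvd_of_dvd_mul_right (h1 ▸ h4)
  refine Subgroup.closure_le _ |>.2 ?_
  intro y hy
  obtain ⟨x', hx', hxy⟩ := Group.mem_conjugatesOfSet_iff.1 hy
  rw [Set.mem_singleton_iff.1 hx'] at hxy
  obtain ⟨g, rfl⟩ := isConj_iff.1 hxy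
  -- the coset of `g` is met by `Q`
  let f : (Q : Subgroup G) ⧸ C.subgroupOf (Q : Subgroup G) → G ⧸ C :=
    Quotient.lift (fun q => (QuotientGroup.mk (q : G) : G ⧸ C)) fun a b hab => by
      rw [QuotientGroup.eq]
      have h := QuotientGroup.leftRel_apply.1 hab
      exact Subgroup.mem_subgroupOf.1 h
  have hf : Function.Injective f := by
    intro a b
    obtain ⟨a, rfl⟩ := QuotientGroup.mk_surjective a
    obtain ⟨b, rfl⟩ := QuotientGroup.mk_surjective b
    intro h
    refine QuotientGroup.eq.2 (Subgroup.mem_subgroupOf.2 ?_)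
    exact QuotientGroup.eq.1 h
  have hsurj : Function.Surjective f := by
    refine ((Nat.bijective_iff_injective_and_card f).2 ⟨hf, ?_⟩).2
    refine le_antisymm (Nat.card_le_card_of_injective f hf) ?_
    exact (le_of_eq hk).trans (Nat.le_of_dvd (Nat.pos_of_ne_zero Subgroup.index_ne_zero_of_finite) hdvd)
  obtain ⟨q, hq⟩ := hsurj (QuotientGroup.mk g)
  obtain ⟨q, rfl⟩ := QuotientGroup.mk_surjective q
  have hc : (q : G)⁻¹ * g ∈ C := QuotientGroup.eq.1 hq
  rw [Subgroup.mem_centralizer_singleton_iff] at hc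
  have : g * x * g⁻¹ = (q : G) * x * (q : G)⁻¹ := by
    calc g * x * g⁻¹ = (q : G) * ((q : G)⁻¹ * g * x) * g⁻¹ := by group
      _ = (q : G) * (x * ((q : G)⁻¹ * g)) * g⁻¹ := by rw [hc]
      _ = (q : G) * x * (q : G)⁻¹ := by group
  rw [this]
  exact mul_mem (mul_mem q.2 hxQ) (inv_mem q.2)

section Blocks

open CfsgLib.Blk CfsgLib.Char

theorem memLocalIdeal_of_sameBlock_one {M : Ideal AlgInt} [M.IsPrime] {χ : G → ℂ}
    (h : SameBlock M (fun _ : G => (1 : ℂ)) χ) (g : G) :
    MemLocalIdeal M (centralChar χ g - ((Subgroup.centralizer ({g} : Set G)).index : ℂ)) := by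
  have h1 := sameBlock_symm h g
  simpa [centralChar] using h1

/-- Linear characters lying in the principal block. -/
def linearBlock (M : Ideal AlgInt) [M.IsPrime] (G : Type u) [Group G] [Finite G] :
    Submonoid (G →* ℂˣ) where
  carrier := {μ | ∀ g : G, MemLocalIdeal M
    (((Subgroup.centralizer ({g} : Set G)).index : ℂ) * ((μ g : ℂ) - 1))}
  one_mem' g := by simpa using memLocalIdeal_zero
  mul_mem' {μ ν} hμ hν g := by
    have hν' : (ν g : ℂ) * (((Subgroup.centralizer ({g} : Set G)).index : ℂ) * ((μ g : ℂ) - 1)) +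
        ((Subgroup.centralizer ({g} : Set G)).index : ℂ) * ((ν g : ℂ) - 1) =
        ((Subgroup.centralizer ({g} : Set G)).index : ℂ) * (((μ * ν) g : ℂ) - 1) := by
      simp only [MonoidHom.mul_apply, Units.val_mul]
      ring
    rw [← hν']
    refine memLocalIdeal_add (memLocalIdeal_mul_left (char_mem (isCharacter_linear ν) g) (hμ g))
      (hν g)

theorem false_of_quotient_prime {p r k : ℕ} (hp : p.Prime) (hr : r.Prime) (hrp : r ≠ p)
    (N : Subgroup G) [N.Normal] (hmin : ∀ K : Subgroup G, K.Normal → K ≤ N → K = ⊥ ∨ K = N)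
    (hCN : Subgroup.centralizer (N : Set G) = ⊥) (x : G) (hx : x ≠ 1) (hxr : orderOf x = r)
    (htop : N ⊔ Subgroup.zpowers x = ⊤) (hk : (Subgroup.centralizer ({x} : Set G)).index = p ^ k)
    {q : ℕ} (hq : q.Prime) (hqp : q ≠ p) (hqN : q ∣ Nat.card N) : False := by
  classical
  haveI := Fintype.ofFinite G
  haveI : Fact q.Prime := ⟨hq⟩
  obtain ⟨M, hM⟩ := exists_isPModular hq
  haveI : M.IsPrime := hM.2.1.isPrime
  obtain ⟨y, hy⟩ := exists_prime_orderOf_dvd_card' (G := N) q hqN
  have hy1 : (y : G) ≠ 1 := fun e => hq.ne_one (hy ▸ orderOf_eq_one_iff.2 (Subtype.ext e))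
  set B := principalBlock M G with hBdef
  have hB : IsPBlock M B := isPBlock_principalBlock
  have hgen : ∀ g : G, ∃ n ∈ N, ∃ i : ℤ, g = n * x ^ i := by
    intro g
    obtain ⟨n, hn, z, hz, rfl⟩ := Subgroup.mem_sup_of_normal_left.1 (htop.ge (Subgroup.mem_top g))
    obtain ⟨i, rfl⟩ := Subgroup.mem_zpowers_iff.1 hz
    exact ⟨n, hn, i, rfl⟩
  -- characters of degree prime to `p` are linear and trivial on `N`
  have hlin : ∀ χ ∈ B, ¬ p ∣ charDegree ((χ : IrrCharacter G) : G → ℂ) →
      ∃ μ : G →* ℂˣ, (χ : G → ℂ) = (fun g => (μ g : ℂ)) ∧ ∀ n ∈ N, μ n = 1 := by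
    intro χ hχ hd
    have hne : (χ : G → ℂ) x ≠ 0 := by
      intro h0
      have h1 := memLocalIdeal_of_sameBlock_one (M := M) hχ x
      rw [centralChar, h0, mul_zero, zero_div, zero_sub, hk] at h1
      have h2 := memLocalIdeal_neg h1
      rw [neg_neg, natCast_memLocalIdeal_iff hM] at h2
      exact hqp ((Nat.prime_dvd_prime_iff_eq hq hp).1 (hq.dvd_of_dvd_pow h2))
    have hnorm := (burnside_zero_or_norm χ.2 x (by
      rw [hk]; exact Nat.Coprime.pow_right _ ((hp.coprime_iff_not_dvd.2 hd).symm))).resolve_left hne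
    obtain ⟨n, ρ, hirr, hρ⟩ := χ.2
    rw [← hρ, charDegree_eq (n := Module.finrank ℂ (Fin n → ℂ)) (Representation.char_one ρ)]
      at hnorm
    obtain ⟨w, hw⟩ := rep_scalar_of_norm ρ x hnorm
    let f : G →* (Module.End ℂ (Fin n → ℂ))ˣ := ρ.toHomUnits
    have hval : ∀ g, (f g : Module.End ℂ (Fin n → ℂ)) = ρ g := fun g => rfl
    have hker : N ≤ f.ker := by
      rcases hmin (f.ker ⊓ N) inferInstance inf_le_right with h | h
      · exfalso
        refine hx (Subgroup.mem_bot.1 (hCN.le (Subgroup.mem_centralizer_iff.2 fun m hm => ?_)))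
        have h1 : m * x * m⁻¹ * x⁻¹ ∈ f.ker := by
          rw [MonoidHom.mem_ker]
          have hcomm : ρ m * ρ x = ρ x * ρ m := by
            rw [hw, ← Module.End.one_eq_id, mul_smul_comm, mul_one, smul_mul_assoc, one_mul]
          refine Units.ext ?_
          rw [hval, map_mul, map_mul, map_mul, hcomm, ← map_mul, ← map_mul, ← map_mul,
            mul_inv_cancel_right, mul_inv_cancel, map_one, Units.val_one]
        have h2 : m * x * m⁻¹ * x⁻¹ ∈ N := by
          rw [mul_assoc, mul_assoc]
          exact N.mul_mem hm (by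
            rw [← mul_assoc]
            exact (inferInstance : N.Normal).conj_mem _ (N.inv_mem hm) x)
        have h3 := Subgroup.mem_bot.1 (h.le ⟨h1, h2⟩)
        rw [mul_inv_eq_one, mul_inv_eq_iff_eq_mul] at h3
        exact h3
      · exact inf_eq_right.1 h
    have hscal : ∀ g, ∃ c : ℂ, ρ g = c • (LinearMap.id : (Fin n → ℂ) →ₗ[ℂ] _) := by
      intro g
      obtain ⟨m, hm, i, rfl⟩ := hgen g
      have hm1 : ρ m = 1 := by rw [← hval, hker hm]; rfl
      obtain ⟨j, hj⟩ : ∃ j : ℕ, x ^ i = x ^ j := by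
        have hmem : x ^ i ∈ Submonoid.powers x :=
          mem_powers_iff_mem_zpowers.2 ⟨i, rfl⟩
        obtain ⟨j, hj⟩ := hmem
        exact ⟨j, hj.symm⟩
      refine ⟨w ^ j, ?_⟩
      rw [map_mul, hm1, one_mul, hj, map_pow, hw, ← Module.End.one_eq_id, smul_pow, one_pow]
    have hd1 : n = 1 := by
      have hnorm1 : ∀ g, ρ.character g * conj (ρ.character g) = (n : ℂ) * n := by
        intro g
        obtain ⟨c, hc⟩ := hscal g
        have h1 : ρ.character g = c * n := by
          rw [Representation.character, hc]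
          simp
        have h2 : ‖c‖ = 1 := by
          rcases Nat.eq_zero_or_pos n with h0 | h0
          · subst h0
            exact absurd (by simp [← hρ]) (irr_one_ne_zero χ.2)
          obtain ⟨b, ζ, hζ, hb⟩ := exists_eigenbasis ρ g
          have hfr : 0 < Module.finrank ℂ (Fin n → ℂ) := by simpa using h0
          have h3 := hb ⟨0, hfr⟩
          rw [hc] at h3
          have h4 : c = ζ ⟨0, hfr⟩ := by
            have h5 := congrArg (fun v => b.repr v ⟨0, hfr⟩) h3
            simpa using h5
          rw [h4]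
          exact norm_root (orderOf_pos g).ne' (hζ _)
        rw [h1, map_mul, map_natCast, mul_mul_mul_comm, Complex.mul_conj', h2]
        simp
      have h1 := irr_inner_self χ.2
      rw [← hρ, classInner_def, Finset.sum_congr rfl fun g _ => hnorm1 g, Finset.sum_const,
        Finset.card_univ, nsmul_eq_mul, ← Nat.card_eq_fintype_card,
        inv_mul_cancel_left₀ (natCard_ne_zero G)] at h1
      exact Nat.eq_one_of_mul_eq_one_right (by exact_mod_cast h1 : n * n = 1)
    have hdeg : (χ : G → ℂ) 1 = 1 := by rw [← hρ, Representation.char_one]; simp [hd1]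
    obtain ⟨μ, hμ⟩ := exists_hom_of_degree_one (isCharacter_of_isIrr χ.2) hdeg
    refine ⟨μ, hμ, fun m hm => Units.ext ?_⟩
    have hm1 : ρ m = 1 := by rw [← hval, hker hm]; rfl
    have := congrFun hμ m
    rw [← hρ, Representation.character, hm1] at this
    rw [← this]
    simp [hd1]
  -- the orthogonality relation
  let L : Finset (IrrCharacter G) :=
    Finset.univ.filter fun χ => χ ∈ B ∧ ¬ p ∣ charDegree (χ : G → ℂ)
  have hyp : ¬ IsConj (y : G) 1 := fun h => hy1 (isConj_one_right.1 h.symm)
  have horth := block_orth hM hB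
    (a := (y : G)) (b := (1 : G)) (x := (y : G)) (y := (1 : G))
    ⟨1, mul_one _, Commute.one_right _, ⟨1, by rw [Subgroup.orderOf_coe, hy, pow_one]⟩,
      by rw [orderOf_one]; exact hq.not_dvd_one⟩
    ⟨1, mul_one _, Commute.one_right _, ⟨0, by rw [orderOf_one, pow_zero]⟩,
      by rw [orderOf_one]; exact hq.not_dvd_one⟩ hyp
  have hpdvd : p ∣ L.card := by
    refine dvd_of_isIntegral_div hp.ne_zero ?_
    have hsplit : ((L.card : ℂ)) / (p : ℂ) = -∑ χ ∈ Finset.univ.filter
        (fun χ : IrrCharacter G => χ ∈ B ∧ p ∣ charDegree (χ : G → ℂ)),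
        (χ : G → ℂ) y * ((charDegree (χ : G → ℂ) / p : ℕ) : ℂ) := by
      have hp0 : (p : ℂ) ≠ 0 := by exact_mod_cast hp.ne_zero
      rw [finsum_mem_eq_sum_ite, ← Finset.sum_filter,
        ← Finset.sum_filter_add_sum_filter_not _
          (fun χ : IrrCharacter G => p ∣ charDegree (χ : G → ℂ)), Finset.filter_filter,
        Finset.filter_filter] at horth
      have h1 : ∑ χ ∈ L, (χ : G → ℂ) y * conj ((χ : G → ℂ) 1) = (L.card : ℂ) := by
        rw [Finset.sum_congr rfl (g := fun _ => (1 : ℂ)) fun χ hχ => ?_, Finset.sum_const,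
          nsmul_eq_mul, mul_one]
        obtain ⟨μ, hμ, hμN⟩ := hlin χ (Finset.mem_filter.1 hχ).2.1 (Finset.mem_filter.1 hχ).2.2
        simp [hμ, hμN _ y.2]
      have h2 : ∑ χ ∈ Finset.univ.filter
          (fun χ : IrrCharacter G => χ ∈ B ∧ p ∣ charDegree (χ : G → ℂ)),
          (χ : G → ℂ) y * conj ((χ : G → ℂ) 1) = (p : ℂ) * ∑ χ ∈ Finset.univ.filter
          (fun χ : IrrCharacter G => χ ∈ B ∧ p ∣ charDegree (χ : G → ℂ)),
            (χ : G → ℂ) y * ((charDegree (χ : G → ℂ) / p : ℕ) : ℂ) := by
        rw [Finset.mul_sum]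
        refine Finset.sum_congr rfl fun χ hχ => ?_
        obtain ⟨t, ht⟩ := (Finset.mem_filter.1 hχ).2.2
        rw [irr_one_eq χ.2, map_natCast, ht, Nat.mul_div_cancel_left _ hp.pos]
        push_cast
        ring
      rw [h1, h2] at horth
      field_simp
      linear_combination horth
    rw [hsplit]
    exact (IsIntegral.sum _ fun χ _ => (char_isIntegral (isCharacter_of_isIrr χ.2) _).mul
      (CfsgLib.Char.isIntegral_natCast _)).neg
  -- the linear characters in the principal block form a group of order dividing `r`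
  have hxpow : ∀ μ : G →* ℂˣ, μ x ∈ rootsOfUnity r ℂ := fun μ => by
    rw [mem_rootsOfUnity, ← map_pow, ← hxr, pow_orderOf_eq_one, map_one]
  haveI : NeZero r := ⟨hr.ne_zero⟩
  let T : Submonoid (rootsOfUnity r ℂ) :=
    { carrier := {ζ | ∃ μ ∈ linearBlock M G, (∀ m ∈ N, μ m = 1) ∧ μ x = ζ.1}
      one_mem' := ⟨1, one_mem _, fun _ _ => rfl, rfl⟩
      mul_mem' := fun {a b} ⟨μ, h1, h2, h3⟩ ⟨ν, h4, h5, h6⟩ =>
        ⟨μ * ν, mul_mem h1 h4, fun m hm => by simp [h2 m hm, h5 m hm],
          by simp [h3, h6]⟩ }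
  have hTinv : ∀ {a : rootsOfUnity r ℂ}, a ∈ T → a⁻¹ ∈ T := fun {a} ha =>
    Submonoid.powers_le.2 ha (mem_powers_iff_mem_zpowers.2 ⟨-1, zpow_neg_one a⟩)
  let T' : Subgroup (rootsOfUnity r ℂ) := { T with inv_mem' := hTinv }
  have hT : Nat.card T' ∣ r := by
    have := Subgroup.card_subgroup_dvd_card T'
    rwa [Complex.card_rootsOfUnity] at this
  have heq : L.card = Nat.card T' := by
    rw [← Nat.card_eq_finsetCard]
    refine Nat.card_congr (Equiv.ofBijective (fun χ => ⟨⟨(hlin χ.1 (Finset.mem_filter.1 χ.2).2.1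
      (Finset.mem_filter.1 χ.2).2.2).choose x, hxpow _⟩, ?_⟩) ⟨?_, ?_⟩)
    · obtain ⟨h1, h2⟩ := (hlin χ.1 (Finset.mem_filter.1 χ.2).2.1
        (Finset.mem_filter.1 χ.2).2.2).choose_spec
      refine ⟨_, fun g => ?_, h2, rfl⟩
      have h3 := memLocalIdeal_of_sameBlock_one (M := M) (Finset.mem_filter.1 χ.2).2.1 g
      rw [h1] at h3
      simp only [centralChar, map_one, Units.val_one, div_one] at h3
      rwa [mul_sub, mul_one]
    · rintro ⟨χ, hχ⟩ ⟨ψ, hψ⟩ h
      have he := congrArg (fun z : T' => (z.1.1 : ℂˣ)) h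
      simp only at he
      obtain ⟨h1, h2⟩ := (hlin χ (Finset.mem_filter.1 hχ).2.1
        (Finset.mem_filter.1 hχ).2.2).choose_spec
      obtain ⟨h3, h4⟩ := (hlin ψ (Finset.mem_filter.1 hψ).2.1
        (Finset.mem_filter.1 hψ).2.2).choose_spec
      refine Subtype.ext (Subtype.ext ?_)
      rw [h1, h3]
      funext g
      obtain ⟨m, hm, i, rfl⟩ := hgen g
      simp only [map_mul, map_zpow, h2 m hm, h4 m hm, he]
    · rintro ⟨ζ, μ, hμ, hμN, hμx⟩
      let χ : IrrCharacter G := ⟨_, isIrr_linear μ⟩
      have hχB : χ ∈ B := by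
        refine sameBlock_symm fun g => ?_
        have h3 := hμ g
        simpa [χ, centralChar, mul_sub] using h3
      have hχd : ¬ p ∣ charDegree (χ : G → ℂ) := by
        rw [charDegree_eq (n := 1) (by simp [χ])]
        exact hp.not_dvd_one
      refine ⟨⟨χ, Finset.mem_filter.2 ⟨Finset.mem_univ _, hχB, hχd⟩⟩, ?_⟩
      obtain ⟨h1, h2⟩ := (hlin χ hχB hχd).choose_spec
      refine Subtype.ext (Subtype.ext (Units.ext ?_))
      rw [← hμx]
      exact (congrFun h1 x).symm
  exact hrp ((Nat.prime_dvd_prime_iff_eq hp hr).1 (hpdvd.trans (heq ▸ hT))).symm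

end Blocks

theorem mem_rad_aux {p : ℕ} (hp : p.Prime) : ∀ n : ℕ, ∀ (G : Type u) [Group G] [Finite G],
    Nat.card G = n → ∀ (x : G) (k : ℕ), (Subgroup.centralizer ({x} : Set G)).index = p ^ k →
      x ∈ rad G := by
  intro n
  induction n using Nat.strong_induction_on with
  | _ n ih =>
    intro G _ _ hn x k hk
    haveI : Fact p.Prime := ⟨hp⟩
    have pow_of_dvd : ∀ {m : ℕ}, m ∣ p ^ k → ∃ j, m = p ^ j := fun h => by
      obtain ⟨j, -, hj⟩ := (Nat.dvd_prime_pow hp).1 h
      exact ⟨j, hj⟩
    by_cases hM : Subgroup.normalClosure ({x} : Set G) = ⊤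
    swap
    · -- all conjugates lie in the radical of the normal closure
      set M := Subgroup.normalClosure ({x} : Set G) with hMdef
      have hxM : x ∈ M := Subgroup.subset_normalClosure rfl
      have he : Subgroup.centralizer ({(⟨x, hxM⟩ : M)} : Set M) =
          (Subgroup.centralizer ({x} : Set G)).subgroupOf M := by
        ext y
        simp [Subgroup.mem_subgroupOf, Subgroup.mem_centralizer_singleton_iff, Subtype.ext_iff]
      obtain ⟨j, hj⟩ := pow_of_dvd (m := (Subgroup.centralizer ({(⟨x, hxM⟩ : M)} : Set M)).index)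
        (by
          rw [he, ← hk]
          exact (dvd_of_eq (relIndex_sup_eq_of_normal _ M).symm).trans
            (Dvd.intro _ (Subgroup.relIndex_mul_index le_sup_left)))
      exact map_rad_le M ⟨_, ih _ (hn ▸ card_lt_of_ne_top hM) M rfl ⟨x, hxM⟩ j hj, rfl⟩
    by_contra hxR
    have hns : ¬ Group.IsSolvable G := fun h => hxR (le_rad (N := ⊤) inferInstance trivial)
    have hx1 : x ≠ 1 := fun e => hxR (e ▸ one_mem _)
    haveI : Nontrivial G := ⟨⟨x, 1, hx1⟩⟩
    -- quotients by non-trivial normal subgroups are soluble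
    have hquot : ∀ (N : Subgroup G) [N.Normal], N ≠ ⊥ → Group.IsSolvable (G ⧸ N) := by
      intro N _ hN
      have h1 : (Subgroup.centralizer ({x} : Set G)).map (QuotientGroup.mk' N) ≤
          Subgroup.centralizer ({(x : G ⧸ N)} : Set (G ⧸ N)) := by
        rintro _ ⟨z, hz, rfl⟩
        exact Subgroup.mem_centralizer_singleton_iff.2
          (congrArg (QuotientGroup.mk' N) (Subgroup.mem_centralizer_singleton_iff.1 hz))
      obtain ⟨j, hj⟩ := pow_of_dvd ((Subgroup.index_dvd_of_le h1).trans
        (hk ▸ Subgroup.index_map_dvd _ (QuotientGroup.mk'_surjective N)))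
      have h2 := ih _ (hn ▸ card_quotient_lt hN) (G ⧸ N) rfl _ j hj
      haveI := (rad_spec (G := G ⧸ N)).1
      haveI := (rad_spec (G := G ⧸ N)).2
      have h3 : rad (G ⧸ N) = ⊤ := by
        rw [eq_top_iff, ← Subgroup.map_top_of_surjective _ (QuotientGroup.mk'_surjective N), ← hM,
          Subgroup.map_le_iff_le_comap]
        exact Subgroup.normalClosure_le_normal (Set.singleton_subset_iff.2 h2)
      exact Group.isSolvable_of_surjective (f := (rad (G ⧸ N)).subtype)
        fun y => ⟨⟨y, h3 ▸ Subgroup.mem_top y⟩, rfl⟩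
    have hnsol : ∀ (N : Subgroup G) [N.Normal], N ≠ ⊥ → ¬ Group.IsSolvable N := by
      intro N _ hN h
      haveI := hquot N hN
      exact hns (Group.isSolvable_of_ker_le_range N.subtype (QuotientGroup.mk' N) (by simp))
    obtain ⟨N, hN⟩ := exists_isMinimalNormal (G := G)
    obtain ⟨hNn, hN1, hmin⟩ := hN
    have hCN : Subgroup.centralizer (N : Set G) = ⊥ := by
      by_contra h
      set C := Subgroup.centralizer (N : Set G)
      rcases hmin (C ⊓ N) inferInstance inf_le_right with h' | h'
      · haveI := hquot C h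
        refine hnsol N hN1 (Group.isSolvable_of_isSolvable_injective
          (f := (QuotientGroup.mk' C).comp N.subtype) ?_)
        rw [← MonoidHom.ker_eq_bot_iff, eq_bot_iff]
        intro m hm
        rw [Subgroup.mem_bot]
        exact Subtype.ext (Subgroup.mem_bot.1 (h'.le
          ⟨(QuotientGroup.eq_one_iff _).1 hm, m.2⟩))
      · refine hnsol N hN1 (Group.isSolvable_of_comm fun a b => Subtype.ext ?_)
        exact (Subgroup.mem_centralizer_iff.1 (inf_eq_right.1 h' b.2) a a.2)
    -- replace `x` by an element of prime order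
    obtain ⟨r, hr, hrx⟩ := Nat.exists_prime_and_dvd (n := orderOf x)
      (fun h => hx1 (orderOf_eq_one_iff.1 h))
    set z := x ^ (orderOf x / r) with hz
    have hzr : orderOf z = r := orderOf_pow_orderOf_div (orderOf_pos x).ne' hrx
    have hz1 : z ≠ 1 := fun e => hr.ne_one (by rw [← hzr, e, orderOf_one])
    obtain ⟨j, hj⟩ := pow_of_dvd (m := (Subgroup.centralizer ({z} : Set G)).index) (hk ▸
      Subgroup.index_dvd_of_le (fun c hc => Subgroup.mem_centralizer_singleton_iff.2
        ((Commute.pow_right (Subgroup.mem_centralizer_singleton_iff.1 hc : Commute c x) _).eq)))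
    have htop : N ⊔ Subgroup.zpowers z = ⊤ := by
      by_contra hH
      set H := N ⊔ Subgroup.zpowers z with hHdef
      have hzH : z ∈ H := Subgroup.mem_sup_right (Subgroup.mem_zpowers z)
      set C := Subgroup.centralizer ({z} : Set G)
      have he : Subgroup.centralizer ({(⟨z, hzH⟩ : H)} : Set H) = C.subgroupOf H := by
        ext y
        simp [C, Subgroup.mem_subgroupOf, Subgroup.mem_centralizer_singleton_iff, Subtype.ext_iff]
      have hsup : (C ⊓ H) ⊔ N = H := by
        refine le_antisymm (sup_le inf_le_right le_sup_left) (sup_le le_sup_right ?_)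
        exact le_sup_of_le_left (le_inf (Subgroup.zpowers_le.2
          (Subgroup.mem_centralizer_singleton_iff.2 rfl)) le_sup_right)
      obtain ⟨i, hi⟩ : ∃ i, (Subgroup.centralizer ({(⟨z, hzH⟩ : H)} : Set H)).index = p ^ i := by
        obtain ⟨i, -, hi⟩ := (Nat.dvd_prime_pow hp).1 (show
          (Subgroup.centralizer ({(⟨z, hzH⟩ : H)} : Set H)).index ∣ p ^ j by
          rw [he, ← hj]
          show C.relIndex H ∣ C.index
          rw [← Subgroup.inf_relIndex_right]
          conv_lhs => arg 2; rw [← hsup]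
          rw [relIndex_sup_eq_of_normal]
          refine (dvd_of_eq ?_).trans ((dvd_of_eq (relIndex_sup_eq_of_normal C N).symm).trans
            (Dvd.intro _ (Subgroup.relIndex_mul_index le_sup_left)))
          rw [← Subgroup.inf_relIndex_right C N, ← Subgroup.inf_relIndex_right (C ⊓ H) N, inf_assoc,
            inf_eq_right.2 (le_sup_left : N ≤ H)])
        exact ⟨i, hi⟩
      have hzR := ih _ (hn ▸ card_lt_of_ne_top hH) H rfl ⟨z, hzH⟩ i hi
      haveI := (rad_spec (G := H)).1
      haveI := (rad_spec (G := H)).2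
      set R := (rad H).map H.subtype
      -- `R ⊓ N` is a soluble normal subgroup of `N`
      have hRN : R ⊓ N = ⊥ := by
        have h1 : ((R ⊓ N).subgroupOf N).Normal := ⟨fun a ha g => by
          obtain ⟨⟨b, hb, hab⟩, haN⟩ := (Subgroup.mem_subgroupOf.1 ha : (a : G) ∈ R ⊓ N)
          refine Subgroup.mem_subgroupOf.2 ⟨?_, (g * a * g⁻¹).2⟩
          refine ⟨_, (inferInstance : (rad H).Normal).conj_mem b hb
            ⟨g, Subgroup.mem_sup_left g.2⟩, ?_⟩
          simp [← hab]⟩
        haveI : Group.IsSolvable R := Group.isSolvable_of_surjective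
          (f := H.subtype.subgroupMap (rad H)) (MonoidHom.subgroupMap_surjective _ _)
        have h2 : Group.IsSolvable ((R ⊓ N).subgroupOf N) :=
          Group.isSolvable_of_isSolvable_injective
            (f := (Subgroup.inclusion (inf_le_left : R ⊓ N ≤ R)).comp
              (Subgroup.subgroupOfEquivOfLe (inf_le_right : R ⊓ N ≤ N)).toMonoidHom)
            (fun a b h => Subtype.ext (Subtype.ext (congrArg (fun t : R => (t : G)) h)))
        have h3 := le_rad h2
        rcases hmin ((rad N).map N.subtype)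
            (by haveI := rad_characteristic (G := N)
                exact normal_map_subtype_of_characteristic _) (Subgroup.map_subtype_le _) with h | h
        · rw [eq_bot_iff, ← h]
          intro a ha
          exact ⟨⟨a, ha.2⟩, h3 (Subgroup.mem_subgroupOf.2 ha), rfl⟩
        · exfalso
          haveI := (rad_spec (G := N)).2
          refine hnsol N hN1 (Group.isSolvable_of_surjective (f := (rad N).subtype) fun a => ?_)
          have ha := h.ge a.2
          obtain ⟨b, hb, hba⟩ := ha
          exact ⟨⟨b, hb⟩, Subtype.ext hba⟩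
      refine hz1 (Subgroup.mem_bot.1 (hCN.le (Subgroup.mem_centralizer_iff.2 fun m hm => ?_)))
      have h1 : m * z * m⁻¹ * z⁻¹ ∈ R := by
        refine R.mul_mem ?_ (R.inv_mem ⟨_, hzR, rfl⟩)
        exact ⟨_, (inferInstance : (rad H).Normal).conj_mem _ hzR
          ⟨m, Subgroup.mem_sup_left hm⟩, rfl⟩
      have h2 : m * z * m⁻¹ * z⁻¹ ∈ N := by
        rw [mul_assoc, mul_assoc]
        exact N.mul_mem hm (by
          rw [← mul_assoc]
          exact hNn.conj_mem _ (N.inv_mem hm) z)
      have h3 := Subgroup.mem_bot.1 (hRN.le ⟨h1, h2⟩)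
      rw [mul_inv_eq_one, mul_inv_eq_iff_eq_mul] at h3
      exact h3
    by_cases hzN : z ∈ N
    · -- `G` is simple
      have hNtop : N = ⊤ := by
        rw [eq_top_iff, ← htop]
        exact sup_le le_rfl (Subgroup.zpowers_le.2 hzN)
      haveI : IsSimpleGroup G :=
        { eq_bot_or_eq_top_of_normal := fun K hK => hNtop ▸ hmin K hK (hNtop ▸ le_top) }
      haveI : Fact (Nat.card G).Prime :=
        ⟨CfsgLib.Char.prime_card_of_class_prime_pow p j hp z hz1 hj⟩
      haveI := isCyclic_of_prime_card (α := G) (p := Nat.card G) rfl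
      exact hns (Group.isSolvable_of_comm fun a b => IsCyclic.commGroup.mul_comm a b)
    rcases eq_or_ne r p with hrp | hrp
    · obtain ⟨Q, hQ⟩ := normalClosure_le_sylow (p := p) (x := z) ⟨1, by rw [hzr, hrp, pow_one]⟩ hj
      have h1 : Subgroup.normalClosure ({z} : Set G) ≠ ⊥ := fun h =>
        hz1 (Subgroup.mem_bot.1 (h.le (Subgroup.subset_normalClosure rfl)))
      haveI := (Q.2.to_le hQ).isNilpotent
      exact hnsol _ h1 inferInstance
    · obtain ⟨q, hq, hqp, hqN⟩ : ∃ q : ℕ, q.Prime ∧ q ≠ p ∧ q ∣ Nat.card N := by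
        by_contra h
        push Not at h
        have hNp : IsPGroup p N := IsPGroup.of_card (n := (Nat.card N).primeFactorsList.length)
          (Nat.eq_prime_pow_of_unique_prime_dvd Nat.card_pos.ne' fun {d} hd hdd => by
            by_contra hne
            exact h d hd hne hdd)
        haveI := hNp.isNilpotent
        exact hnsol N hN1 inferInstance
      exact false_of_quotient_prime hp hr hrp N hmin hCN z hz1 hzr htop hj hq hqp hqN

/-- Kazarin's theorem. -/
theorem isSolvable_normalClosure_of_class_pow {p k : ℕ} (hp : p.Prime) {x : G}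
    (hk : (Subgroup.centralizer ({x} : Set G)).index = p ^ k) :
    Group.IsSolvable ↥(Subgroup.normalClosure ({x} : Set G)) :=
  isSolvable_normalClosure (mem_rad_aux hp _ G rfl x k hk)

end CfsgLib.Perm.Kazarin
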