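import Cfsg.Agent.Perm.LengthCases
import Cfsg.Agent.Solv.MinimalNormal
import Cfsg.Agent.S0721

/-!
The composition length of a permutation group of degree n with r orbits is at most 4(n-r)/3.
-/

set_option autoImplicit false

namespace CfsgLib.Perm.LengthBound

open CfsgLib.Perm.SubnormalLength
open CfsgLib.Perm.LengthCases
open scoped Pointwise

/-- The number of orbits. -/
noncomputable def orbs (G Ω : Type*) [Group G] [MulAction G Ω] : ℕ :=
  Nat.card (Quotient (MulAction.orbitRel G Ω))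

/-- The bound in degree `n`. -/
def Good (n : ℕ) : Prop :=
  ∀ (Ω : Type) [Fintype Ω], Fintype.card Ω = n → ∀ G : Subgroup (Equiv.Perm Ω),
    LenLe G (4 * (n - orbs G Ω) / 3)

variable {G Ω : Type*} [Group G] [Finite G] [MulAction G Ω] [Finite Ω]

theorem le_orbs {B : Type*} (f : Ω → B) (hf : Function.Surjective f)
    (hinv : ∀ (g : G) (ω : Ω), f (g • ω) = f ω) : Nat.card B ≤ orbs G Ω := by
  refine Nat.card_le_card_of_surjective (Quotient.lift f fun x y hxy => ?_) fun b => ?_
  · obtain ⟨g, rfl⟩ : x ∈ MulAction.orbit G y := MulAction.orbitRel_apply.1 hxy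
    exact hinv g y
  · obtain ⟨ω, rfl⟩ := hf b
    exact ⟨Quotient.mk _ ω, rfl⟩

theorem orbs_pos [Nonempty Ω] : 1 ≤ orbs G Ω := by
  have h := le_orbs (G := G) (fun _ : Ω => ()) (fun _ => ⟨Classical.arbitrary Ω, rfl⟩) fun _ _ => rfl
  simpa using h

theorem of_good [FaithfulSMul G Ω] (h : Good (Nat.card Ω)) :
    LenLe G (4 * (Nat.card Ω - orbs G Ω) / 3) := by
  classical
  let e : Ω ≃ Fin (Nat.card Ω) := Finite.equivFin Ω
  let ρ : G →* Equiv.Perm (Fin (Nat.card Ω)) :=
    e.permCongrHom.toMonoidHom.comp (MulAction.toPermHom G Ω)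
  have hρ : Function.Injective ρ := e.permCongrHom.injective.comp MulAction.toPerm_injective
  have key : ∀ (g : G) (x : Ω), ρ g (e x) = e (g • x) := fun g x => by simp [ρ, Equiv.permCongrHom]
  have h1 := h (Fin (Nat.card Ω)) (Fintype.card_fin _) ρ.range
  have hiff : ∀ x y : Ω, x ∈ MulAction.orbit G y ↔ e x ∈ MulAction.orbit ρ.range (e y) := by
    intro x y
    constructor
    · rintro ⟨g, rfl⟩
      exact ⟨⟨ρ g, g, rfl⟩, key g y⟩
    · rintro ⟨⟨_, g, rfl⟩, hg⟩
      exact ⟨g, e.injective ((key g y).symm.trans hg)⟩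
  have horb : orbs ρ.range (Fin (Nat.card Ω)) = orbs G Ω :=
    (Nat.card_congr (Quotient.congr e fun x y => by
      rw [MulAction.orbitRel_apply, MulAction.orbitRel_apply, hiff])).symm
  rw [horb] at h1
  exact h1.of_equiv (MonoidHom.ofInjective hρ).symm

theorem intransitive [FaithfulSMul G Ω] (ih : ∀ m < Nat.card Ω, Good m) (hr : 2 ≤ orbs G Ω) :
    LenLe G (4 * (Nat.card Ω - orbs G Ω) / 3) := by
  classical
  haveI := Fintype.ofFinite Ω
  obtain ⟨a⟩ : Nonempty Ω := by
    by_contra hc
    rw [not_nonempty_iff] at hc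
    haveI : IsEmpty (Quotient (MulAction.orbitRel G Ω)) := ⟨fun q => Quotient.inductionOn q hc.false⟩
    rw [orbs, Nat.card_of_isEmpty] at hr
    omega
  let O : Set Ω := MulAction.orbit G a
  let ρ : G →* Equiv.Perm O := MulAction.toPermHom G (MulAction.orbit G a)
  haveI : Nonempty O := ⟨⟨a, MulAction.mem_orbit_self a⟩⟩
  letI : MulAction ρ.ker {ω : Ω // ω ∉ O} :=
    { smul := fun g ω => ⟨(g : G) • ω.1, fun h => ω.2 (by
        have := MulAction.mapsTo_smul_orbit (g : G)⁻¹ a h
        simpa using this)⟩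
      one_smul := fun ω => Subtype.ext (one_smul G ω.1)
      mul_smul := fun g h ω => Subtype.ext (mul_smul (g : G) h ω.1) }
  haveI : FaithfulSMul ρ.ker {ω : Ω // ω ∉ O} := ⟨fun {g g'} h => Subtype.ext (eq_of_smul_eq_smul
    (α := Ω) fun ω => by
      by_cases hω : ω ∈ O
      · have e1 := congrArg (fun p : Equiv.Perm O => (p ⟨ω, hω⟩).1) (MonoidHom.mem_ker.1 g.2)
        have e2 := congrArg (fun p : Equiv.Perm O => (p ⟨ω, hω⟩).1) (MonoidHom.mem_ker.1 g'.2)
        exact (e1 : (g : G) • ω = ω).trans (e2 : (g' : G) • ω = ω).symm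
      · exact congrArg Subtype.val (h ⟨ω, hω⟩))⟩
  have hO : Nat.card {ω : Ω // ω ∉ O} + Nat.card O = Nat.card Ω := by
    rw [add_comm, ← Nat.card_sum]
    exact Nat.card_congr (Equiv.sumCompl (· ∈ O))
  have hOpos : 0 < Nat.card O := Nat.card_pos
  have hOlt : Nat.card O < Nat.card Ω := by
    by_contra hc
    have : Nat.card {ω : Ω // ω ∉ O} = 0 := by omega
    have hsub : Subsingleton (Quotient (MulAction.orbitRel G Ω)) := ⟨fun p q => by
      induction p using Quotient.inductionOn with
      | _ x =>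
        induction q using Quotient.inductionOn with
        | _ y =>
          refine Quotient.sound (MulAction.orbitRel_apply.2 ?_)
          have hall : ∀ z, z ∈ O := fun z => by
            by_contra hz
            haveI hne : Nonempty {ω : Ω // ω ∉ O} := ⟨⟨z, hz⟩⟩
            exact Nat.card_pos.ne' this
          rw [MulAction.orbit_eq_iff.2 (hall y)]
          exact hall x⟩
    have := Finite.card_le_one_iff_subsingleton.2 hsub
    rw [orbs] at hr
    omega
  have hrange := of_good (G := ρ.range) (Ω := O) (ih _ hOlt)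
  have hker := of_good (G := ρ.ker) (Ω := {ω : Ω // ω ∉ O}) (ih _ (by omega))
  have h1 : 1 ≤ orbs ρ.range O := orbs_pos
  have h2 : orbs G Ω - 1 ≤ orbs ρ.ker {ω : Ω // ω ∉ O} := by
    let q0 : Quotient (MulAction.orbitRel G Ω) := Quotient.mk _ a
    have hc : Nat.card {q : Quotient (MulAction.orbitRel G Ω) // q ≠ q0} = orbs G Ω - 1 := by
      rw [orbs, show (fun q => q ≠ q0) = fun q => q ∈ ({q0}ᶜ : Set _) from rfl]
      rw [Nat.card_coe_set_eq, Set.ncard_compl, Set.ncard_singleton]
    rw [← hc]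
    refine le_orbs (fun ω => ⟨Quotient.mk _ ω.1, fun e => ω.2 (MulAction.orbitRel_apply.1 (Quotient.exact e))⟩)
      ?_ fun g ω => Subtype.ext (Quotient.sound (MulAction.orbitRel_apply.2 ⟨(g : G), rfl⟩))
    rintro ⟨q, hq⟩
    obtain ⟨ω, rfl⟩ := Quotient.exists_rep q
    exact ⟨⟨ω, fun h => hq (Quotient.sound (MulAction.orbitRel_apply.2 h))⟩, rfl⟩
  have h3 : orbs ρ.ker {ω : Ω // ω ∉ O} ≤ Nat.card {ω : Ω // ω ∉ O} :=
    Nat.card_le_card_of_surjective _ Quotient.mk_surjective
  refine (LenLe.ext ρ.rangeRestrict ρ.rangeRestrict_surjective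
    (hker.of_equiv (MulEquiv.subgroupCongr (MonoidHom.ker_rangeRestrict ρ).symm)) hrange).mono ?_
  omega

theorem imprimitive [FaithfulSMul G Ω] [MulAction.IsPretransitive G Ω]
    (ih : ∀ m < Nat.card Ω, Good m) (B : Set Ω) (hB : MulAction.IsBlock G B)
    (hBne : ¬ MulAction.IsTrivialBlock B) :
    LenLe G (4 * (Nat.card Ω - 1) / 3) := by
  classical
  haveI := Fintype.ofFinite Ω
  have hB2 : ¬ B.Subsingleton := fun h => hBne (Or.inl h)
  have hBu : B ≠ Set.univ := fun h => hBne (Or.inr h)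
  obtain ⟨b, hb, b', hb', hbb⟩ := Set.not_subsingleton_iff.1 hB2
  let 𝔅 := MulAction.orbit G B
  haveI : Finite 𝔅 := inferInstance
  haveI : Nonempty 𝔅 := ⟨⟨B, MulAction.mem_orbit_self B⟩⟩
  have hex : ∀ ω, ∃ g : G, ω ∈ g • B := fun ω => by
    obtain ⟨g, hg⟩ := MulAction.exists_smul_eq G b ω
    exact ⟨g, b, hb, hg⟩
  choose gω hgω using hex
  have huniq : ∀ (g g' : G) (ω : Ω), ω ∈ g • B → ω ∈ g' • B → g • B = g' • B := fun g g' ω h h' => by
    by_contra hne
    exact Set.disjoint_left.1 (hB hne) h h'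
  let f : Ω → 𝔅 := fun ω => ⟨gω ω • B, gω ω, rfl⟩
  have hf : Function.Surjective f := by
    rintro ⟨_, g, rfl⟩
    exact ⟨g • b, Subtype.ext (huniq _ _ _ (hgω _) (Set.smul_mem_smul_set hb))⟩
  have hfni : ¬ Function.Injective f := fun hi => hbb (hi (Subtype.ext (by
    show gω b • B = gω b' • B
    rw [huniq _ 1 b (hgω b) (by simpa using hb), huniq _ 1 b' (hgω b') (by simpa using hb')])))
  have hm : Nat.card 𝔅 < Nat.card Ω := by
    by_contra hc
    push Not at hc
    have := Nat.card_le_card_of_surjective f hf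
    exact hfni (hf.injective_of_finite (Finite.equivFinOfCardEq (n := Nat.card 𝔅) (by omega)
      |>.trans (Finite.equivFin 𝔅).symm))
  have hm2 : 2 ≤ Nat.card 𝔅 := by
    obtain ⟨c, hc⟩ : ∃ c, c ∉ B := by
      by_contra hc
      push Not at hc
      exact hBu (Set.eq_univ_of_forall hc)
    by_contra hlt
    haveI : Subsingleton 𝔅 := Finite.card_le_one_iff_subsingleton.1 (by omega)
    have e : (gω c • B : Set Ω) = B := congrArg Subtype.val
      (Subsingleton.elim (f c) ⟨B, MulAction.mem_orbit_self B⟩)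
    exact hc (e ▸ hgω c)
  let ρ : G →* Equiv.Perm 𝔅 := MulAction.toPermHom G 𝔅
  haveI : FaithfulSMul ρ.ker Ω := ⟨fun {g g'} h => Subtype.ext (eq_of_smul_eq_smul (α := Ω) h)⟩
  have hrange := of_good (G := ρ.range) (Ω := 𝔅) (ih _ hm)
  have h1 : 1 ≤ orbs ρ.range 𝔅 := orbs_pos
  have hK : Nat.card 𝔅 ≤ orbs ρ.ker Ω := by
    refine le_orbs f hf fun g ω => Subtype.ext ?_
    have e := congrArg (fun p : Equiv.Perm 𝔅 => (p (f ω)).1) (MonoidHom.mem_ker.1 g.2)
    have e' : (g : G) • (gω ω • B) = gω ω • B := e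
    refine huniq _ _ ((g : G) • ω) (hgω _) ?_
    rw [← e']
    exact Set.smul_mem_smul_set (hgω ω)
  have hker := intransitive (G := ρ.ker) (Ω := Ω) ih (by omega)
  refine (LenLe.ext ρ.rangeRestrict ρ.rangeRestrict_surjective
    (hker.of_equiv (MulEquiv.subgroupCongr (MonoidHom.ker_rangeRestrict ρ).symm)) hrange).mono ?_
  omega

theorem primitive [FaithfulSMul G Ω] [MulAction.IsPretransitive G Ω]
    (ih : ∀ m < Nat.card Ω, Good m) (hprim : ∀ B : Set Ω, MulAction.IsBlock G B → MulAction.IsTrivialBlock B)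
    (hn : 2 ≤ Nat.card Ω) : LenLe G (4 * (Nat.card Ω - 1) / 3) := by
  classical
  haveI := Fintype.ofFinite Ω
  haveI : Nontrivial Ω := Finite.one_lt_card_iff_nontrivial.1 hn
  obtain ⟨a, b, hab⟩ := exists_pair_ne Ω
  haveI : Nontrivial G := by
    obtain ⟨g, hg⟩ := MulAction.exists_smul_eq G a b
    exact ⟨g, 1, fun e => hab (by rw [← hg, e, one_smul])⟩
  obtain ⟨N, hN⟩ := CfsgLib.Solv.exists_isMinimalNormal (G := G)
  haveI := hN.1
  -- a subgroup fixing `a` and normal in `G` is trivial
  have hcore : ∀ M : Subgroup G, M.Normal → (∀ g ∈ M, g • a = a) → M = ⊥ := by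
    intro M hM hfix
    refine (Subgroup.eq_bot_iff_forall M).2 fun g hg => eq_of_smul_eq_smul (α := Ω) fun ω => ?_
    obtain ⟨h, rfl⟩ := MulAction.exists_smul_eq G a ω
    have e := hfix _ (hM.conj_mem g hg h⁻¹)
    rw [inv_inv, mul_smul, mul_smul, inv_smul_eq_iff] at e
    rw [one_smul, e]
  have htrans : ∀ ω, ∃ x : N, (x : G) • a = ω := by
    rcases hprim _ (MulAction.IsBlock.orbit_of_normal (N := N) a) with h | h
    · exact absurd (hcore N inferInstance fun g hg =>
        h ⟨⟨g, hg⟩, rfl⟩ (MulAction.mem_orbit_self a)) hN.2.1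
    · intro ω
      obtain ⟨x, hx⟩ := (h ▸ Set.mem_univ ω : ω ∈ MulAction.orbit N a)
      exact ⟨x, hx⟩
  by_cases hreg : ∀ x ∈ N, x • a = a → x = 1
  · refine regular_bound N a (fun ω => ?_) hn inferInstance
    obtain ⟨x, hx⟩ := htrans ω
    refine ⟨x, ⟨x.2, hx⟩, fun y ⟨hy, hyω⟩ => ?_⟩
    have := hreg ((x : G)⁻¹ * y) (mul_mem (inv_mem x.2) hy) (by rw [mul_smul, hyω, inv_smul_eq_iff, hx])
    exact (inv_mul_eq_one.1 this).symm
  push Not at hreg
  obtain ⟨x0, hx0, hx0a, hx01⟩ := hreg
  obtain ⟨T, _, k, hTs, hk, ⟨e⟩⟩ := Cfsg.Agent.S0721.result N hN.2.1 fun M hM hMN => hN.2.2 M hM hMN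
  haveI := hTs
  haveI : Finite T := Finite.of_surjective (fun x : N => e x ⟨0, hk⟩) fun t => ⟨e.symm fun _ => t, by simp⟩
  have hT : ¬ IsMulCommutative T := by
    intro hc
    refine hx01 (eq_of_smul_eq_smul (α := Ω) fun ω => ?_)
    obtain ⟨y, rfl⟩ := htrans ω
    have hcomm : (⟨x0, hx0⟩ : N) * y = y * ⟨x0, hx0⟩ := e.injective (by
      rw [map_mul, map_mul]
      funext i
      exact hc.is_comm.comm _ _)
    have := congrArg Subtype.val hcomm
    rw [Subgroup.coe_mul, Subgroup.coe_mul] at this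
    rw [← mul_smul, this, mul_smul, hx0a, one_smul]
  let A := MulAction.stabilizer G a
  haveI : FaithfulSMul A Ω := ⟨fun {g g'} h => Subtype.ext (eq_of_smul_eq_smul (α := Ω) h)⟩
  let f : A →* G ⧸ N := (QuotientGroup.mk' N).comp A.subtype
  have hdec : ∀ g : G, ∃ x : N, (x : G)⁻¹ * g ∈ A := fun g => by
    obtain ⟨x, hx⟩ := htrans (g • a)
    exact ⟨x, by rw [MulAction.mem_stabilizer_iff, mul_smul, inv_smul_eq_iff, hx]⟩
  have hf : Function.Surjective f := by
    intro q
    obtain ⟨g, rfl⟩ := QuotientGroup.mk'_surjective N q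
    obtain ⟨x, hx⟩ := hdec g
    refine ⟨⟨_, hx⟩, ?_⟩
    simp [f, (QuotientGroup.eq_one_iff _).2 x.2]
  have hlenN : LenLe (QuotientGroup.mk' N).ker k :=
    ((lenLe_pi (T := T) k).of_equiv e.symm).of_equiv (MulEquiv.subgroupCongr (QuotientGroup.ker_mk' N).symm)
  have finish : ∀ c b', LenLe (G ⧸ N) b' → k + b' ≤ c → LenLe G c := fun c b' hb' hle =>
    (LenLe.ext (QuotientGroup.mk' N) (QuotientGroup.mk'_surjective N) hlenN hb').mono hle
  -- the action of the point stabiliser on `T ^ k`
  let φ : A → (Fin k → T) ≃* (Fin k → T) := fun g =>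
    (e.symm.trans (MulAut.conjNormal (g : G))).trans e
  have hφ : ∀ (g : A) (x : N), φ g (e x) = e (MulAut.conjNormal (g : G) x) := fun g x => by simp [φ]
  have hφa : ∀ (g : A) (x : N), ((MulAut.conjNormal (g : G) x : N) : G) • a = (g : G) • ((x : G) • a) := by
    intro g x
    rw [MulAut.conjNormal_apply, mul_smul, mul_smul, inv_smul_eq_iff.2 g.2.symm]
  let Ha : Subgroup (Fin k → T) := ((MulAction.stabilizer G a).subgroupOf N).map e.toMonoidHom
  have hHa : ∀ x : N, e x ∈ Ha ↔ (x : G) • a = a := fun x => by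
    simp [Ha, Subgroup.mem_map_equiv, Subgroup.mem_subgroupOf]
  have hHφ : ∀ (g : A) (y : Fin k → T), φ g y ∈ Ha ↔ y ∈ Ha := by
    intro g y
    obtain ⟨x, rfl⟩ := e.surjective y
    rw [hφ, hHa, hHa, hφa, smul_eq_iff_eq_inv_smul, inv_smul_eq_iff.2 g.2.symm]
  choose σ hσb hσ using fun g : A => factors hT (φ g)
  have hdep : ∀ (g : A) (x y : Fin k → T) (i : Fin k), x i = y i → φ g x (σ g i) = φ g y (σ g i) := by
    intro g x y i h
    have := (hσ g (x⁻¹ * y) i).2 (by simp [h])
    rw [map_mul, map_inv, Pi.mul_apply, Pi.inv_apply, inv_mul_eq_one] at this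
    exact this
  -- the product of an invariant set of factors is normal
  have hprod : ∀ J : Finset (Fin k), (∀ g i, i ∈ J → σ g i ∈ J) → J = ∅ ∨ J = Finset.univ := by
    intro J hJ
    have hJc : ∀ g i, i ∉ J → σ g i ∉ J := by
      intro g i hi h
      have hset : J.image (σ g) = J := Finset.eq_of_subset_of_card_le
        (fun j hj => by obtain ⟨l, hl, rfl⟩ := Finset.mem_image.1 hj; exact hJ g l hl)
        (by rw [Finset.card_image_of_injective _ (hσb g).1])
      rw [← hset, Finset.mem_image] at h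
      obtain ⟨l, hl, hle⟩ := h
      exact hi ((hσb g).1 hle ▸ hl)
    let D : Subgroup (Fin k → T) :=
      { carrier := {x | ∀ i ∉ J, x i = 1}
        one_mem' := fun i _ => rfl
        mul_mem' := fun ha hb i hi => by simp [ha i hi, hb i hi]
        inv_mem' := fun ha i hi => by simp [ha i hi] }
    let M : Subgroup G := (D.comap e.toMonoidHom).map N.subtype
    have hM : M.Normal := ⟨by
      rintro _ ⟨x, hx, rfl⟩ g
      obtain ⟨z, hz⟩ := hdec g
      refine ⟨z * MulAut.conjNormal ((z : G)⁻¹ * g) x * z⁻¹, ?_, ?_⟩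
      · intro i hi
        obtain ⟨l, rfl⟩ := (hσb ⟨_, hz⟩).2 i
        have hl : l ∉ J := fun h => hi (hJ _ _ h)
        have h2 : e (MulAut.conjNormal ((z : G)⁻¹ * g) x) (σ ⟨_, hz⟩ l) = 1 := by
          rw [← hφ ⟨_, hz⟩ x]
          exact (hσ _ _ l).2 (hx l hl)
        show e (z * MulAut.conjNormal ((z : G)⁻¹ * g) x * z⁻¹) (σ ⟨_, hz⟩ l) = 1
        rw [map_mul e, map_mul e, Pi.mul_apply, Pi.mul_apply, h2]
        simp
      · simp [MulAut.conjNormal_apply, mul_assoc]⟩
    rcases hN.2.2 M hM (Subgroup.map_subtype_le _) with h | h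
    · left
      refine Finset.eq_empty_of_forall_notMem fun i hi => ?_
      obtain ⟨u, hu⟩ := exists_ne (1 : T)
      have hmem : (e.symm (Pi.mulSingle i u) : G) ∈ M := by
        refine ⟨_, fun j hj => ?_, rfl⟩
        simp [Pi.mulSingle_eq_of_ne (fun e : j = i => hj (e ▸ hi))]
      rw [h, Subgroup.mem_bot, OneMemClass.coe_eq_one, MulEquiv.map_eq_one_iff] at hmem
      exact hu (by simpa using congrFun hmem i)
    · right
      refine Finset.eq_univ_of_forall fun i => ?_
      by_contra hi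
      obtain ⟨u, hu⟩ := exists_ne (1 : T)
      obtain ⟨y, hy, hye⟩ : (e.symm (Pi.mulSingle i u) : G) ∈ M := h.symm ▸ (e.symm _).2
      have := hy i hi
      rw [show y = e.symm (Pi.mulSingle i u) from Subtype.ext hye] at this
      simp at this
      exact hu this
  let J : Finset (Fin k) := Finset.univ.filter fun i => ∀ t, ∃ h ∈ Ha, h i = t
  have hJinv : ∀ g i, i ∈ J → σ g i ∈ J := by
    intro g i hi
    simp only [J, Finset.mem_filter, Finset.mem_univ, true_and] at hi ⊢
    intro t
    obtain ⟨y, hy⟩ := (φ g).surjective (Pi.mulSingle (σ g i) t)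
    obtain ⟨h, hh, hhi⟩ := hi (y i)
    refine ⟨φ g h, (hHφ g h).2 hh, ?_⟩
    rw [hdep g h y i hhi, hy, Pi.mulSingle_eq_same]
  have hN2 : 2 ≤ orbs A Ω := by
    have := le_orbs (G := A) (fun ω : Ω => decide (ω = a)) (fun p => by
      cases p
      · exact ⟨b, by simp [Ne.symm hab]⟩
      · exact ⟨a, by simp⟩) fun g ω => by
        have : (g : G) • ω = a ↔ ω = a := by rw [smul_eq_iff_eq_inv_smul, inv_smul_eq_iff.2 g.2.symm]
        simp [Subgroup.smul_def, this]
    simpa using this
  have hA := intransitive (G := A) (Ω := Ω) ih hN2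
  have horbA : orbs A Ω ≤ Nat.card Ω :=
    Nat.card_le_card_of_surjective _ Quotient.mk_surjective
  by_cases hJe : J = ∅
  · -- weights
    choose rep hrep using htrans
    let U : Fin k → Set T := fun i => {t | ∃ h ∈ Ha, h i = t}
    have hU : ∀ (x y : N) i, (x : G) • a = (y : G) • a → (e x i ∈ U i ↔ e y i ∈ U i) := by
      suffices hsuff : ∀ (x y : N) i, (x : G) • a = (y : G) • a → e x i ∈ U i → e y i ∈ U i from
        fun x y i h => ⟨hsuff x y i h, hsuff y x i h.symm⟩
      rintro x y i hxy ⟨h, hh, hhi⟩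
      refine ⟨h * e (x⁻¹ * y), mul_mem hh ((hHa _).2 ?_), by simp [hhi]⟩
      rw [Subgroup.coe_mul, Subgroup.coe_inv, mul_smul, ← hxy, inv_smul_smul]
    let wt : Ω → Fin (k + 1) := fun ω =>
      ⟨(Finset.univ.filter fun i => e (rep ω) i ∉ U i).card,
        Nat.lt_succ_of_le ((Finset.card_le_univ _).trans_eq (Fintype.card_fin k))⟩
    have hwt : Function.Surjective wt := by
      intro w
      have hout : ∀ i, ∃ t, t ∉ U i := fun i => by
        have hi : i ∉ J := by simp [hJe]
        simp only [J, Finset.mem_filter, Finset.mem_univ, true_and, not_forall] at hi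
        exact hi
      choose t ht using hout
      obtain ⟨S, -, hS⟩ := Finset.exists_subset_card_eq (s := (Finset.univ : Finset (Fin k))) (n := (w : ℕ))
        (by rw [Finset.card_univ, Fintype.card_fin]; omega)
      let y : Fin k → T := fun i => if i ∈ S then t i else 1
      refine ⟨(e.symm y : G) • a, Fin.ext ?_⟩
      rw [← hS]
      show (Finset.univ.filter fun i => e (rep _) i ∉ U i).card = S.card
      congr 1
      ext i
      rw [Finset.mem_filter, and_iff_right (Finset.mem_univ i), hU _ (e.symm y) i (hrep _), e.apply_symm_apply]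
      by_cases hi : i ∈ S
      · simp [y, hi, ht]
      · have : (1 : T) ∈ U i := ⟨1, one_mem _, rfl⟩
        simp [y, hi, this]
    have hinv : ∀ (g : A) ω, wt (g • ω) = wt ω := by
      intro g ω
      refine Fin.ext ?_
      show (Finset.univ.filter fun i => e (rep (g • ω)) i ∉ U i).card =
        (Finset.univ.filter fun i => e (rep ω) i ∉ U i).card
      have hpt : (rep (g • ω) : G) • a = ((MulAut.conjNormal (g : G) (rep ω) : N) : G) • a := by
        rw [hrep, hφa, hrep]; rfl
      have key : ∀ i, (e (rep (g • ω)) (σ g i) ∈ U (σ g i) ↔ e (rep ω) i ∈ U i) := by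
        intro i
        rw [hU _ _ _ hpt, ← hφ]
        constructor
        · rintro ⟨h, hh, hhi⟩
          obtain ⟨h', rfl⟩ := (φ g).surjective h
          refine ⟨h', (hHφ g h').1 hh, ?_⟩
          have := (hσ g ((e (rep ω))⁻¹ * h') i).1 (by simp [hhi])
          simp only [Pi.mul_apply, Pi.inv_apply, inv_mul_eq_one] at this
          exact this.symm
        · rintro ⟨h, hh, hhi⟩
          exact ⟨φ g h, (hHφ g h).2 hh, hdep g _ _ i hhi⟩
      symm
      refine Finset.card_bij (fun i _ => σ g i) ?_ (fun i _ j _ h => (hσb g).1 h) ?_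
      · intro i hi
        simpa [key i] using hi
      · intro j hj
        obtain ⟨i, rfl⟩ := (hσb g).2 j
        exact ⟨i, by simpa [key i] using hj, rfl⟩
    have hr := le_orbs (G := A) wt hwt hinv
    rw [Nat.card_eq_fintype_card, Fintype.card_fin] at hr
    exact finish _ _ (hA.of_surjective f hf) (by omega)
  have hJu : J = Finset.univ := (hprod J hJinv).resolve_left hJe
  have hsurj : ∀ i t, ∃ h ∈ Ha, h i = t := fun i => by
    have : i ∈ J := hJu ▸ Finset.mem_univ i
    simpa [J] using this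
  by_cases hk2 : k ≤ 2
  · have hker : f.ker ≠ ⊥ := fun h => hx01 (by
      have : (⟨x0, hx0a⟩ : A) ∈ f.ker := by simp [f, MonoidHom.mem_ker, hx0]
      rw [h, Subgroup.mem_bot] at this
      exact congrArg Subtype.val this)
    obtain ⟨hb1, hb2⟩ := LenLe.quotient_lt f hf hker hA
    exact finish _ _ hb2 (by omega)
  -- at least three factors, subdirect stabiliser
  have hmeet : ∀ h ∈ Ha, ∀ i, (∀ j ≠ i, h j = 1) → h = 1 := by
    intro h hh i hsupp
    by_contra hne
    have hhi : h = Pi.mulSingle i (h i) := by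
      funext j
      rcases eq_or_ne j i with rfl | hj
      · simp
      · simp [hsupp j hj, Pi.mulSingle_eq_of_ne hj]
    have hhi1 : h i ≠ 1 := fun e => hne (by rw [hhi, e, Pi.mulSingle_one])
    let J' : Finset (Fin k) := Finset.univ.filter fun i => ∀ t, Pi.mulSingle i t ∈ Ha
    have hiJ : i ∈ J' := by
      simp only [J', Finset.mem_filter, Finset.mem_univ, true_and]
      have hn : (Ha.comap (MonoidHom.mulSingle (fun _ : Fin k => T) i)).Normal := ⟨fun t ht s => by
        obtain ⟨g, hg, rfl⟩ := hsurj i s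
        have ht : Pi.mulSingle i t ∈ Ha := ht
        show Pi.mulSingle i (g i * t * (g i)⁻¹) ∈ Ha
        convert mul_mem (mul_mem hg ht) (inv_mem hg) using 1
        funext j
        rcases eq_or_ne j i with rfl | hj
        · simp
        · simp [Pi.mulSingle_eq_of_ne hj]⟩
      intro t
      rcases IsSimpleGroup.eq_bot_or_eq_top_of_normal _ hn with hb | ht
      · have : h i ∈ Ha.comap (MonoidHom.mulSingle (fun _ : Fin k => T) i) := by
          show Pi.mulSingle i (h i) ∈ Ha
          rwa [← hhi]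
        rw [hb, Subgroup.mem_bot] at this
        exact absurd this hhi1
      · exact (ht ▸ Subgroup.mem_top t : t ∈ Ha.comap (MonoidHom.mulSingle (fun _ : Fin k => T) i))
    have hall : ∀ g l, l ∈ J' → σ g l ∈ J' := by
      intro g l hl
      simp only [J', Finset.mem_filter, Finset.mem_univ, true_and] at hl ⊢
      intro t
      obtain ⟨y, hy⟩ := (φ g).surjective (Pi.mulSingle (σ g l) t)
      have hyl : y = Pi.mulSingle l (y l) := by
        funext j
        rcases eq_or_ne j l with rfl | hj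
        · simp
        · rw [Pi.mulSingle_eq_of_ne hj]
          refine (hσ g y j).1 ?_
          rw [hy, Pi.mulSingle_eq_of_ne ((hσb g).1.ne hj)]
      rw [← hy, hHφ, hyl]
      exact hl _
    rcases hprod J' hall with h0 | h1
    · exact absurd (h0 ▸ hiJ) (Finset.notMem_empty i)
    · have htop : ∀ x : N, (x : G) • a = a := fun x => (hHa x).1 <|
        Subgroup.pi_mem_of_mulSingle_mem _ fun j => by
          have : j ∈ J' := h1 ▸ Finset.mem_univ j
          simp only [J', Finset.mem_filter, Finset.mem_univ, true_and] at this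
          exact this _
      exact hN.2.1 (hcore N inferInstance fun g hg => htop ⟨g, hg⟩)
  have hsd := subdirect_card hT Ha hsurj hmeet
  have hcardN : Nat.card N = Nat.card T ^ k := by rw [Nat.card_congr e.toEquiv, Nat.card_fun, Nat.card_fin]
  have hidx : Nat.card Ω * Nat.card Ha = Nat.card T ^ k := by
    rw [← hcardN, Subgroup.card_map_of_injective e.injective]
    have h1 : (MulAction.stabilizer G a).subgroupOf N = MulAction.stabilizer N a := rfl
    haveI : MulAction.IsPretransitive N Ω := ⟨fun u v => by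
      obtain ⟨x, rfl⟩ := htrans u
      obtain ⟨y, rfl⟩ := htrans v
      exact ⟨y * x⁻¹, by
        show ((y * x⁻¹ : N) : G) • ((x : G) • a) = (y : G) • a
        rw [Subgroup.coe_mul, Subgroup.coe_inv, mul_smul, inv_smul_smul]⟩⟩
    rw [h1, ← (MulAction.stabilizer N a).index_mul_card, MulAction.index_stabilizer_of_transitive]
  have ht := twelve_le_card hT
  have hbig : k * Nat.card T ≤ Nat.card Ω := by
    have h1 := sq_mul_le_pow ht k (by omega)
    have h2 : Nat.card T ^ k * Nat.card T ^ k ≤ Nat.card Ω ^ 2 * Nat.card T ^ k := by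
      calc _ = Nat.card Ω ^ 2 * Nat.card Ha ^ 2 := by rw [← hidx]; ring
        _ ≤ _ := Nat.mul_le_mul_left _ hsd
    have h3 := Nat.le_of_mul_le_mul_right h2 (pow_pos Nat.card_pos k)
    exact (Nat.pow_le_pow_iff_left two_ne_zero).1 (h1.trans h3)
  let P := {x : Fin k → T // ∃ i, x i ≠ 1 ∧ ∀ j ≠ i, x j = 1}
  letI : MulAction A P :=
    { smul := fun g x => ⟨φ g x.1, by
        obtain ⟨i, hi, hj⟩ := x.2
        refine ⟨σ g i, fun h => hi ((hσ g x.1 i).1 h), fun j hne => ?_⟩
        obtain ⟨l, rfl⟩ := (hσb g).2 j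
        exact (hσ g x.1 l).2 (hj l fun h => hne (h ▸ rfl))⟩
      one_smul := fun x => Subtype.ext (by show φ 1 x.1 = x.1; simp [φ])
      mul_smul := fun g h x => Subtype.ext (by show φ (g * h) x.1 = φ g (φ h x.1); simp [φ]) }
  haveI : FaithfulSMul A P := ⟨fun {g g'} hgg => Subtype.ext (eq_of_smul_eq_smul (α := Ω) fun ω => by
    have hall : ∀ x, φ g x = φ g' x := fun x => by
      have : x ∈ MonoidHom.eqLocus (φ g).toMonoidHom (φ g').toMonoidHom :=
        Subgroup.pi_mem_of_mulSingle_mem x fun i => by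
          by_cases h : x i = 1
          · rw [h, Pi.mulSingle_one]; exact one_mem _
          · exact congrArg Subtype.val (hgg ⟨Pi.mulSingle i (x i), i, by simpa using h,
              fun j hj => by simp [Pi.mulSingle_eq_of_ne hj]⟩)
      exact this
    obtain ⟨x, rfl⟩ := htrans ω
    have := hall (e x)
    rw [hφ, hφ] at this
    rw [← hφa g x, ← hφa g' x, e.injective this])⟩
  have hP : Nat.card P + k ≤ k * Nat.card T := by
    let gP : Fin k × {t : T // t ≠ 1} → P := fun p => ⟨Pi.mulSingle p.1 p.2.1, p.1,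
      by simpa using p.2.2, fun j hj => by simp [Pi.mulSingle_eq_of_ne hj]⟩
    have := Nat.card_le_card_of_surjective gP (by
      rintro ⟨x, i, hi, hj⟩
      refine ⟨(i, ⟨x i, hi⟩), Subtype.ext (funext fun j => ?_)⟩
      rcases eq_or_ne j i with rfl | hne
      · simp [gP]
      · simp [gP, Pi.mulSingle_eq_of_ne hne, hj j hne])
    rw [Nat.card_prod, Nat.card_fin, show (fun t : T => t ≠ 1) = fun t => t ∈ ({1}ᶜ : Set T) from rfl,
      Nat.card_coe_set_eq, Set.ncard_compl, Set.ncard_singleton] at this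
    rw [Nat.mul_sub, mul_one] at this
    have : k ≤ k * Nat.card T := Nat.le_mul_of_pos_right k Nat.card_pos
    omega
  haveI : Nonempty P := by
    obtain ⟨u, hu⟩ := exists_ne (1 : T)
    exact ⟨⟨Pi.mulSingle ⟨0, hk⟩ u, ⟨0, hk⟩, by simpa using hu, fun j hj => by simp [Pi.mulSingle_eq_of_ne hj]⟩⟩
  have hP1 : 1 ≤ orbs A P := orbs_pos
  have hP2 : orbs A P ≤ Nat.card P := Nat.card_le_card_of_surjective _ Quotient.mk_surjective
  have hAP := of_good (G := A) (Ω := P) (ih _ (by omega))
  exact finish _ _ (hAP.of_surjective f hf) (by omega)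

theorem good : ∀ n, Good n := by
  intro n
  induction n using Nat.strong_induction_on with
  | _ n ih =>
    intro Ω _ hΩ G
    classical
    have hΩ' : Nat.card Ω = n := by rw [Nat.card_eq_fintype_card, hΩ]
    rw [← hΩ'] at ih ⊢
    by_cases hr : 2 ≤ orbs G Ω
    · exact intransitive ih hr
    by_cases hn : Nat.card Ω ≤ 1
    · haveI : Subsingleton Ω := Finite.card_le_one_iff_subsingleton.1 hn
      haveI : Subsingleton G := ⟨fun g h => Subtype.ext (Subsingleton.elim _ _)⟩
      exact lenLe_of_subsingleton _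
    haveI : MulAction.IsPretransitive G Ω := by
      haveI : Subsingleton (Quotient (MulAction.orbitRel G Ω)) :=
        Finite.card_le_one_iff_subsingleton.1 (by rw [orbs] at hr; omega)
      refine ⟨fun x y => ?_⟩
      have h : Quotient.mk (MulAction.orbitRel G Ω) y = Quotient.mk _ x := Subsingleton.elim _ _
      exact MulAction.orbitRel_apply.1 (Quotient.exact h)
    haveI : Nonempty Ω := (Nat.card_pos_iff.1 (by omega : 0 < Nat.card Ω)).1
    have h1 : 1 ≤ orbs G Ω := orbs_pos
    refine LenLe.mono ?_ (show 4 * (Nat.card Ω - 1) / 3 ≤ _ by omega)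
    by_cases hp : ∀ B : Set Ω, MulAction.IsBlock G B → MulAction.IsTrivialBlock B
    · exact primitive ih hp (by omega)
    · push Not at hp
      obtain ⟨B, hB, hB'⟩ := hp
      exact imprimitive ih B hB hB'

end CfsgLib.Perm.LengthBound
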