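import Cfsg.Agent.Perm.SubnormalLength

/-!
Ingredients of the bound 4(n-r)/3 on the composition length of permutation groups: regular
normal subgroups, automorphisms of powers of a simple group, subdirect subgroups.
-/

set_option autoImplicit false

namespace CfsgLib.Perm.LengthCases

open CfsgLib.Perm.SubnormalLength
open ArithmeticFunction (cardFactors)

/-! ### Regular normal subgroups -/

theorem exists_gens {M : Type*} [Group M] [Finite M] (q : ℕ)
    (hq : ∀ c, c ∣ Nat.card M → c ≠ 1 → q ≤ c) :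
    ∃ S : List M, (∀ s ∈ S, s ≠ 1) ∧ Subgroup.closure {s | s ∈ S} = ⊤ ∧ q ^ S.length ≤ Nat.card M := by
  classical
  have key : ∀ m : ℕ, ∀ S : List M, (∀ s ∈ S, s ≠ 1) →
      q ^ S.length ≤ Nat.card (Subgroup.closure {s | s ∈ S}) →
      Nat.card M - Nat.card (Subgroup.closure {s | s ∈ S}) ≤ m →
      ∃ S' : List M, (∀ s ∈ S', s ≠ 1) ∧ Subgroup.closure {s | s ∈ S'} = ⊤ ∧ q ^ S'.length ≤ Nat.card M := by
    intro m
    induction m using Nat.strong_induction_on with
    | _ m ih =>
      intro S h1 h2 h3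
      by_cases ht : Subgroup.closure {s | s ∈ S} = ⊤
      · exact ⟨S, h1, ht, h2.trans (Subgroup.card_le_card_group _)⟩
      obtain ⟨x, hx⟩ : ∃ x, x ∉ Subgroup.closure {s | s ∈ S} := by
        by_contra hc
        push Not at hc
        exact ht (eq_top_iff.2 fun x _ => hc x)
      have hle : Subgroup.closure {s | s ∈ S} ≤ Subgroup.closure {s | s ∈ x :: S} :=
        Subgroup.closure_mono fun s hs => List.mem_cons_of_mem _ hs
      have hlt : Subgroup.closure {s | s ∈ S} ≠ Subgroup.closure {s | s ∈ x :: S} := fun e =>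
        hx (e ▸ Subgroup.subset_closure (List.mem_cons_self ..))
      obtain ⟨c, hc⟩ := Subgroup.card_dvd_of_le hle
      have hc1 : c ≠ 1 := fun e => hlt (Subgroup.eq_of_le_of_card_ge hle (by rw [hc, e, mul_one]))
      have hcd : c ∣ Nat.card M := (Dvd.intro_left _ hc.symm).trans (Subgroup.card_subgroup_dvd_card _)
      have hc2 : 2 ≤ c := by
        have : c ≠ 0 := fun e => Nat.card_pos.ne'
          (by rw [hc, e, mul_zero] : Nat.card (Subgroup.closure {s | s ∈ x :: S}) = 0)
        omega
      have hpos : 0 < Nat.card (Subgroup.closure {s | s ∈ S}) := Nat.card_pos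
      have hub := Subgroup.card_le_card_group (Subgroup.closure {s | s ∈ x :: S})
      have hgrow := Nat.mul_le_mul_left (Nat.card (Subgroup.closure {s | s ∈ S})) hc2
      rw [← hc] at hgrow
      refine ih (Nat.card M - Nat.card (Subgroup.closure {s | s ∈ x :: S})) (by omega) (x :: S) ?_ ?_ le_rfl
      · intro s hs
        rcases List.mem_cons.1 hs with rfl | hs
        · exact fun e => hx (e ▸ one_mem _)
        · exact h1 s hs
      · rw [hc, List.length_cons, pow_succ]
        exact Nat.mul_le_mul h2 (hq c hcd hc1)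
  exact key _ [] (by simp) (by simp) le_rfl

variable {G Ω : Type*} [Group G] [Finite G] [MulAction G Ω] [Finite Ω]

theorem base_bound (a : Ω) : ∀ (S : List Ω) (A : Subgroup G), A ≤ MulAction.stabilizer G a →
    (∀ g ∈ A, (∀ s ∈ S, g • s = s) → g = 1) → (∀ s ∈ S, s ≠ a) →
    cardFactors (Nat.card A) ≤ S.length * Nat.log 2 (Nat.card Ω - 1)
  | [], A, _, hS, _ => by
    have : A = ⊥ := (Subgroup.eq_bot_iff_forall A).2 fun g hg => hS g hg (by simp)
    simp [this]
  | s :: S, A, hA, hS, hne => by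
    classical
    haveI := Fintype.ofFinite Ω
    have h1 : Nat.card A = Nat.card (MulAction.orbit A s) * Nat.card (MulAction.stabilizer A s) := by
      rw [← Nat.card_prod]
      exact Nat.card_congr (MulAction.orbitProdStabilizerEquivGroup A s).symm
    have h2 := base_bound a S ((MulAction.stabilizer A s).map A.subtype)
      ((Subgroup.map_subtype_le _).trans hA)
      (fun g hg hgS => hS g (Subgroup.map_subtype_le _ hg) fun t ht => by
        rcases List.mem_cons.1 ht with rfl | ht
        · obtain ⟨g', hg', rfl⟩ := hg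
          exact hg'
        · exact hgS t ht)
      (fun t ht => hne t (List.mem_cons_of_mem _ ht))
    rw [Subgroup.card_map_of_injective A.subtype_injective] at h2
    have horb : Nat.card (MulAction.orbit A s) ≤ Nat.card Ω - 1 := by
      have hsub : MulAction.orbit A s ⊆ ({a}ᶜ : Set Ω) := by
        rintro _ ⟨g, rfl⟩ hga
        refine hne s List.mem_cons_self ?_
        have hga' : (g : G) • s = (g : G) • a := (hga : (g : G) • s = a).trans (hA g.2).symm
        exact MulAction.injective _ hga'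
      have := Nat.card_mono (Set.toFinite _) hsub
      rwa [Nat.card_coe_set_eq ({a}ᶜ), Set.ncard_compl, Set.ncard_singleton] at this
    haveI : Nonempty (MulAction.orbit A s) := ⟨⟨s, MulAction.mem_orbit_self s⟩⟩
    rw [h1, ArithmeticFunction.cardFactors_mul Nat.card_pos.ne' Nat.card_pos.ne', List.length_cons,
      add_mul, one_mul, add_comm]
    exact add_le_add h2 ((cardFactors_le_log _).trans (Nat.log_mono_right horb))

theorem log_bound (L : ℕ) (hL : 4 ≤ L) : 3 * (L + L * L) + 6 ≤ 2 ^ (L + 2) + 2 := by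
  induction L, hL using Nat.le_induction with
  | base => norm_num
  | succ L hL ih =>
    rw [show L + 1 + 2 = L + 2 + 1 by rfl, pow_succ]
    nlinarith

/-- numeric bound for a regular normal subgroup -/
theorem reg_arith {n d q w : ℕ} (hn : 2 ≤ n) (hq : q = n.minFac) (hd : q ^ d ≤ n)
    (hw : w ≤ cardFactors n + d * Nat.log 2 (n - 1)) : w ≤ 4 * (n - 1) / 3 := by
  have hq2 : 2 ≤ q := hq ▸ (Nat.minFac_prime (by omega)).two_le
  have hlog := cardFactors_le_log n
  have hdlog : d ≤ Nat.log 2 n := Nat.le_log_of_pow_le one_lt_two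
    (le_trans (Nat.pow_le_pow_left hq2 d) hd)
  by_cases h16 : 16 ≤ n
  · have hL : 4 ≤ Nat.log 2 n := Nat.le_log_of_pow_le one_lt_two h16
    have := log_bound _ hL
    have hp := Nat.pow_log_le_self 2 (show n ≠ 0 by omega)
    rw [pow_add] at this
    have := Nat.mul_le_mul hdlog (Nat.log_mono_right (b := 2) (show n - 1 ≤ n by omega))
    rw [Nat.le_div_iff_mul_le (by norm_num)]
    omega
  have hmul : ∀ e, d ≤ e → d * Nat.log 2 (n - 1) ≤ e * Nat.log 2 (n - 1) := fun e he =>
    Nat.mul_le_mul_right _ he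
  have h5 : n = 5 → cardFactors n = 1 := by
    rintro rfl
    exact ArithmeticFunction.cardFactors_apply_prime (by norm_num)
  have h9 : n = 9 → d ≤ 2 := by
    rintro rfl
    have : q = 3 := by rw [hq]; norm_num
    subst this
    by_contra hc
    have := Nat.pow_le_pow_right (show 0 < 3 by norm_num) (show 3 ≤ d by omega)
    omega
  have L0 : Nat.log 2 1 = 0 := by simp
  interval_cases n <;> norm_num [Nat.log] at hlog hdlog hw h5 h9 hmul ⊢ <;>
    (try specialize hmul _ hdlog) <;> omega

theorem regular_bound [FaithfulSMul G Ω] (N : Subgroup G) [N.Normal] (a : Ω)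
    (hreg : ∀ ω : Ω, ∃! x, x ∈ N ∧ x • a = ω) (hn : 2 ≤ Nat.card Ω)
    (htr : MulAction.IsPretransitive G Ω) :
    LenLe G (4 * (Nat.card Ω - 1) / 3) := by
  classical
  let ev : N → Ω := fun x => (x : G) • a
  have hev : Function.Bijective ev := by
    refine ⟨fun x y h => Subtype.ext ((hreg ((y : G) • a)).unique ⟨x.2, h⟩ ⟨y.2, rfl⟩), fun ω => ?_⟩
    obtain ⟨x, ⟨hx, hxω⟩, -⟩ := hreg ω
    exact ⟨⟨x, hx⟩, hxω⟩
  have hcard : Nat.card N = Nat.card Ω := Nat.card_eq_of_bijective ev hev
  obtain ⟨S, hS1, hS2, hS3⟩ := exists_gens (M := N) (Nat.card Ω).minFac (fun c hc hc1 => by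
    rw [hcard] at hc
    obtain ⟨p, hp, hpc⟩ := Nat.exists_prime_and_dvd hc1
    refine le_trans (Nat.minFac_le_of_dvd hp.two_le (hpc.trans hc)) (Nat.le_of_dvd ?_ hpc)
    exact Nat.pos_of_ne_zero fun e => by rw [e, zero_dvd_iff] at hc; omega)
  rw [hcard] at hS3
  have hbase := base_bound a (S.map ev) (MulAction.stabilizer G a) le_rfl ?_ ?_
  · refine lenLe_cardFactors (reg_arith (d := S.length) hn rfl hS3 ?_)
    rw [List.length_map] at hbase
    have h1 : Nat.card G = Nat.card Ω * Nat.card (MulAction.stabilizer G a) := by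
      rw [← (MulAction.stabilizer G a).index_mul_card, MulAction.index_stabilizer_of_transitive]
    rw [h1, ArithmeticFunction.cardFactors_mul (by omega) Nat.card_pos.ne']
    omega
  · intro g hga hfix
    have hc : ∀ x : N, g * x * g⁻¹ = x := by
      intro x
      have hmem : x ∈ Subgroup.closure {s | s ∈ S} := hS2 ▸ Subgroup.mem_top x
      induction hmem using Subgroup.closure_induction with
      | mem s hs =>
        refine (hreg ((s : G) • a)).unique ⟨(inferInstance : N.Normal).conj_mem _ s.2 g, ?_⟩ ⟨s.2, rfl⟩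
        rw [mul_smul, mul_smul, inv_smul_eq_iff.2 (hga : g • a = a).symm]
        exact hfix _ (List.mem_map.2 ⟨s, hs, rfl⟩)
      | one => simp
      | mul y z _ _ hy hz =>
        rw [Subgroup.coe_mul]
        nth_rewrite 2 [← hy]
        nth_rewrite 2 [← hz]
        group
      | inv y _ hy =>
        rw [Subgroup.coe_inv]
        nth_rewrite 2 [← hy]
        group
    refine eq_of_smul_eq_smul (α := Ω) fun ω => ?_
    obtain ⟨x, ⟨hx, rfl⟩, -⟩ := hreg ω
    have := hc ⟨x, hx⟩
    simp only [mul_inv_eq_iff_eq_mul] at this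
    rw [← mul_smul, this, mul_smul, show g • a = a from hga, one_smul]
  · intro s hs hsa
    obtain ⟨y, hy, rfl⟩ := List.mem_map.1 hs
    exact hS1 y hy (Subtype.ext ((hreg a).unique ⟨y.2, hsa⟩ ⟨N.one_mem, one_smul G a⟩))

/-! ### Powers of a simple group -/

variable {T : Type*} [Group T]

theorem exists_noncomm (h : ¬ IsMulCommutative T) : ∃ t s : T, t * s ≠ s * t := by
  by_contra hc
  push Not at hc
  exact h ⟨⟨hc⟩⟩

theorem single_mem [IsSimpleGroup T] (hT : ¬ IsMulCommutative T) {k : ℕ}
    (M : Subgroup (Fin k → T)) (hM : M.Normal) {x : Fin k → T} (hx : x ∈ M) {i : Fin k}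
    (hxi : x i ≠ 1) (t : T) : Pi.mulSingle i t ∈ M := by
  have hA : (M.comap (MonoidHom.mulSingle (fun _ : Fin k => T) i)).Normal := hM.comap _
  rcases IsSimpleGroup.eq_bot_or_eq_top_of_normal _ hA with h | h
  · exfalso
    have hcomm : ∀ u, x i * u = u * x i := by
      intro u
      have hmem : x * Pi.mulSingle i u * x⁻¹ * (Pi.mulSingle i u)⁻¹ ∈ M := by
        have e : x * Pi.mulSingle i u * x⁻¹ * (Pi.mulSingle i u)⁻¹ =
            x * (Pi.mulSingle i u * x⁻¹ * (Pi.mulSingle i u)⁻¹) := by group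
        rw [e]
        exact mul_mem hx (hM.conj_mem _ (inv_mem hx) _)
      have e : x * Pi.mulSingle i u * x⁻¹ * (Pi.mulSingle i u)⁻¹ =
          Pi.mulSingle i (x i * u * (x i)⁻¹ * u⁻¹) := by
        funext j
        rcases eq_or_ne j i with rfl | hj
        · simp
        · simp [Pi.mulSingle_eq_of_ne hj]
      rw [e] at hmem
      have : x i * u * (x i)⁻¹ * u⁻¹ ∈ M.comap (MonoidHom.mulSingle (fun _ : Fin k => T) i) := hmem
      rw [h, Subgroup.mem_bot, mul_inv_eq_one, mul_inv_eq_iff_eq_mul] at this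
      exact this
    have hc : (Subgroup.center T).Normal := inferInstance
    rcases IsSimpleGroup.eq_bot_or_eq_top_of_normal _ hc with hb | ht
    · exact hxi (Subgroup.mem_bot.1 (hb ▸ Subgroup.mem_center_iff.2 fun u => (hcomm u).symm))
    · obtain ⟨a, b, hab⟩ := exists_noncomm hT
      exact hab (Subgroup.mem_center_iff.1 (ht ▸ Subgroup.mem_top b) a)
  · exact (h ▸ Subgroup.mem_top t : t ∈ M.comap (MonoidHom.mulSingle (fun _ : Fin k => T) i))

/-- Automorphisms of `T ^ k` permute the factors. -/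
theorem factors [IsSimpleGroup T] (hT : ¬ IsMulCommutative T) {k : ℕ}
    (φ : (Fin k → T) ≃* (Fin k → T)) :
    ∃ σ : Fin k → Fin k, Function.Bijective σ ∧ ∀ x i, (φ x (σ i) = 1 ↔ x i = 1) := by
  classical
  obtain ⟨u, hu⟩ := exists_ne (1 : T)
  let R : Fin k → Subgroup (Fin k → T) := fun i => (MonoidHom.mulSingle (fun _ : Fin k => T) i).range
  have hRn : ∀ i, (R i).Normal := fun i => ⟨by
    rintro _ ⟨t, rfl⟩ g
    refine ⟨g i * t * (g i)⁻¹, ?_⟩
    funext j
    rcases eq_or_ne j i with rfl | hj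
    · simp
    · simp [Pi.mulSingle_eq_of_ne hj]⟩
  have himg : ∀ (ψ : (Fin k → T) ≃* (Fin k → T)) (i : Fin k), ∃ j, ∀ t, ∃ s, ψ (Pi.mulSingle i s) = Pi.mulSingle j t := by
    intro ψ i
    have hne : ψ (Pi.mulSingle i u) ≠ 1 := fun e => hu (by
      have := ψ.injective (e.trans (map_one ψ).symm)
      simpa using congrFun this i)
    obtain ⟨j, hj⟩ := Function.ne_iff.1 hne
    refine ⟨j, fun t => ?_⟩
    obtain ⟨_, ⟨s, rfl⟩, hy⟩ := single_mem hT ((R i).map ψ.toMonoidHom)
      ((hRn i).map _ ψ.surjective) (Subgroup.mem_map_of_mem _ ⟨u, rfl⟩) hj t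
    exact ⟨s, hy⟩
  choose σ hσ using himg
  -- the image of a factor is a factor
  have hfac : ∀ i s, ∀ j ≠ σ φ i, φ (Pi.mulSingle i s) j = 1 := by
    intro i s j hj
    obtain ⟨s', hs'⟩ := hσ φ i u
    -- the inverse image of the target factor is the factor `i`
    have hi : σ φ.symm (σ φ i) = i := by
      by_contra hne
      obtain ⟨t, ht⟩ := hσ φ.symm (σ φ i) u
      obtain ⟨s1, hs1⟩ := hσ φ i t
      have e := congrArg φ.symm hs1
      rw [φ.symm_apply_apply, ht] at e
      have := congrFun e (σ φ.symm (σ φ i))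
      rw [Pi.mulSingle_eq_same, Pi.mulSingle_eq_of_ne hne] at this
      exact hu this.symm
    obtain ⟨t, ht⟩ := hσ φ.symm (σ φ i) s
    rw [hi] at ht
    rw [← ht, φ.apply_symm_apply, Pi.mulSingle_eq_of_ne hj]
  refine ⟨σ φ, Finite.injective_iff_bijective.1 fun i i' h => ?_, fun x i => ?_⟩
  · by_contra hne
    obtain ⟨t, ht⟩ := hσ φ i u
    obtain ⟨t', ht'⟩ := hσ φ i' u
    rw [h] at ht
    have := congrFun (φ.injective (ht.trans ht'.symm)) i
    rw [Pi.mulSingle_eq_same, Pi.mulSingle_eq_of_ne hne] at this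
    subst this
    rw [Pi.mulSingle_one, map_one] at ht
    have := congrFun ht (σ φ i')
    simp [hu.symm] at this
  · -- the other coordinates do not matter
    have hsplit : φ x (σ φ i) = φ (Pi.mulSingle i (x i)) (σ φ i) := by
      let z := x * (Pi.mulSingle i (x i))⁻¹
      have hx : x = z * Pi.mulSingle i (x i) := by simp [z]
      have hcomm : ∀ t, φ z (σ φ i) * t = t * φ z (σ φ i) := by
        intro t
        obtain ⟨s, hs⟩ := hσ φ i t
        have e : z * Pi.mulSingle i s = Pi.mulSingle i s * z := by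
          funext j
          rcases eq_or_ne j i with rfl | hj
          · simp [z]
          · simp [Pi.mulSingle_eq_of_ne hj]
        have := congrArg (fun y => φ y (σ φ i)) e
        simpa [hs] using this
      have hz : φ z (σ φ i) = 1 := by
        rcases IsSimpleGroup.eq_bot_or_eq_top_of_normal (Subgroup.center T) inferInstance with hb | ht
        · exact Subgroup.mem_bot.1 (hb ▸ Subgroup.mem_center_iff.2 fun t => (hcomm t).symm)
        · obtain ⟨a, b, hab⟩ := exists_noncomm hT
          exact absurd (Subgroup.mem_center_iff.1 (ht ▸ Subgroup.mem_top b) a) hab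
      conv_lhs => rw [hx, map_mul, Pi.mul_apply, hz, one_mul]
    rw [hsplit]
    refine ⟨fun h => ?_, fun h => by rw [h, Pi.mulSingle_one, map_one, Pi.one_apply]⟩
    have : φ (Pi.mulSingle i (x i)) = 1 := by
      funext j
      rcases eq_or_ne j (σ φ i) with rfl | hj
      · exact h
      · exact hfac i (x i) j hj
    simpa using congrFun (φ.injective (this.trans (map_one φ).symm)) i

/-- A subgroup of `T ^ k` projecting onto each factor and meeting none is small. -/
theorem subdirect_card [IsSimpleGroup T] (hT : ¬ IsMulCommutative T) [Finite T] {k : ℕ}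
    (H : Subgroup (Fin k → T)) (hsurj : ∀ i t, ∃ h ∈ H, h i = t)
    (hmeet : ∀ h ∈ H, ∀ i, (∀ j ≠ i, h j = 1) → h = 1) :
    Nat.card H ^ 2 ≤ Nat.card T ^ k := by
  classical
  let K : Fin k → Subgroup H := fun i => ((Pi.evalMonoidHom (fun _ : Fin k => T) i).comp H.subtype).ker
  have hK : ∀ (i : Fin k) (h : H), h ∈ K i ↔ (h : Fin k → T) i = 1 := fun i h => Iff.rfl
  have hkill : ∀ (P : (Fin k → T) → Prop) (i : Fin k), P 1 → (∀ a b, P a → P b → P (a * b)) →
      (∀ g ∈ H, ∀ a, P a → P (g * a * g⁻¹)) → (∀ a, P a → P a⁻¹) →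
      (∃ a ∈ H, P a ∧ a i ≠ 1) → ∀ t, ∃ a ∈ H, P a ∧ a i = t := by
    intro P i h1 hmul hconj hinv ⟨a, ha, haP, hai⟩ t
    let A : Subgroup T :=
      { carrier := {t | ∃ a ∈ H, P a ∧ a i = t}
        one_mem' := ⟨1, one_mem _, h1, rfl⟩
        mul_mem' := fun ⟨a, ha, hPa, ea⟩ ⟨b, hb, hPb, eb⟩ =>
          ⟨a * b, mul_mem ha hb, hmul _ _ hPa hPb, by simp [ea, eb]⟩
        inv_mem' := fun ⟨a, ha, hPa, ea⟩ => ⟨a⁻¹, inv_mem ha, hinv _ hPa, by simp [ea]⟩ }
    have hn : A.Normal := ⟨fun t ⟨a, ha, hPa, ea⟩ s => by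
      obtain ⟨g, hg, rfl⟩ := hsurj i s
      exact ⟨g * a * g⁻¹, mul_mem (mul_mem hg ha) (inv_mem hg), hconj g hg a hPa, by simp [ea]⟩⟩
    rcases IsSimpleGroup.eq_bot_or_eq_top_of_normal A hn with h | h
    · exact absurd (Subgroup.mem_bot.1 (h ▸ (⟨a, ha, haP, rfl⟩ : a i ∈ A))) hai
    · exact (h ▸ Subgroup.mem_top t : t ∈ A)
  have htwin : ∀ i, ∃ j ≠ i, K j = K i := by
    intro i
    by_contra hc
    push Not at hc
    have hJ : ∀ J : Finset (Fin k), i ∉ J → ∀ t, ∃ a ∈ H, (∀ j ∈ J, a j = 1) ∧ a i = t := by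
      intro J
      induction J using Finset.induction with
      | empty => intro _ t; obtain ⟨a, ha, e⟩ := hsurj i t; exact ⟨a, ha, by simp, e⟩
      | @insert j J hj ih =>
        intro hi
        have hij : j ≠ i := fun e => hi (e ▸ Finset.mem_insert_self j J)
        have hu : ∃ a ∈ H, a j = 1 ∧ a i ≠ 1 := by
          by_contra hc'
          push Not at hc'
          refine hc j hij (le_antisymm (fun (x : H) hx => hc' _ x.2 hx) ?_)
          intro x hx
          by_contra hxj
          have hall := hkill (fun a => a i = 1) j rfl (fun a b ha hb => by simp [ha, hb])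
            (fun g _ a ha => by simp [ha]) (fun a ha => by simp [ha]) ⟨_, x.2, hx, hxj⟩
          -- then every element has trivial `i` coordinate
          obtain ⟨u, hu⟩ := exists_ne (1 : T)
          obtain ⟨g, hg, hgi⟩ := hsurj i u
          obtain ⟨a, ha, hai, haj⟩ := hall (g j)
          have := hc' (a⁻¹ * g) (mul_mem (inv_mem ha) hg) (by simp [haj])
          simp [hai, hgi, hu] at this
        obtain ⟨t, s, hts⟩ := exists_noncomm hT
        obtain ⟨u0, hu0, huj, hui⟩ := hu
        obtain ⟨b, hb, hbj, hbi⟩ := hkill (fun a => a j = 1) i rfl (fun a b ha hb => by simp [ha, hb])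
          (fun g _ a ha => by simp [ha]) (fun a ha => by simp [ha]) ⟨u0, hu0, huj, hui⟩ s
        obtain ⟨a, ha, haJ, hai⟩ := ih (fun h => hi (Finset.mem_insert_of_mem h)) t
        refine hkill (fun a => ∀ l ∈ insert j J, a l = 1) i (by simp)
          (fun a b ha hb l hl => by simp [ha l hl, hb l hl]) (fun g _ a ha l hl => by simp [ha l hl])
          (fun a ha l hl => by simp [ha l hl])
          ⟨a * b * a⁻¹ * b⁻¹, mul_mem (mul_mem (mul_mem ha hb) (inv_mem ha)) (inv_mem hb), ?_, ?_⟩
        · intro l hl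
          rcases Finset.mem_insert.1 hl with rfl | hl
          · simp [hbj]
          · simp [haJ l hl]
        · simp only [Pi.mul_apply, Pi.inv_apply, hai, hbi, Ne, mul_inv_eq_one, mul_inv_eq_iff_eq_mul, one_mul]
          exact hts
    obtain ⟨u, hu⟩ := exists_ne (1 : T)
    obtain ⟨a, ha, haJ, hai⟩ := hJ (Finset.univ.erase i) (by simp) u
    have := hmeet a ha i fun j hj => haJ j (by simp [hj])
    exact hu (by rw [← hai, this, Pi.one_apply])
  let R : Finset (Subgroup H) := Finset.univ.image K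
  have hR : R.card * 2 ≤ k := by
    have := Finset.mul_card_image_le_card (s := (Finset.univ : Finset (Fin k))) (f := K) (n := 2) ?_
    · simpa [R, mul_comm] using this
    · intro b hb
      obtain ⟨i, -, rfl⟩ := Finset.mem_image.1 hb
      obtain ⟨j, hj, e⟩ := htwin i
      exact Finset.one_lt_card.2 ⟨j, by simp [e], i, by simp, hj⟩
  have hrep : ∀ b : R, ∃ i, K i = b.1 := fun b => by
    obtain ⟨i, -, e⟩ := Finset.mem_image.1 b.2
    exact ⟨i, e⟩
  choose rep hrep using hrep
  let f : H → (R → T) := fun h b => (h : Fin k → T) (rep b)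
  have hf : Function.Injective f := by
    intro h h' he
    have hm : ∀ i, h⁻¹ * h' ∈ K i := by
      intro i
      obtain ⟨b, hb⟩ : ∃ b : R, b.1 = K i := ⟨⟨K i, Finset.mem_image_of_mem K (Finset.mem_univ i)⟩, rfl⟩
      rw [← hb, ← hrep b, hK]
      have := congrFun he b
      simp only [f] at this
      simp [this]
    refine inv_mul_eq_one.1 (Subtype.ext ?_)
    funext i
    exact (hK i _).1 (hm i)
  have h1 := Nat.card_le_card_of_injective f hf
  rw [Nat.card_fun, Nat.card_eq_fintype_card (α := R), Fintype.card_coe] at h1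
  calc Nat.card H ^ 2 ≤ (Nat.card T ^ R.card) ^ 2 := Nat.pow_le_pow_left h1 2
    _ = Nat.card T ^ (R.card * 2) := (pow_mul _ _ _).symm
    _ ≤ _ := Nat.pow_le_pow_right Nat.card_pos hR

theorem twelve_le_card [IsSimpleGroup T] (hT : ¬ IsMulCommutative T) [Finite T] : 12 ≤ Nat.card T := by
  classical
  have hne : Nat.card T ≠ 1 := fun h => hT (by
    haveI := (Nat.card_eq_one_iff_unique.1 h).1
    exact ⟨⟨fun a b => Subsingleton.elim _ _⟩⟩)
  have hnp : ∀ p, p.Prime → ¬ IsPGroup p T := by
    intro p hp hP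
    haveI := Fact.mk hp
    haveI : Nontrivial T := Finite.one_lt_card_iff_nontrivial.1 (by have := Nat.card_pos (α := T); omega)
    have h1 : Subgroup.center T ≠ ⊥ := fun h => by
      have := hP.center_nontrivial
      rw [h] at this
      exact false_of_nontrivial_of_subsingleton (⊥ : Subgroup T)
    rcases IsSimpleGroup.eq_bot_or_eq_top_of_normal (Subgroup.center T) inferInstance with hb | ht
    · exact h1 hb
    · obtain ⟨a, b, hab⟩ := exists_noncomm hT
      exact hab (Subgroup.mem_center_iff.1 (ht ▸ Subgroup.mem_top b) a)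
  obtain ⟨p, hp, hpd, hp3⟩ : ∃ p, p.Prime ∧ p ∣ Nat.card T ∧ 3 ≤ p := by
    by_contra hc
    push Not at hc
    refine hnp 2 Nat.prime_two (IsPGroup.of_card (n := (Nat.card T).primeFactorsList.length)
      (Nat.eq_prime_pow_of_unique_prime_dvd Nat.card_pos.ne' fun {d} hd hdd => ?_))
    have := hc d hd hdd
    have := hd.two_le
    omega
  haveI := Fact.mk hp
  let P : Sylow p T := default
  have hpP : p ∣ Nat.card P := P.dvd_card_of_dvd_card hpd
  have hle : p ≤ Nat.card P := Nat.le_of_dvd Nat.card_pos hpP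
  have hPn : ¬ (P : Subgroup T).Normal := fun h => by
    rcases IsSimpleGroup.eq_bot_or_eq_top_of_normal _ h with hb | ht
    · have : Nat.card P = 1 := Subgroup.card_eq_one.2 hb
      omega
    · exact hnp p hp ((P.isPGroup').of_equiv ((MulEquiv.subgroupCongr ht).trans Subgroup.topEquiv))
  have h1 := card_sylow_modEq_one p T
  have h2 : Nat.card (Sylow p T) ≠ 1 := fun h => hPn (by
    haveI := (Nat.card_eq_one_iff_unique.1 h).1
    exact Sylow.normal_of_subsingleton P)
  have h4 : 0 < Nat.card (Sylow p T) := Nat.card_pos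
  have h5 : p + 1 ≤ Nat.card (Sylow p T) := by
    by_contra hlt
    push Not at hlt
    rcases Nat.lt_or_ge (Nat.card (Sylow p T)) p with h | h
    · exact h2 (Nat.ModEq.eq_of_lt_of_lt h1 h (by omega))
    · rw [show Nat.card (Sylow p T) = p by omega, Nat.ModEq, Nat.mod_self, Nat.mod_eq_of_lt (by omega)] at h1
      omega
  have h6 : Nat.card (Sylow p T) * Nat.card P ≤ Nat.card T := by
    rw [← (P : Subgroup T).index_mul_card]
    exact Nat.mul_le_mul_right _ (Nat.le_of_dvd (Nat.pos_of_ne_zero Subgroup.index_ne_zero_of_finite) P.card_dvd_index)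
  nlinarith

theorem sq_mul_le_pow {t : ℕ} (ht : 12 ≤ t) : ∀ k : ℕ, 3 ≤ k → (k * t) ^ 2 ≤ t ^ k := by
  intro k hk
  induction k, hk using Nat.le_induction with
  | base => nlinarith
  | succ k hk ih =>
    rw [pow_succ]
    calc ((k + 1) * t) ^ 2 ≤ (k * t) ^ 2 * t := by
          have : (k + 1) ^ 2 ≤ k ^ 2 * t := by nlinarith
          calc ((k + 1) * t) ^ 2 = (k + 1) ^ 2 * t ^ 2 := mul_pow _ _ _
            _ ≤ k ^ 2 * t * t ^ 2 := Nat.mul_le_mul_right _ this
            _ = _ := by ring
      _ ≤ _ := Nat.mul_le_mul_right _ ih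

end CfsgLib.Perm.LengthCases
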