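import Mathlib

/-!
Multiple transitivity from transitivity of pointwise stabilisers of finite sets.
-/

set_option autoImplicit false
set_option linter.style.haveILetI false

namespace CfsgLib.Perm

variable {α : Type*}

/-- If for every set of fewer than `k` points the pointwise stabiliser is transitive on the
remaining points, then the group is `k`-transitive. -/
theorem isMultiplyPretransitive_of_fix [DecidableEq α] (G : Subgroup (Equiv.Perm α)) {k : ℕ}
    (h : ∀ T : Finset α, T.card < k → ∀ a b : α, a ∉ T → b ∉ T →
      ∃ g ∈ G, (∀ x ∈ T, g x = x) ∧ g a = b) :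
    MulAction.IsMultiplyPretransitive G α k := by
  classical
  have key : ∀ j, j ≤ k → ∀ x y : Fin j ↪ α, ∃ g ∈ G, ∀ i, g (x i) = y i := by
    intro j
    induction j with
    | zero => exact fun _ x y => ⟨1, G.one_mem, fun i => i.elim0⟩
    | succ j ih =>
      intro hj x y
      obtain ⟨g, hg, hgxy⟩ := ih (by omega)
        ((Fin.castSuccEmb).trans x) ((Fin.castSuccEmb).trans y)
      set T := Finset.univ.map ((Fin.castSuccEmb).trans y) with hT
      have hcT : T.card < k := by
        rw [hT, Finset.card_map, Finset.card_univ, Fintype.card_fin]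
        omega
      have hy : y (Fin.last j) ∉ T := by
        simp only [hT, Finset.mem_map, Finset.mem_univ, true_and, Function.Embedding.trans_apply,
          Fin.castSuccEmb_apply, not_exists]
        exact fun i hi => (Fin.castSucc_lt_last i).ne (y.injective hi)
      have hx : g (x (Fin.last j)) ∉ T := by
        simp only [hT, Finset.mem_map, Finset.mem_univ, true_and, not_exists]
        intro i hi
        rw [← hgxy i] at hi
        exact (Fin.castSucc_lt_last i).ne (x.injective (g.injective hi))
      obtain ⟨u, hu, hufix, hua⟩ := h T hcT _ _ hx hy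
      refine ⟨u * g, G.mul_mem hu hg, fun i => ?_⟩
      refine Fin.lastCases ?_ (fun i => ?_) i
      · exact hua
      · have h1 : g (x i.castSucc) = y i.castSucc := hgxy i
        rw [Equiv.Perm.mul_apply, h1]
        exact hufix _ (Finset.mem_map.mpr ⟨i, Finset.mem_univ i, rfl⟩)
  constructor
  intro x y
  obtain ⟨g, hg, hgxy⟩ := key k le_rfl x y
  exact ⟨⟨g, hg⟩, Function.Embedding.ext hgxy⟩

/-- It suffices to treat the sets of exactly `k - 1` points when `k` is less than the degree. -/
theorem isMultiplyPretransitive_of_fix_pred [Fintype α] [DecidableEq α]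
    (G : Subgroup (Equiv.Perm α)) {k : ℕ} (hk : k < Fintype.card α)
    (h : ∀ T : Finset α, T.card = k - 1 → ∀ a b : α, a ∉ T → b ∉ T →
      ∃ g ∈ G, (∀ x ∈ T, g x = x) ∧ g a = b) :
    MulAction.IsMultiplyPretransitive G α k := by
  classical
  refine isMultiplyPretransitive_of_fix G fun T hT a b ha hb => ?_
  have h1 : T ⊆ Finset.univ \ {a, b} := by
    intro x hx
    simp only [Finset.mem_sdiff, Finset.mem_univ, Finset.mem_insert, Finset.mem_singleton, true_and]
    rintro (rfl | rfl)
    · exact ha hx
    · exact hb hx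
  have h2 : k - 1 ≤ (Finset.univ \ {a, b} : Finset α).card := by
    rw [Finset.card_sdiff_of_subset (Finset.subset_univ _), Finset.card_univ]
    have := Finset.card_le_two (a := a) (b := b)
    omega
  obtain ⟨T', hTT', hT', hcard⟩ := Finset.exists_subsuperset_card_eq h1 (by omega) h2
  obtain ⟨g, hg, hfix, hab⟩ := h T' hcard a b
    (fun hm => by simpa using hT' hm) (fun hm => by simpa using hT' hm)
  exact ⟨g, hg, fun x hx => hfix x (hTT' hx), hab⟩

/-- A counting criterion for transitivity: if for each point `x` of `Y` there is `q x ≥ 2`,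
the same for all, such that every invariant subset of `Y` omitting `x` has size divisible by `q`
and, on removing `x`, so has every invariant subset containing it, there is only one orbit. -/
theorem exists_smul_eq_of_dvd {H : Type*} [Group H] [MulAction H α] [Finite α] (Y : Set α)
    (hY : ∀ (h : H) (y : α), y ∈ Y → h • y ∈ Y) {q : ℕ} (hq : 1 < q)
    (hdvd : ∀ x ∈ Y, ∀ O : Set α, O ⊆ Y → (∀ h : H, ∀ y ∈ O, h • y ∈ O) →
      q ∣ (O \ {x}).ncard) :
    ∀ a ∈ Y, ∀ b ∈ Y, ∃ h : H, h • a = b := by
  intro a ha b hb
  by_contra hne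
  push Not at hne
  have hsub : MulAction.orbit H a ⊆ Y := by
    rintro _ ⟨h, rfl⟩
    exact hY h a ha
  have hinv : ∀ h : H, ∀ y ∈ MulAction.orbit H a, h • y ∈ MulAction.orbit H a := by
    rintro h _ ⟨u, rfl⟩
    exact ⟨h * u, mul_smul h u a⟩
  have hbo : b ∉ MulAction.orbit H a := by
    rintro ⟨u, hu⟩
    exact hne u hu
  have h1 := hdvd a ha _ hsub hinv
  have h2 := hdvd b hb _ hsub hinv
  rw [Set.diff_singleton_eq_self hbo] at h2
  have h3 : (MulAction.orbit H a).ncard = (MulAction.orbit H a \ {a}).ncard + 1 :=
    (Set.ncard_sdiff_singleton_add_one (MulAction.mem_orbit_self a) (Set.toFinite _)).symm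
  rw [h3] at h2
  exact Nat.not_succ_le_self 1 (le_trans hq (Nat.le_of_dvd Nat.one_pos ((Nat.dvd_add_right h1).mp h2)))

/-- An invariant set all whose orbits have size `d` has size divisible by `d`. -/
theorem dvd_ncard_of_orbits {H : Type*} [Group H] [MulAction H α] [Finite α] (O : Set α)
    (hO : ∀ (h : H) (y : α), y ∈ O → h • y ∈ O) {d : ℕ}
    (hd : ∀ y ∈ O, (MulAction.orbit H y).ncard = d) : d ∣ O.ncard := by
  classical
  let S : SubMulAction H α := { carrier := O, smul_mem' := hO }
  haveI : Fintype (S : Set α) := Fintype.ofFinite _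
  have hcard : O.ncard = Nat.card S := (Nat.card_coe_set_eq O).symm
  rw [hcard, Nat.card_congr (MulAction.selfEquivSigmaOrbits H S), Nat.card_sigma]
  refine Finset.dvd_sum fun ω _ => ?_
  have hω : (MulAction.orbit H ω.out).ncard = d := by
    rw [← hd _ ω.out.2, ← SubMulAction.val_image_orbit,
      Set.ncard_image_of_injective _ Subtype.val_injective]
  rw [Nat.card_coe_set_eq, hω]

end CfsgLib.Perm
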