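import Cfsg.Agent.Perm.PrimePSLField
import Cfsg.Agent.Solv.SmallTransfer
import Cfsg.Agent.S0803

/-!
The simple group of order 168.
-/

set_option autoImplicit false
set_option linter.style.haveILetI false
set_option linter.unusedSectionVars false

namespace CfsgLib.Perm.Order168

variable {G : Type*} [Group G] [Finite G] [IsSimpleGroup G]

theorem not_comm168 (h : Nat.card G = 168) : ¬ IsMulCommutative G :=
  SimpleOrder.not_comm (by rw [h]; norm_num)

theorem normal_eq (h : Nat.card G = 168) {N : Subgroup G} (hN : N.Normal) {n : ℕ} (hn : Nat.card N = n)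
    (h1 : n ≠ 1) : n = 168 := by
  rcases hN.eq_bot_or_eq_top with rfl | rfl
  · rw [Subgroup.card_bot] at hn; omega
  · rw [Subgroup.card_top, h] at hn; omega

theorem not_index_two (h : Nat.card G = 168) (N : Subgroup G) : N.index ≠ 2 := fun h2 => by
  rcases (Subgroup.normal_of_index_eq_two h2).eq_bot_or_eq_top with rfl | rfl
  · rw [Subgroup.index_bot, h] at h2; omega
  · rw [Subgroup.index_top] at h2; omega

/-- Burnside's transfer criterion in a simple group. -/
theorem not_normalizer_le_centralizer (h : Nat.card G = 168) {p : ℕ} [Fact p.Prime] (P : Sylow p G)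
    (hP : Nat.card (P : Subgroup G) ≠ 1) (hP' : Nat.card (P : Subgroup G) ≠ 168) :
    ¬ Subgroup.normalizer ((P : Subgroup G) : Set G) ≤ Subgroup.centralizer ((P : Subgroup G) : Set G) := by
  intro hle
  have hc := (MonoidHom.ker_transferSylow_isComplement' P hle).card_mul
  rcases (MonoidHom.normal_ker (MonoidHom.transferSylow P hle)).eq_bot_or_eq_top with hb | hb
  · rw [hb, Subgroup.card_bot, one_mul] at hc; omega
  · rw [hb, Subgroup.card_top, h] at hc
    exact hP (by omega)

theorem card_seven (h : Nat.card G = 168) [Fact (Nat.Prime 7)] : Nat.card (Sylow 7 G) = 8 := by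
  refine PrimePSL.card_sylow_eq (r := 24) (by rw [h]) (by rw [h]; norm_num) (by norm_num) fun d hd h1 h2 => ?_
  have hle := Nat.le_of_dvd (by norm_num) hd
  have key : ∀ e < 25, e ∣ 24 → e % 7 = 1 % 7 → e ≠ 1 → e = 8 := by decide
  exact key d (by omega) hd h1 h2

theorem card_sylow_seven (h : Nat.card G = 168) [Fact (Nat.Prime 7)] (P : Sylow 7 G) :
    Nat.card (P : Subgroup G) = 7 := by
  rw [P.card_eq_multiplicity, h, show (168 : ℕ) = 7 * 24 from rfl, Nat.factorization_mul (by norm_num) (by norm_num),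
    Finsupp.add_apply, Nat.prime_seven.factorization_self, Nat.factorization_eq_zero_of_not_dvd (by norm_num : ¬ 7 ∣ 24)]
  rfl

theorem card_sylow_three (h : Nat.card G = 168) [Fact (Nat.Prime 3)] (Q : Sylow 3 G) :
    Nat.card (Q : Subgroup G) = 3 := by
  rw [Q.card_eq_multiplicity, h, show (168 : ℕ) = 3 * 56 from rfl, Nat.factorization_mul (by norm_num) (by norm_num),
    Finsupp.add_apply, Nat.prime_three.factorization_self, Nat.factorization_eq_zero_of_not_dvd (by norm_num : ¬ 3 ∣ 56)]
  rfl

theorem card_sylow_two (h : Nat.card G = 168) [Fact (Nat.Prime 2)] (T : Sylow 2 G) :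
    Nat.card (T : Subgroup G) = 8 := by
  rw [T.card_eq_multiplicity, h, show (168 : ℕ) = 2 ^ 3 * 21 from rfl, Nat.factorization_mul (by norm_num) (by norm_num),
    Finsupp.add_apply, Nat.factorization_pow, Finsupp.smul_apply, Nat.prime_two.factorization_self,
    Nat.factorization_eq_zero_of_not_dvd (by norm_num : ¬ 2 ∣ 21)]
  rfl

theorem card_normalizer_seven (h : Nat.card G = 168) [Fact (Nat.Prime 7)] (P : Sylow 7 G) :
    Nat.card (Subgroup.normalizer ((P : Subgroup G) : Set G)) = 21 := by
  have h1 := (Subgroup.normalizer ((P : Subgroup G) : Set G)).card_mul_index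
  rw [SylowNumber.index_normalizer, card_seven h, h] at h1
  omega

/-- The centraliser of an element of order seven. -/
theorem cen_seven (h : Nat.card G = 168) {x : G} (hx : orderOf x = 7) :
    Subgroup.centralizer ({x} : Set G) = Subgroup.zpowers x := by
  haveI : Fact (Nat.Prime 7) := ⟨Nat.prime_seven⟩
  obtain ⟨P, hP⟩ := (IsPGroup.of_card (n := 1) (by rw [Nat.card_zpowers, hx, pow_one]) :
    IsPGroup 7 (Subgroup.zpowers x)).exists_le_sylow
  have hz : Subgroup.zpowers x = P :=
    Subgroup.eq_of_le_of_card_ge hP (by rw [Nat.card_zpowers, hx, card_sylow_seven h])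
  have hC : Subgroup.centralizer ({x} : Set G) = Subgroup.centralizer ((P : Subgroup G) : Set G) := by
    rw [← hz, Subgroup.zpowers_eq_closure, Subgroup.centralizer_closure]
  rw [hz, hC]
  refine le_antisymm ?_ (fun a ha => ?_)
  · intro a ha
    by_contra haP
    have hd : Nat.card (Subgroup.centralizer ((P : Subgroup G) : Set G)) ∣ 21 :=
      card_normalizer_seven h P ▸ Subgroup.card_dvd_of_le (Subgroup.centralizer_le_normalizer _)
    have hPC : (P : Subgroup G) ≤ Subgroup.centralizer ((P : Subgroup G) : Set G) := fun b hb => by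
      rw [Subgroup.mem_centralizer_iff]
      intro c hc
      rw [← hz] at hb hc
      obtain ⟨i, rfl⟩ := Subgroup.mem_zpowers_iff.1 hb
      obtain ⟨j, rfl⟩ := Subgroup.mem_zpowers_iff.1 hc
      rw [← zpow_add, ← zpow_add, add_comm]
    have h7 : 7 ∣ Nat.card (Subgroup.centralizer ((P : Subgroup G) : Set G)) :=
      (dvd_of_eq (card_sylow_seven h P).symm).trans (Subgroup.card_dvd_of_le hPC)
    have hne : Nat.card (Subgroup.centralizer ((P : Subgroup G) : Set G)) ≠ 7 := fun e => haP
      ((Subgroup.eq_of_le_of_card_ge hPC (by rw [e, card_sylow_seven h])).symm ▸ ha)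
    have h21 : Nat.card (Subgroup.centralizer ((P : Subgroup G) : Set G)) = 21 := by
      obtain ⟨k, hk⟩ := h7
      rw [hk] at hd hne ⊢
      have : k ∣ 3 := (Nat.mul_dvd_mul_iff_left (by norm_num : 0 < 7)).1 hd
      rcases (Nat.dvd_prime Nat.prime_three).1 this with rfl | rfl
      · exact absurd rfl hne
      · rfl
    refine not_normalizer_le_centralizer h P (by rw [card_sylow_seven h]; norm_num) (by rw [card_sylow_seven h]; norm_num) ?_
    exact (Subgroup.eq_of_le_of_card_ge (Subgroup.centralizer_le_normalizer _) (by rw [h21, card_normalizer_seven h])).ge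
  · rw [Subgroup.mem_centralizer_iff]
    intro c hc
    rw [← hz] at ha hc
    obtain ⟨i, rfl⟩ := Subgroup.mem_zpowers_iff.1 ha
    obtain ⟨j, rfl⟩ := Subgroup.mem_zpowers_iff.1 hc
    rw [← zpow_add, ← zpow_add, add_comm]

/-- A copy of the symmetric group of degree four. -/
theorem exists_s4 (h : Nat.card G = 168) : ∃ f : Equiv.Perm (Fin 4) →* G, Function.Injective f := by
  haveI : Fact (Nat.Prime 7) := ⟨Nat.prime_seven⟩
  have h9 : (3 : ℕ) = 3 → ¬ 9 ∣ Nat.card G := fun _ => by rw [h]; norm_num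
  obtain ⟨e⟩ := PrimePSL.iso_PSL PrimePSL.data_seven (card_seven h) (by rw [h]) h9
  obtain ⟨H, ⟨i⟩⟩ := (Cfsg.Agent.S0803.result (F := ZMod 7) (ZMod.card 7)).2 (by norm_num)
  exact ⟨e.symm.toMonoidHom.comp (H.subtype.comp i.symm.toMonoidHom),
    e.symm.injective.comp (H.subtype_injective.comp i.symm.injective)⟩

theorem card_three (h : Nat.card G = 168) [Fact (Nat.Prime 3)] : Nat.card (Sylow 3 G) = 28 := by
  haveI : Fact (Nat.Prime 7) := ⟨Nat.prime_seven⟩
  obtain ⟨Q⟩ : Nonempty (Sylow 3 G) := inferInstance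
  have hd := SylowPrime.card_sylow_dvd Q (m := 56) (by rw [card_sylow_three h, h])
  have hf := SylowPrime.card_dvd_factorial (G := G) (p := 3) (not_comm168 h) (by rw [h]; norm_num)
  have hm : Nat.card (Sylow 3 G) % 3 = 1 := card_sylow_modEq_one 3 G
  rw [h] at hf
  have hle := Nat.le_of_dvd (by norm_num) hd
  have key : ∀ e < 57, e ∣ 56 → e % 3 = 1 → e = 28 ∨ e = 7 ∨ e ≤ 4 := by decide
  rcases key _ (by omega) hd hm with h28 | h7 | h4
  · exact h28
  swap
  · exfalso
    revert hf
    interval_cases Nat.card (Sylow 3 G) <;> decide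
  exfalso
  -- with seven Sylow three-subgroups each of them fixes every Sylow seven-subgroup
  have hall : ∀ (P : Sylow 7 G) (R : Sylow 3 G), (R : Subgroup G) ≤ Subgroup.normalizer ((P : Subgroup G) : Set G) := by
    intro P R
    set N := Subgroup.normalizer ((P : Subgroup G) : Set G) with hN
    obtain ⟨y, hy⟩ := exists_prime_orderOf_dvd_card' (G := N) 3 (by rw [card_normalizer_seven h]; norm_num)
    obtain ⟨R0, hR0⟩ := (IsPGroup.of_card (n := 1) (by rw [Nat.card_zpowers, Subgroup.orderOf_coe, hy, pow_one]) :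
      IsPGroup 3 (Subgroup.zpowers (y : G))).exists_le_sylow
    have hR0N : (R0 : Subgroup G) ≤ N := by
      rw [← Subgroup.eq_of_le_of_card_ge hR0 (by rw [Nat.card_zpowers, Subgroup.orderOf_coe, hy, card_sylow_three h])]
      exact Subgroup.zpowers_le.2 y.2
    have hinj : Function.Injective (fun z : (P : Subgroup G) => (z : G) • R0) := by
      intro z z' e
      by_contra hne
      have h1 : (z'⁻¹ * z : G) • R0 = R0 :=
        (mul_smul _ _ _).trans ((congrArg ((z' : G)⁻¹ • ·) e).trans (inv_smul_smul _ _))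
      set d := (z'⁻¹ * z : G) with hd
      have hdP : d ∈ (P : Subgroup G) := mul_mem (inv_mem z'.2) z.2
      have hd1 : d ≠ 1 := fun e1 => hne (Subtype.ext (inv_mul_eq_one.1 e1).symm)
      have hd7 : orderOf d = 7 := by
        rcases (Nat.dvd_prime Nat.prime_seven).1 (card_sylow_seven h P ▸ Subgroup.orderOf_dvd_natCard _ hdP) with e1 | e1
        · exact absurd (orderOf_eq_one_iff.1 e1) hd1
        · exact e1
      have hdN := Sylow.smul_eq_iff_mem_normalizer.1 h1
      -- `d` and `R0` normalise each other and meet trivially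
      have hcomm : (y : G) * d = d * y := by
        have h2 : (y : G) * d * (y : G)⁻¹ * d⁻¹ ∈ (R0 : Subgroup G) := by
          rw [mul_assoc, mul_assoc]
          refine mul_mem (hR0 (Subgroup.mem_zpowers _)) ?_
          rw [← mul_assoc]
          exact (Subgroup.mem_normalizer_iff.1 hdN _).1 (inv_mem (hR0 (Subgroup.mem_zpowers _)))
        have h3 : (y : G) * d * (y : G)⁻¹ * d⁻¹ ∈ (P : Subgroup G) :=
          mul_mem ((Subgroup.mem_normalizer_iff.1 y.2 d).1 hdP) (inv_mem hdP)
        have h4 : (y : G) * d * (y : G)⁻¹ * d⁻¹ = 1 := orderOf_eq_one_iff.1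
          (Nat.eq_one_of_dvd_coprimes (by norm_num : Nat.Coprime 3 7)
            (card_sylow_three h R0 ▸ Subgroup.orderOf_dvd_natCard _ h2)
            (card_sylow_seven h P ▸ Subgroup.orderOf_dvd_natCard _ h3))
        calc (y : G) * d = ((y : G) * d * (y : G)⁻¹ * d⁻¹) * (d * y) := by group
          _ = d * y := by rw [h4, one_mul]
      have h5 : (y : G) ∈ Subgroup.centralizer ({d} : Set G) := Subgroup.mem_centralizer_singleton_iff.2 hcomm
      rw [cen_seven h hd7] at h5
      have h6 := Subgroup.orderOf_dvd_natCard _ h5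
      rw [Nat.card_zpowers, hd7, Subgroup.orderOf_coe, hy] at h6
      norm_num at h6
    have hbij := (Nat.bijective_iff_injective_and_card _).2 ⟨hinj, by rw [card_sylow_seven h, h7]⟩
    obtain ⟨z, rfl⟩ := hbij.2 R
    intro a ha
    rw [Sylow.coe_subgroup_smul, Subgroup.mem_pointwise_smul_iff_inv_smul_mem] at ha
    have hz : (z : G) ∈ N := Subgroup.le_normalizer z.2
    have h8 : (z : G)⁻¹ * a * z ∈ N := by simpa using hR0N ha
    simpa [mul_assoc] using mul_mem (mul_mem hz h8) (inv_mem hz)
  have hker : (MulAction.toPermHom G (Sylow 7 G)).ker = ⊥ := by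
    refine ((MonoidHom.normal_ker (MulAction.toPermHom G (Sylow 7 G))).eq_bot_or_eq_top).resolve_right fun htop => ?_
    have hs : Subsingleton (Sylow 7 G) := ⟨fun A B => by
      obtain ⟨y, hy⟩ := MulAction.exists_smul_eq G A B
      have : MulAction.toPermHom G (Sylow 7 G) y = 1 := MonoidHom.mem_ker.1 (htop ▸ Subgroup.mem_top y)
      rw [← hy]
      exact (congrArg (fun σ : Equiv.Perm (Sylow 7 G) => σ A) this).symm⟩
    have := Finite.card_le_one_iff_subsingleton.2 hs
    rw [card_seven h] at this; omega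
  have hQ : (Q : Subgroup G) = ⊥ := by
    rw [eq_bot_iff, ← hker]
    intro a ha
    rw [MonoidHom.mem_ker]
    exact Equiv.ext fun P => Sylow.smul_eq_iff_mem_normalizer.2 (hall P Q ha)
  have := card_sylow_three h Q
  rw [hQ, Subgroup.card_bot] at this
  omega

theorem card_normalizer_three (h : Nat.card G = 168) [Fact (Nat.Prime 3)] (Q : Sylow 3 G) :
    Nat.card (Subgroup.normalizer ((Q : Subgroup G) : Set G)) = 6 := by
  have h1 := (Subgroup.normalizer ((Q : Subgroup G) : Set G)).card_mul_index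
  rw [SylowNumber.index_normalizer, card_three h, h] at h1
  omega

/-- The centraliser of an element of order three, and an element inverting it. -/
theorem cen_three (h : Nat.card G = 168) {x : G} (hx : orderOf x = 3) :
    Subgroup.centralizer ({x} : Set G) = Subgroup.zpowers x ∧ ∃ s : G, s * x * s⁻¹ = x⁻¹ := by
  classical
  haveI : Fact (Nat.Prime 3) := ⟨Nat.prime_three⟩
  obtain ⟨Q, hQ⟩ := (IsPGroup.of_card (n := 1) (by rw [Nat.card_zpowers, hx, pow_one]) :
    IsPGroup 3 (Subgroup.zpowers x)).exists_le_sylow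
  have hz : Subgroup.zpowers x = Q :=
    Subgroup.eq_of_le_of_card_ge hQ (by rw [Nat.card_zpowers, hx, card_sylow_three h])
  have hC : Subgroup.centralizer ({x} : Set G) = Subgroup.centralizer ((Q : Subgroup G) : Set G) := by
    rw [← hz, Subgroup.zpowers_eq_closure, Subgroup.centralizer_closure]
  set C := Subgroup.centralizer ((Q : Subgroup G) : Set G) with hCdef
  have hd : Nat.card C ∣ 6 := card_normalizer_three h Q ▸ Subgroup.card_dvd_of_le (Subgroup.centralizer_le_normalizer _)
  have hxC : Subgroup.zpowers x ≤ C := by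
    rw [← hC, Subgroup.zpowers_le, Subgroup.mem_centralizer_singleton_iff]
  have h3 : 3 ∣ Nat.card C := hx ▸ Nat.card_zpowers x ▸ Subgroup.card_dvd_of_le hxC
  have hne : Nat.card C ≠ 6 := fun e =>
    not_normalizer_le_centralizer h Q (by rw [card_sylow_three h]; norm_num) (by rw [card_sylow_three h]; norm_num)
      (Subgroup.eq_of_le_of_card_ge (Subgroup.centralizer_le_normalizer _) (by rw [e, card_normalizer_three h])).ge
  have hCc : Nat.card C = 3 := by
    have hle := Nat.le_of_dvd (by norm_num) hd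
    interval_cases hc : Nat.card C <;> omega
  have hCeq : Subgroup.centralizer ({x} : Set G) = Subgroup.zpowers x := by
    rw [hC]; exact (Subgroup.eq_of_le_of_card_ge hxC (by rw [hCc, Nat.card_zpowers, hx])).symm
  refine ⟨hCeq, ?_⟩
  obtain ⟨s, hs, hsn⟩ : ∃ s ∈ Subgroup.normalizer ((Q : Subgroup G) : Set G), s ∉ C := by
    by_contra hcon
    push Not at hcon
    have := Subgroup.card_le_of_le (show Subgroup.normalizer ((Q : Subgroup G) : Set G) ≤ C from hcon)
    rw [card_normalizer_three h, hCc] at this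
    omega
  refine ⟨s, ?_⟩
  have h1 : s * x * s⁻¹ ∈ Subgroup.zpowers x := hz ▸ (Subgroup.mem_normalizer_iff.1 hs x).1 (hQ (Subgroup.mem_zpowers x))
  rw [mem_zpowers_iff_mem_range_orderOf, hx, Finset.mem_image] at h1
  obtain ⟨k, hk, hke⟩ := h1
  rw [Finset.mem_range] at hk
  have h3' : x ^ 3 = 1 := hx ▸ pow_orderOf_eq_one x
  interval_cases k
  · exfalso
    rw [pow_zero] at hke
    have : x = 1 := conj_eq_one_iff.1 hke.symm
    rw [this, orderOf_one] at hx; omega
  · exfalso
    rw [pow_one] at hke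
    exact hsn (hC ▸ Subgroup.mem_centralizer_singleton_iff.2 (mul_inv_eq_iff_eq_mul.1 hke.symm))
  · rw [← hke, eq_inv_iff_mul_eq_one, ← pow_succ]
    exact h3'

/-- The centraliser of an involution is a two-group. -/
theorem cen_invol_two_group (h : Nat.card G = 168) {z : G} (hz : orderOf z = 2) :
    IsPGroup 2 (Subgroup.centralizer ({z} : Set G)) := by
  have hno : ∀ p : ℕ, p.Prime → p ≠ 2 → ¬ p ∣ Nat.card (Subgroup.centralizer ({z} : Set G)) := by
    intro p hp hp2 hpd
    haveI := Fact.mk hp
    obtain ⟨y, hy⟩ := exists_prime_orderOf_dvd_card' (G := Subgroup.centralizer ({z} : Set G)) p hpd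
    have hy' : orderOf (y : G) = p := by rw [Subgroup.orderOf_coe, hy]
    have hyz : z ∈ Subgroup.centralizer ({(y : G)} : Set G) :=
      Subgroup.mem_centralizer_singleton_iff.2 (Subgroup.mem_centralizer_singleton_iff.1 y.2).symm
    have hp' : p ∣ 168 := h ▸ hy' ▸ orderOf_dvd_natCard (y : G)
    have : p = 3 ∨ p = 7 := by
      have hle := Nat.le_of_dvd (by norm_num) hp'
      have key : ∀ e < 169, e ∣ 168 → e.Prime → e = 2 ∨ e = 3 ∨ e = 7 := by decide +kernel
      rcases key p (by omega) hp' hp with e | e | e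
      · exact absurd e hp2
      · exact Or.inl e
      · exact Or.inr e
    rcases this with rfl | rfl
    · rw [(cen_three h hy').1] at hyz
      have := Subgroup.orderOf_dvd_natCard _ hyz
      rw [Nat.card_zpowers, hy', hz] at this
      norm_num at this
    · rw [cen_seven h hy'] at hyz
      have := Subgroup.orderOf_dvd_natCard _ hyz
      rw [Nat.card_zpowers, hy', hz] at this
      norm_num at this
  exact IsPGroup.of_card (n := (Nat.card (Subgroup.centralizer ({z} : Set G))).primeFactorsList.length)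
    (Nat.eq_prime_pow_of_unique_prime_dvd Nat.card_pos.ne' fun {d} hd hdd => by
      by_contra hne
      exact hno d hd hne hdd)

/-- The four-cycle. -/
def cyc : Equiv.Perm (Fin 4) := finRotate 4

/-- The dihedral group inside the symmetric group of degree four. -/
def d4s4 : DihedralGroup 4 →* Equiv.Perm (Fin 4) where
  toFun
    | DihedralGroup.r i => cyc ^ i.val
    | DihedralGroup.sr i => Equiv.swap 0 2 * cyc ^ i.val
  map_one' := by decide
  map_mul' := by decide

theorem d4s4_injective : Function.Injective d4s4 := by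
  intro a b
  revert a b
  decide

/-- The Sylow two-subgroups are dihedral. -/
theorem sylow_two_iso (h : Nat.card G = 168) (T : Sylow 2 G) : Nonempty ((T : Subgroup G) ≃* DihedralGroup 4) := by
  haveI : Fact (Nat.Prime 2) := ⟨Nat.prime_two⟩
  obtain ⟨f, hf⟩ := exists_s4 h
  have hinj : Function.Injective (f.comp d4s4) := hf.comp d4s4_injective
  have hc : Nat.card (f.comp d4s4).range = 2 ^ (Nat.card G).factorization 2 := by
    rw [← Nat.card_congr (MonoidHom.ofInjective hinj).toEquiv, ← T.card_eq_multiplicity, card_sylow_two h,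
      Nat.card_eq_fintype_card, DihedralGroup.card]
  let S : Sylow 2 G := Sylow.ofCard _ hc
  have hS : (S : Subgroup G) = (f.comp d4s4).range := Sylow.coe_ofCard _ _
  exact ⟨(Sylow.equiv T S).trans ((MulEquiv.subgroupCongr hS).trans (MonoidHom.ofInjective hinj).symm)⟩

theorem d4_center : ∀ x : DihedralGroup 4, (∀ y, x * y = y * x) → x = 1 ∨ x = DihedralGroup.r 2 := by decide

theorem d4_sq : ∀ x : DihedralGroup 4, x * x = 1 ∨ x * x = DihedralGroup.r 2 := by decide

theorem d4_r2 : (∀ y : DihedralGroup 4, DihedralGroup.r 2 * y = y * DihedralGroup.r 2) ∧ orderOf (DihedralGroup.r 2 : DihedralGroup 4) = 2 :=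
  ⟨by decide, orderOf_eq_prime (by decide) (by decide)⟩

theorem d4_four_conj : ∀ x y : DihedralGroup 4, x * x ≠ 1 → y * y ≠ 1 → ∃ g, g * x * g⁻¹ = y := by decide

/-- Central involutions and the normaliser of a Sylow two-subgroup. -/
theorem two_local (h : Nat.card G = 168) (T : Sylow 2 G) :
    Subgroup.normalizer ((T : Subgroup G) : Set G) = T ∧ ∀ z : G, z ∈ (T : Subgroup G) → z ≠ 1 →
      (∀ t ∈ (T : Subgroup G), t * z = z * t) →
      orderOf z = 2 ∧ Subgroup.centralizer ({z} : Set G) = T := by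
  haveI : Fact (Nat.Prime 2) := ⟨Nat.prime_two⟩
  obtain ⟨e⟩ := sylow_two_iso h T
  have hcen : ∀ z : G, ∀ hz : z ∈ (T : Subgroup G), z ≠ 1 → (∀ t ∈ (T : Subgroup G), t * z = z * t) →
      e ⟨z, hz⟩ = DihedralGroup.r 2 := fun z hz hz1 hc => by
    refine (d4_center (e ⟨z, hz⟩) fun y => ?_).resolve_left fun e1 => hz1 ?_
    · obtain ⟨t, rfl⟩ := e.surjective y
      rw [← map_mul, ← map_mul]
      exact congrArg e (Subtype.ext (hc t t.2).symm)
    · exact congrArg Subtype.val (e.map_eq_one_iff.1 e1)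
  have hmain : ∀ z : G, z ∈ (T : Subgroup G) → z ≠ 1 → (∀ t ∈ (T : Subgroup G), t * z = z * t) →
      orderOf z = 2 ∧ Subgroup.centralizer ({z} : Set G) = T := fun z hz hz1 hc => by
    have h2 : orderOf z = 2 := by
      rw [← Subgroup.orderOf_mk z hz, ← MulEquiv.orderOf_eq e, hcen z hz hz1 hc]
      exact d4_r2.2
    refine ⟨h2, (T.is_maximal' (cen_invol_two_group h h2) fun t ht => ?_)⟩
    exact Subgroup.mem_centralizer_singleton_iff.2 (hc t ht)
  refine ⟨le_antisymm (fun g hg => ?_) Subgroup.le_normalizer, hmain⟩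
  set z : (T : Subgroup G) := e.symm (DihedralGroup.r 2) with hzdef
  have hz1 : (z : G) ≠ 1 := fun e1 => by
    have : z = 1 := Subtype.ext e1
    rw [hzdef, EmbeddingLike.map_eq_one_iff] at this
    exact absurd this (by decide)
  have hzc : ∀ t ∈ (T : Subgroup G), t * (z : G) = z * t := fun t ht => by
    have := d4_r2.1 (e ⟨t, ht⟩)
    have h5 := congrArg e.symm this
    rw [map_mul, map_mul, e.symm_apply_apply] at h5
    exact congrArg Subtype.val h5.symm
  have hzg : g * (z : G) * g⁻¹ ∈ (T : Subgroup G) := (Subgroup.mem_normalizer_iff.1 hg _).1 z.2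
  have hzg1 : g * (z : G) * g⁻¹ ≠ 1 := fun e1 => hz1 (conj_eq_one_iff.1 e1)
  have hzgc : ∀ t ∈ (T : Subgroup G), t * (g * (z : G) * g⁻¹) = g * (z : G) * g⁻¹ * t := fun t ht => by
    have h1 := hzc _ ((Subgroup.mem_normalizer_iff''.1 hg t).1 ht)
    calc t * (g * (z : G) * g⁻¹) = g * (g⁻¹ * t * g * z) * g⁻¹ := by group
      _ = g * ((z : G) * (g⁻¹ * t * g)) * g⁻¹ := by rw [h1]
      _ = g * (z : G) * g⁻¹ * t := by group
  have h6 := (hcen _ hzg hzg1 hzgc).trans (hcen _ z.2 hz1 hzc).symm
  have h7 : g * (z : G) * g⁻¹ = z := congrArg Subtype.val (e.injective h6)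
  rw [← (hmain _ z.2 hz1 hzc).2]
  exact Subgroup.mem_centralizer_singleton_iff.2 (mul_inv_eq_iff_eq_mul.1 h7)

theorem card_two (h : Nat.card G = 168) : Nat.card (Sylow 2 G) = 21 := by
  haveI : Fact (Nat.Prime 2) := ⟨Nat.prime_two⟩
  obtain ⟨T⟩ : Nonempty (Sylow 2 G) := inferInstance
  rw [← SylowNumber.index_normalizer T, (two_local h T).1]
  have h1 := (T : Subgroup G).card_mul_index
  rw [card_sylow_two h, h] at h1
  omega

/-- The involutions form one class; each is central in a Sylow two-subgroup. -/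
theorem invol_conj (h : Nat.card G = 168) :
    (∀ s t : G, orderOf s = 2 → orderOf t = 2 → IsConj s t) ∧
      ∀ s : G, orderOf s = 2 → ∃ T : Sylow 2 G, s ∈ (T : Subgroup G) ∧ Subgroup.centralizer ({s} : Set G) = T := by
  classical
  haveI : Fact (Nat.Prime 2) := ⟨Nat.prime_two⟩
  obtain ⟨T⟩ : Nonempty (Sylow 2 G) := inferInstance
  obtain ⟨e⟩ := sylow_two_iso h T
  let c : G := ((e.symm (DihedralGroup.r 1) : (T : Subgroup G)) : G)
  let z : G := ((e.symm (DihedralGroup.r 2) : (T : Subgroup G)) : G)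
  have hc : orderOf c = 4 := by
    rw [Subgroup.orderOf_coe, MulEquiv.orderOf_eq]; exact DihedralGroup.orderOf_r_one
  have hcz : c ^ 2 = z := by
    show ((e.symm (DihedralGroup.r 1) : (T : Subgroup G)) : G) ^ 2 = _
    rw [← Subgroup.coe_pow, ← map_pow]; rfl
  have hcT : Subgroup.zpowers c ≤ (T : Subgroup G) := Subgroup.zpowers_le.2 (SetLike.coe_mem _)
  have hidx : (Subgroup.zpowers c).relIndex (T : Subgroup G) = 2 := by
    have h1 := Subgroup.relIndex_mul_index hcT
    have h2 := (Subgroup.zpowers c).card_mul_index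
    have h3 := (T : Subgroup G).card_mul_index
    rw [Nat.card_zpowers, hc, h] at h2
    rw [card_sylow_two h, h] at h3
    have h4 : (Subgroup.zpowers c).index = 42 := by omega
    have h5 : (T : Subgroup G).index = 21 := by omega
    rw [h4, h5] at h1
    omega
  have hconj : ∀ s : G, orderOf s = 2 → ∃ g : G, g * s * g⁻¹ = z := fun s hs => by
    rcases CfsgLib.Solv.thompson_transfer T hcT hidx hs with ⟨M, -, hM, -⟩ | ⟨g, hg⟩
    · exact absurd hM (not_index_two h M)
    refine ⟨g, ?_⟩
    have h2 : orderOf (g * s * g⁻¹) = 2 := by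
      rw [← MulAut.conj_apply, MulEquiv.orderOf_eq, hs]
    rw [mem_zpowers_iff_mem_range_orderOf, hc, Finset.mem_image] at hg
    obtain ⟨k, hk, hke⟩ := hg
    rw [Finset.mem_range] at hk
    interval_cases k
    · rw [← hke, pow_zero, orderOf_one] at h2; omega
    · rw [← hke, pow_one, hc] at h2; omega
    · rw [← hke]; exact hcz
    · have h5 : orderOf (c ^ 3) = 4 := by rw [orderOf_pow, hc]; norm_num
      rw [← hke, h5] at h2; omega
  refine ⟨fun s t hs ht => ?_, fun s hs => ?_⟩
  · obtain ⟨g, hg⟩ := hconj s hs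
    obtain ⟨k, hk⟩ := hconj t ht
    exact (isConj_iff.2 ⟨g, hg⟩).trans (isConj_iff.2 ⟨k, hk⟩).symm
  · obtain ⟨g, hg⟩ := hconj s hs
    have hzc : ∀ t ∈ (T : Subgroup G), t * z = z * t := fun t ht => by
      have := d4_r2.1 (e ⟨t, ht⟩)
      have h5 := congrArg e.symm this
      rw [map_mul, map_mul, e.symm_apply_apply] at h5
      exact congrArg Subtype.val h5.symm
    have hz1 : z ≠ 1 := fun e1 => by
      rw [e1, conj_eq_one_iff] at hg
      rw [hg, orderOf_one] at hs; omega
    have hC := ((two_local h T).2 z (SetLike.coe_mem _) hz1 hzc).2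
    refine ⟨g⁻¹ • T, ?_, ?_⟩
    · rw [Sylow.coe_subgroup_smul, Subgroup.mem_pointwise_smul_iff_inv_smul_mem, map_inv, inv_inv]
      show g * s * g⁻¹ ∈ (T : Subgroup G)
      rw [hg]; exact SetLike.coe_mem _
    · ext a
      rw [Sylow.coe_subgroup_smul, Subgroup.mem_pointwise_smul_iff_inv_smul_mem, map_inv, inv_inv,
        Subgroup.mem_centralizer_singleton_iff]
      show _ ↔ g * a * g⁻¹ ∈ (T : Subgroup G)
      rw [← hC, Subgroup.mem_centralizer_singleton_iff, ← hg]
      constructor
      · intro e1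
        calc g * a * g⁻¹ * (g * s * g⁻¹) = g * (a * s) * g⁻¹ := by group
          _ = g * (s * a) * g⁻¹ := by rw [e1]
          _ = g * s * g⁻¹ * (g * a * g⁻¹) := by group
      · intro e1
        have : g * (a * s) * g⁻¹ = g * (s * a) * g⁻¹ := by
          calc g * (a * s) * g⁻¹ = g * a * g⁻¹ * (g * s * g⁻¹) := by group
            _ = g * s * g⁻¹ * (g * a * g⁻¹) := e1
            _ = g * (s * a) * g⁻¹ := by group
        simpa using this

/-- The element orders. -/
theorem orders (h : Nat.card G = 168) (g : G) :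
    orderOf g = 1 ∨ orderOf g = 2 ∨ orderOf g = 3 ∨ orderOf g = 4 ∨ orderOf g = 7 := by
  haveI : Fact (Nat.Prime 2) := ⟨Nat.prime_two⟩
  have hd : orderOf g ∣ 168 := h ▸ orderOf_dvd_natCard g
  have hle := Nat.le_of_dvd (by norm_num) hd
  have key : ∀ e < 169, e ∣ 168 → e = 1 ∨ e = 2 ∨ e = 3 ∨ e = 4 ∨ e = 7 ∨ e = 8 ∨ (6 ∣ e) ∨ (14 ∣ e) ∨ (21 ∣ e) := by
    decide +kernel
  have bad : ∀ a b : ℕ, (a = 3 ∨ a = 7) → b.Prime → b ≠ a → a * b ∣ orderOf g → False := by
    intro a b ha hb hba hab
    obtain ⟨n, hn⟩ := hab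
    have hpos : 0 < orderOf g := orderOf_pos g
    have hn0 : n ≠ 0 := fun e => by rw [hn, e, mul_zero] at hpos; exact lt_irrefl 0 hpos
    have hx : orderOf (g ^ (b * n)) = a := by
      rw [orderOf_pow' _ (Nat.mul_ne_zero hb.ne_zero hn0), hn, mul_assoc, Nat.gcd_eq_right (dvd_mul_left _ _),
        Nat.mul_div_cancel _ (Nat.pos_of_ne_zero (Nat.mul_ne_zero hb.ne_zero hn0))]
    have hy : g ^ (a * n) ∈ Subgroup.centralizer ({g ^ (b * n)} : Set G) :=
      Subgroup.mem_centralizer_singleton_iff.2 (by rw [← pow_add, ← pow_add, add_comm])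
    have hyo : orderOf (g ^ (a * n)) = b := by
      have ha0 : a ≠ 0 := by omega
      rw [orderOf_pow' _ (Nat.mul_ne_zero ha0 hn0), hn, show a * b * n = b * (a * n) by ring,
        Nat.gcd_eq_right (dvd_mul_left _ _), Nat.mul_div_cancel _ (Nat.pos_of_ne_zero (Nat.mul_ne_zero ha0 hn0))]
    have hap : a.Prime := by rcases ha with rfl | rfl <;> norm_num
    have hC : Subgroup.centralizer ({g ^ (b * n)} : Set G) = Subgroup.zpowers (g ^ (b * n)) := by
      rcases ha with rfl | rfl
      · exact (cen_three h hx).1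
      · exact cen_seven h hx
    rw [hC] at hy
    have := Subgroup.orderOf_dvd_natCard _ hy
    rw [Nat.card_zpowers, hx, hyo] at this
    exact hba ((Nat.prime_dvd_prime_iff_eq hb hap).1 this)
  rcases key _ (by omega) hd with e | e | e | e | e | e | e | e | e
  · exact Or.inl e
  · exact Or.inr (Or.inl e)
  · exact Or.inr (Or.inr (Or.inl e))
  · exact Or.inr (Or.inr (Or.inr (Or.inl e)))
  · exact Or.inr (Or.inr (Or.inr (Or.inr e)))
  · exfalso
    obtain ⟨T, hT⟩ := (IsPGroup.of_card (n := 3) (by rw [Nat.card_zpowers, e]; norm_num) :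
      IsPGroup 2 (Subgroup.zpowers g)).exists_le_sylow
    obtain ⟨i⟩ := sylow_two_iso h T
    have h1 : orderOf (i ⟨g, hT (Subgroup.mem_zpowers g)⟩) = 8 := by rw [MulEquiv.orderOf_eq, Subgroup.orderOf_mk, e]
    have h2 : ∀ x : DihedralGroup 4, x ^ 4 = 1 := by decide
    have := orderOf_dvd_of_pow_eq_one (h2 (i ⟨g, hT (Subgroup.mem_zpowers g)⟩))
    rw [h1] at this
    norm_num at this
  · exact (bad 3 2 (Or.inl rfl) Nat.prime_two (by norm_num) e).elim
  · exact (bad 7 2 (Or.inr rfl) Nat.prime_two (by norm_num) e).elim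
  · exact (bad 7 3 (Or.inr rfl) Nat.prime_three (by norm_num) e).elim

theorem card_conj_class (x : G) :
    Nat.card {g : G // IsConj x g} * Nat.card (Subgroup.centralizer ({x} : Set G)) = Nat.card G := by
  have e1 : Nat.card {g : G // IsConj x g} = Nat.card (MulAction.orbit (ConjAct G) x) :=
    Nat.card_congr (Equiv.subtypeEquivRight fun g => by rw [ConjAct.mem_orbit_conjAct, isConj_comm])
  have e2 : Nat.card (Subgroup.centralizer ({x} : Set G)) = Nat.card (MulAction.stabilizer (ConjAct G) x) :=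
    Nat.card_congr (ConjAct.toConjAct.toEquiv.subtypeEquiv fun g => by
      show g ∈ Subgroup.centralizer ({x} : Set G) ↔ ConjAct.toConjAct g • x = x
      rw [ConjAct.toConjAct_smul, Subgroup.mem_centralizer_singleton_iff, mul_inv_eq_iff_eq_mul])
  rw [e1, e2, ← Nat.card_prod, Nat.card_congr (MulAction.orbitProdStabilizerEquivGroup (ConjAct G) x)]
  exact Nat.card_congr ConjAct.ofConjAct.toEquiv

end CfsgLib.Perm.Order168
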