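import Cfsg.Agent.Perm.Order168

/-!
Subgroups of the simple group of order 168.
-/

set_option autoImplicit false
set_option linter.style.haveILetI false
set_option linter.unusedSectionVars false

namespace CfsgLib.Perm.Order168

variable {G : Type*} [Group G] [Finite G] [IsSimpleGroup G]

theorem conj_map_card (g : G) (U : Subgroup G) : Nat.card (U.map (MulAut.conj g).toMonoidHom) = Nat.card U :=
  Subgroup.card_map_of_injective (MulAut.conj g).injective

/-- A central non-trivial element of a Sylow two-subgroup in dihedral coordinates. -/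
theorem central_coord {T : Sylow 2 G} (e : (T : Subgroup G) ≃* DihedralGroup 4) {z : (T : Subgroup G)}
    (hz : z ≠ 1) (hc : ∀ t, t * z = z * t) : e z = DihedralGroup.r 2 := by
  refine (d4_center (e z) fun y => ?_).resolve_left fun e1 => hz (e.map_eq_one_iff.1 e1)
  obtain ⟨t, rfl⟩ := e.surjective y
  rw [← map_mul, ← map_mul, hc]

theorem sq_central (h : Nat.card G = 168) (T : Sylow 2 G) {x : G} (hx : x ∈ (T : Subgroup G)) (hx2 : x * x ≠ 1) :
    orderOf (x * x) = 2 ∧ Subgroup.centralizer ({x * x} : Set G) = T := by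
  obtain ⟨e⟩ := sylow_two_iso h T
  refine (two_local h T).2 _ ((T : Subgroup G).mul_mem hx hx) hx2 fun t ht => ?_
  have h1 : e ⟨x, hx⟩ * e ⟨x, hx⟩ = DihedralGroup.r 2 := (d4_sq _).resolve_left fun e1 => hx2 (by
    rw [← map_mul, e.map_eq_one_iff] at e1
    exact congrArg Subtype.val e1)
  have h2 := congrArg e.symm (d4_r2.1 (e ⟨t, ht⟩))
  rw [← h1, ← map_mul, ← map_mul, ← map_mul, e.symm_apply_apply, e.symm_apply_apply] at h2
  exact congrArg Subtype.val h2.symm

theorem card_proper (h : Nat.card G = 168) {H : Subgroup G} (hH : H ≠ ⊤) : Nat.card H ≤ 24 := by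
  have hf := SimpleOrder.card_dvd_index_factorial (not_comm168 h) hH
  have hm := H.card_mul_index
  rw [h] at hf hm
  by_contra hlt
  have hi : H.index ≤ 6 := by
    by_contra h6
    nlinarith
  revert hf
  generalize H.index = i at hi ⊢
  interval_cases i <;> decide

/-- A Sylow subgroup of a subgroup of order divisible by eight. -/
theorem exists_sylow_le (h : Nat.card G = 168) {H : Subgroup G} (hH : 8 ∣ Nat.card H) :
    ∃ T : Sylow 2 G, (T : Subgroup G) ≤ H := by
  haveI : Fact (Nat.Prime 2) := ⟨Nat.prime_two⟩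
  obtain ⟨K, hK⟩ := Sylow.exists_subgroup_card_pow_prime (G := H) 2 (n := 3) hH
  obtain ⟨T⟩ : Nonempty (Sylow 2 G) := inferInstance
  have hc : Nat.card (K.map H.subtype) = 2 ^ (Nat.card G).factorization 2 := by
    rw [Subgroup.card_map_of_injective H.subtype_injective, hK, ← T.card_eq_multiplicity, card_sylow_two h]
    norm_num
  exact ⟨Sylow.ofCard _ hc, by rw [Sylow.coe_ofCard]; exact Subgroup.map_subtype_le K⟩

theorem card_of_two_sylow (h : Nat.card G = 168) {H : Subgroup G} (hH : H ≠ ⊤) {T T' : Sylow 2 G} (hne : T ≠ T')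
    (h1 : (T : Subgroup G) ≤ H) (h2 : (T' : Subgroup G) ≤ H) : Nat.card H = 24 := by
  haveI : Fact (Nat.Prime 2) := ⟨Nat.prime_two⟩
  have h8 : 8 ∣ Nat.card H := card_sylow_two h T ▸ Subgroup.card_dvd_of_le h1
  have hd : Nat.card H ∣ 168 := h ▸ Subgroup.card_subgroup_dvd_card H
  have hle := card_proper h hH
  have hne8 : Nat.card H ≠ 8 := fun e => hne (Sylow.ext (
    (Subgroup.eq_of_le_of_card_ge h1 (by rw [e, card_sylow_two h])).trans
      (Subgroup.eq_of_le_of_card_ge h2 (by rw [e, card_sylow_two h])).symm))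
  obtain ⟨k, hk⟩ := h8
  rw [hk] at hd hle hne8 ⊢
  have : k ∣ 21 := (Nat.mul_dvd_mul_iff_left (by norm_num : 0 < 8)).1 hd
  have hk3 : k ≤ 3 := by omega
  interval_cases k <;> omega

theorem normalizer_ne_top (h : Nat.card G = 168) {U : Subgroup G} (hU : Nat.card U = 4) :
    Subgroup.normalizer (U : Set G) ≠ ⊤ := fun htop => by
  haveI := Subgroup.normalizer_eq_top_iff.1 htop
  exact absurd (normal_eq h (inferInstance : U.Normal) hU (by norm_num)) (by norm_num)

theorem sylow_le_normalizer (h : Nat.card G = 168) {U : Subgroup G} (hU : Nat.card U = 4) (T : Sylow 2 G)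
    (hUT : U ≤ (T : Subgroup G)) : (T : Subgroup G) ≤ Subgroup.normalizer (U : Set G) := by
  haveI : Fact (Nat.Prime 2) := ⟨Nat.prime_two⟩
  have hi : (U.subgroupOf (T : Subgroup G)).index = 2 := by
    have h1 := (U.subgroupOf (T : Subgroup G)).card_mul_index
    rw [Nat.card_congr (Subgroup.subgroupOfEquivOfLe hUT).toEquiv, hU, card_sylow_two h] at h1
    omega
  exact (Subgroup.normal_subgroupOf_iff_le_normalizer hUT).1 (Subgroup.normal_of_index_eq_two hi)

/-- The normaliser of a four-group and two Sylow subgroups in it. -/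
theorem klein_normalizer (h : Nat.card G = 168) (U : Subgroup G) (hU : IsKleinFour U) :
    Nat.card (Subgroup.normalizer (U : Set G)) = 24 ∧ ∃ T T' : Sylow 2 G, T ≠ T' ∧
      U = (T : Subgroup G) ⊓ T' ∧ (T : Subgroup G) ≤ Subgroup.normalizer (U : Set G) ∧
      (T' : Subgroup G) ≤ Subgroup.normalizer (U : Set G) := by
  classical
  haveI : Fact (Nat.Prime 2) := ⟨Nat.prime_two⟩
  have hU4 : Nat.card U = 4 := hU.card_four
  have hsq : ∀ a ∈ U, a * a = 1 := fun a ha => congrArg Subtype.val (IsKleinFour.mul_self (⟨a, ha⟩ : U))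
  obtain ⟨T, hT⟩ := (IsPGroup.of_card (n := 2) (by rw [hU4]; norm_num) : IsPGroup 2 U).exists_le_sylow
  -- an involution of `U` which is not central in `T`
  obtain ⟨a, haU, ha1, hac⟩ : ∃ a ∈ U, a ≠ 1 ∧ ∃ t ∈ (T : Subgroup G), t * a ≠ a * t := by
    by_contra hcon
    push Not at hcon
    obtain ⟨e⟩ := sylow_two_iso h T
    let c : U → Fin 2 := fun u => if u = 1 then 0 else 1
    have hinj : Function.Injective c := by
      intro u v huv
      by_cases hu : u = 1 <;> by_cases hv : v = 1 <;> simp [c, hu, hv] at huv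
      · exact hu.trans hv.symm
      · have hcoord : ∀ w : U, w ≠ 1 → e ⟨w, hT w.2⟩ = DihedralGroup.r 2 := fun w hw =>
          central_coord e (fun e1 => hw (Subtype.ext (congrArg Subtype.val e1 : (w : G) = 1)))
            fun t => Subtype.ext (hcon w w.2 (fun e2 => hw (Subtype.ext e2)) t t.2)
        have h9 := e.injective ((hcoord u hu).trans (hcoord v hv).symm)
        exact Subtype.ext (Subtype.mk.inj h9)
    have := Nat.card_le_card_of_injective c hinj
    rw [hU4, Nat.card_fin] at this
    omega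
  have hao : orderOf a = 2 := orderOf_eq_prime (by rw [pow_two]; exact hsq a haU) ha1
  obtain ⟨T', haT', hC⟩ := (invol_conj h).2 a hao
  have hne : T ≠ T' := by
    rintro rfl
    obtain ⟨t, ht, hta⟩ := hac
    rw [← hC] at ht
    exact hta (Subgroup.mem_centralizer_singleton_iff.1 ht)
  have hUT' : U ≤ (T' : Subgroup G) := fun u hu => by
    rw [← hC, Subgroup.mem_centralizer_singleton_iff]
    calc u * a = u * a * ((a * u) * (a * u)) := by rw [hsq _ (U.mul_mem haU hu), mul_one]
      _ = u * (a * a) * u * (a * u) := by group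
      _ = a * u := by rw [hsq a haU, mul_one, hsq u hu, one_mul]
  have hTN := sylow_le_normalizer h hU4 T hT
  have hT'N := sylow_le_normalizer h hU4 T' hUT'
  refine ⟨card_of_two_sylow h (normalizer_ne_top h hU4) hne hTN hT'N, T, T', hne, ?_, hTN, hT'N⟩
  refine Subgroup.eq_of_le_of_card_ge (le_inf hT hUT') ?_
  have hd : Nat.card ↥((T : Subgroup G) ⊓ T') ∣ 8 := card_sylow_two h T ▸ Subgroup.card_dvd_of_le inf_le_left
  have hle := Nat.le_of_dvd (by norm_num) hd
  have hne8 : Nat.card ↥((T : Subgroup G) ⊓ T') ≠ 8 := fun e => hne (Sylow.ext (le_antisymm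
    ((Subgroup.eq_of_le_of_card_ge inf_le_left (by rw [e, card_sylow_two h])).ge.trans inf_le_right)
    ((Subgroup.eq_of_le_of_card_ge inf_le_right (by rw [e, card_sylow_two h])).ge.trans inf_le_left)))
  rw [hU4]
  have key : ∀ n < 9, n ∣ 8 → n ≠ 8 → n ≤ 4 := by decide
  exact key _ (by omega) hd hne8

/-- A four-group which is normal in the normaliser of another one equals it. -/
theorem klein_unique (h : Nat.card G = 168) {U W : Subgroup G} (hU : IsKleinFour U) (hW : Nat.card W = 4)
    (hWN : Subgroup.normalizer (U : Set G) ≤ Subgroup.normalizer (W : Set G))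
    (hWle : W ≤ Subgroup.normalizer (U : Set G)) : W = U := by
  haveI : Fact (Nat.Prime 2) := ⟨Nat.prime_two⟩
  obtain ⟨-, T, T', -, hUeq, hT, hT'⟩ := klein_normalizer h U hU
  have key : ∀ S : Sylow 2 G, (S : Subgroup G) ≤ Subgroup.normalizer (U : Set G) → W ≤ (S : Subgroup G) := by
    intro S hS
    have hp : IsPGroup 2 ↥(W ⊔ (S : Subgroup G)) :=
      (IsPGroup.of_card (n := 2) (by rw [hW]; norm_num) : IsPGroup 2 W).to_sup_of_normal_left' S.isPGroup' (hS.trans hWN)
    exact le_sup_left.trans (S.is_maximal' hp le_sup_right).le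
  exact Subgroup.eq_of_le_of_card_ge (hUeq ▸ le_inf (key T hT) (key T' hT')) (by rw [hW, hU.card_four])

/-- A subgroup of order 24 is the normaliser of a four-group. -/
theorem exists_klein_of_card (h : Nat.card G = 168) {M : Subgroup G} (hM : Nat.card M = 24) :
    ∃ U : Subgroup G, IsKleinFour U ∧ Subgroup.normalizer (U : Set G) = M := by
  haveI : Fact (Nat.Prime 2) := ⟨Nat.prime_two⟩
  obtain ⟨T, hT⟩ := exists_sylow_le h (H := M) (by rw [hM]; norm_num)
  obtain ⟨g, hg, hgT⟩ : ∃ g ∈ M, g ∉ (T : Subgroup G) := by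
    by_contra hcon
    push Not at hcon
    have := Subgroup.card_le_of_le (show M ≤ (T : Subgroup G) from hcon)
    rw [hM, card_sylow_two h] at this
    omega
  set T' : Sylow 2 G := g • T with hT'def
  have hne : T ≠ T' := fun e => hgT (by
    rw [← (two_local h T).1]
    exact Sylow.smul_eq_iff_mem_normalizer.1 e.symm)
  have hT' : (T' : Subgroup G) ≤ M := by
    intro x hx
    rw [hT'def, Sylow.coe_subgroup_smul, Subgroup.mem_pointwise_smul_iff_inv_smul_mem] at hx
    have h1 : g⁻¹ * x * g ∈ M := by simpa using hT hx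
    simpa [mul_assoc] using M.mul_mem (M.mul_mem hg h1) (M.inv_mem hg)
  set V := (T : Subgroup G) ⊓ T' with hV
  have hd : Nat.card V ∣ 8 := card_sylow_two h T ▸ Subgroup.card_dvd_of_le inf_le_left
  have hVle : V ≤ (T : Subgroup G) := inf_le_left
  have hV4 : Nat.card V = 4 := by
    have h1 : (T : Subgroup G).subgroupOf M ≠ ⊥ := fun e => by
      have := Nat.card_congr (Subgroup.subgroupOfEquivOfLe hT).toEquiv
      rw [e, Subgroup.card_bot, card_sylow_two h] at this
      omega
    have hne8 : Nat.card V ≠ 8 := fun e => hne (Sylow.ext (le_antisymm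
      ((Subgroup.eq_of_le_of_card_ge inf_le_left (by rw [e, card_sylow_two h])).ge.trans inf_le_right)
      ((Subgroup.eq_of_le_of_card_ge inf_le_right (by rw [e, card_sylow_two h])).ge.trans inf_le_left)))
    -- the product of the two Sylow subgroups lies in `M`
    have h2 := Subgroup.index_inf_le (H := ((T : Subgroup G).subgroupOf M)) (K := ((T' : Subgroup G).subgroupOf M))
    have h3 : ((T : Subgroup G).subgroupOf M).index = 3 := by
      have := ((T : Subgroup G).subgroupOf M).card_mul_index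
      rw [Nat.card_congr (Subgroup.subgroupOfEquivOfLe hT).toEquiv, card_sylow_two h, hM] at this
      omega
    have h4 : ((T' : Subgroup G).subgroupOf M).index = 3 := by
      have := ((T' : Subgroup G).subgroupOf M).card_mul_index
      rw [Nat.card_congr (Subgroup.subgroupOfEquivOfLe hT').toEquiv, card_sylow_two h, hM] at this
      omega
    have h5 : (T : Subgroup G).subgroupOf M ⊓ (T' : Subgroup G).subgroupOf M = V.subgroupOf M :=
      (Subgroup.comap_inf _ _ _).symm
    have h6 := (V.subgroupOf M).card_mul_index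
    rw [Nat.card_congr (Subgroup.subgroupOfEquivOfLe (hVle.trans hT)).toEquiv, hM] at h6
    rw [h5, h3, h4] at h2
    have key : ∀ n < 9, n ∣ 8 → n ≠ 8 → n = 4 ∨ n ≤ 2 := by decide
    rcases key _ (by have := Nat.le_of_dvd (by norm_num) hd; omega) hd hne8 with e | e
    · exact e
    · exfalso; nlinarith
  have hK : IsKleinFour V := by
    refine ⟨hV4, ?_⟩
    have hsq : ∀ x : V, x * x = 1 := fun x => by
      by_contra hx
      have hx' : (x : G) * x ≠ 1 := fun e => hx (Subtype.ext e)
      exact hne (Sylow.ext ((sq_central h T x.2.1 hx').2.symm.trans (sq_central h T' x.2.2 hx').2))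
    haveI : Nontrivial V := Finite.one_lt_card_iff_nontrivial.1 (by omega)
    exact (Monoid.exponent_eq_prime_iff Nat.prime_two).2 fun x hx => orderOf_eq_prime (by rw [pow_two]; exact hsq x) hx
  have hTN := sylow_le_normalizer h hV4 T inf_le_left
  have hT'N := sylow_le_normalizer h hV4 T' inf_le_right
  refine ⟨V, hK, ?_⟩
  have h24 := card_of_two_sylow h (H := M ⊓ Subgroup.normalizer (V : Set G))
    (fun e => normalizer_ne_top h hV4 (top_le_iff.1 (e ▸ inf_le_right))) hne (le_inf hT hTN) (le_inf hT' hT'N)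
  have hN24 := card_of_two_sylow h (normalizer_ne_top h hV4) hne hTN hT'N
  exact ((Subgroup.eq_of_le_of_card_ge inf_le_right (by rw [h24, hN24])).symm.trans
    (Subgroup.eq_of_le_of_card_ge inf_le_left (by rw [h24, hM])))

/-- Subgroups of order twelve or twenty-four have four Sylow three-subgroups. -/
theorem card_sylow_three_sub (h : Nat.card G = 168) {M : Subgroup G} [Fact (Nat.Prime 3)]
    (hM : Nat.card M = 12 ∨ Nat.card M = 24) :
    Nat.card (Sylow 3 M) = 4 ∧ ∀ Q : Sylow 3 M, Nat.card (Q : Subgroup M) = 3 := by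
  have hQ : ∀ Q : Sylow 3 M, Nat.card (Q : Subgroup M) = 3 := fun Q => by
    rw [Q.card_eq_multiplicity]
    rcases hM with e | e <;> rw [e]
    · rw [show (12 : ℕ) = 3 * 4 from rfl, Nat.factorization_mul (by norm_num) (by norm_num), Finsupp.add_apply,
        Nat.prime_three.factorization_self, Nat.factorization_eq_zero_of_not_dvd (by norm_num : ¬ 3 ∣ 4)]; rfl
    · rw [show (24 : ℕ) = 3 * 8 from rfl, Nat.factorization_mul (by norm_num) (by norm_num), Finsupp.add_apply,
        Nat.prime_three.factorization_self, Nat.factorization_eq_zero_of_not_dvd (by norm_num : ¬ 3 ∣ 8)]; rfl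
  refine ⟨?_, hQ⟩
  obtain ⟨Q⟩ : Nonempty (Sylow 3 M) := inferInstance
  have hd : Nat.card (Sylow 3 M) ∣ 8 := by
    rcases hM with e | e
    · exact (SylowPrime.card_sylow_dvd Q (m := 4) (by rw [e, hQ])).trans (by norm_num)
    · exact SylowPrime.card_sylow_dvd Q (m := 8) (by rw [e, hQ])
  have hm : Nat.card (Sylow 3 M) % 3 = 1 := card_sylow_modEq_one 3 M
  have key : ∀ n < 9, n ∣ 8 → n % 3 = 1 → n = 4 ∨ n = 1 := by decide
  refine (key _ (by have := Nat.le_of_dvd (by norm_num) hd; omega) hd hm).resolve_right fun h1 => ?_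
  -- a normal Sylow subgroup would force a small group
  have hN : Subgroup.normalizer ((Q : Subgroup M) : Set M) = ⊤ :=
    Subgroup.index_eq_one.1 (by rw [SylowNumber.index_normalizer, h1])
  haveI := Subgroup.normalizer_eq_top_iff.1 hN
  obtain ⟨R, hR⟩ := (IsPGroup.of_card (n := 1) (by
    rw [Subgroup.card_map_of_injective M.subtype_injective, hQ, pow_one]) :
      IsPGroup 3 ((Q : Subgroup M).map M.subtype)).exists_le_sylow
  have heq := Subgroup.eq_of_le_of_card_ge hR (by
    rw [Subgroup.card_map_of_injective M.subtype_injective, hQ, card_sylow_three h])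
  have hle : M ≤ Subgroup.normalizer ((R : Subgroup G) : Set G) := by
    rw [← heq]
    intro m hm
    rw [Subgroup.mem_normalizer_iff]
    intro x
    constructor
    · rintro ⟨y, hy, rfl⟩
      exact ⟨⟨m, hm⟩ * y * ⟨m, hm⟩⁻¹, Subgroup.Normal.conj_mem inferInstance y hy _, rfl⟩
    · rintro ⟨y, hy, hye⟩
      refine ⟨⟨m, hm⟩⁻¹ * y * ⟨m, hm⟩, Subgroup.Normal.conj_mem' inferInstance y hy _, ?_⟩
      show m⁻¹ * (y : G) * m = x
      rw [show (y : G) = m * x * m⁻¹ from hye]; group
  have := Subgroup.card_le_of_le hle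
  rw [card_normalizer_three h] at this
  rcases hM with e | e <;> omega

/-- Subgroups of order 24 are symmetric. -/
theorem iso_s4 (h : Nat.card G = 168) {M : Subgroup G} (hM : Nat.card M = 24) :
    Nonempty (M ≃* Equiv.Perm (Fin 4)) := by
  classical
  haveI : Fact (Nat.Prime 3) := ⟨Nat.prime_three⟩
  haveI : Fact (Nat.Prime 2) := ⟨Nat.prime_two⟩
  obtain ⟨hn, hQ⟩ := card_sylow_three_sub h (Or.inr hM)
  let ψ : M →* Equiv.Perm (Fin 4) :=
    (Finite.equivFinOfCardEq hn).permCongrHom.toMonoidHom.comp (MulAction.toPermHom M (Sylow 3 M))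
  have hno : ∀ k : M, MulAction.toPermHom M (Sylow 3 M) k = 1 → orderOf k ≠ 3 := by
    intro k hk hk3
    have hmem : ∀ Q : Sylow 3 M, k ∈ (Q : Subgroup M) := fun Q => by
      have hkQ : k • Q = Q := congrArg (fun σ : Equiv.Perm (Sylow 3 M) => σ Q) hk
      have hN := Sylow.smul_eq_iff_mem_normalizer.1 hkQ
      exact CfsgLib.Perm.Fpf.mem_sylow_of_normalizes Q (k := 1) (by rw [hk3, pow_one]) hN
    haveI : Nontrivial (Sylow 3 M) := Finite.one_lt_card_iff_nontrivial.1 (by omega)
    obtain ⟨Q, Q', hne⟩ := exists_pair_ne (Sylow 3 M)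
    exact hne (Sylow.ext (((Subgroup.eq_of_le_of_card_ge (Subgroup.zpowers_le.2 (hmem Q)) (by rw [Nat.card_zpowers, hk3, hQ])).symm).trans
      (Subgroup.eq_of_le_of_card_ge (Subgroup.zpowers_le.2 (hmem Q')) (by rw [Nat.card_zpowers, hk3, hQ]))))
  have hker : (MulAction.toPermHom M (Sylow 3 M)).ker = ⊥ := by
    set K := (MulAction.toPermHom M (Sylow 3 M)).ker with hKdef
    rw [← Subgroup.card_eq_one]
    have h3 : ¬ 3 ∣ Nat.card K := fun hd => by
      obtain ⟨k, hk⟩ := exists_prime_orderOf_dvd_card' (G := K) 3 hd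
      exact hno k (MonoidHom.mem_ker.1 k.2) (by rw [Subgroup.orderOf_coe, hk])
    obtain ⟨Q⟩ : Nonempty (Sylow 3 M) := inferInstance
    have hN : Nat.card (Subgroup.normalizer ((Q : Subgroup M) : Set M)) = 6 := by
      have := (Subgroup.normalizer ((Q : Subgroup M) : Set M)).card_mul_index
      rw [SylowNumber.index_normalizer, hn, hM] at this
      omega
    have hKN : K ≤ Subgroup.normalizer ((Q : Subgroup M) : Set M) := fun k hk =>
      Sylow.smul_eq_iff_mem_normalizer.1 (congrArg (fun σ : Equiv.Perm (Sylow 3 M) => σ Q) (MonoidHom.mem_ker.1 hk))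
    have hd6 : Nat.card K ∣ 6 := hN ▸ Subgroup.card_dvd_of_le hKN
    have key : ∀ n < 7, n ∣ 6 → ¬ 3 ∣ n → n = 1 ∨ n = 2 := by decide
    refine (key _ (by have := Nat.le_of_dvd (by norm_num) hd6; omega) hd6 h3).resolve_right fun hK2 => ?_
    -- a normal subgroup of order two is central
    obtain ⟨k, hk⟩ := exists_prime_orderOf_dvd_card' (G := K) 2 (dvd_of_eq hK2.symm)
    obtain ⟨y, hy⟩ := exists_prime_orderOf_dvd_card' (G := M) 3 (by rw [hM]; norm_num)
    have hzk : Subgroup.zpowers (k : M) = K := Subgroup.eq_of_le_of_card_ge (Subgroup.zpowers_le.2 k.2)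
      (by rw [Nat.card_zpowers, Subgroup.orderOf_coe, hk, hK2])
    have hc : y * (k : M) * y⁻¹ ∈ Subgroup.zpowers (k : M) := by
      rw [hzk]; exact (MonoidHom.normal_ker _).conj_mem _ k.2 y
    have hk' : orderOf (k : M) = 2 := by rw [Subgroup.orderOf_coe, hk]
    rw [mem_zpowers_iff_mem_range_orderOf, hk', Finset.mem_image] at hc
    obtain ⟨i, hi, hie⟩ := hc
    rw [Finset.mem_range] at hi
    have hk1 : (k : M) ≠ 1 := fun e => by rw [e, orderOf_one] at hk'; omega
    interval_cases i
    · rw [pow_zero] at hie; exact hk1 (conj_eq_one_iff.1 hie.symm)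
    · rw [pow_one] at hie
      have h5 : ((k : M) : G) ∈ Subgroup.centralizer ({(y : G)} : Set G) :=
        Subgroup.mem_centralizer_singleton_iff.2 (congrArg Subtype.val (mul_inv_eq_iff_eq_mul.1 hie.symm)).symm
      rw [(cen_three h (by rw [Subgroup.orderOf_coe, hy] : orderOf (y : G) = 3)).1] at h5
      have := Subgroup.orderOf_dvd_natCard _ h5
      simp only [Nat.card_zpowers, Subgroup.orderOf_coe, hy, hk] at this
      norm_num at this
  have hψ : Function.Injective ψ :=
    (Finite.equivFinOfCardEq hn).permCongrHom.injective.comp ((MonoidHom.ker_eq_bot_iff _).1 hker)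
  exact ⟨MulEquiv.ofBijective ψ ((Nat.bijective_iff_injective_and_card ψ).2 ⟨hψ, by
    rw [hM, Nat.card_perm, Nat.card_fin]; rfl⟩)⟩

/-- A four-group in a prescribed Sylow subgroup. -/
def kSet (i : ZMod 4) : Finset (DihedralGroup 4) :=
  {1, DihedralGroup.r 2, DihedralGroup.sr i, DihedralGroup.sr (i + 2)}

/-- The two four-groups of the dihedral group. -/
def kSub (i : ZMod 4) : Subgroup (DihedralGroup 4) where
  carrier := {x | x ∈ kSet i}
  one_mem' := by revert i; decide
  mul_mem' := by revert i; decide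
  inv_mem' := by revert i; decide

theorem kSub_card : ∀ i : ZMod 4, (kSet i).card = 4 ∧ ∀ x ∈ kSet i, x * x = 1 := by decide

theorem klein_classify : ∀ S ∈ (Finset.univ : Finset (DihedralGroup 4)).powersetCard 4,
    (∀ a ∈ S, a * a = 1) → (∀ a ∈ S, ∀ b ∈ S, a * b ∈ S) → S = kSet 0 ∨ S = kSet 1 := by decide +kernel

/-- The four-groups of a Sylow two-subgroup. -/
theorem klein_pair (h : Nat.card G = 168) (T : Sylow 2 G) : ∃ U₀ U₁ : Subgroup G, U₀ ≠ U₁ ∧
    U₀ ≤ (T : Subgroup G) ∧ U₁ ≤ (T : Subgroup G) ∧ IsKleinFour U₀ ∧ IsKleinFour U₁ ∧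
    ∀ U : Subgroup G, U ≤ (T : Subgroup G) → IsKleinFour U → U = U₀ ∨ U = U₁ := by
  classical
  obtain ⟨e⟩ := sylow_two_iso h T
  let f : DihedralGroup 4 →* G := (T : Subgroup G).subtype.comp e.symm.toMonoidHom
  have hf : Function.Injective f := (T : Subgroup G).subtype_injective.comp e.symm.injective
  have hle : ∀ i, (kSub i).map f ≤ (T : Subgroup G) := fun i => by
    rintro _ ⟨x, -, rfl⟩
    exact SetLike.coe_mem _
  have hK : ∀ i, IsKleinFour ((kSub i).map f) := fun i => by
    have hc : Nat.card ((kSub i).map f) = 4 := by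
      rw [Subgroup.card_map_of_injective hf]
      exact (Nat.card_eq_finsetCard (kSet i)).trans (kSub_card i).1
    refine ⟨hc, ?_⟩
    haveI : Nontrivial ↥((kSub i).map f) := Finite.one_lt_card_iff_nontrivial.1 (by omega)
    refine (Monoid.exponent_eq_prime_iff Nat.prime_two).2 fun x hx => orderOf_eq_prime ?_ hx
    obtain ⟨y, hy, hye⟩ := x.2
    refine Subtype.ext ?_
    show (x : G) ^ 2 = 1
    rw [← hye, ← map_pow, pow_two, (kSub_card i).2 y hy, map_one]
  refine ⟨(kSub 0).map f, (kSub 1).map f, fun e0 => ?_, hle 0, hle 1, hK 0, hK 1, fun U hU hUK => ?_⟩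
  · have hm : DihedralGroup.sr (0 : ZMod 4) ∈ kSub 1 := by
      rw [← Subgroup.mem_map_iff_mem hf, ← e0]
      exact ⟨_, (by decide : DihedralGroup.sr (0 : ZMod 4) ∈ kSet 0), rfl⟩
    exact absurd hm (by decide : DihedralGroup.sr (0 : ZMod 4) ∉ kSet 1)
  · set S := (Finset.univ : Finset (DihedralGroup 4)).filter (fun x => f x ∈ U) with hS
    have hcomap : (U.comap f).map f = U := Subgroup.map_comap_eq_self fun u hu => ⟨e ⟨u, hU hu⟩, by
      show ((e.symm (e ⟨u, hU hu⟩) : (T : Subgroup G)) : G) = u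
      rw [e.symm_apply_apply]⟩
    have hcard : S.card = 4 := by
      have h1 : Nat.card (U.comap f) = 4 := by
        rw [← Subgroup.card_map_of_injective hf, hcomap, hUK.card_four]
      rw [← Nat.card_eq_finsetCard]
      refine (Nat.card_congr ?_).trans h1
      exact Equiv.subtypeEquivRight fun x => by simp [hS]
    have hcl := klein_classify S (Finset.mem_powersetCard.2 ⟨Finset.subset_univ _, hcard⟩)
      (fun a ha => hf (by
        rw [map_mul, map_one]
        exact congrArg Subtype.val (IsKleinFour.mul_self (⟨f a, (Finset.mem_filter.1 ha).2⟩ : U))))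
      (fun a ha b hb => Finset.mem_filter.2 ⟨Finset.mem_univ _, by
        rw [map_mul]; exact U.mul_mem (Finset.mem_filter.1 ha).2 (Finset.mem_filter.1 hb).2⟩)
    rcases hcl with e0 | e0
    · left
      rw [← hcomap]
      congr 1
      ext x
      show f x ∈ U ↔ x ∈ kSet 0
      rw [← e0]; simp [hS]
    · right
      rw [← hcomap]
      congr 1
      ext x
      show f x ∈ U ↔ x ∈ kSet 1
      rw [← e0]; simp [hS]

/-- Conjugate four-groups of one Sylow subgroup coincide. -/
theorem klein_not_conj (h : Nat.card G = 168) (T : Sylow 2 G) {U W : Subgroup G} (hU : U ≤ (T : Subgroup G))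
    (hW : W ≤ (T : Subgroup G)) (hUK : IsKleinFour U) {g : G} (hg : U.map (MulAut.conj g).toMonoidHom = W) :
    U = W := by
  haveI : Fact (Nat.Prime 2) := ⟨Nat.prime_two⟩
  have hU4 : Nat.card U = 4 := hUK.card_four
  have hW4 : Nat.card W = 4 := by rw [← hg, conj_map_card, hU4]
  set N := Subgroup.normalizer (W : Set G)
  have hTN : (T : Subgroup G) ≤ N := sylow_le_normalizer h hW4 T hW
  have hWg : W ≤ ((g • T : Sylow 2 G) : Subgroup G) := by
    rw [← hg, SylowNumber.smul_coe]
    exact Subgroup.map_mono hU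
  have hgN : ((g • T : Sylow 2 G) : Subgroup G) ≤ N := sylow_le_normalizer h hW4 _ hWg
  obtain ⟨n, hn⟩ := MulAction.exists_smul_eq N ((g • T).subtype hgN) (T.subtype hTN)
  have hn' : (n : G) • (g • T) = T := by
    rw [Sylow.smul_subtype] at hn
    exact Sylow.subtype_injective hn
  rw [smul_smul] at hn'
  have hngT : (n : G) * g ∈ (T : Subgroup G) := (two_local h T).1.le (Sylow.smul_eq_iff_mem_normalizer.1 hn')
  have hngU : (n : G) * g ∈ Subgroup.normalizer (U : Set G) := sylow_le_normalizer h hU4 T hU hngT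
  have hnW : (n : G) ∈ Subgroup.normalizer (W : Set G) := n.2
  rw [Subgroup.mem_normalizer_iff_map_conj_eq] at hngU hnW
  calc U = U.map (MulAut.conj ((n : G) * g)).toMonoidHom := hngU.symm
    _ = (U.map (MulAut.conj g).toMonoidHom).map (MulAut.conj (n : G)).toMonoidHom := by
      rw [Subgroup.map_map, map_mul]; rfl
    _ = W := by rw [hg]; exact hnW

theorem conj_normalizer (g : G) (U : Subgroup G) :
    Subgroup.normalizer ((U.map (MulAut.conj g).toMonoidHom : Subgroup G) : Set G) =
      (Subgroup.normalizer (U : Set G)).map (MulAut.conj g).toMonoidHom :=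
  (Subgroup.map_equiv_normalizer_eq U (MulAut.conj g)).symm

/-- Every proper subgroup lies in one of order 24 or 21. -/
theorem exists_big (h : Nat.card G = 168) {M : Subgroup G} (hM : M ≠ ⊤) :
    ∃ H : Subgroup G, M ≤ H ∧ H ≠ ⊤ ∧ ((∃ (_ : Fact (Nat.Prime 7)) (P : Sylow 7 G),
      H = Subgroup.normalizer ((P : Subgroup G) : Set G)) ∨ Nat.card H = 24) := by
  classical
  haveI : Fact (Nat.Prime 2) := ⟨Nat.prime_two⟩
  haveI : Fact (Nat.Prime 3) := ⟨Nat.prime_three⟩
  haveI : Fact (Nat.Prime 7) := ⟨Nat.prime_seven⟩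
  have hle := card_proper h hM
  have hd : Nat.card M ∣ 168 := h ▸ Subgroup.card_subgroup_dvd_card M
  have htop : ∀ H : Subgroup G, Nat.card H = 24 → H ≠ ⊤ := fun H hH e => by
    rw [e, Subgroup.card_top, h] at hH; omega
  have big2 : IsPGroup 2 M → ∃ H : Subgroup G, M ≤ H ∧ Nat.card H = 24 := by
    intro hp
    obtain ⟨T, hT⟩ := hp.exists_le_sylow
    obtain ⟨U₀, U₁, -, hU0, -, hK, -, -⟩ := klein_pair h T
    exact ⟨_, hT.trans (sylow_le_normalizer h hK.card_four T hU0), (klein_normalizer h U₀ hK).1⟩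
  have fin : (∃ H : Subgroup G, M ≤ H ∧ Nat.card H = 24) → ∃ H : Subgroup G, M ≤ H ∧ H ≠ ⊤ ∧
      ((∃ (_ : Fact (Nat.Prime 7)) (P : Sylow 7 G),
        H = Subgroup.normalizer ((P : Subgroup G) : Set G)) ∨ Nat.card H = 24) :=
    fun ⟨H, h1, h2⟩ => ⟨H, h1, htop H h2, Or.inr h2⟩
  have key : ∀ n < 25, n ∣ 168 → 7 ∣ n ∨ n = 1 ∨ n = 2 ∨ n = 4 ∨ n = 8 ∨ n = 3 ∨ n = 6 ∨ n = 12 ∨ n = 24 := by
    decide
  -- three-subgroups
  have big3 : ∀ Q : Sylow 3 G, ∃ H : Subgroup G,
      Subgroup.normalizer ((Q : Subgroup G) : Set G) ≤ H ∧ Nat.card H = 24 := by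
    intro Q
    obtain ⟨T⟩ : Nonempty (Sylow 2 G) := inferInstance
    obtain ⟨U₀, U₁, -, -, -, hK, -, -⟩ := klein_pair h T
    set H := Subgroup.normalizer (U₀ : Set G) with hH
    have hH24 := (klein_normalizer h U₀ hK).1
    obtain ⟨hn3, hQ3⟩ := card_sylow_three_sub h (M := H) (Or.inr hH24)
    obtain ⟨Q₀⟩ : Nonempty (Sylow 3 H) := inferInstance
    obtain ⟨R, hR⟩ := (IsPGroup.of_card (n := 1) (by
      rw [Subgroup.card_map_of_injective H.subtype_injective, hQ3, pow_one]) :
        IsPGroup 3 ((Q₀ : Subgroup H).map H.subtype)).exists_le_sylow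
    have heq := Subgroup.eq_of_le_of_card_ge hR (by
      rw [Subgroup.card_map_of_injective H.subtype_injective, hQ3, card_sylow_three h])
    have hsub : Subgroup.normalizer ((R : Subgroup G) : Set G) ≤ H := by
      have h6 : Nat.card (Subgroup.normalizer ((Q₀ : Subgroup H) : Set H)) = 6 := by
        have := (Subgroup.normalizer ((Q₀ : Subgroup H) : Set H)).card_mul_index
        rw [SylowNumber.index_normalizer, hn3, hH24] at this
        omega
      have hle' : (Subgroup.normalizer ((Q₀ : Subgroup H) : Set H)).map H.subtype ≤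
          Subgroup.normalizer ((R : Subgroup G) : Set G) := by
        rw [← heq]; exact Subgroup.le_normalizer_map _
      rw [← Subgroup.eq_of_le_of_card_ge hle' (by
        rw [Subgroup.card_map_of_injective H.subtype_injective, h6, card_normalizer_three h])]
      exact Subgroup.map_subtype_le _
    obtain ⟨g, rfl⟩ := MulAction.exists_smul_eq G R Q
    refine ⟨H.map (MulAut.conj g).toMonoidHom, ?_, by rw [conj_map_card]; exact hH24⟩
    rw [SylowNumber.smul_coe, conj_normalizer]
    exact Subgroup.map_mono hsub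
  have hb36 : Nat.card M = 3 ∨ Nat.card M = 6 → ∃ H : Subgroup G, M ≤ H ∧ Nat.card H = 24 := by
    intro hM36
    obtain ⟨Q⟩ : Nonempty (Sylow 3 M) := inferInstance
    have hQc : Nat.card (Q : Subgroup M) = 3 := by
      rw [Q.card_eq_multiplicity]
      rcases hM36 with e | e <;> rw [e]
      · rw [Nat.prime_three.factorization_self]; rfl
      · rw [show (6 : ℕ) = 3 * 2 from rfl, Nat.factorization_mul (by norm_num) (by norm_num), Finsupp.add_apply,
          Nat.prime_three.factorization_self, Nat.factorization_eq_zero_of_not_dvd (by norm_num : ¬ 3 ∣ 2)]; rfl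
    have hn : Nat.card (Sylow 3 M) = 1 := by
      have hd' : Nat.card (Sylow 3 M) ∣ 2 := by
        rcases hM36 with e | e
        · exact (SylowPrime.card_sylow_dvd Q (m := 1) (by rw [e, hQc])).trans (by norm_num)
        · exact SylowPrime.card_sylow_dvd Q (m := 2) (by rw [e, hQc])
      have hm : Nat.card (Sylow 3 M) % 3 = 1 := card_sylow_modEq_one 3 M
      have := Nat.le_of_dvd (by norm_num) hd'
      omega
    haveI : (Q : Subgroup M).Normal :=
      Subgroup.normalizer_eq_top_iff.1 (Subgroup.index_eq_one.1 (by rw [SylowNumber.index_normalizer, hn]))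
    obtain ⟨R, hR⟩ := (IsPGroup.of_card (n := 1) (by
      rw [Subgroup.card_map_of_injective M.subtype_injective, hQc, pow_one]) :
        IsPGroup 3 ((Q : Subgroup M).map M.subtype)).exists_le_sylow
    have heq := Subgroup.eq_of_le_of_card_ge hR (by
      rw [Subgroup.card_map_of_injective M.subtype_injective, hQc, card_sylow_three h])
    obtain ⟨H, h1, h2⟩ := big3 R
    refine ⟨H, fun m hm => h1 ?_, h2⟩
    rw [← heq]
    refine Subgroup.le_normalizer_map _ ⟨⟨m, hm⟩, ?_, rfl⟩
    rw [Subgroup.normalizer_eq_top (Q : Subgroup M)]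
    exact Subgroup.mem_top _
  have hb12 : Nat.card M = 12 → ∃ H : Subgroup G, M ≤ H ∧ Nat.card H = 24 := by
    intro hM12
    obtain ⟨hn3, hQ3⟩ := card_sylow_three_sub h (M := M) (Or.inl hM12)
    have h8 : Nat.card {x : M // orderOf x = 3} = 8 := by rw [SylowPrime.card_orderOf_eq hQ3, hn3]
    obtain ⟨S⟩ : Nonempty (Sylow 2 M) := inferInstance
    have hS4 : ∀ S : Sylow 2 M, Nat.card (S : Subgroup M) = 4 := fun S => by
      rw [S.card_eq_multiplicity, hM12, show (12 : ℕ) = 2 ^ 2 * 3 from rfl, Nat.factorization_mul (by norm_num) (by norm_num),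
        Finsupp.add_apply, Nat.factorization_pow, Finsupp.smul_apply, Nat.prime_two.factorization_self,
        Nat.factorization_eq_zero_of_not_dvd (by norm_num : ¬ 2 ∣ 3)]; rfl
    have hset : ∀ S : Sylow 2 M, ((S : Subgroup M) : Set M) = {x | orderOf x = 3}ᶜ := fun S => by
      refine Set.eq_of_subset_of_ncard_le (fun x hx h3 => ?_) ?_ (Set.toFinite _)
      · have := Subgroup.orderOf_dvd_natCard _ (show x ∈ (S : Subgroup M) from hx)
        rw [hS4, show orderOf x = 3 from h3] at this
        norm_num at this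
      · rw [Set.ncard_compl, hM12, ← Nat.card_coe_set_eq, ← Nat.card_coe_set_eq]
        show 12 - Nat.card {x : M // orderOf x = 3} ≤ Nat.card (S : Subgroup M)
        rw [h8, hS4]
    haveI : (S : Subgroup M).Normal := by
      have : Subsingleton (Sylow 2 M) := ⟨fun A B => Sylow.ext (SetLike.coe_injective ((hset A).trans (hset B).symm))⟩
      exact Sylow.normal_of_subsingleton S
    set V := (S : Subgroup M).map M.subtype with hV
    have hV4 : Nat.card V = 4 := by rw [hV, Subgroup.card_map_of_injective M.subtype_injective, hS4]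
    have hMN : M ≤ Subgroup.normalizer (V : Set G) := fun m hm => by
      refine Subgroup.le_normalizer_map _ ⟨⟨m, hm⟩, ?_, rfl⟩
      rw [Subgroup.normalizer_eq_top (S : Subgroup M)]
      exact Subgroup.mem_top _
    obtain ⟨T, hT⟩ := (IsPGroup.of_card (n := 2) (by rw [hV4]; norm_num) : IsPGroup 2 V).exists_le_sylow
    have hTN := sylow_le_normalizer h hV4 T hT
    refine ⟨_, hMN, ?_⟩
    have h1 := Subgroup.card_dvd_of_le hMN
    have h2 := Subgroup.card_dvd_of_le hTN
    rw [hM12] at h1
    rw [card_sylow_two h] at h2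
    have h3 := Nat.lcm_dvd h1 h2
    have h4 := card_proper h (normalizer_ne_top h hV4)
    have h5 := Nat.card_pos (α := Subgroup.normalizer (V : Set G))
    rw [show Nat.lcm 12 8 = 24 from rfl] at h3
    have := Nat.le_of_dvd h5 h3
    omega
  rcases key _ (by omega) hd with e | e | e | e | e | e | e | e | e
  · obtain ⟨x, hx⟩ := exists_prime_orderOf_dvd_card' (G := M) 7 e
    obtain ⟨P⟩ : Nonempty (Sylow 7 M) := inferInstance
    have hP7 : Nat.card (P : Subgroup M) = 7 := by
      have h1 : Nat.card (P : Subgroup M) ∣ 7 := by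
        obtain ⟨R, hR⟩ := (P.isPGroup'.map M.subtype).exists_le_sylow
        refine dvd_trans ?_ (dvd_of_eq (card_sylow_seven h R))
        rw [← Subgroup.card_map_of_injective M.subtype_injective]
        exact Subgroup.card_dvd_of_le hR
      rcases (Nat.dvd_prime Nat.prime_seven).1 h1 with h2 | h2
      · exfalso
        have := P.dvd_card_of_dvd_card e
        rw [h2] at this
        norm_num at this
      · exact h2
    have hn : Nat.card (Sylow 7 M) = 1 := by
      obtain ⟨k, hk⟩ := e
      have hd' : Nat.card (Sylow 7 M) ∣ k := SylowPrime.card_sylow_dvd P (by rw [hP7, hk])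
      have hm : Nat.card (Sylow 7 M) % 7 = 1 := card_sylow_modEq_one 7 M
      have := Nat.card_pos (α := M)
      have := Nat.le_of_dvd (by omega) hd'
      omega
    haveI : (P : Subgroup M).Normal :=
      Subgroup.normalizer_eq_top_iff.1 (Subgroup.index_eq_one.1 (by rw [SylowNumber.index_normalizer, hn]))
    obtain ⟨R, hR⟩ := (IsPGroup.of_card (n := 1) (by
      rw [Subgroup.card_map_of_injective M.subtype_injective, hP7, pow_one]) :
        IsPGroup 7 ((P : Subgroup M).map M.subtype)).exists_le_sylow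
    have heq := Subgroup.eq_of_le_of_card_ge hR (by
      rw [Subgroup.card_map_of_injective M.subtype_injective, hP7, card_sylow_seven h])
    refine ⟨Subgroup.normalizer ((R : Subgroup G) : Set G), ?_, fun e => ?_, Or.inl ⟨inferInstance, R, rfl⟩⟩
    · rw [← heq]
      intro m hm
      refine Subgroup.le_normalizer_map _ ⟨⟨m, hm⟩, ?_, rfl⟩
      rw [Subgroup.normalizer_eq_top (P : Subgroup M)]
      exact Subgroup.mem_top _
    · have := card_normalizer_seven h R
      rw [e, Subgroup.card_top, h] at this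
      omega
  · exact fin (big2 (IsPGroup.of_card (n := 0) (by rw [e]; rfl)))
  · exact fin (big2 (IsPGroup.of_card (n := 1) (by rw [e]; rfl)))
  · exact fin (big2 (IsPGroup.of_card (n := 2) (by rw [e]; rfl)))
  · exact fin (big2 (IsPGroup.of_card (n := 3) (by rw [e]; rfl)))
  · exact fin (hb36 (Or.inl e))
  · exact fin (hb36 (Or.inr e))
  · exact fin (hb12 e)
  · exact fin ⟨M, le_rfl, e⟩

theorem not_comm_normalizer (h : Nat.card G = 168) [Fact (Nat.Prime 7)] (P : Sylow 7 G) :
    ¬ IsMulCommutative (Subgroup.normalizer ((P : Subgroup G) : Set G)) := fun hc => by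
  refine not_normalizer_le_centralizer h P (by rw [card_sylow_seven h]; norm_num)
    (by rw [card_sylow_seven h]; norm_num) fun a ha => ?_
  rw [Subgroup.mem_centralizer_iff]
  intro b hb
  haveI := hc
  exact congrArg Subtype.val (mul_comm' (⟨b, Subgroup.le_normalizer hb⟩ : Subgroup.normalizer ((P : Subgroup G) : Set G)) ⟨a, ha⟩)

end CfsgLib.Perm.Order168
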