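import Mathlib.GroupTheory.SemidirectProduct
import Mathlib.GroupTheory.Solvable
import Mathlib.GroupTheory.OrderOfElement
import Mathlib.GroupTheory.SpecificGroups.Cyclic
import Mathlib.RingTheory.IntegralDomain
import Mathlib.FieldTheory.Finite.GaloisField
import Mathlib.Tactic

/-!
Counting the solutions of `x ^ n = 1` in split extensions of abelian groups by cyclic groups and
in direct products.
-/

set_option autoImplicit false
set_option linter.style.haveILetI false

namespace CfsgLib.Perm.OrderType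

open Finset

/-- The number of solutions of `x ^ n = 1`. -/
noncomputable def solCount (G : Type*) [Monoid G] (n : ℕ) : ℕ := Nat.card {x : G // x ^ n = 1}

theorem solCount_congr {G H : Type*} [Monoid G] [Monoid H] (e : G ≃* H) (n : ℕ) :
    solCount G n = solCount H n :=
  Nat.card_congr (e.toEquiv.subtypeEquiv fun x => by
    show x ^ n = 1 ↔ (e x) ^ n = 1
    rw [← map_pow, ← e.injective.eq_iff (a := x ^ n), map_one])

theorem solCount_prod (G H : Type*) [Monoid G] [Monoid H] (n : ℕ) :
    solCount (G × H) n = solCount G n * solCount H n := by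
  rw [solCount, solCount, solCount, ← Nat.card_prod]
  exact Nat.card_congr
    { toFun := fun x => (⟨x.1.1, congrArg Prod.fst x.2⟩, ⟨x.1.2, congrArg Prod.snd x.2⟩)
      invFun := fun x => ⟨(x.1.1, x.2.1), Prod.ext x.1.2 x.2.2⟩
      left_inv := fun x => rfl
      right_inv := fun x => rfl }

theorem solCount_pi {ι : Type*} [Fintype ι] (X : ι → Type*) [∀ i, Monoid (X i)] (n : ℕ) :
    solCount ((i : ι) → X i) n = ∏ i, solCount (X i) n := by
  simp only [solCount, ← Nat.card_pi]
  exact Nat.card_congr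
    { toFun := fun x i => ⟨x.1 i, congrFun x.2 i⟩
      invFun := fun x => ⟨fun i => (x i).1, funext fun i => (x i).2⟩
      left_inv := fun x => rfl
      right_inv := fun x => rfl }

theorem pow_eq_one_of_solCount_eq_card {G : Type*} [Monoid G] [Finite G] {N : ℕ}
    (h : solCount G N = Nat.card G) (x : G) : x ^ N = 1 := by
  have hs : Function.Surjective (Subtype.val : {y : G // y ^ N = 1} → G) :=
    ((Nat.bijective_iff_injective_and_card _).2 ⟨Subtype.val_injective, h⟩).2
  obtain ⟨⟨y, hy⟩, rfl⟩ := hs x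
  exact hy

theorem solCount_gcd {G : Type*} [Monoid G] {N : ℕ} (h : ∀ x : G, x ^ N = 1) (n : ℕ) :
    solCount G n = solCount G (Nat.gcd n N) :=
  Nat.card_congr (Equiv.subtypeEquivRight fun x => by
    rw [← orderOf_dvd_iff_pow_eq_one, ← orderOf_dvd_iff_pow_eq_one, Nat.dvd_gcd_iff]
    exact ⟨fun hn => ⟨hn, orderOf_dvd_of_pow_eq_one (h x)⟩, fun hn => hn.1⟩)

/-- Equal numbers of solutions of all `x ^ n = 1` give equal numbers of elements of each order. -/
theorem card_orderOf_eq {G H : Type*} [Group G] [Group H] [Finite G] [Finite H]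
    (h : ∀ n, 0 < n → solCount G n = solCount H n) (n : ℕ) :
    Nat.card {g : G // orderOf g = n} = Nat.card {h : H // orderOf h = n} := by
  classical
  haveI := Fintype.ofFinite G
  haveI := Fintype.ofFinite H
  induction n using Nat.strong_induction_on with
  | _ n ih =>
    rcases Nat.eq_zero_or_pos n with rfl | hn
    · haveI : IsEmpty {g : G // orderOf g = 0} := ⟨fun g => (orderOf_pos g.1).ne' g.2⟩
      haveI : IsEmpty {g : H // orderOf g = 0} := ⟨fun g => (orderOf_pos g.1).ne' g.2⟩
      rw [Nat.card_of_isEmpty, Nat.card_of_isEmpty]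
    · have h1 := h n hn
      simp only [solCount, Nat.card_eq_fintype_card, Fintype.card_subtype] at h1 ih ⊢
      have e1 := sum_card_orderOf_eq_card_pow_eq_one (G := G) hn.ne'
      have e2 := sum_card_orderOf_eq_card_pow_eq_one (G := H) hn.ne'
      rw [← Nat.insert_self_properDivisors hn.ne', Finset.sum_insert Nat.self_notMem_properDivisors]
        at e1 e2
      rw [Finset.sum_congr rfl (fun d hd => ih d (Nat.mem_properDivisors.1 hd).2)] at e1
      convert (Nat.add_right_cancel ((e1.trans (Eq.trans (by convert h1) e2.symm)))) using 2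

theorem isSolvable_pi {ι : Type*} [Finite ι] (X : ι → Type*) [∀ i, Group (X i)]
    (h : ∀ i, Group.IsSolvable (X i)) : Group.IsSolvable ((i : ι) → X i) := by
  classical
  haveI := Fintype.ofFinite ι
  choose n hn using fun i => (h i).solvable
  refine ⟨⟨Finset.univ.sup n, ?_⟩⟩
  rw [eq_bot_iff]
  intro x hx
  rw [Subgroup.mem_bot]
  funext i
  have h1 : (derivedSeries ((i : ι) → X i) (Finset.univ.sup n)).map (Pi.evalMonoidHom X i) ≤ ⊥ := by
    refine (map_derivedSeries_le_derivedSeries _ _).trans ?_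
    exact (derivedSeries_antitone (X i) (Finset.le_sup (Finset.mem_univ i))).trans (hn i).le
  exact Subgroup.mem_bot.1 (h1 (Subgroup.mem_map_of_mem _ hx))

/-- The building blocks: abelian groups with an automorphism. -/
inductive Kind
  | field (p e d : ℕ)
  | cyc4
  | neg4
  | swap

/-- The number of `v` with `(1 + φ ^ i + ⋯ + φ ^ (i * (n - 1))) v = 0` when `φ ^ (i * n) = 1`. -/
def Kind.K : Kind → ℕ → ℕ → ℕ
  | .field p e d, i, n => if d ∣ i then (if p ∣ n then p ^ e else 1) else p ^ e
  | .cyc4, _, n => Nat.gcd 4 n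
  | .neg4, i, n => if 2 ∣ i then Nat.gcd 4 n else 4
  | .swap, i, n => if 2 ∣ i then (if 2 ∣ n then 4 else 1) else (if 4 ∣ n then 4 else 2)

/-- A block realised by an automorphism `φ` with `φ ^ m = 1`. -/
structure Block (m : ℕ) where
  V : Type
  [grp : AddCommGroup V]
  [fin : Finite V]
  φ : AddMonoid.End V
  pow_m : φ ^ m = 1
  K : ℕ → ℕ → ℕ
  K_eq : ∀ i n, m ∣ i * n →
    Nat.card {v : V // (∑ t ∈ Finset.range n, φ ^ (i * t)) v = 0} = K i n

attribute [instance] Block.grp Block.fin

/-- Data of a group: the order of the cyclic complement and the blocks. -/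
structure Spec where
  m : ℕ
  kinds : List Kind

/-- The formula for the number of solutions of `x ^ n = 1`. -/
def Spec.count (s : Spec) (n : ℕ) : ℕ :=
  ((List.range s.m).map fun i =>
    if s.m ∣ i * n then (s.kinds.map fun k => k.K i n).prod else 0).sum

section Split

variable {V : Type*} [AddCommGroup V] (m : ℕ) [NeZero m] (φ : AddMonoid.End V) (hφ : φ ^ m = 1)

/-- Split extension of `V` by a cyclic group acting through `φ`. -/
@[ext]
structure Ext (m : ℕ) [NeZero m] (φ : AddMonoid.End V) (hφ : φ ^ m = 1) where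
  v : V
  i : ZMod m

variable {m φ hφ}

theorem phi_pow_mod (a : ℕ) (hφ : φ ^ m = 1) : φ ^ (a % m) = φ ^ a := by
  conv_rhs => rw [← Nat.mod_add_div a m, pow_add, pow_mul, hφ, one_pow, mul_one]

theorem phi_pow_add (a b : ZMod m) (hφ : φ ^ m = 1) :
    φ ^ (a + b).val = φ ^ a.val * φ ^ b.val := by
  rw [ZMod.val_add, phi_pow_mod _ hφ, pow_add]

theorem End_mul_apply (f g : AddMonoid.End V) (v : V) : (f * g) v = f (g v) := rfl

instance : Group (Ext m φ hφ) where
  mul x y := ⟨x.v + (φ ^ x.i.val) y.v, x.i + y.i⟩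
  one := ⟨0, 0⟩
  inv x := ⟨-((φ ^ (-x.i).val) x.v), -x.i⟩
  mul_assoc x y z := by
    refine Ext.ext ?_ (add_assoc _ _ _)
    show x.v + (φ ^ x.i.val) y.v + (φ ^ (x.i + y.i).val) z.v =
      x.v + (φ ^ x.i.val) (y.v + (φ ^ y.i.val) z.v)
    rw [map_add, phi_pow_add _ _ hφ, End_mul_apply, add_assoc]
  one_mul x := by
    refine Ext.ext ?_ (zero_add _)
    show 0 + (φ ^ (0 : ZMod m).val) x.v = x.v
    rw [ZMod.val_zero, pow_zero, zero_add]
    rfl
  mul_one x := by
    refine Ext.ext ?_ (add_zero _)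
    show x.v + (φ ^ x.i.val) 0 = x.v
    rw [map_zero, add_zero]
  inv_mul_cancel x := by
    refine Ext.ext ?_ (neg_add_cancel _)
    show -((φ ^ (-x.i).val) x.v) + (φ ^ (-x.i).val) x.v = 0
    exact neg_add_cancel _

instance [Finite V] : Finite (Ext m φ hφ) :=
  Finite.of_injective (fun x => (x.v, x.i)) fun x y h =>
    Ext.ext (congrArg Prod.fst h) (congrArg Prod.snd h)

theorem Ext_pow (x : Ext m φ hφ) (n : ℕ) :
    x ^ n = ⟨(∑ t ∈ Finset.range n, φ ^ (x.i.val * t)) x.v, n * x.i⟩ := by
  induction n with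
  | zero => exact Ext.ext rfl (by rw [Nat.cast_zero, zero_mul]; rfl)
  | succ k ih =>
    rw [pow_succ', ih]
    refine Ext.ext ?_ ?_
    · show x.v + (φ ^ x.i.val) ((∑ t ∈ Finset.range k, φ ^ (x.i.val * t)) x.v) = _
      rw [← End_mul_apply, Finset.mul_sum, Finset.sum_range_succ' _ k, mul_zero, pow_zero]
      simp only [mul_add, mul_one, pow_add]
      show x.v + _ = (∑ t ∈ Finset.range k, φ ^ (x.i.val * t) * φ ^ x.i.val) x.v + x.v
      rw [add_comm]
      congr 2
      exact Finset.sum_congr rfl fun t _ => by rw [← pow_add, ← pow_add, add_comm]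
    · show x.i + (k : ZMod m) * x.i = ((k + 1 : ℕ) : ZMod m) * x.i
      push_cast; ring

theorem solCount_Ext [Finite V] (n : ℕ) :
    solCount (Ext m φ hφ) n = ∑ i ∈ Finset.range m,
      if m ∣ i * n then Nat.card {v : V // (∑ t ∈ Finset.range n, φ ^ (i * t)) v = 0} else 0 := by
  classical
  haveI := Fintype.ofFinite V
  have hcong : {x : Ext m φ hφ // x ^ n = 1} ≃
      (i : Fin m) × {v : V // m ∣ i.val * n ∧ (∑ t ∈ Finset.range n, φ ^ (i.val * t)) v = 0} :=
    { toFun := fun x => ⟨⟨x.1.i.val, ZMod.val_lt _⟩, ⟨x.1.v, by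
        have h := x.2
        rw [Ext_pow] at h
        refine ⟨?_, congrArg Ext.v h⟩
        have h2 : (n : ZMod m) * x.1.i = 0 := congrArg Ext.i h
        rw [← ZMod.natCast_zmod_val x.1.i, ← Nat.cast_mul, ZMod.natCast_eq_zero_iff] at h2
        rwa [mul_comm]⟩⟩
      invFun := fun y => ⟨⟨y.2.1, ((y.1.val : ℕ) : ZMod m)⟩, by
        have hv : ((y.1.val : ℕ) : ZMod m).val = y.1.val := ZMod.val_natCast_of_lt y.1.2
        rw [Ext_pow]
        refine Ext.ext ?_ ?_
        · show (∑ t ∈ Finset.range n, φ ^ (((y.1.val : ℕ) : ZMod m).val * t)) y.2.1 = 0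
          rw [hv]; exact y.2.2.2
        · show (n : ZMod m) * ((y.1.val : ℕ) : ZMod m) = 0
          rw [← Nat.cast_mul, ZMod.natCast_eq_zero_iff, mul_comm]
          exact y.2.2.1⟩
      left_inv := fun x => Subtype.ext (Ext.ext rfl (ZMod.natCast_zmod_val _))
      right_inv := fun y => by
        obtain ⟨i, v, hv⟩ := y
        refine Sigma.subtype_ext (Fin.ext ?_) rfl
        exact ZMod.val_natCast_of_lt i.2 }
  rw [solCount, Nat.card_congr hcong, Nat.card_sigma, ← Fin.sum_univ_eq_sum_range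
    (fun i => if m ∣ i * n then Nat.card {v : V // (∑ t ∈ Finset.range n, φ ^ (i * t)) v = 0} else 0)]
  refine Finset.sum_congr rfl fun i _ => ?_
  split_ifs with h
  · exact Nat.card_congr (Equiv.subtypeEquivRight fun v => and_iff_right h)
  · haveI : IsEmpty {v : V // m ∣ i.val * n ∧ (∑ t ∈ Finset.range n, φ ^ (i.val * t)) v = 0} :=
      ⟨fun v => h v.2.1⟩
    exact Nat.card_of_isEmpty

theorem isSolvable_Ext : Group.IsSolvable (Ext m φ hφ) := by
  let f : Ext m φ hφ →* Multiplicative (ZMod m) :=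
    { toFun := fun x => Multiplicative.ofAdd x.i, map_one' := rfl, map_mul' := fun x y => rfl }
  let g : Multiplicative V →* Ext m φ hφ :=
    { toFun := fun v => ⟨Multiplicative.toAdd v, 0⟩
      map_one' := rfl
      map_mul' := fun u v => by
        refine Ext.ext ?_ (add_zero _).symm
        show Multiplicative.toAdd u + Multiplicative.toAdd v =
          Multiplicative.toAdd u + (φ ^ (0 : ZMod m).val) (Multiplicative.toAdd v)
        rw [ZMod.val_zero, pow_zero]; rfl }
  refine Group.isSolvable_of_ker_le_range g f fun x hx => ?_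
  have hx' : x.i = 0 := Multiplicative.ofAdd.injective (MonoidHom.mem_ker.1 hx)
  exact ⟨Multiplicative.ofAdd x.v, Ext.ext rfl hx'.symm⟩

end Split

theorem sum_apply' {V : Type*} [AddCommGroup V] (n : ℕ) (f : ℕ → AddMonoid.End V) (v : V) :
    (∑ t ∈ Finset.range n, f t) v = ∑ t ∈ Finset.range n, f t v :=
  map_sum (AddMonoidHom.eval v) f _

/-- The side condition under which a block can be realised with a complement of order `m`. -/
def Kind.Ok : Kind → ℕ → Prop
  | .field p e d, m => p.Prime ∧ e ≠ 0 ∧ d ∣ p ^ e - 1 ∧ d ∣ m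
  | .cyc4, _ => True
  | .neg4, m => 2 ∣ m
  | .swap, m => 2 ∣ m

theorem exists_unit_orderOf {p e d : ℕ} [Fact p.Prime] (he : e ≠ 0) (hd : d ∣ p ^ e - 1) :
    ∃ z : (GaloisField p e)ˣ, orderOf z = d := by
  classical
  haveI := Fintype.ofFinite (GaloisField p e)
  obtain ⟨g, hg⟩ := IsCyclic.exists_generator (α := (GaloisField p e)ˣ)
  have hcard : orderOf g = p ^ e - 1 := by
    rw [orderOf_eq_card_of_forall_mem_zpowers hg, Nat.card_units, GaloisField.card p e he]
  obtain ⟨c, hc⟩ := hd
  have hne : p ^ e - 1 ≠ 0 := by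
    have := Nat.one_lt_pow he (Fact.out : p.Prime).one_lt
    omega
  refine ⟨g ^ c, ?_⟩
  rw [orderOf_pow_of_dvd (by rintro rfl; simp at hc; exact hne hc) ⟨d, by rw [hcard, hc, mul_comm]⟩,
    hcard, hc, Nat.mul_div_left]
  exact Nat.pos_of_ne_zero (by rintro rfl; simp at hc; exact hne hc)

theorem card_nsmul_eq_zero_four (n : ℕ) :
    Nat.card {v : ZMod 4 // (n : ZMod 4) * v = 0} = Nat.gcd 4 n := by
  rw [← ZMod.natCast_mod n 4, Nat.gcd_rec 4 n, Nat.card_eq_fintype_card]
  have h4 : n % 4 < 4 := Nat.mod_lt _ (by norm_num)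
  generalize n % 4 = r at h4 ⊢
  interval_cases r <;> decide

theorem exists_block_field {p e d m : ℕ} (hp : p.Prime) (he : e ≠ 0) (hd : d ∣ p ^ e - 1)
    (hm : d ∣ m) : ∃ b : Block m, ∀ i n, m ∣ i * n → b.K i n = (Kind.field p e d).K i n := by
  haveI := Fact.mk hp
  obtain ⟨z, hz⟩ := exists_unit_orderOf he hd
  set F := GaloisField p e
  let μ : F → AddMonoid.End F := fun c => AddMonoidHom.mulLeft c
  have hpow : ∀ k : ℕ, μ (z : F) ^ k = μ ((z : F) ^ k) := by
    intro k
    induction k with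
    | zero => exact DFunLike.ext _ _ fun v => (one_mul v).symm.trans (by rw [pow_zero]; rfl)
    | succ k ih =>
      rw [pow_succ, ih, pow_succ]
      exact DFunLike.ext _ _ fun v => (mul_assoc _ _ _).symm
  have hzm : (z : F) ^ m = 1 := by
    rw [← Units.val_pow_eq_pow_val, orderOf_dvd_iff_pow_eq_one.1 (hz ▸ hm), Units.val_one]
  refine ⟨{ V := F, φ := μ (z : F), pow_m := ?_, K := fun i n => (Kind.field p e d).K i n, K_eq := ?_ },
    fun _ _ _ => rfl⟩
  · rw [hpow, hzm]
    exact DFunLike.ext _ _ fun v => one_mul v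
  · intro i n hin
    have hS : ∀ v : F, (∑ t ∈ Finset.range n, μ (z : F) ^ (i * t)) v =
        (∑ t ∈ Finset.range n, ((z : F) ^ i) ^ t) * v := by
      intro v
      rw [sum_apply', Finset.sum_mul]
      refine Finset.sum_congr rfl fun t _ => ?_
      rw [hpow, ← pow_mul]
      rfl
    simp only [hS]
    show _ = if d ∣ i then (if p ∣ n then p ^ e else 1) else p ^ e
    have hall : ∀ c : F, c = 0 → Nat.card {v : F // c * v = 0} = p ^ e := by
      rintro c rfl
      rw [← GaloisField.card p e he]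
      exact Nat.card_congr (Equiv.subtypeUnivEquiv fun v => zero_mul v)
    split_ifs with hdi hpn
    · apply hall
      have h1 : (z : F) ^ i = 1 := by
        rw [← Units.val_pow_eq_pow_val, orderOf_dvd_iff_pow_eq_one.1 (hz ▸ hdi), Units.val_one]
      simp only [h1, one_pow, Finset.sum_const, Finset.card_range, nsmul_eq_mul, mul_one]
      exact (CharP.cast_eq_zero_iff F p n).2 hpn
    · have h1 : (z : F) ^ i = 1 := by
        rw [← Units.val_pow_eq_pow_val, orderOf_dvd_iff_pow_eq_one.1 (hz ▸ hdi), Units.val_one]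
      simp only [h1, one_pow, Finset.sum_const, Finset.card_range, nsmul_eq_mul, mul_one]
      have hne : (n : F) ≠ 0 := fun h => hpn ((CharP.cast_eq_zero_iff F p n).1 h)
      rw [Nat.card_eq_one_iff_unique]
      refine ⟨⟨fun a b => Subtype.ext ?_⟩, ⟨⟨0, mul_zero _⟩⟩⟩
      rw [(mul_eq_zero.1 a.2).resolve_left hne, (mul_eq_zero.1 b.2).resolve_left hne]
    · apply hall
      have h1 : (z : F) ^ i ≠ 1 := by
        intro h
        exact hdi (hz ▸ orderOf_dvd_iff_pow_eq_one.2 (Units.ext (by simpa using h)))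
      have h2 : ((z : F) ^ i) ^ n = 1 := by
        obtain ⟨c, hc⟩ := hin
        rw [← pow_mul, hc, pow_mul, hzm, one_pow]
      rw [geom_sum_eq h1, h2, sub_self, zero_div]

theorem exists_block_cyc4 (m : ℕ) :
    ∃ b : Block m, ∀ i n, m ∣ i * n → b.K i n = Kind.cyc4.K i n := by
  refine ⟨{ V := ZMod 4, φ := 1, pow_m := one_pow m, K := fun _ n => Nat.gcd 4 n, K_eq := ?_ },
    fun _ _ _ => rfl⟩
  intro i n _
  rw [← card_nsmul_eq_zero_four]
  refine Nat.card_congr (Equiv.subtypeEquivRight fun v => ?_)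
  rw [sum_apply']
  simp [one_pow]

theorem neg_one_pow_apply {V : Type*} [AddCommGroup V] (φ : AddMonoid.End V)
    (hφ : φ ^ 2 = 1) (k : ℕ) : φ ^ k = if 2 ∣ k then 1 else φ := by
  split_ifs with h
  · obtain ⟨c, rfl⟩ := h
    rw [pow_mul, hφ, one_pow]
  · obtain ⟨c, rfl⟩ : Odd k := Nat.not_even_iff_odd.1 (fun h' => h (even_iff_two_dvd.1 h'))
    rw [pow_succ, pow_mul, hφ, one_pow, one_mul]

theorem sum_range_two_mul {V : Type*} [AddCommGroup V] (φ : AddMonoid.End V) (hφ : φ ^ 2 = 1)
    (i c : ℕ) (hi : ¬ 2 ∣ i) (v : V) :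
    (∑ t ∈ Finset.range (2 * c), φ ^ (i * t)) v = c • (v + φ v) := by
  induction c with
  | zero => simp
  | succ c ih =>
    rw [sum_apply'] at ih ⊢
    rw [show 2 * (c + 1) = 2 * c + 1 + 1 by ring, Finset.sum_range_succ, Finset.sum_range_succ, ih,
      neg_one_pow_apply φ hφ, neg_one_pow_apply φ hφ,
      if_pos (dvd_mul_of_dvd_right (dvd_mul_right 2 c) i),
      if_neg (fun h => (Nat.prime_two.dvd_mul.1 h).elim hi (by omega)), succ_nsmul, add_assoc]
    rfl

theorem even_of_not_dvd {m i n : ℕ} (hm : 2 ∣ m) (hi : ¬ 2 ∣ i) (h : m ∣ i * n) : 2 ∣ n :=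
  (Nat.prime_two.dvd_mul.1 (hm.trans h)).resolve_left hi

theorem exists_block_neg4 {m : ℕ} (hm : 2 ∣ m) :
    ∃ b : Block m, ∀ i n, m ∣ i * n → b.K i n = Kind.neg4.K i n := by
  set φ : AddMonoid.End (ZMod 4) := AddMonoidHom.mulLeft (-1) with hφ
  have h2 : φ ^ 2 = 1 := DFunLike.ext _ _ fun v => by
    rw [sq]
    show (-1 : ZMod 4) * (-1 * v) = v
    ring
  refine ⟨{ V := ZMod 4, φ := φ,
            pow_m := by obtain ⟨c, rfl⟩ := hm; rw [pow_mul, h2, one_pow]
            K := fun i n => Kind.neg4.K i n, K_eq := ?_ }, fun _ _ _ => rfl⟩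
  intro i n hin
  show _ = if 2 ∣ i then Nat.gcd 4 n else 4
  split_ifs with hi
  · rw [← card_nsmul_eq_zero_four]
    refine Nat.card_congr (Equiv.subtypeEquivRight fun v => ?_)
    rw [sum_apply']
    simp [neg_one_pow_apply φ h2, dvd_mul_of_dvd_left hi]
  · obtain ⟨c, rfl⟩ := even_of_not_dvd hm hi hin
    refine Eq.trans (Nat.card_congr (Equiv.subtypeUnivEquiv fun v => ?_)) (Nat.card_zmod 4)
    rw [sum_range_two_mul φ h2 i c hi v]
    show c • (v + (-1 : ZMod 4) * v) = 0
    simp

theorem exists_block_swap {m : ℕ} (hm : 2 ∣ m) :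
    ∃ b : Block m, ∀ i n, m ∣ i * n → b.K i n = Kind.swap.K i n := by
  set φ : AddMonoid.End (ZMod 2 × ZMod 2) :=
    (AddEquiv.prodComm : ZMod 2 × ZMod 2 ≃+ ZMod 2 × ZMod 2).toAddMonoidHom with hφ
  have h2 : φ ^ 2 = 1 := DFunLike.ext _ _ fun v => by rw [sq]; rfl
  refine ⟨{ V := ZMod 2 × ZMod 2, φ := φ,
            pow_m := by obtain ⟨c, rfl⟩ := hm; rw [pow_mul, h2, one_pow]
            K := fun i n => Kind.swap.K i n, K_eq := ?_ }, fun _ _ _ => rfl⟩
  intro i n hin
  show _ = if 2 ∣ i then (if 2 ∣ n then 4 else 1) else (if 4 ∣ n then 4 else 2)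
  by_cases hi : 2 ∣ i
  · rw [if_pos hi]
    have hc : Nat.card {v : ZMod 2 × ZMod 2 // ((n : ZMod 2) * v.1, (n : ZMod 2) * v.2) = (0, 0)} =
        if 2 ∣ n then 4 else 1 := by
      simp only [Nat.dvd_iff_mod_eq_zero]
      rw [← ZMod.natCast_mod n 2, Nat.card_eq_fintype_card]
      have h : n % 2 < 2 := Nat.mod_lt _ (by norm_num)
      generalize n % 2 = r at h ⊢
      interval_cases r <;> decide
    rw [← hc]
    refine Nat.card_congr (Equiv.subtypeEquivRight fun v => ?_)
    rw [sum_apply']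
    simp [neg_one_pow_apply φ h2, dvd_mul_of_dvd_left hi, Prod.ext_iff]
  · rw [if_neg hi]
    obtain ⟨c, rfl⟩ := even_of_not_dvd hm hi hin
    have hc : Nat.card {v : ZMod 2 × ZMod 2 //
        ((c : ZMod 2) * (v.1 + v.2), (c : ZMod 2) * (v.2 + v.1)) = (0, 0)} =
        if 4 ∣ 2 * c then 4 else 2 := by
      simp only [show 4 ∣ 2 * c ↔ c % 2 = 0 by omega]
      rw [← ZMod.natCast_mod c 2, Nat.card_eq_fintype_card]
      have h : c % 2 < 2 := Nat.mod_lt _ (by norm_num)
      generalize c % 2 = r at h ⊢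
      interval_cases r <;> decide
    rw [← hc]
    refine Nat.card_congr (Equiv.subtypeEquivRight fun v => ?_)
    rw [sum_range_two_mul φ h2 i c hi v, hφ]
    show c • ((v.1, v.2) + (v.2, v.1)) = 0 ↔ _
    rw [Prod.mk_add_mk, Prod.smul_mk, Prod.mk_eq_zero, nsmul_eq_mul, nsmul_eq_mul, Prod.ext_iff]

theorem Kind.exists_block (k : Kind) (m : ℕ) (h : k.Ok m) :
    ∃ b : Block m, ∀ i n, m ∣ i * n → b.K i n = k.K i n := by
  cases k with
  | field p e d => obtain ⟨h1, h2, h3, h4⟩ := h; exact exists_block_field h1 h2 h3 h4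
  | cyc4 => exact exists_block_cyc4 m
  | neg4 => exact exists_block_neg4 h
  | swap => exact exists_block_swap h

/-- Every admissible specification is realised by a finite solvable group. -/
theorem Spec.exists_group (s : Spec) (hm : s.m ≠ 0) (h : ∀ k ∈ s.kinds, k.Ok s.m) :
    ∃ (G : Type) (_ : Group G) (_ : Finite G), Group.IsSolvable G ∧ ∀ n, solCount G n = s.count n := by
  classical
  obtain ⟨m, ks⟩ := s
  haveI : NeZero m := ⟨hm⟩
  choose b hb using fun j : Fin ks.length => (ks.get j).exists_block m (h _ (List.get_mem ks j))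
  let V := (j : Fin ks.length) → (b j).V
  let φ : AddMonoid.End V :=
    AddMonoidHom.pi fun j =>
      ((b j).φ : (b j).V →+ (b j).V).comp (Pi.evalAddMonoidHom (fun j => (b j).V) j)
  have hpow : ∀ (k : ℕ) (v : V) (j : Fin ks.length), (φ ^ k) v j = ((b j).φ ^ k) (v j) := by
    intro k
    induction k with
    | zero => intro v j; rfl
    | succ k ih =>
      intro v j
      rw [pow_succ, pow_succ, End_mul_apply, ih, End_mul_apply]
      rfl
  have hφ : φ ^ m = 1 := DFunLike.ext _ _ fun v => funext fun j => by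
    rw [hpow, (b j).pow_m]; rfl
  refine ⟨Ext m φ hφ, inferInstance, inferInstance, isSolvable_Ext, fun n => ?_⟩
  have hcount : (Spec.mk m ks).count n = ∑ i ∈ Finset.range m,
      if m ∣ i * n then (ks.map fun k => k.K i n).prod else 0 := by
    simp only [Spec.count, ← List.sum_toFinset _ List.nodup_range, List.toFinset_range]
  rw [solCount_Ext, hcount]
  refine Finset.sum_congr rfl fun i _ => ?_
  split_ifs with hin
  · have e : Nat.card {v : V // (∑ t ∈ Finset.range n, φ ^ (i * t)) v = 0} =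
        ∏ j : Fin ks.length,
          Nat.card {w : (b j).V // (∑ t ∈ Finset.range n, (b j).φ ^ (i * t)) w = 0} := by
      rw [← Nat.card_pi]
      have hv : ∀ v : V, (∑ t ∈ Finset.range n, φ ^ (i * t)) v = 0 ↔
          ∀ j, (∑ t ∈ Finset.range n, (b j).φ ^ (i * t)) (v j) = 0 := by
        intro v
        rw [funext_iff]
        refine forall_congr' fun j => ?_
        rw [sum_apply', sum_apply', Finset.sum_apply]
        simp only [hpow]
        rfl
      exact Nat.card_congr
        { toFun := fun v j => ⟨v.1 j, (hv v.1).1 v.2 j⟩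
          invFun := fun w => ⟨fun j => (w j).1, (hv _).2 fun j => (w j).2⟩
          left_inv := fun v => rfl
          right_inv := fun w => rfl }
    rw [e, ← Fin.prod_univ_fun_getElem ks (fun k => k.K i n)]
    refine Finset.prod_congr rfl fun j _ => ?_
    rw [(b j).K_eq i n hin, hb j i n hin]
    rfl
  · rfl

end CfsgLib.Perm.OrderType
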