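import Mathlib

/-!
Two lemmas for groups with element orders at most four: groups with commuting conjugates and no
elements of order three have class two; an action of a symmetric group of degree three.
-/

set_option autoImplicit false
set_option linter.unusedSectionVars false
set_option linter.style.haveILetI false

namespace CfsgLib.Perm.OrdersFour

section Engel

variable {M : Type*} [Group M]

/-- Every element commutes with its conjugates and cubing is injective at `1`: class at most two. -/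
theorem engel_class_two (hE : ∀ x g : M, Commute x (g * x * g⁻¹)) (h3 : ∀ x : M, x ^ 3 = 1 → x = 1) :
    ∀ a b c : M, Commute (a * b * a⁻¹ * b⁻¹) c := by
  classical
  have hconj : ∀ x g h : M, Commute (g * x * g⁻¹) (h * x * h⁻¹) := by
    intro x g h
    have := (hE x (g⁻¹ * h)).map (MulAut.conj g).toMonoidHom
    simp only [MulEquiv.toMonoidHom_eq_coe, MonoidHom.coe_coe, MulAut.conj_apply] at this
    rwa [show g * (g⁻¹ * h * x * (g⁻¹ * h)⁻¹) * g⁻¹ = h * x * h⁻¹ by group] at this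
  let c2 : M → M → M := fun a b => a * b * a⁻¹ * b⁻¹
  let T : M → M → M → M := fun x g h => c2 h (c2 g x)
  have key : ∀ x g h : M, T x g h * T x h g = 1 ∧ c2 (c2 g h) x = T x h g ^ 2 := by
    intro x g h
    set A : Subgroup M := Subgroup.closure (Set.range fun g : M => g * x * g⁻¹)
    have hA : IsMulCommutative A := Subgroup.isMulCommutative_closure (by
      rintro _ ⟨g, rfl⟩ _ ⟨h, rfl⟩; exact hconj x g h)
    letI : CommGroup A := { (inferInstance : Group A) with mul_comm := fun a b => hA.is_comm.comm a b }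
    have hinv : ∀ g : M, ∀ a ∈ A, g * a * g⁻¹ ∈ A := by
      intro g a ha
      induction ha using Subgroup.closure_induction with
      | mem y hy => obtain ⟨k, rfl⟩ := hy; exact Subgroup.subset_closure ⟨g * k, by group⟩
      | one => simp
      | mul y z _ _ hy hz => simpa [mul_assoc] using A.mul_mem hy hz
      | inv y _ hy => simpa [mul_assoc] using A.inv_mem hy
    let φ : M → Additive A → Additive A := fun g a =>
      Additive.ofMul ⟨g * (Additive.toMul a : A) * g⁻¹, hinv g _ (Additive.toMul a).2⟩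
    have φ_mul : ∀ g h a, φ (g * h) a = φ g (φ h a) := fun g h a =>
      congrArg Additive.ofMul (Subtype.ext (by simp [φ, mul_assoc]))
    have φ_add : ∀ g a b, φ g (a + b) = φ g a + φ g b := fun g a b =>
      congrArg Additive.ofMul (Subtype.ext (by simp [φ, mul_assoc]))
    have φ_one : ∀ a, φ 1 a = a := fun a => congrArg Additive.ofMul (Subtype.ext (by simp; rfl))
    have φ_neg : ∀ g a, φ g (-a) = -φ g a := fun g a => by
      rw [eq_neg_iff_add_eq_zero, ← φ_add, neg_add_cancel]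
      exact congrArg Additive.ofMul (Subtype.ext (by simp))
    have φ_sub : ∀ g a b, φ g (a - b) = φ g a - φ g b := fun g a b => by
      rw [sub_eq_add_neg, φ_add, φ_neg, ← sub_eq_add_neg]
    -- the quadratic relation
    have quad : ∀ g a, φ g⁻¹ a = a + a - φ g a := by
      intro g a
      have h1 : φ g (φ g a - a) = φ g a - a := by
        refine congrArg Additive.ofMul (Subtype.ext ?_)
        have hg : Commute g ((Additive.toMul a : A) * g * ((Additive.toMul a : A) : M)⁻¹) := hE g _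
        set b : M := ((Additive.toMul a : A) : M)
        show g * (g * b * g⁻¹ / b) * g⁻¹ = g * b * g⁻¹ / b
        rw [div_eq_mul_inv]
        calc g * (g * b * g⁻¹ * b⁻¹) * g⁻¹ = g * (g * (b * g * b⁻¹)⁻¹) * g⁻¹ := by group
          _ = g * ((b * g * b⁻¹)⁻¹ * g) * g⁻¹ := by rw [hg.inv_right.eq]
          _ = _ := by group
      have h2 := congrArg (φ g⁻¹) h1
      rw [← φ_mul g⁻¹ g, inv_mul_cancel, φ_one, φ_sub g⁻¹, ← φ_mul g⁻¹ g a, inv_mul_cancel, φ_one] at h2
      calc φ g⁻¹ a = a - (a - φ g⁻¹ a) := by abel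
        _ = a - (φ g a - a) := by rw [← h2]
        _ = _ := by abel
    have quad2 : ∀ g a, φ g (φ g a) = φ g a + φ g a - a := by
      intro g a
      have h1 := quad g (φ g a)
      rw [← φ_mul g⁻¹ g, inv_mul_cancel, φ_one] at h1
      conv_rhs => arg 2; rw [h1]
      abel
    have swap : ∀ g h a, φ h (φ g a) = φ g a + φ g a + φ h a + φ h a - (a + a) - φ g (φ h a) := by
      intro g h a
      have h1 := quad (h * g) a
      rw [mul_inv_rev, φ_mul, φ_mul, quad h a, φ_sub, φ_add, quad g a, quad g (φ h a)] at h1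
      have h3 : φ h (φ g a) = a + a - (a + a - φ g a + (a + a - φ g a) - (φ h a + φ h a - φ g (φ h a))) := by
        rw [h1]; abel
      rw [h3]; abel
    let a₀ : Additive A := Additive.ofMul ⟨x, Subgroup.subset_closure ⟨1, by simp⟩⟩
    let co : Additive A → M := fun a => ((Additive.toMul a : A) : M)
    have hc2 : ∀ g a, c2 g (co a) = co (φ g a - a) := fun g a => by simp [c2, co, φ, div_eq_mul_inv]
    have hT : ∀ g h, T x g h = co (φ h (φ g a₀ - a₀) - (φ g a₀ - a₀)) := fun g h => by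
      simp only [T]; rw [show x = co a₀ from rfl, hc2, hc2]
    refine ⟨?_, ?_⟩
    · rw [hT, hT]
      have e : φ h (φ g a₀ - a₀) - (φ g a₀ - a₀) + (φ g (φ h a₀ - a₀) - (φ h a₀ - a₀)) = 0 := by
        rw [φ_sub, φ_sub, swap g h a₀]; abel
      exact congrArg co e
    · rw [hT, pow_two, show x = co a₀ from rfl, hc2]
      have e : φ (c2 g h) a₀ - a₀ = (φ g (φ h a₀ - a₀) - (φ h a₀ - a₀)) + (φ g (φ h a₀ - a₀) - (φ h a₀ - a₀)) := by
        simp only [c2, φ_mul]
        rw [quad h a₀]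
        simp only [φ_sub, φ_add, quad, quad2, swap g h]
        abel
      exact congrArg co e
  intro a b c
  have hcc : ∀ g x : M, c2 g x⁻¹ = (c2 g x)⁻¹ := by
    intro g x
    show g * x⁻¹ * g⁻¹ * x⁻¹⁻¹ = (g * x * g⁻¹ * x⁻¹)⁻¹
    have h1 : Commute x (g * x⁻¹ * g⁻¹) := by
      have := (hE x g).inv_right
      simpa [mul_assoc] using this
    calc g * x⁻¹ * g⁻¹ * x⁻¹⁻¹ = (g * x⁻¹ * g⁻¹) * x := by group
      _ = x * (g * x⁻¹ * g⁻¹) := h1.symm.eq
      _ = _ := by group
  -- alternating in the first two arguments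
  have hswap : ∀ x g h : M, T g x h = (T x g h)⁻¹ := by
    intro x g h
    show c2 h (c2 x g) = (c2 h (c2 g x))⁻¹
    rw [← hcc]; congr 1; simp only [c2]; group
  have hT : ∀ x g h : M, T x g h ^ 3 = 1 := by
    intro x g h
    obtain ⟨h1, h2⟩ := key x h g
    have e1 : T x g h = (T x h g)⁻¹ := eq_inv_of_mul_eq_one_left (key x g h).1
    have e2 : c2 (c2 h g) x = (T g h x)⁻¹ := by
      show c2 (c2 h g) x = (c2 x (c2 h g))⁻¹
      simp only [c2]; group
    have e3 : T g h x = (T g x h)⁻¹ := eq_inv_of_mul_eq_one_left (key g h x).1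
    rw [e2, e3, inv_inv, hswap] at h2
    rw [pow_succ, ← h2, inv_mul_cancel]
  have := h3 _ (hT b a c)
  show (a * b * a⁻¹ * b⁻¹) * c = c * (a * b * a⁻¹ * b⁻¹)
  exact (mul_inv_eq_iff_eq_mul.1 (mul_inv_eq_one.1 this)).symm

end Engel

section SymThree

variable {M : Type*} [Group M]

theorem s3_action (σ u : MulAut M) (hu : ∀ n, u (u n) = n) (hus : ∀ n, u (σ n) = σ (σ (u n)))
    (hnorm : ∀ n, n * σ n * σ (σ n) = 1) (hun : ∀ n, (n * u n) ^ 2 = 1) (h4 : ∀ n : M, n ^ 4 = 1)
    (h2 : ∀ a b c : M, Commute (a * b * a⁻¹ * b⁻¹) c) :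
    ∀ a b : M, Commute a b ∧ a ^ 2 = 1 := by
  have hσ3 : ∀ n, σ (σ (σ n)) = n := fun n => by
    have h1 := hnorm (σ n)
    have h5 := hnorm n
    rw [mul_assoc] at h5
    have e : σ n * σ (σ n) = n⁻¹ := eq_inv_of_mul_eq_one_right h5
    rw [e] at h1
    exact (inv_mul_eq_one.1 h1).symm
  have hcomm : ∀ n, Commute n (σ n) := fun n => by
    have hus2 : ∀ m, u (σ (σ m)) = σ (u m) := fun m => by
      have h8 := hus (u m)
      rw [hu] at h8
      rw [← h8, hu]
    have h6 := congrArg u (hnorm (u n))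
    rw [map_mul, map_mul, hu, hus, hus2, hu, map_one, eq_inv_of_mul_eq_one_right (hnorm n)] at h6
    have h7 : n * (σ n)⁻¹ * n⁻¹ = (σ n)⁻¹ := by
      refine eq_inv_of_mul_eq_one_left ?_
      rw [← h6]; group
    show n * σ n = σ n * n
    calc n * σ n = (n * (σ n)⁻¹ * n⁻¹)⁻¹ * n := by group
      _ = _ := by rw [h7, inv_inv]
  set Z := Subgroup.center M
  set π := QuotientGroup.mk' Z
  have hπc : ∀ a b, π a * π b = π b * π a := by
    intro a b
    rw [← map_mul, ← map_mul]
    refine QuotientGroup.eq.2 (Subgroup.mem_center_iff.2 fun c => ?_)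
    have := h2 b⁻¹ a⁻¹ c
    simpa [mul_assoc] using this.eq.symm
  have haut : ∀ (f : MulAut M) (a b : M), π a = π b → π (f a) = π (f b) := by
    intro f a b e
    refine QuotientGroup.eq.2 (Subgroup.mem_center_iff.2 fun c => ?_)
    have := congrArg f (Subgroup.mem_center_iff.1 (QuotientGroup.eq.1 e) (f⁻¹ c))
    simpa using this
  have hfix : ∀ x : M, σ x = x → x = 1 := fun x hx => by
    have h1 := hnorm x
    rw [hx, hx] at h1
    calc x = x ^ 4 * (x * x * x)⁻¹ := by group
      _ = 1 := by rw [h4, h1]; simp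
  have hsq : ∀ a : M, π (a ^ 2) = 1 := by
    intro a
    have key : ∀ a : M, π (u (a ^ 2)) = π (a ^ 2) := by
      intro a
      have h1 : π (a ^ 2) * π (u (a ^ 2)) = 1 := by
        rw [map_pow u, map_pow π, map_pow π, ← (show Commute (π a) (π (u a)) from hπc _ _).mul_pow, ← map_mul, ← map_pow, hun, map_one]
      have h3 : π (a ^ 2) * π (a ^ 2) = 1 := by rw [← map_mul, ← pow_add, h4, map_one]
      exact mul_left_cancel (h1.trans h3.symm)
    have e1 := key (σ a)
    rw [← map_pow σ, hus] at e1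
    have e2 := haut σ _ _ (haut σ _ _ (key a))
    rw [e1] at e2
    have e3 := haut σ _ _ e2
    rw [hσ3] at e3
    have h5 := congrArg π (hnorm (a ^ 2))
    rw [map_mul, map_mul, map_one] at h5
    have e5 : π (σ (a ^ 2)) = π (a ^ 2) := e2.trans e3
    rw [haut σ _ _ e5, e5, ← map_mul, ← map_mul, ← pow_add, ← pow_add] at h5
    rwa [show a ^ (2 + 2 + 2) = a ^ 4 * a ^ 2 by rw [← pow_add], h4, one_mul] at h5
  have hcen : ∀ a : M, a ^ 2 ∈ Z := fun a => (QuotientGroup.eq_one_iff _).1 (hsq a)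
  have hZ2 : ∀ z ∈ Z, z ^ 2 = 1 := by
    intro z hz
    have key : ∀ z ∈ Z, u (z ^ 2) = z ^ 2 := fun z hz => by
      have h1 := hun z
      rw [(show Commute z (u z) from (Subgroup.mem_center_iff.1 hz _).symm).mul_pow, ← map_pow] at h1
      exact mul_left_cancel (h1.trans (by rw [← pow_add, h4]))
    have hσz : σ z ∈ Z := Subgroup.mem_center_iff.2 fun c => by
      have := congrArg σ (Subgroup.mem_center_iff.1 hz (σ⁻¹ c)); simpa using this
    have e1 := key _ hσz
    rw [← map_pow σ, hus, key z hz] at e1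
    exact hfix _ (σ.injective e1)
  set F : Set M := {a | π (u a) = π a} with hF
  have hF2 : ∀ a ∈ F, a ^ 2 = 1 := by
    intro a ha
    obtain ⟨z, hz, e⟩ : ∃ z ∈ Z, u a = a * z := ⟨a⁻¹ * u a, QuotientGroup.eq.1 (ha : π (u a) = π a).symm, by group⟩
    have hz' : σ (σ z) ∈ Z := Subgroup.mem_center_iff.2 fun c => by
      have := congrArg (fun t => σ (σ t)) (Subgroup.mem_center_iff.1 hz (σ⁻¹ (σ⁻¹ c))); simpa using this
    have h1 := hun (σ a)
    have e3 : σ a * σ (σ a) = a⁻¹ := eq_inv_of_mul_eq_one_right (by rw [← mul_assoc]; exact hnorm a)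
    rw [hus, e, map_mul, map_mul, ← mul_assoc, e3, (show Commute a⁻¹ (σ (σ z)) from (Subgroup.mem_center_iff.1 hz' _)).mul_pow,
      hZ2 _ hz', mul_one, inv_pow, inv_eq_one] at h1
    exact h1
  have hFmul : ∀ a ∈ F, ∀ b ∈ F, a * b ∈ F := fun a ha b hb => by
    show π (u (a * b)) = π (a * b)
    rw [map_mul, map_mul π, map_mul π, (ha : π (u a) = π a), (hb : π (u b) = π b)]
  have hFc : ∀ a ∈ F, ∀ b ∈ F, Commute a b := fun a ha b hb => by
    have h1 := hF2 _ (hFmul a ha b hb)
    rw [pow_two] at h1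
    have ea : a⁻¹ = a := inv_eq_of_mul_eq_one_right (by rw [← pow_two]; exact hF2 a ha)
    have eb : b⁻¹ = b := inv_eq_of_mul_eq_one_right (by rw [← pow_two]; exact hF2 b hb)
    have e := inv_eq_of_mul_eq_one_right h1
    rw [mul_inv_rev, ea, eb] at e
    exact e.symm
  -- commutators between `F` and its translate
  let c2 : M → M → M := fun a b => a * b * a⁻¹ * b⁻¹
  have hcZ : ∀ a b, c2 a b ∈ Z := fun a b => Subgroup.mem_center_iff.2 fun c => (h2 a b c).eq.symm
  have hinv2 : ∀ z ∈ Z, z⁻¹ = z := fun z hz => inv_eq_of_mul_eq_one_right (by rw [← pow_two]; exact hZ2 z hz)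
  have hsigma : ∀ a b c : M, Commute a b → c2 a (b * c)⁻¹ = c2 a c := by
    intro a b c hab
    have hz := hcZ a c
    have e : c2 a (b * c)⁻¹ = (c2 a c)⁻¹ := by
      have e1 : a * (b * c) * a⁻¹ = c2 a c * (b * c) := by
        calc a * (b * c) * a⁻¹ = (a * b * a⁻¹) * (c2 a c * c) := by simp only [c2]; group
          _ = b * (c2 a c * c) := by rw [hab.eq, mul_inv_cancel_right]
          _ = c2 a c * (b * c) := by rw [← mul_assoc, Subgroup.mem_center_iff.1 hz b, mul_assoc]
      show a * (b * c)⁻¹ * a⁻¹ * (b * c)⁻¹⁻¹ = (c2 a c)⁻¹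
      rw [show a * (b * c)⁻¹ * a⁻¹ = (a * (b * c) * a⁻¹)⁻¹ by group, e1]
      calc (c2 a c * (b * c))⁻¹ * (b * c)⁻¹⁻¹ = (b * c)⁻¹ * ((c2 a c)⁻¹ * (b * c)) := by group
        _ = (b * c)⁻¹ * ((b * c) * (c2 a c)⁻¹) := by rw [Subgroup.mem_center_iff.1 (Z.inv_mem hz) (b * c)]
        _ = _ := by group
    rw [e, hinv2 _ hz]
  have hσσ : ∀ b, σ (σ b) = (b * σ b)⁻¹ := fun b => eq_inv_of_mul_eq_one_right (hnorm b)
  have hfixu : ∀ a ∈ F, ∀ b ∈ F, u (c2 a (σ b)) = c2 a (σ b) := by
    intro a ha b hb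
    obtain ⟨z, hz, ea⟩ : ∃ z ∈ Z, u a = a * z := ⟨a⁻¹ * u a, QuotientGroup.eq.1 (ha : π (u a) = π a).symm, by group⟩
    obtain ⟨w, hw, eb⟩ : ∃ z ∈ Z, σ (σ (u b)) = σ (σ b) * z := ⟨(σ (σ b))⁻¹ * σ (σ (u b)),
      QuotientGroup.eq.1 (haut σ _ _ (haut σ _ _ (hb : π (u b) = π b))).symm, by group⟩
    have e : u (c2 a (σ b)) = c2 a (σ (σ b)) := by
      simp only [c2, map_mul, map_inv, hus, ea, eb, mul_inv_rev]
      have cz := Subgroup.mem_center_iff.1 hz
      have cw := Subgroup.mem_center_iff.1 hw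
      calc a * z * (σ (σ b) * w) * (z⁻¹ * a⁻¹) * (w⁻¹ * (σ (σ b))⁻¹)
          = a * (z * σ (σ b)) * (w * z⁻¹ * a⁻¹ * w⁻¹) * (σ (σ b))⁻¹ := by group
        _ = a * (σ (σ b) * z) * (z⁻¹ * a⁻¹ * (w * w⁻¹)) * (σ (σ b))⁻¹ := by
            rw [← cz (σ (σ b)), mul_assoc w z⁻¹, ← cw (z⁻¹ * a⁻¹), mul_assoc (z⁻¹ * a⁻¹) w]
        _ = _ := by group
    rw [e, hσσ, hsigma _ _ _ (hFc a ha b hb)]
  have hzero : ∀ a ∈ F, ∀ b ∈ F, Commute a (σ b) := by
    intro a ha b hb
    set x := c2 a (σ b) with hx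
    have ey : σ x = c2 (σ a) b := by
      simp only [hx, c2, map_mul, map_inv]
      have h1 : σ (σ b) = (σ b * b)⁻¹ := by rw [hσσ, (hcomm b).eq]
      have := hsigma (σ a) (σ b) b ((hFc a ha b hb).map σ.toMonoidHom)
      rw [← h1] at this
      exact this
    have h1 : u (σ x) = σ x := by
      have e : c2 (σ a) b = (c2 b (σ a))⁻¹ := by simp only [c2]; group
      rw [ey, e, map_inv, hfixu b hb a ha]
    rw [hus, hfixu a ha b hb] at h1
    have h5 : x = 1 := hfix x (σ.injective h1)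
    exact mul_inv_eq_iff_eq_mul.1 (mul_inv_eq_one.1 h5)
  have hdec : ∀ n : M, ∃ c ∈ F, ∃ e ∈ F, n = c * (σ e)⁻¹ := by
    intro n
    set e := n * u n
    have he : e ∈ F := by
      show π (u (n * u n)) = π (n * u n)
      rw [map_mul u, hu, map_mul, map_mul, hπc]
    refine ⟨n * σ e, ?_, e, he, by group⟩
    show π (u (n * σ e)) = π (n * σ e)
    rw [map_mul u, hus, map_mul, haut σ _ _ (haut σ _ _ (he : π (u e) = π e)), hσσ]
    have e1 : π ((e * σ e)⁻¹) = π e * π (σ e) := by
      have h5 := hsq (e * σ e)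
      rw [pow_two, map_mul π] at h5
      rw [map_inv, ← map_mul]
      exact inv_eq_of_mul_eq_one_right h5
    have h6 : π (u n) * π (u n) = 1 := by rw [← map_mul, ← pow_two]; exact hsq _
    calc π (u n) * π ((e * σ e)⁻¹) = π (u n) * (π n * π (u n)) * π (σ e) := by
          rw [e1, ← mul_assoc, map_mul π n]
      _ = π n * (π (u n) * π (u n)) * π (σ e) := by rw [← mul_assoc, hπc (u n) n, mul_assoc (π n)]
      _ = _ := by rw [h6, mul_one, ← map_mul]
  intro a b
  obtain ⟨c, hc, e, he, rfl⟩ := hdec a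
  obtain ⟨c', hc', e', he', rfl⟩ := hdec b
  have hcomm2 : Commute (σ e) (σ e') := (hFc e he e' he').map σ.toMonoidHom
  refine ⟨((hFc c hc c' hc').mul_right (hzero c hc e' he').inv_right).mul_left
    (((hzero c' hc' e he).symm).mul_right hcomm2.inv_right).inv_left, ?_⟩
  rw [(hzero c hc e he).inv_right.mul_pow, hF2 c hc, inv_pow, ← map_pow, hF2 e he, map_one, inv_one, mul_one]

end SymThree

end CfsgLib.Perm.OrdersFour
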