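import Mathlib
import Cfsg.Agent.Solv.Basic
import Cfsg.Agent.Solv.CoprimeSylow
import Cfsg.Agent.Solv.SylowFactor

/-!
`π`-closed groups and extensions of `π`-closed groups.
-/

set_option autoImplicit false
set_option linter.style.haveILetI false
set_option linter.deprecated false

open scoped Pointwise

namespace CfsgLib.Perm.PiClosed

open CfsgLib.Solv (PiNat)

variable {G : Type*} [Group G] {π : Set ℕ}

/-- The `π`-elements form a subgroup. -/
def Closed (π : Set ℕ) (G : Type*) [Group G] : Prop :=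
  ∃ L : Subgroup G, ∀ x : G, x ∈ L ↔ PiNat π (orderOf x)

/-- `π`-elements normalizing a `π'`-subgroup centralize it. -/
def Hom (π : Set ℕ) (G : Type*) [Group G] : Prop :=
  ∀ H : Subgroup G, PiNat πᶜ (Nat.card H) → ∀ x ∈ Subgroup.normalizer (H : Set G),
    PiNat π (orderOf x) → x ∈ Subgroup.centralizer (H : Set G)

theorem eq_one_of_piNat {x : G} (h₁ : PiNat π (orderOf x)) (h₂ : PiNat πᶜ (orderOf x)) : x = 1 := by
  rw [← orderOf_eq_one_iff]
  by_contra h
  obtain ⟨p, hp, hd⟩ := Nat.exists_prime_and_dvd h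
  exact h₂ p hp hd (h₁ p hp hd)

theorem mem_of_piNat [Finite G] {N : Subgroup G} [N.Normal] (hN : PiNat πᶜ N.index) {x : G}
    (hx : PiNat π (orderOf x)) : x ∈ N := by
  rw [← QuotientGroup.eq_one_iff]
  exact eq_one_of_piNat (hx.of_dvd (orderOf_map_dvd (QuotientGroup.mk' N) x))
    (hN.of_dvd (orderOf_dvd_natCard _))

theorem piNat_card_of_elems [Finite G] {L : Subgroup G} (h : ∀ x ∈ L, PiNat π (orderOf x)) :
    PiNat π (Nat.card L) := by
  intro p hp hd
  haveI := Fact.mk hp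
  obtain ⟨y, hy⟩ := exists_prime_orderOf_dvd_card' p hd
  exact h y y.2 p hp (by rw [Subgroup.orderOf_coe, hy])

theorem piNat_index_of_elems [Finite G] {L : Subgroup G} [L.Normal]
    (h : ∀ x : G, PiNat π (orderOf x) → x ∈ L) : PiNat πᶜ L.index := by
  intro p hp hd hpπ
  haveI := Fact.mk hp
  obtain ⟨y, hy⟩ := exists_prime_orderOf_dvd_card' (G := G ⧸ L) p hd
  obtain ⟨z, rfl⟩ := QuotientGroup.mk_surjective y
  obtain ⟨e, m, hm, hze⟩ := Nat.exists_eq_pow_mul_and_not_dvd (orderOf_pos z).ne' p hp.ne_one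
  have hzm : z ^ m ∈ L := h _ fun r hr hrd => by
    have : orderOf (z ^ m) ∣ p ^ e := orderOf_dvd_of_pow_eq_one (by
      rw [← pow_mul, mul_comm, ← hze, pow_orderOf_eq_one])
    rwa [(Nat.prime_dvd_prime_iff_eq hr hp).mp (hr.dvd_of_dvd_pow (hrd.trans this))]
  apply hm
  rw [← hy]
  exact orderOf_dvd_of_pow_eq_one (by rw [← QuotientGroup.mk_pow, (QuotientGroup.eq_one_iff _).2 hzm])

theorem Hom.subgroup (h : Hom π G) (K : Subgroup G) : Hom π K := by
  intro H hH x hx hxπ
  have hH' : PiNat πᶜ (Nat.card (H.map K.subtype)) := by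
    rwa [← Nat.card_congr (H.equivMapOfInjective K.subtype K.subtype_injective).toEquiv]
  have hxN : (x : G) ∈ Subgroup.normalizer ((H.map K.subtype : Subgroup G) : Set G) :=
    Subgroup.le_normalizer_map K.subtype ⟨x, hx, rfl⟩
  have hc := h _ hH' x hxN (by rwa [Subgroup.orderOf_coe])
  rw [Subgroup.mem_centralizer_iff] at hc ⊢
  exact fun y hy => Subtype.ext (hc y ⟨y, hy, rfl⟩)

theorem hom_of_relIndex [Finite G]
    (h : ∀ H : Subgroup G, H ≠ ⊥ → (∀ p : ℕ, p.Prime → p ∣ Nat.card H → p ∉ π) →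
      ∀ p : ℕ, p.Prime →
        p ∣ (Subgroup.centralizer (H : Set G)).relIndex (Subgroup.normalizer (H : Set G)) → p ∉ π) :
    Hom π G := by
  intro H hH x hx hxπ
  by_cases hHb : H = ⊥
  · rw [hHb, Subgroup.mem_centralizer_iff]
    intro y hy
    rw [Subgroup.mem_bot.mp hy, one_mul, mul_one]
  set N := Subgroup.normalizer (H : Set G) with hNdef
  set C := (Subgroup.centralizer (H : Set G)).subgroupOf N
  haveI : C.Normal := Subgroup.normal_subgroupOf_of_le_normalizer (fun n hn => by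
    rw [Subgroup.mem_normalizer_iff]
    intro c
    have key : ∀ n ∈ N, ∀ c ∈ Subgroup.centralizer (H : Set G), n * c * n⁻¹ ∈ Subgroup.centralizer (H : Set G) := by
      intro n hn c hc
      rw [Subgroup.mem_centralizer_iff] at hc ⊢
      intro y hy
      have hy' : n⁻¹ * y * n ∈ H := (Subgroup.mem_normalizer_iff''.mp hn y).mp hy
      calc y * (n * c * n⁻¹) = n * ((n⁻¹ * y * n) * c) * n⁻¹ := by group
        _ = n * (c * (n⁻¹ * y * n)) * n⁻¹ := by rw [hc _ hy']
        _ = n * c * n⁻¹ * y := by group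
    refine ⟨key n hn c, fun hc => ?_⟩
    have := key n⁻¹ (N.inv_mem hn) _ hc
    simpa [mul_assoc] using this)
  have hmem : (⟨x, hx⟩ : N) ∈ C := mem_of_piNat (π := π) (fun p hp hd => h H hHb hH p hp hd)
    (by rwa [Subgroup.orderOf_mk])
  exact hmem

/-- A prime power element centralizes a `π'`-section it normalizes. -/
theorem centralizes_section [Finite G] (hhom : Hom π G) {L : Subgroup G} [L.Normal]
    (hL : PiNat π (Nat.card L)) {K : Subgroup (G ⧸ L)} [K.Normal] (hK : PiNat πᶜ (Nat.card K))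
    {p : ℕ} (hp : p.Prime) (hpπ : p ∈ π) {x : G} (hx : ∃ c : ℕ, orderOf x = p ^ c) :
    (x : G ⧸ L) ∈ Subgroup.centralizer (K : Set (G ⧸ L)) := by
  classical
  set f := QuotientGroup.mk' L with hf
  obtain ⟨c, hc⟩ := hx
  have hxbar : orderOf (x : G ⧸ L) ∣ p ^ c := hc ▸ orderOf_map_dvd f x
  have hcop : (Nat.card (Subgroup.zpowers (x : G ⧸ L))).Coprime (Nat.card K) := by
    rw [Nat.card_zpowers]
    refine Nat.Coprime.coprime_dvd_left hxbar (Nat.Coprime.pow_left _ ((hp.coprime_iff_not_dvd).mpr fun h => ?_))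
    exact hK p hp h hpπ
  have hAK : Subgroup.zpowers (x : G ⧸ L) ≤ Subgroup.normalizer (K : Set (G ⧸ L)) := by
    rw [Subgroup.normalizer_eq_top_iff.mpr inferInstance]; exact le_top
  suffices htop : (Subgroup.centralizer ({(x : G ⧸ L)} : Set (G ⧸ L))).subgroupOf K = ⊤ by
    rw [Subgroup.mem_centralizer_iff]
    intro k hk
    have := (htop.symm ▸ Subgroup.mem_top (⟨k, hk⟩ : K) :
      (⟨k, hk⟩ : K) ∈ (Subgroup.centralizer ({(x : G ⧸ L)} : Set (G ⧸ L))).subgroupOf K)
    exact Subgroup.mem_centralizer_singleton_iff.mp (Subgroup.mem_subgroupOf.mp this)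
  rw [← Subgroup.index_eq_one]
  by_contra hne
  obtain ⟨q, hq, hqd⟩ := Nat.exists_prime_and_dvd hne
  haveI : Fact q.Prime := ⟨hq⟩
  have hqπ : q ∉ π := hK q hq (hqd.trans (Subgroup.index_dvd_card _))
  obtain ⟨U, hU⟩ := CfsgLib.Solv.exists_invariant_sylow (p := q) hAK hcop
    (Or.inl (Group.isSolvable_of_comm fun a b => Subtype.ext (by
      obtain ⟨i, hi⟩ := Subgroup.mem_zpowers_iff.1 a.2
      obtain ⟨j, hj⟩ := Subgroup.mem_zpowers_iff.1 b.2
      rw [Subgroup.coe_mul, Subgroup.coe_mul, ← hi, ← hj, ← zpow_add, ← zpow_add, add_comm])))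
  refine U.not_dvd_index (hqd.trans (Subgroup.index_dvd_of_le ?_))
  set U' := (U : Subgroup K).map K.subtype with hU'
  set T := U'.comap f with hT
  have hTcard : Nat.card T = Nat.card L * Nat.card U' := by
    have h1 := T.card_mul_index
    rw [hT, hf, Subgroup.index_comap_of_surjective _ (QuotientGroup.mk'_surjective L)] at h1
    have h2 := U'.card_mul_index
    have h3 := L.card_eq_card_quotient_mul_card_subgroup
    refine Nat.eq_of_mul_eq_mul_right (m := U'.index) (Nat.pos_of_ne_zero Subgroup.index_ne_zero_of_finite) ?_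
    rw [hT, hf, h1, h3, ← h2, Nat.mul_comm _ (Nat.card L), Nat.mul_assoc]
  obtain ⟨Q₀⟩ := (inferInstance : Nonempty (Sylow q T))
  set Q := (Q₀ : Subgroup T).map T.subtype with hQ
  have hQT : Q ≤ T := Subgroup.map_subtype_le _
  have hQmap : Q.map f = U' := by
    refine Subgroup.eq_of_le_of_card_ge ((Subgroup.map_mono hQT).trans (Subgroup.map_comap_le f _)) ?_
    have hUp : IsPGroup q U' := U.2.map _
    obtain ⟨a, ha⟩ := IsPGroup.iff_card.mp hUp
    have hnd : ¬ q ∣ Nat.card L := fun h => hqπ (hL q hq h)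
    have h1 : q ^ a ∣ Nat.card Q := by
      rw [hQ, ← Nat.card_congr ((Q₀ : Subgroup T).equivMapOfInjective T.subtype T.subtype_injective).toEquiv]
      exact Q₀.pow_dvd_card_of_pow_dvd_card (hTcard ▸ ha ▸ dvd_mul_left _ _)
    have h2 : Nat.card Q ∣ Nat.card (Q.map f) * Nat.card L := by
      have h3 := Subgroup.relIndex_ker Q f
      rw [QuotientGroup.ker_mk'] at h3
      have h4 := Subgroup.relIndex_mul_relIndex ⊥ (L ⊓ Q) Q bot_le inf_le_right
      rw [Subgroup.relIndex_bot_left, Subgroup.relIndex_bot_left, Subgroup.inf_relIndex_right, h3] at h4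
      rw [← h4, Nat.mul_comm]
      exact Nat.mul_dvd_mul dvd_rfl (Subgroup.card_dvd_of_le inf_le_left)
    have h5 := ((Nat.Coprime.pow_left a (hq.coprime_iff_not_dvd.mpr hnd))).dvd_of_dvd_mul_right (h1.trans h2)
    rw [ha]
    exact Nat.le_of_dvd Nat.card_pos h5
  have hxT : ∀ y ∈ T, x * y * x⁻¹ ∈ T := by
    intro y hy
    have := (Subgroup.mem_normalizer_iff.mp (hU (Subgroup.mem_zpowers (x : G ⧸ L))) (f y)).mp hy
    exact this
  have hxN : x ∈ Subgroup.normalizer (T : Set G) := Subgroup.mem_normalizer_fintype hxT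
  let φ := T.normalizerMonoidHom ⟨x, hxN⟩
  obtain ⟨t, ht⟩ := MulAction.exists_smul_eq T (Q₀.mapSurjective (f := φ.toMonoidHom) φ.surjective) Q₀
  have hconj : ∀ y ∈ Q, (t : G) * (x * y * x⁻¹) * (t : G)⁻¹ ∈ Q := by
    rintro _ ⟨y, hy, rfl⟩
    refine ⟨t * φ y * t⁻¹, ?_, rfl⟩
    have h1 : φ y ∈ ((Q₀.mapSurjective (f := φ.toMonoidHom) φ.surjective : Sylow q T) : Subgroup T) :=
      Subgroup.mem_map_of_mem _ hy
    rw [← ht, Sylow.coe_subgroup_smul]
    exact Subgroup.smul_mem_pointwise_smul _ _ _ h1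
  obtain ⟨r, hrQ, hr⟩ : ∃ r ∈ Q, f r = f t := by
    have : f t ∈ Q.map f := hQmap.symm ▸ (t.2 : (t : G) ∈ T)
    exact this
  set n := r⁻¹ * t * x with hn
  have hnx : f n = f x := by rw [hn, map_mul, map_mul, map_inv, hr, inv_mul_cancel, one_mul]
  have hnQ : n ∈ Subgroup.normalizer (Q : Set G) := by
    refine Subgroup.mem_normalizer_fintype fun y hy => ?_
    have := Q.mul_mem (Q.mul_mem (Q.inv_mem hrQ) (hconj y hy)) hrQ
    show n * y * n⁻¹ ∈ Q
    rw [hn]
    convert this using 1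
    group
  obtain ⟨e, m, hm, hne'⟩ := Nat.exists_eq_pow_mul_and_not_dvd (orderOf_pos n).ne' p hp.ne_one
  have hQp : PiNat πᶜ (Nat.card Q) := by
    intro s hs hsd
    obtain ⟨a, ha⟩ := IsPGroup.iff_card.mp (Q₀.2.map T.subtype)
    rw [hQ, ha] at hsd
    rw [(Nat.prime_dvd_prime_iff_eq hs hq).mp (hs.dvd_of_dvd_pow hsd)]
    exact hqπ
  have hnm : n ^ m ∈ Subgroup.centralizer (Q : Set G) := by
    refine hhom Q hQp _ (Subgroup.pow_mem _ hnQ m) fun s hs hsd => ?_
    have : orderOf (n ^ m) ∣ p ^ e := orderOf_dvd_of_pow_eq_one (by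
      rw [← pow_mul, Nat.mul_comm, ← hne', pow_orderOf_eq_one])
    rwa [(Nat.prime_dvd_prime_iff_eq hs hp).mp (hs.dvd_of_dvd_pow (hsd.trans this))]
  obtain ⟨j, hj⟩ := exists_pow_eq_self_of_coprime (x := (x : G ⧸ L)) (n := m)
    (Nat.Coprime.coprime_dvd_right hxbar ((hp.coprime_iff_not_dvd.mpr hm).symm.pow_right c))
  intro u hu
  rw [Subgroup.mem_subgroupOf, Subgroup.mem_centralizer_singleton_iff]
  obtain ⟨v, hv, hvu⟩ : (u : G ⧸ L) ∈ Q.map f := hQmap.symm ▸ Subgroup.mem_map_of_mem _ hu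
  have h1 : Commute v (n ^ m) := Subgroup.mem_centralizer_iff.mp hnm v hv
  have h2 := (h1.map f).pow_right j
  rw [map_pow, hnx, hvu] at h2
  rw [show (f x) = (x : G ⧸ L) from rfl, hj] at h2
  exact h2.eq

/-- Extensions: if `K` and `G/K` are `π`-closed and `G` is `π'`-homogeneous, then `G` is `π`-closed. -/
theorem closed_of_extension [Finite G] (hhom : Hom π G) (K : Subgroup G) [K.Normal]
    (hK : Closed π K) (hQ : Closed π (G ⧸ K)) : Closed π G := by
  classical
  obtain ⟨L₀, hL₀⟩ := hK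
  set L := L₀.map K.subtype with hL
  haveI hLn : L.Normal := by
    refine ⟨?_⟩
    rintro _ ⟨y, hy, rfl⟩ g
    refine ⟨⟨g * y * g⁻¹, (inferInstance : K.Normal).conj_mem _ y.2 g⟩, (hL₀ _).mpr ?_, rfl⟩
    rw [← Subgroup.orderOf_coe]
    have : orderOf (g * (y : G) * g⁻¹) = orderOf (y : G) := MulEquiv.orderOf_eq (MulAut.conj g) (y : G)
    rw [this, Subgroup.orderOf_coe]
    exact (hL₀ y).mp hy
  have hLπ : PiNat π (Nat.card L) := piNat_card_of_elems fun x hx => by
    obtain ⟨y, hy, rfl⟩ := hx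
    simpa using (hL₀ y).mp hy
  haveI : L₀.Normal := ⟨fun y hy g => (hL₀ _).mpr (by
    have : orderOf (g * y * g⁻¹) = orderOf y := MulEquiv.orderOf_eq (MulAut.conj g) y
    rw [this]; exact (hL₀ y).mp hy)⟩
  set f := QuotientGroup.mk' L with hf
  have hLK : L ≤ K := Subgroup.map_subtype_le _
  set Kb := K.map f with hKb
  haveI : Kb.Normal := Subgroup.Normal.map inferInstance f (QuotientGroup.mk'_surjective L)
  have hKbπ : PiNat πᶜ (Nat.card Kb) := by
    have h1 : Nat.card Kb = L₀.index := by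
      rw [hKb, ← Subgroup.relIndex_ker, QuotientGroup.ker_mk', Subgroup.relIndex, hL,
        Subgroup.subgroupOf, Subgroup.comap_map_eq_self_of_injective K.subtype_injective]
    rw [h1]
    exact piNat_index_of_elems fun x hx => (hL₀ x).mpr hx
  obtain ⟨N₀, hN₀⟩ := hQ
  haveI : N₀.Normal := ⟨fun y hy g => (hN₀ _).mpr (by
    have : orderOf (g * y * g⁻¹) = orderOf y := MulEquiv.orderOf_eq (MulAut.conj g) y
    rw [this]; exact (hN₀ y).mp hy)⟩
  set M := (N₀.comap (QuotientGroup.mk' K)).map f with hM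
  set A := M ⊓ Subgroup.centralizer (Kb : Set (G ⧸ L)) with hA
  set Z := (Kb.subgroupOf A) with hZ
  haveI : Z.Normal := (inferInstance : Kb.Normal).subgroupOf A
  have hZπ : PiNat πᶜ (Nat.card Z) := by
    refine hKbπ.of_dvd ?_
    rw [hZ, show Nat.card (Kb.subgroupOf A) = Nat.card (Kb ⊓ A : Subgroup (G ⧸ L)) from by
      rw [← Subgroup.inf_subgroupOf_right]; exact Nat.card_congr (Subgroup.subgroupOfEquivOfLe inf_le_right).toEquiv]
    exact Subgroup.card_dvd_of_le inf_le_left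
  have hZi : PiNat π Z.index := by
    refine PiNat.of_dvd ?_ (show Z.index ∣ Kb.relIndex M from ?_)
    · have h1 : Kb.relIndex M ∣ Nat.card N₀ := by
        have hKM : K ≤ N₀.comap (QuotientGroup.mk' K) := QuotientGroup.le_comap_mk' K N₀
        rw [hM, hKb, Subgroup.relIndex_map_map, QuotientGroup.ker_mk', sup_eq_left.mpr hLK,
          sup_eq_left.mpr (hLK.trans hKM)]
        have h2 := Subgroup.relIndex_ker (N₀.comap (QuotientGroup.mk' K)) (QuotientGroup.mk' K)
        rw [QuotientGroup.ker_mk', Subgroup.map_comap_eq_self_of_surjective (QuotientGroup.mk'_surjective K)] at h2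
        exact h2.dvd
      exact (piNat_card_of_elems fun x hx => (hN₀ x).mp hx).of_dvd h1
    · have h2 : A ≤ M := inf_le_left
      have : Z.index = Kb.relIndex A := rfl
      rw [this]
      rw [← Subgroup.relIndex_sup_right (H := A) (K := Kb)]
      have hKM : Kb ≤ M := Subgroup.map_mono (QuotientGroup.le_comap_mk' K N₀)
      exact Dvd.intro _ (Subgroup.relIndex_mul_relIndex Kb (A ⊔ Kb) M le_sup_right (sup_le h2 hKM))
  obtain ⟨T, hT⟩ := Subgroup.exists_right_complement'_of_coprime (N := Z) ((hZi.coprime hZπ).symm)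
  have hTcard : Nat.card T = Z.index := hT.symm.index_eq_card.symm
  haveI hTn : T.Normal := by
    refine ⟨fun t ht a => ?_⟩
    obtain ⟨⟨⟨z, hz⟩, ⟨s, hs⟩⟩, hzs⟩ := hT.2 a
    simp only at hzs
    rw [← hzs]
    have hst : s * t * s⁻¹ ∈ T := T.mul_mem (T.mul_mem hs ht) (T.inv_mem hs)
    have hzc : ∀ b : A, z * b = b * z := fun b =>
      Subtype.ext (Subgroup.mem_centralizer_iff.mp b.2.2 z hz)
    rw [show z * s * t * (z * s)⁻¹ = z * (s * t * s⁻¹) * z⁻¹ by group, hzc, mul_inv_cancel_right]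
    exact hst
  have hTi : PiNat πᶜ T.index := by
    rw [hT.index_eq_card]; exact hZπ
  refine ⟨(T.map A.subtype).comap f, fun x => ⟨fun hx => ?_, fun hx => ?_⟩⟩
  · obtain ⟨t, ht, htx⟩ := Subgroup.mem_comap.mp hx
    obtain ⟨k, hk⟩ : ∃ k : ℕ, k = orderOf (f x) := ⟨_, rfl⟩
    have hxk : x ^ k ∈ L := by
      rw [← QuotientGroup.eq_one_iff]
      show f (x ^ k) = 1
      rw [map_pow, hk, pow_orderOf_eq_one]
    have hkπ : PiNat π k := by
      refine (hTcard ▸ hZi : PiNat π (Nat.card T)).of_dvd ?_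
      rw [hk, ← htx, Subgroup.subtype_apply, Subgroup.orderOf_coe]
      exact Subgroup.orderOf_dvd_natCard T ht
    refine (hkπ.mul hLπ).of_dvd (orderOf_dvd_of_pow_eq_one ?_)
    rw [pow_mul]
    exact orderOf_dvd_iff_pow_eq_one.mp (Subgroup.orderOf_dvd_natCard L hxk)
  · have hfx : PiNat π (orderOf (f x)) := hx.of_dvd (orderOf_map_dvd f x)
    have hxM : f x ∈ M := Subgroup.mem_map_of_mem f
      ((hN₀ _).mpr (hx.of_dvd (orderOf_map_dvd (QuotientGroup.mk' K) x)))
    have hxC : f x ∈ Subgroup.centralizer (Kb : Set (G ⧸ L)) := by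
      have hle : Subgroup.zpowers x ≤ (Subgroup.centralizer (Kb : Set (G ⧸ L))).comap f := by
        refine CfsgLib.Solv.le_of_forall_prime_power fun q hq hqd y hy hyb => ?_
        rw [Nat.card_zpowers] at hqd
        exact centralizes_section hhom hLπ hKbπ hq (hx q hq hqd) hyb
      exact hle (Subgroup.mem_zpowers x)
    have hxA : f x ∈ A := Subgroup.mem_inf.mpr ⟨hxM, hxC⟩
    have hxT : (⟨f x, hxA⟩ : A) ∈ T := mem_of_piNat hTi (by rwa [Subgroup.orderOf_mk])
    exact Subgroup.mem_comap.mpr ⟨_, hxT, rfl⟩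

end CfsgLib.Perm.PiClosed
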