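import Mathlib

/-!
Permutations of `ZMod p` preserving a space of functions of bounded polynomial degree.
-/

set_option autoImplicit false

namespace CfsgLib.Perm.PrimeHeart

open Polynomial Finset

variable {p : ℕ} [hp : Fact p.Prime] {K : Type*} [Field K] [CharP K p]

/-- The prime field inside `K`. -/
noncomputable def cst (p : ℕ) [Fact p.Prime] (K : Type*) [Field K] [CharP K p] : ZMod p →+* K :=
  ZMod.castHom dvd_rfl K

theorem cst_inj : Function.Injective (cst p K) := (cst p K).injective

theorem exists_interp (f : ZMod p → K) :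
    ∃ q : K[X], q.natDegree ≤ p - 1 ∧ ∀ x, q.eval (cst p K x) = f x := by
  have hinj : Set.InjOn (cst p K) ((Finset.univ : Finset (ZMod p)) : Set (ZMod p)) :=
    cst_inj.injOn
  refine ⟨Lagrange.interpolate Finset.univ (cst p K) f, ?_, fun x =>
    Lagrange.eval_interpolate_at_node f hinj (mem_univ x)⟩
  have h := Lagrange.degree_interpolate_lt f hinj
  rw [Finset.card_univ, ZMod.card] at h
  rcases eq_or_ne (Lagrange.interpolate Finset.univ (cst p K) f) 0 with h0 | h0
  · simp [h0]
  · have := (natDegree_lt_iff_degree_lt h0).2 h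
    omega

theorem interp_unique {q r : K[X]} (hq : q.natDegree ≤ p - 1) (hr : r.natDegree ≤ p - 1)
    (h : ∀ x : ZMod p, q.eval (cst p K x) = r.eval (cst p K x)) : q = r := by
  rw [← sub_eq_zero]
  refine eq_zero_of_natDegree_lt_card_of_eval_eq_zero _ (cst_inj (p := p)) (fun x => ?_) ?_
  · simp [h x]
  · have := natDegree_sub_le q r
    have := hp.out.two_le
    rw [ZMod.card]
    omega

theorem sum_cst_pow {i : ℕ} (hi : i ≤ p - 1) :
    ∑ x : ZMod p, cst p K x ^ i = if i = p - 1 then -1 else 0 := by
  have h2 := hp.out.two_le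
  have key : ∑ x : ZMod p, x ^ i = if i = p - 1 then -1 else 0 := by
    split_ifs with h
    · subst h
      rw [← Finset.sum_erase_add _ _ (mem_univ (0 : ZMod p)), zero_pow (by omega), add_zero,
        Finset.sum_congr rfl (fun x hx => ZMod.pow_card_sub_one_eq_one (Finset.ne_of_mem_erase hx)),
        Finset.sum_const, Finset.card_erase_of_mem (mem_univ _), Finset.card_univ, ZMod.card,
        nsmul_one, Nat.cast_sub (by omega), ZMod.natCast_self, Nat.cast_one, zero_sub]
    · apply FiniteField.sum_pow_lt_card_sub_one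
      rw [ZMod.card]; omega
  simp_rw [← map_pow, ← map_sum, key]
  split_ifs <;> simp

theorem sum_eval {q : K[X]} (hq : q.natDegree ≤ p - 1) :
    ∑ x : ZMod p, q.eval (cst p K x) = - q.coeff (p - 1) := by
  have h : ∀ x : ZMod p, q.eval (cst p K x)
      = ∑ i ∈ range (p - 1 + 1), q.coeff i * cst p K x ^ i :=
    fun x => eval_eq_sum_range' (by omega) _
  simp only [h]
  rw [Finset.sum_comm]
  simp only [← Finset.mul_sum]
  rw [Finset.sum_eq_single_of_mem (p - 1) (by simp)]
  · rw [sum_cst_pow le_rfl]; simp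
  · intro i hi hne
    rw [sum_cst_pow (by simpa [Nat.lt_succ_iff] using hi), if_neg hne, mul_zero]

/-- `π` pulls the functions of degree at most `d` back to such functions. -/
def Inv (p : ℕ) [Fact p.Prime] (K : Type*) [Field K] [CharP K p] (d : ℕ)
    (π : ZMod p → ZMod p) : Prop :=
  ∀ q : K[X], q.natDegree ≤ d → ∃ r : K[X], r.natDegree ≤ d ∧
    ∀ x, r.eval (cst p K x) = q.eval (cst p K (π x))

theorem inv_dual {d : ℕ} (hd : d ≤ p - 2) (π : ZMod p ≃ ZMod p) (h : Inv p K d π.symm) :
    Inv p K (p - 2 - d) π := by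
  have h2 := hp.out.two_le
  intro q hq
  obtain ⟨r, hr, hre⟩ := exists_interp (fun x => q.eval (cst p K (π x)))
  refine ⟨r, ?_, hre⟩
  by_contra hlt
  push Not at hlt
  set e := r.natDegree
  obtain ⟨t, ht, hte⟩ := h (X ^ (p - 1 - e)) (by rw [natDegree_X_pow]; omega)
  have hr0 : r ≠ 0 := fun h0 => by simp [e, h0] at hlt
  have hdeg : (r * X ^ (p - 1 - e)).natDegree ≤ p - 1 := by
    rw [natDegree_mul_X_pow _ hr0]; omega
  have hA := sum_eval (p := p) hdeg
  have hco : (r * X ^ (p - 1 - e)).coeff (p - 1) = r.leadingCoeff := by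
    rw [coeff_mul_X_pow', if_pos (by omega), leadingCoeff]
    congr 1; omega
  have hdeg' : (q * t).natDegree ≤ p - 2 := natDegree_mul_le.trans (by omega)
  have hB := sum_eval (p := p) (q := q * t) (by omega)
  rw [coeff_eq_zero_of_natDegree_lt (lt_of_le_of_lt hdeg' (by omega)), neg_zero] at hB
  rw [hco] at hA
  have : ∑ x : ZMod p, (r * X ^ (p - 1 - e)).eval (cst p K x)
      = ∑ y : ZMod p, (q * t).eval (cst p K y) := by
    refine Fintype.sum_equiv π _ _ fun x => ?_
    simp only [eval_mul, hte, hre, Equiv.symm_apply_apply]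
  rw [hA, hB, neg_eq_zero, leadingCoeff_eq_zero] at this
  exact hr0 this

theorem affine_of_inv {d : ℕ} (hd : 1 ≤ d) (hd2 : 2 * d ≤ p - 2) {π : ZMod p → ZMod p}
    (hπ : Function.Injective π) (h : Inv p K d π) :
    ∀ x, π x = (π 1 - π 0) * x + π 0 := by
  have h2 := hp.out.two_le
  obtain ⟨r, hr, hre⟩ := h X (by rw [natDegree_X]; exact hd)
  simp only [eval_X] at hre
  have hk : r.natDegree ≤ 1 := by
    by_contra hlt
    push Not at hlt
    set k := r.natDegree
    set m := d / k + 1 with hm
    have hdk := Nat.div_add_mod d k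
    have hmod := Nat.mod_lt d (show k > 0 by omega)
    have hm_le : m ≤ d := by
      have : d / k < d := Nat.div_lt_self (by omega) (by omega)
      omega
    have hmk : d < m * k ∧ m * k ≤ d + k := by
      rw [hm, Nat.add_mul, one_mul, Nat.mul_comm]
      omega
    obtain ⟨t, ht, hte⟩ := h (X ^ m) (by rw [natDegree_X_pow]; exact hm_le)
    have hdeg : (r ^ m).natDegree = m * k := natDegree_pow r m
    have := interp_unique (p := p) (q := r ^ m) (r := t) (by omega) (by omega)
      (fun x => by simp [hte x, hre x])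
    rw [this] at hdeg
    omega
  have hform := eq_X_add_C_of_natDegree_le_one hk
  intro x
  apply cst_inj (p := p) (K := K)
  have e : ∀ y, cst p K (π y) = r.coeff 1 * cst p K y + r.coeff 0 := fun y => by
    rw [← hre y]
    conv_lhs => rw [hform]
    simp
  rw [map_add, map_mul, map_sub, e x, e 1, e 0]
  simp

/-- A shift invariant space of functions, read in polynomials, is given by a degree bound. -/
theorem exists_degree_bound (W : Submodule K (ZMod p → K)) (hW : W ≠ ⊥)
    (hshift : ∀ f ∈ W, (fun x => f (x + 1)) ∈ W) :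
    ∃ d ≤ p - 1, ∀ q : K[X], q.natDegree ≤ p - 1 →
      ((fun x => q.eval (cst p K x)) ∈ W ↔ q.natDegree ≤ d) := by
  classical
  have h2 := hp.out.two_le
  let ev : K[X] →ₗ[K] (ZMod p → K) :=
    { toFun := fun q x => q.eval (cst p K x)
      map_add' := fun a b => funext fun x => eval_add
      map_smul' := fun a b => funext fun x => by simp }
  let P := W.comap ev
  have hP : ∀ q, q ∈ P ↔ (fun x => q.eval (cst p K x)) ∈ W := fun q => Iff.rfl
  have hsh : ∀ q ∈ P, q.comp (X + 1) - q ∈ P := by
    intro q hq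
    refine P.sub_mem ?_ hq
    rw [hP] at hq ⊢
    convert hshift _ hq using 1
    funext x
    simp [eval_comp]
  -- everything below a degree which occurs
  have key : ∀ n ≤ p - 1, ∀ q ∈ P, q ≠ 0 → q.natDegree = n →
      ∀ t : K[X], t.natDegree ≤ n → t ∈ P := by
    intro n
    induction n with
    | zero =>
      intro _ q hq hq0 hd t ht
      have e1 := eq_C_of_natDegree_eq_zero hd
      have e2 := eq_C_of_natDegree_le_zero ht
      have hne : q.coeff 0 ≠ 0 := fun hc => hq0 (by rw [e1, hc, C_0])
      have := P.smul_mem (t.coeff 0 / q.coeff 0) hq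
      have e3 : (t.coeff 0 / q.coeff 0) • q = t := by
        conv_lhs => arg 2; rw [e1]
        rw [smul_C, smul_eq_mul, div_mul_cancel₀ _ hne, ← e2]
      rwa [e3] at this
    | succ n ih =>
      intro hn q hq hq0 hd t ht
      set D := q.comp (X + 1) - q with hD
      have hco : ∀ j, n ≤ j → (q.comp (X + 1)).coeff j
          = q.coeff j + (if j = n then ((n + 1 : ℕ) : K) * q.coeff (n + 1) else 0) := by
        intro j hj
        rw [comp, eval₂_eq_sum_range, finsetSum_coeff, hd]
        simp only [coeff_C_mul, coeff_X_add_one_pow]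
        rcases eq_or_lt_of_le hj with rfl | hj
        · rw [Finset.sum_range_succ, Finset.sum_range_succ, Finset.sum_eq_zero, if_pos rfl]
          · simp; ring
          · intro i hi
            rw [Nat.choose_eq_zero_of_lt (Finset.mem_range.1 hi)]; simp
        · rw [if_neg (by omega), add_zero]
          by_cases hj1 : j = n + 1
          · subst hj1
            rw [Finset.sum_range_succ, Finset.sum_eq_zero]
            · simp
            · intro i hi
              rw [Nat.choose_eq_zero_of_lt (Finset.mem_range.1 hi)]; simp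
          · rw [Finset.sum_eq_zero, coeff_eq_zero_of_natDegree_lt (by omega)]
            intro i hi
            rw [Nat.choose_eq_zero_of_lt (by have := Finset.mem_range.1 hi; omega)]; simp
      have hlead : q.coeff (n + 1) ≠ 0 := by
        rw [← hd]; exact leadingCoeff_ne_zero.2 hq0
      have hDn : D.coeff n ≠ 0 := by
        rw [hD, coeff_sub, hco n le_rfl, if_pos rfl, add_sub_cancel_left]
        refine mul_ne_zero ?_ hlead
        rw [Ne, CharP.cast_eq_zero_iff K p]
        exact fun hdv => absurd (Nat.le_of_dvd (by omega) hdv) (by omega)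
      have hDdeg : D.natDegree = n := by
        refine le_antisymm ?_ (le_natDegree_of_ne_zero hDn)
        rw [natDegree_le_iff_coeff_eq_zero]
        intro j hj
        rw [hD, coeff_sub, hco j (by omega), if_neg (by omega), add_zero, sub_self]
      have hlow := ih (by omega) D (hsh q hq) (fun h0 => hDn (by simp [h0])) hDdeg
      have hmem := P.add_mem (P.smul_mem (t.coeff (n + 1) / q.coeff (n + 1)) hq)
        (hlow (t - (t.coeff (n + 1) / q.coeff (n + 1)) • q) (by
          rw [natDegree_le_iff_coeff_eq_zero]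
          intro j hj
          rcases eq_or_lt_of_le (show n + 1 ≤ j by omega) with rfl | hj1
          · simp [div_mul_cancel₀ _ hlead]
          · simp [coeff_eq_zero_of_natDegree_lt (show q.natDegree < j by omega),
              coeff_eq_zero_of_natDegree_lt (show t.natDegree < j by omega)]))
      rwa [add_sub_cancel] at hmem
  obtain ⟨w, hw, hw0⟩ := (Submodule.ne_bot_iff _).1 hW
  obtain ⟨q₀, hq₀, hq₀e⟩ := exists_interp (p := p) w
  have hq₀P : q₀ ∈ P := by rw [hP]; simpa only [hq₀e] using hw
  have hq₀0 : q₀ ≠ 0 := fun h0 => hw0 (funext fun x => by rw [← hq₀e x, h0]; simp)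
  let S := {n : ℕ | n ≤ p - 1 ∧ ∃ q ∈ P, q ≠ 0 ∧ q.natDegree = n}
  have hSne : ∃ n, n ∈ S := ⟨_, hq₀, q₀, hq₀P, hq₀0, rfl⟩
  obtain ⟨n₀, hn₀⟩ := hSne
  refine ⟨Nat.findGreatest (· ∈ S) (p - 1), Nat.findGreatest_le _, fun q hq => ⟨fun hmem => ?_, fun hle => ?_⟩⟩
  · rcases eq_or_ne q 0 with rfl | hq0
    · simp
    · exact Nat.le_findGreatest hq (show q.natDegree ∈ S from ⟨hq, q, hmem, hq0, rfl⟩)
  · obtain ⟨hb, u, hu, hu0, hud⟩ :=
      Nat.findGreatest_spec (P := (· ∈ S)) hn₀.1 hn₀
    exact key _ hb u hu hu0 hud q hle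

end CfsgLib.Perm.PrimeHeart
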