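import Cfsg.Prelude.Def_Perm
import Cfsg.Agent.S0674
import Cfsg.Agent.S0671
import Mathlib

/-!
Transitive permutation groups of prime degree: labellings, Burnside's theorem, inversion.
-/

set_option autoImplicit false
set_option linter.style.haveILetI false

namespace CfsgLib.Perm.PrimeDegree

variable {α : Type*} [Fintype α] [DecidableEq α] {p : ℕ} [hp : Fact p.Prime]
  (G : Subgroup (Equiv.Perm α))

theorem isSolvable_of_card_le_three (h : Fintype.card α ≤ 3) : Group.IsSolvable G := by
  have key : ∀ n : ℕ, n ≤ 3 → ∀ a b : Equiv.Perm (Fin n), Equiv.Perm.sign a = 1 →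
      Equiv.Perm.sign b = 1 → a * b = b * a := by
    intro n hn
    interval_cases n <;> decide
  let e : α ≃ Fin (Fintype.card α) := Fintype.equivFin α
  let φ : G →* ℤˣ := Equiv.Perm.sign.comp G.subtype
  have hker : ∀ a b : φ.ker, a * b = b * a := by
    intro a b
    apply Subtype.ext
    apply Subtype.ext
    apply e.permCongrHom.injective
    simp only [Subgroup.coe_mul, map_mul]
    exact key _ h _ _ ((Equiv.Perm.sign_permCongr e _).trans (MonoidHom.mem_ker.1 a.2))
      ((Equiv.Perm.sign_permCongr e _).trans (MonoidHom.mem_ker.1 b.2))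
  haveI := Group.isSolvable_of_comm hker
  exact Group.isSolvable_of_ker_le_range φ.ker.subtype φ (by simp)

omit [DecidableEq α] in
theorem exists_orderOf [MulAction.IsPretransitive G α] (hα : Fintype.card α = p) :
    ∃ σ : G, orderOf σ = p := by
  haveI : Nonempty α := Fintype.card_pos_iff.1 (hα ▸ hp.out.pos)
  obtain ⟨a⟩ := (inferInstance : Nonempty α)
  refine exists_prime_orderOf_dvd_card' p ?_
  rw [← hα, ← Nat.card_eq_fintype_card, ← MulAction.index_stabilizer_of_transitive G a]
  exact Subgroup.index_dvd_card _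

omit [DecidableEq α] in
theorem not_sq_dvd (hα : Fintype.card α = p) : ¬ p ^ 2 ∣ Nat.card G := by
  classical
  intro h
  have h1 : p ^ 2 ∣ p.factorial := by
    refine h.trans ((Subgroup.card_subgroup_dvd_card G).trans ?_)
    rw [Nat.card_perm, Nat.card_eq_fintype_card, hα]
  have h2 : p * p ∣ p * (p - 1).factorial := by
    rw [Nat.mul_factorial_pred hp.out.ne_zero, ← pow_two]; exact h1
  have h3 := Nat.dvd_of_mul_dvd_mul_left hp.out.pos h2
  rw [hp.out.dvd_factorial] at h3
  have := hp.out.two_le
  omega

/-- Label the points by `ZMod p` so that the given element of order `p` is the successor map. -/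
theorem exists_label (hα : Fintype.card α = p) {σ : G} (hσ : orderOf σ = p) :
    ∃ e : ZMod p ≃ α, ∀ x : ZMod p, σ • e x = e (x + 1) := by
  have hp2 := hp.out.two_le
  haveI : Nonempty α := Fintype.card_pos_iff.1 (by omega)
  obtain ⟨a⟩ := (inferInstance : Nonempty α)
  have hσ' : orderOf (σ : Equiv.Perm α) = p := by rw [Subgroup.orderOf_coe, hσ]
  have hcyc := Equiv.Perm.isCycle_of_prime_order' (σ := (σ : Equiv.Perm α)) (by rw [hσ']; exact hp.out)
    (by rw [hσ', hα]; omega)
  have hsupp : (σ : Equiv.Perm α).support = Finset.univ :=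
    Finset.eq_univ_of_card _ (by rw [← hcyc.orderOf, hσ', hα])
  have hmove : (σ : Equiv.Perm α) a ≠ a := Equiv.Perm.mem_support.1 (hsupp ▸ Finset.mem_univ a)
  have hper : Function.minimalPeriod (fun x => σ • x) a = p := by
    have hd : Function.minimalPeriod (fun x => σ • x) a ∣ p := by
      rw [← MulAction.pow_smul_eq_iff_minimalPeriod_dvd, ← hσ, pow_orderOf_eq_one, one_smul]
    rcases (Nat.dvd_prime hp.out).1 hd with h | h
    · exact absurd (Function.minimalPeriod_eq_one_iff_isFixedPt.1 h) hmove
    · exact h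
  let lab : ZMod p → α := fun x => σ ^ x.val • a
  have hlab : Function.Bijective lab := by
    rw [Fintype.bijective_iff_injective_and_card]
    refine ⟨fun x y hxy => ?_, by simp [hα]⟩
    apply ZMod.val_injective p
    have e1 : (fun z => σ • z)^[x.val] a = (fun z => σ • z)^[y.val] a := by
      simpa [lab, smul_iterate] using hxy
    exact Function.iterate_injOn_Iio_minimalPeriod (by rw [hper]; exact ZMod.val_lt x)
      (by rw [hper]; exact ZMod.val_lt y) e1
  refine ⟨Equiv.ofBijective lab hlab, fun x => ?_⟩
  show σ • (σ ^ x.val • a) = σ ^ (x + 1).val • a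
  rw [← mul_smul, ← pow_succ', show (x + 1).val = (x.val + 1) % p by
    rw [ZMod.val_add, ZMod.val_one]]
  congr 1
  rw [pow_eq_pow_iff_modEq, hσ, Nat.ModEq, Nat.mod_mod]

omit [DecidableEq α] in
/-- An element conjugating the successor into a power of it is affine. -/
theorem affine_of_normalizes {e : ZMod p ≃ α} {σ g : G} (hσ : ∀ x, σ • e x = e (x + 1))
    (hg : g * σ * g⁻¹ ∈ Subgroup.zpowers σ) :
    ∃ m : ZMod p, ∀ x, e.symm (g • e x) = m * x + e.symm (g • e 0) := by
  obtain ⟨k, hk⟩ := hg
  simp only at hk
  have hpow : ∀ (n : ℕ) x, σ ^ n • e x = e (x + (n : ZMod p)) := by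
    intro n
    induction n with
    | zero => intro x; simp
    | succ n ih => intro x; rw [pow_succ, mul_smul, hσ, ih]; push_cast; ring_nf
  have hzpow : ∀ (k : ℤ) x, σ ^ k • e x = e (x + (k : ZMod p)) := by
    intro k
    obtain ⟨n, rfl | rfl⟩ := Int.eq_nat_or_neg k
    · intro x; simpa using hpow n x
    · intro x
      rw [zpow_neg, zpow_natCast, inv_smul_eq_iff, hpow]
      simp
  refine ⟨k, fun x => ?_⟩
  have key : ∀ n : ℕ, e.symm (g • e (n : ZMod p)) = (k : ZMod p) * n + e.symm (g • e 0) := by
    intro n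
    induction n with
    | zero => simp
    | succ n ih =>
      have h1 : g • e ((n + 1 : ℕ) : ZMod p) = σ ^ k • (g • e (n : ZMod p)) := by
        rw [hk, mul_smul, mul_smul, inv_smul_smul, hσ, Nat.cast_succ]
      rw [h1, ← e.apply_symm_apply (g • e (n : ZMod p)), hzpow, e.symm_apply_apply, ih]
      push_cast; ring
  simpa using key x.val

/-- Burnside: a non-solvable transitive group of prime degree is doubly transitive. -/
theorem two_transitive [MulAction.IsPretransitive G α] (hα : Fintype.card α = p)
    (hG : ¬ Group.IsSolvable G) : MulAction.IsMultiplyPretransitive G α 2 := by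
  have hp5 : 5 ≤ p := by
    by_contra hlt
    apply hG
    have h4 : Fintype.card α ≤ 3 := by
      rw [hα]
      rcases Nat.lt_or_ge p 4 with h | h
      · omega
      · exact absurd hp.out (by rw [show p = 4 by omega]; decide)
    exact isSolvable_of_card_le_three G h4
  refine Cfsg.Agent.S0671.result (K := ZMod p) (p := p) (f := 1) le_rfl (by rw [hα, pow_one]) ?_
  intro W W' hW hlt hW'
  by_contra hno
  push Not at hno
  have hWC := Cfsg.Agent.S0674.result hα G hG W hW (hlt.le.trans hW')
  have hW'S := Cfsg.Agent.S0674.result hα G hG W' (hW.trans hlt.le) hW'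
  rcases hW'S with hc | hs
  · rw [hc] at hlt
    exact absurd (lt_of_le_of_lt hW hlt) (lt_irrefl _)
  rcases hWC with hc | hs'
  · apply hG
    haveI : Subsingleton G := by
      refine ⟨fun g h => ?_⟩
      suffices ∀ g : G, g = 1 by rw [this g, this h]
      intro g
      apply Subtype.ext
      refine Equiv.ext fun x => ?_
      by_contra hx
      obtain ⟨y, hy⟩ : ∃ y, y ∉ ({x, (g : Equiv.Perm α) x} : Finset α) :=
        Finset.exists_mem_notMem_of_card_lt_card (s := ({x, (g : Equiv.Perm α) x} : Finset α)) (t := Finset.univ)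
          (lt_of_le_of_lt Finset.card_le_two (by rw [Finset.card_univ]; omega)) |>.imp fun _ h => h.2
      have hv : (Pi.single x (1 : ZMod p) - Pi.single y 1 : α → ZMod p) ∈ W'.toSubmodule := by
        rw [hs]
        show ∑ z, _ = (0 : ZMod p)
        simp [Finset.sum_sub_distrib]
      have h1 := hno g _ hv
      rw [hc] at h1
      obtain ⟨r, hr⟩ := Submodule.mem_span_singleton.1 h1
      obtain ⟨z, hz⟩ : ∃ z, z ∉ ({x, y, (g : Equiv.Perm α) x, (g : Equiv.Perm α) y} : Finset α) :=
        Finset.exists_mem_notMem_of_card_lt_card (s := ({x, y, (g : Equiv.Perm α) x, (g : Equiv.Perm α) y} : Finset α)) (t := Finset.univ)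
          (lt_of_le_of_lt Finset.card_le_four (by rw [Finset.card_univ]; omega)) |>.imp fun _ h => h.2
      simp only [Finset.mem_insert, Finset.mem_singleton, not_or] at hz hy
      have happ : ∀ w, r = (Pi.single x (1 : ZMod p) - Pi.single y 1 : α → ZMod p) ((g : Equiv.Perm α)⁻¹ w)
          - (Pi.single x (1 : ZMod p) - Pi.single y 1 : α → ZMod p) w := fun w => by
        have h0 := congrFun hr w
        simp [Cfsg.permRep, Subgroup.smul_def] at h0 ⊢
        exact h0
      have hr0 : r = 0 := by
        have n1 : (g : Equiv.Perm α).symm z ≠ x := fun h => hz.2.2.1 (by rw [← h]; simp)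
        have n2 : (g : Equiv.Perm α).symm z ≠ y := fun h => hz.2.2.2 (by rw [← h]; simp)
        simpa [Pi.single_apply, hz.1, hz.2.1, n1, n2] using happ z
      have h2 := happ ((g : Equiv.Perm α) x)
      have n3 : (g : Equiv.Perm α) x ≠ x := hx
      have n4 : x ≠ y := fun h => hy.1 h.symm
      rw [hr0] at h2
      simp [n3, n4] at h2
      by_cases hgy : (g : Equiv.Perm α) x = y
      · exact hy.2 hgy.symm
      · simp [hgy] at h2
    infer_instance
  · rw [hs', hs] at hlt
    exact lt_irrefl _ hlt

omit [DecidableEq α] in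
/-- In a solvable group of prime degree the Sylow subgroup is normal. -/
theorem normalizes_of_solvable [MulAction.IsPretransitive G α] (hα : Fintype.card α = p)
    (hG : Group.IsSolvable G) {σ : G} (hσ : orderOf σ = p) (g : G) :
    g * σ * g⁻¹ ∈ Subgroup.zpowers σ := by
  classical
  haveI : Nonempty α := Fintype.card_pos_iff.1 (hα ▸ hp.out.pos)
  haveI hprim : MulAction.IsPreprimitive G α :=
    MulAction.IsPreprimitive.of_prime_card (by rw [Nat.card_eq_fintype_card, hα]; exact hp.out)
  obtain ⟨n, hn⟩ := hG
  have hex : ∃ n, derivedSeries G n = ⊥ := ⟨n, hn⟩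
  set m := Nat.find hex with hm
  have hm0 : derivedSeries G m = ⊥ := Nat.find_spec hex
  obtain ⟨j, hj⟩ : ∃ j, m = j + 1 := by
    refine ⟨m - 1, ?_⟩
    rcases Nat.eq_zero_or_pos m with h | h
    · rw [h, derivedSeries_zero] at hm0
      exfalso
      have : σ = 1 := by
        have := Subgroup.mem_top σ
        rwa [hm0, Subgroup.mem_bot] at this
      rw [this, orderOf_one] at hσ
      exact hp.out.one_lt.ne hσ
    · omega
  set A := derivedSeries G j with hA
  have hA0 : A ≠ ⊥ := Nat.find_min hex (by omega)
  haveI : A.Normal := derivedSeries_normal _ j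
  have hcomm : ⁅A, A⁆ = ⊥ := by rw [← hm0, hj, derivedSeries_succ]
  have hfix : MulAction.fixedPoints A α ≠ Set.univ := by
    intro h
    apply hA0
    rw [Subgroup.eq_bot_iff_forall]
    intro a ha
    apply Subtype.ext
    refine Equiv.ext fun x => ?_
    exact (h.symm.subset (Set.mem_univ x)) ⟨a, ha⟩
  haveI htrans : MulAction.IsPretransitive A α :=
    hprim.isQuasiPreprimitive.isPretransitive_of_normal hfix
  obtain ⟨a⟩ := (inferInstance : Nonempty α)
  have hreg : MulAction.stabilizer A a = ⊥ := by
    rw [Subgroup.eq_bot_iff_forall]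
    intro u hu
    apply Subtype.ext
    apply Subtype.ext
    refine Equiv.ext fun x => ?_
    obtain ⟨v, rfl⟩ := MulAction.exists_smul_eq A a x
    have hc : u * v = v * u := Subtype.ext
      (Subgroup.mem_centralizer_iff.1 (Subgroup.commutator_eq_bot_iff_le_centralizer.1 hcomm v.2)
        (u : G) u.2)
    show u • v • a = v • a
    rw [← mul_smul, hc, mul_smul, hu]
  have hAcard : Nat.card A = p := by
    rw [← hα, ← Nat.card_eq_fintype_card, ← MulAction.index_stabilizer_of_transitive A a, hreg,
      Subgroup.index_bot]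
  have hAσ : Subgroup.zpowers σ = A := by
    have hle : Subgroup.zpowers σ ≤ A := by
      by_contra hnle
      have hinf : Subgroup.zpowers σ ⊓ A = ⊥ := by
        have hd := Subgroup.card_dvd_of_le (inf_le_left : Subgroup.zpowers σ ⊓ A ≤ _)
        rw [Nat.card_zpowers, hσ] at hd
        rcases (Nat.dvd_prime hp.out).1 hd with h | h
        · exact Subgroup.eq_bot_of_card_eq _ h
        · exact absurd (inf_eq_left.1 (Subgroup.eq_of_le_of_card_ge inf_le_left
            (by rw [Nat.card_zpowers, hσ, h]))) hnle
      apply not_sq_dvd G hα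
      have h1 := Subgroup.card_dvd_of_le (le_top : Subgroup.zpowers σ ⊔ A ≤ ⊤)
      rw [Subgroup.card_top] at h1
      refine Dvd.dvd.trans (dvd_of_eq ?_) h1
      have h2 := Subgroup.card_mul_index ((A.subgroupOf (Subgroup.zpowers σ ⊔ A)))
      have h3 : (A.subgroupOf (Subgroup.zpowers σ ⊔ A)).index = p := by
        show A.relIndex _ = p
        rw [Subgroup.relIndex_sup_right, ← Subgroup.inf_relIndex_left, hinf, Subgroup.relIndex_bot_left,
          Nat.card_zpowers, hσ]
      rw [h3, Nat.card_congr (Subgroup.subgroupOfEquivOfLe (le_sup_right : A ≤ _)).toEquiv, hAcard] at h2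
      rw [pow_two, h2]
    exact Subgroup.eq_of_le_of_card_ge hle (by rw [hAcard, Nat.card_zpowers, hσ])
  rw [hAσ]
  exact Subgroup.Normal.conj_mem inferInstance σ (hAσ ▸ Subgroup.mem_zpowers σ) g

/-- If the Sylow normaliser has even order, the points can be labelled so that translation and
negation are induced by the group. -/
theorem exists_inversion (hodd : p ≠ 2) [MulAction.IsPretransitive G α] (hα : Fintype.card α = p)
    (P : Sylow p G)
    (heven : Even (Nat.card (Subgroup.normalizer ((P : Subgroup G) : Set G)))) :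
    ∃ (e : ZMod p ≃ α) (σ t : G), (∀ x, σ • e x = e (x + 1)) ∧ ∀ x, t • e x = e (-x) := by
  classical
  obtain ⟨σ₀, hσ₀⟩ := exists_orderOf G hα
  have hPcard : Nat.card (P : Subgroup G) = p := by
    have hd : p ∣ Nat.card G := hσ₀ ▸ orderOf_dvd_natCard σ₀
    have h1 : (Nat.card G).factorization p = 1 := by
      have h2 := (hp.out.pow_dvd_iff_le_factorization (k := 2) Nat.card_pos.ne').not.1 (not_sq_dvd G hα)
      have h3 := (hp.out.pow_dvd_iff_le_factorization (k := 1) Nat.card_pos.ne').1 (by rw [pow_one]; exact hd)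
      omega
    have := P.card_eq_multiplicity
    rw [h1, pow_one] at this
    exact this
  obtain ⟨σ, hσ⟩ := exists_prime_orderOf_dvd_card' (G := (P : Subgroup G)) p (dvd_of_eq hPcard.symm)
  have hσ' : orderOf (σ : G) = p := by rw [Subgroup.orderOf_coe, hσ]
  have hz : Subgroup.zpowers (σ : G) = (P : Subgroup G) :=
    Subgroup.eq_of_le_of_card_ge (Subgroup.zpowers_le.2 σ.2) (by rw [Nat.card_zpowers, hσ', hPcard])
  obtain ⟨t, ht⟩ := exists_prime_orderOf_dvd_card'
    (G := Subgroup.normalizer ((P : Subgroup G) : Set G)) 2 (even_iff_two_dvd.1 heven)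
  have ht' : orderOf (t : G) = 2 := by rw [Subgroup.orderOf_coe, ht]
  obtain ⟨e, he⟩ := exists_label G hα hσ'
  have hnorm : (t : G) * σ * (t : G)⁻¹ ∈ Subgroup.zpowers (σ : G) := by
    rw [hz]; exact (Subgroup.mem_normalizer_iff.1 t.2 _).1 σ.2
  obtain ⟨m, hm⟩ := affine_of_normalizes G he hnorm
  set c := e.symm ((t : G) • e 0) with hc
  have htt : ∀ x : α, (t : G) • (t : G) • x = x := fun x => by
    rw [← mul_smul, ← pow_two, ← ht', pow_orderOf_eq_one, one_smul]
  have happ : ∀ x, (t : G) • e x = e (m * x + c) := fun x => by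
    rw [← hm x, e.apply_symm_apply]
  have hsq : ∀ x, m * (m * x + c) + c = x := fun x => e.injective (by
    rw [← happ, ← happ, htt])
  have hc0 : m * c + c = 0 := by simpa using hsq 0
  have hm2 : m * m = 1 := by
    have h1 := hsq 1
    linear_combination h1 - hc0
  have htwo : (2 : ZMod p) ≠ 0 := by
    intro h
    have h1 : ((2 : ℕ) : ZMod p) = 0 := by exact_mod_cast h
    rw [ZMod.natCast_eq_zero_iff] at h1
    exact hodd ((Nat.prime_dvd_prime_iff_eq hp.out Nat.prime_two).1 h1)
  rcases mul_self_eq_one_iff.1 hm2 with rfl | rfl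
  · exfalso
    have : c = 0 := by
      have h1 : (2 : ZMod p) * c = 0 := by linear_combination hc0
      exact (mul_eq_zero.1 h1).resolve_left htwo
    have ht1 : (t : G) = 1 := by
      refine Subtype.ext (Equiv.ext fun x => ?_)
      obtain ⟨z, rfl⟩ := e.surjective x
      exact (happ z).trans (by simp [this])
    rw [ht1, orderOf_one] at ht'
    omega
  · let e' : ZMod p ≃ α := (Equiv.addRight (c / 2)).trans e
    refine ⟨e', σ, t, fun x => ?_, fun x => ?_⟩
    · show (σ : G) • e (x + c / 2) = e (x + 1 + c / 2)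
      rw [he]; ring_nf
    · show (t : G) • e (x + c / 2) = e (-x + c / 2)
      rw [happ]
      congr 1
      field_simp
      ring

end CfsgLib.Perm.PrimeDegree
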