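import Cfsg.Agent.Perm.SharplyThreeLinear
import Cfsg.Agent.Lie.ProjLine

/-!
Sharply three-transitive groups with commutative two-point stabiliser are projective linear groups.
-/

set_option autoImplicit false
set_option linter.style.haveILetI false
set_option linter.unusedSectionVars false
set_option linter.unusedSimpArgs false

namespace CfsgLib.Perm.SharpThree

/-- A copy of a finite index set, without instances. -/
structure FieldCopy (n : ℕ) : Type where
  /-- The index. -/
  val : Fin n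

/-- A finite field has a copy in the bottom universe. -/
theorem exists_field_copy (K : Type*) [Field K] [Finite K] :
    ∃ (F : Type) (_ : Field F) (_ : Fintype F), Nonempty (K ≃+* F) := by
  let φ : K ≃ FieldCopy (Nat.card K) := (Finite.equivFin K).trans ⟨FieldCopy.mk, FieldCopy.val, fun _ => rfl, fun _ => rfl⟩
  letI : Field (FieldCopy (Nat.card K)) := φ.symm.field
  haveI : Finite (FieldCopy (Nat.card K)) := Finite.of_equiv K φ
  exact ⟨FieldCopy (Nat.card K), inferInstance, Fintype.ofFinite _, ⟨(Equiv.ringEquiv φ.symm).symm⟩⟩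

/-- An abelian group of additive automorphisms regular on nonzero elements is a multiplicative group of a field. -/
theorem exists_field_of_regular {V : Type*} [AddCommGroup V] [Finite V] {H : Type*} [Group H]
    (hc : ∀ g h : H, g * h = h * g) (ρ : H →* AddMonoid.End V) (v₁ : V) (hv₁ : v₁ ≠ 0)
    (hreg : ∀ w : V, w ≠ 0 → ∃! h : H, ρ h v₁ = w) :
    ∃ (F : Type) (_ : Field F) (_ : Fintype F) (e : V ≃+ F),
      e v₁ = 1 ∧ ∀ (h : H) (v : V), e (ρ h v) = e (ρ h v₁) * e v := by
  classical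
  haveI : Finite (AddMonoid.End V) := Finite.of_injective (fun f => (f : V → V)) DFunLike.coe_injective
  set C := Subring.centralizer (Set.range ρ) with hC
  have hρC : ∀ h, ρ h ∈ C := fun h => Subring.mem_centralizer_iff.2 (by
    rintro _ ⟨g, rfl⟩; rw [← map_mul, ← map_mul, hc])
  have hcomm : ∀ r ∈ C, ∀ (h : H) (v : V), r (ρ h v) = ρ h (r v) := fun r hr h v =>
    (DFunLike.congr_fun (Subring.mem_centralizer_iff.1 hr _ ⟨h, rfl⟩) v).symm
  have hext : ∀ r ∈ C, ∀ r' ∈ C, r v₁ = r' v₁ → r = r' := fun r hr r' hr' he => DFunLike.ext _ _ fun v => by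
    by_cases hv : v = 0
    · rw [hv, map_zero, map_zero]
    obtain ⟨h, hh, -⟩ := hreg v hv
    rw [← hh, hcomm r hr, hcomm r' hr', he]
  have hcases : ∀ r ∈ C, r = 0 ∨ ∃ h, r = ρ h := fun r hr => by
    by_cases h0 : r v₁ = 0
    · exact Or.inl (hext r hr 0 C.zero_mem h0)
    · obtain ⟨h, hh, -⟩ := hreg _ h0
      exact Or.inr ⟨h, hext r hr _ (hρC h) hh.symm⟩
  letI : CommRing C := { (inferInstance : Ring C) with
    mul_comm := fun a b => Subtype.ext (by
      show (a : AddMonoid.End V) * b = b * a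
      rcases hcases _ a.2 with e | ⟨g, e⟩
      · rw [e, zero_mul, mul_zero]
      rcases hcases _ b.2 with e' | ⟨h, e'⟩
      · rw [e', zero_mul, mul_zero]
      rw [e, e', ← map_mul, ← map_mul, hc]) }
  have hF : IsField C := by
    refine ⟨⟨0, 1, fun h => hv₁ (DFunLike.congr_fun (congrArg Subtype.val h) v₁).symm⟩, mul_comm, fun {a} ha => ?_⟩
    rcases hcases _ a.2 with e | ⟨g, e⟩
    · exact absurd (Subtype.ext e) ha
    · exact ⟨⟨ρ g⁻¹, hρC _⟩, Subtype.ext (by
        show (a : AddMonoid.End V) * ρ g⁻¹ = 1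
        rw [e, ← map_mul, mul_inv_cancel, map_one])⟩
  letI := hF.toField
  let ev : C →+ V := AddMonoidHom.mk' (fun r => (r : AddMonoid.End V) v₁) fun _ _ => rfl
  have hev : Function.Bijective ev := by
    refine ⟨fun r r' h => Subtype.ext (hext _ r.2 _ r'.2 h), fun v => ?_⟩
    by_cases hv : v = 0
    · exact ⟨0, hv.symm⟩
    · obtain ⟨h, hh, -⟩ := hreg v hv
      exact ⟨⟨ρ h, hρC h⟩, hh⟩
  let eC : V ≃+ C := (AddEquiv.ofBijective ev hev).symm
  obtain ⟨F, iF, iFt, ⟨R⟩⟩ := exists_field_copy C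
  have hsymm : ∀ r : C, eC ((r : AddMonoid.End V) v₁) = r := fun r => (AddEquiv.ofBijective ev hev).symm_apply_apply r
  refine ⟨F, iF, iFt, eC.trans R.toAddEquiv, ?_, fun h v => ?_⟩
  · show R (eC v₁) = 1
    rw [show eC v₁ = 1 from hsymm 1, map_one]
  · show R (eC (ρ h v)) = R (eC (ρ h v₁)) * R (eC v)
    obtain ⟨r, rfl⟩ := hev.2 v
    have e1 : ρ h ((r : AddMonoid.End V) v₁) = ((⟨ρ h, hρC h⟩ * r : C) : AddMonoid.End V) v₁ := rfl
    show R (eC (ρ h ((r : AddMonoid.End V) v₁))) = R (eC (ρ h v₁)) * R (eC ((r : AddMonoid.End V) v₁))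
    rw [e1, hsymm, show ρ h v₁ = ((⟨ρ h, hρC h⟩ : C) : AddMonoid.End V) v₁ from rfl, hsymm, hsymm, map_mul]

open CfsgLib.Lie

/-- The projective point of an affine coordinate. -/
def affPt {F : Type*} [Field F] (x : F) : ProjLine.Pt F := Projectivization.mk F ![x, 1] (by simp)

theorem affPt_smul {F : Type*} [Field F] {g : GL (Fin 2) F} {x y c : F}
    (h0 : (g : Matrix (Fin 2) (Fin 2) F) 0 0 * x + (g : Matrix (Fin 2) (Fin 2) F) 0 1 = c * y)
    (h1 : (g : Matrix (Fin 2) (Fin 2) F) 1 0 * x + (g : Matrix (Fin 2) (Fin 2) F) 1 1 = c) :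
    g • affPt x = affPt y := by
  rw [affPt, affPt, Projectivization.smul_mk, Projectivization.mk_eq_mk_iff']
  refine ⟨c, funext fun i => ?_⟩
  fin_cases i <;> simp [Matrix.mulVec, dotProduct, Fin.sum_univ_two, h0, h1, Units.smul_def]

theorem smul_P0 {F : Type*} [Field F] {g : GL (Fin 2) F} (h1 : (g : Matrix (Fin 2) (Fin 2) F) 1 0 = 0) :
    g • (ProjLine.P0 : ProjLine.Pt F) = ProjLine.P0 := by
  rw [ProjLine.P0, Projectivization.smul_mk, Projectivization.mk_eq_mk_iff']
  refine ⟨(g : Matrix (Fin 2) (Fin 2) F) 0 0, funext fun i => ?_⟩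
  fin_cases i <;> simp [Matrix.mulVec, dotProduct, Fin.sum_univ_two, h1, Units.smul_def]

variable {α : Type*} [Fintype α] [DecidableEq α] {G : Subgroup (Equiv.Perm α)}

open scoped IsMulCommutative in
set_option maxHeartbeats 1000000 in
set_option synthInstance.maxHeartbeats 400000 in
set_option synthInstance.maxSize 1000 in
/-- Coordinates for commutative two-point stabiliser. -/
theorem Sharp.exists_coordinates (S : Sharp G) {inf o one : α} (h1 : inf ≠ o) (h2 : inf ≠ one) (h3 : o ≠ one)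
    (hab : ∀ g h : G, g • inf = inf → g • o = o → h • inf = inf → h • o = o → g * h = h * g) :
    ∃ (F : Type) (_ : Field F) (_ : Fintype F) (φ : F → α),
      φ 0 = o ∧ φ 1 = one ∧ Function.Injective φ ∧ (∀ x, φ x ≠ inf) ∧ (∀ y, y ≠ inf → ∃ x, φ x = y) ∧
      (∀ (a : F) (c : F), a ≠ 0 → ∃ g : G, g • inf = inf ∧ ∀ x, g • φ x = φ (a * x + c)) ∧
      ∀ g : G, g • inf = inf → ∃ a c : F, a ≠ 0 ∧ ∀ x, g • φ x = φ (a * x + c) := by
  classical
  have hn : 3 ≤ Fintype.card α := by
    rw [← Finset.card_eq_three.2 ⟨inf, o, one, h1, h2, h3, rfl⟩]; exact Finset.card_le_univ _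
  obtain ⟨K, p, j, hp, hj, hcard, hfix, hnorm, hcomm, hexp, hsurj, hfree⟩ := S.exists_translations h1 hn
  have T : Trans G inf o p K := ⟨hfix, hnorm, hcomm, hexp, hsurj, hfree⟩
  haveI := T.isComm
  obtain ⟨instM⟩ : Nonempty (Module (ZMod p) (Additive K)) := ⟨AddCommGroup.zmodModule T.nsmul_eq_zero⟩
  haveI : Finite (Additive K) := Finite.of_injective (pt (K := K) o) T.pt_injective
  obtain ⟨v₁, hv₁⟩ := T.pt_surj h2.symm
  have hv₁0 : v₁ ≠ 0 := fun e => h3 (by rw [← hv₁, e, pt_zero])
  let ρ : ↥(MulAction.stabilizer G inf ⊓ MulAction.stabilizer G o) →* AddMonoid.End (Additive K) :=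
    { toFun := fun h => LinearMap.toAddMonoidHom (LinearEquiv.toLinearMap (linHom T h))
      map_one' := AddMonoidHom.ext fun v => by rw [map_one]; rfl
      map_mul' := fun g h => AddMonoidHom.ext fun v => by rw [map_mul]; rfl }
  have hρ : ∀ (h : ↥(MulAction.stabilizer G inf ⊓ MulAction.stabilizer G o)) (v : Additive K), ρ h v = linHom T h v := fun h v => rfl
  obtain ⟨F, iF, iFt, e, he1, hemul⟩ := exists_field_of_regular
    (H := ↥(MulAction.stabilizer G inf ⊓ MulAction.stabilizer G o))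
    (fun g h => Subtype.ext (hab g h g.2.1 g.2.2 h.2.1 h.2.2)) ρ v₁ hv₁0
    (fun w hw => S.linHom_regular T h1 hv₁0 hw)
  refine ⟨F, iF, iFt, fun x => pt o (e.symm x), ?_, ?_, T.pt_injective.comp e.symm.injective,
    fun x => T.pt_ne h1 _, fun y hy => ?_, fun a c ha => ?_, fun g hg => ?_⟩
  · show pt o (e.symm 0) = o
    rw [map_zero, pt_zero]
  · show pt o (e.symm 1) = one
    rw [← he1, e.symm_apply_apply, hv₁]
  · obtain ⟨v, hv⟩ := T.pt_surj hy
    exact ⟨e v, by show pt o (e.symm (e v)) = y; rw [e.symm_apply_apply, hv]⟩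
  · have ha' : e.symm a ≠ 0 := fun h => ha (e.symm.map_eq_zero_iff.1 h)
    obtain ⟨h, hh, -⟩ := S.linHom_regular T h1 hv₁0 ha'
    refine ⟨((Additive.toMul (e.symm c) : K) : G) * h, ?_, fun x => ?_⟩
    · rw [mul_smul, h.2.1]; exact T.fix _ (Additive.toMul (e.symm c) : K).2
    · have e1 : linHom T h (e.symm x) = e.symm (a * x) := e.injective (by
        rw [← hρ, hemul, hρ, hh, e.apply_symm_apply, e.apply_symm_apply, e.apply_symm_apply])
      rw [mul_smul, ← pt_linHom T h, e1, ← pt_add, ← map_add, add_comm]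
  · obtain ⟨t, ht⟩ := T.pt_surj (x := g • o) (fun e0 => h1 (MulAction.injective g (hg.trans e0.symm)))
    set k := ((Additive.toMul t : K) : G)
    have hk : k • inf = inf := T.fix _ (Additive.toMul t : K).2
    let h : ↥(MulAction.stabilizer G inf ⊓ MulAction.stabilizer G o) :=
      ⟨k⁻¹ * g, by show (k⁻¹ * g) • inf = inf; rw [mul_smul, hg, inv_smul_eq_iff, hk],
        by show (k⁻¹ * g) • o = o; rw [mul_smul, inv_smul_eq_iff]; exact ht.symm⟩
    refine ⟨e (linHom T h v₁), e t, fun h0 => hv₁0 ?_, fun x => ?_⟩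
    · exact (LinearEquiv.map_eq_zero_iff (linHom T h)).1 (e.map_eq_zero_iff.1 h0)
    · have e1 : e.symm (e (linHom T h v₁) * x + e t) = t + linHom T h (e.symm x) := e.injective (by
        rw [e.apply_symm_apply, map_add, ← hρ, ← hρ, hemul h (e.symm x), e.apply_symm_apply, add_comm])
      show g • pt o (e.symm x) = pt o _
      rw [e1, pt_add, pt_linHom]
      show g • _ = k • (k⁻¹ * g) • _
      rw [← mul_smul k, mul_inv_cancel_left]

/-- The main recognition theorem. -/
theorem Sharp.iso_PGL (S : Sharp G) {inf o one : α} (h1 : inf ≠ o) (h2 : inf ≠ one) (h3 : o ≠ one)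
    (hab : ∀ g h : G, g • inf = inf → g • o = o → h • inf = inf → h • o = o → g * h = h * g) :
    ∃ (F : Type) (_ : Field F) (_ : Fintype F), Fintype.card F + 1 = Fintype.card α ∧
      Nonempty (G ≃* Matrix.ProjGenLinGroup (Fin 2) F) := by
  classical
  obtain ⟨F, iF, iFt, φ, hφ0, hφ1, hφinj, hφne, hφsurj, haff, haff'⟩ := S.exists_coordinates h1 h2 h3 hab
  obtain ⟨s, hs1, hs2, hs3⟩ := S.trans inf o one o inf one h1 h2 h3 h1.symm h3 h2
  have hss : s * s = 1 := S.free _ inf o one h1 h2 h3 (by rw [mul_smul, hs1, hs2]) (by rw [mul_smul, hs2, hs1])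
    (by rw [mul_smul, hs3, hs3])
  have hinv : ∀ y : α, s • s • y = y := fun y => by rw [← mul_smul, hss, one_smul]
  -- the exchange map
  have hτex : ∀ x : F, x ≠ 0 → ∃ y : F, y ≠ 0 ∧ φ y = s • φ x := fun x hx => by
    have hne1 : s • φ x ≠ inf := fun e => hx (hφinj (by rw [hφ0, ← hinv (φ x), e, hs1]))
    obtain ⟨y, hy⟩ := hφsurj _ hne1
    refine ⟨y, fun h0 => hφne x ?_, hy⟩
    rw [← hinv (φ x), ← hy, h0, hφ0, hs2]
  choose τ hτ0 hτ using hτex
  have hτmul : ∀ x (hx : x ≠ 0) y (hy : y ≠ 0), τ (x * y) (mul_ne_zero hx hy) = τ x hx * τ y hy := by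
    intro x hx y hy
    obtain ⟨g, g1, g2⟩ := haff x 0 hx
    have hsg : (s * g * s) • inf = inf := by
      rw [mul_smul, mul_smul, hs1, ← hφ0, g2, mul_zero, zero_add, hφ0, hs2]
    obtain ⟨a, c, ha, hac⟩ := haff' _ hsg
    have hc : c = 0 := by
      refine hφinj ?_
      have h0 := hac 0
      rw [mul_zero, zero_add, hφ0, mul_smul, mul_smul, hs2, g1, hs1] at h0
      rw [← h0, hφ0]
    subst hc
    have e1 : a = τ x hx := hφinj (by
      have h0 := hac 1
      rw [mul_one, add_zero, hφ1, mul_smul, mul_smul, hs3, ← hφ1, g2, mul_one, add_zero, ← hτ x hx] at h0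
      exact h0.symm)
    refine hφinj ?_
    rw [hτ, ← e1]
    have h0 := hac (τ y hy)
    rw [add_zero, mul_smul, mul_smul, hτ y hy, hinv, g2, add_zero] at h0
    exact h0
  have hτ1 : τ 1 one_ne_zero = 1 := hφinj (by rw [hτ, hφ1, hs3])
  have hττ : ∀ x hx, τ (τ x hx) (hτ0 x hx) = x := fun x hx => hφinj (by rw [hτ, hτ, hinv])
  have hneg : (-1 : F) ≠ 0 := neg_ne_zero.2 one_ne_zero
  have congrτ : ∀ {x y : F} (e : x = y) hx hy, τ x hx = τ y hy := fun e hx hy => by subst e; rfl
  have hτneg : τ (-1) hneg = -1 := by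
    have h4 : τ (-1) hneg * τ (-1) hneg = 1 := by
      rw [← hτmul, congrτ (by ring : (-1 : F) * -1 = 1) _ one_ne_zero, hτ1]
    rcases mul_self_eq_one_iff.1 h4 with h | h
    · have h5 := hττ (-1) hneg
      rw [congrτ h _ one_ne_zero, hτ1] at h5
      rw [h]; exact h5
    · exact h
  have hfix : ∀ x hx, τ x hx = x → x = 1 ∨ x = -1 := by
    intro x hx hxx
    by_contra hcon
    push Not at hcon
    by_cases hneq : (-1 : F) = 1
    · -- in characteristic two count fixed points modulo two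
      have hs1' : s ≠ 1 := fun e => h1 (by rw [← hs1, e, one_smul])
      have hq : Even (Fintype.card F) := by
        have h2 : ringChar F = 2 := ringChar.eq_iff.2 (CharTwo.of_one_ne_zero_of_two_eq_zero one_ne_zero
          (by linear_combination -(1 : F) * hneq))
        exact FiniteField.even_card_iff_char_two.1 h2 |> Nat.even_iff.2
      have hcard : Fintype.card α = Fintype.card F + 1 := by
        rw [← Fintype.card_option]
        refine (Fintype.card_of_bijective (f := fun o' : Option F => o'.elim inf φ) ⟨?_, fun y => ?_⟩).symm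
        · rintro (_ | u) (_ | w) h
          · rfl
          · exact absurd h.symm (hφne w)
          · exact absurd h (hφne u)
          · exact congrArg some (hφinj h)
        · by_cases hy : y = inf
          · exact ⟨none, hy.symm⟩
          · obtain ⟨u, hu⟩ := hφsurj y hy
            exact ⟨some u, hu⟩
      haveI : Fact (Nat.Prime 2) := ⟨Nat.prime_two⟩
      have hp : IsPGroup 2 (Subgroup.zpowers s) := IsPGroup.of_card (n := 1)
        (by rw [Nat.card_zpowers, pow_one]; exact orderOf_eq_prime (by rw [pow_two]; exact hss) hs1')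
      have hm := hp.card_modEq_card_fixedPoints α
      have hfp : MulAction.fixedPoints (Subgroup.zpowers s) α = {φ 1, φ x} := by
        ext y
        simp only [MulAction.mem_fixedPoints, Set.mem_insert_iff, Set.mem_singleton_iff]
        constructor
        · intro hy
          have hy' : s • y = y := hy ⟨s, Subgroup.mem_zpowers s⟩
          by_contra hc'
          push Not at hc'
          exact hs1' (S.free s (φ 1) (φ x) y (fun e => hcon.1 (hφinj e).symm) (Ne.symm hc'.1) (Ne.symm hc'.2)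
            (by rw [hφ1, hs3]) (by rw [← hτ x hx, hxx]) hy')
        · have key : ∀ z : α, s • z = z → ∀ g : Subgroup.zpowers s, g • z = z := fun z hz g => by
            have hle : Subgroup.zpowers s ≤ MulAction.stabilizer G z := Subgroup.zpowers_le.2 (MulAction.mem_stabilizer_iff.2 hz)
            exact MulAction.mem_stabilizer_iff.1 (hle g.2)
          rintro (rfl | rfl)
          · exact key _ (by rw [hφ1, hs3])
          · exact key _ (by rw [← hτ x hx, hxx])
      rw [hfp, Nat.card_coe_set_eq, Set.ncard_pair (fun e => hcon.1 (hφinj e).symm), Nat.card_eq_fintype_card, hcard,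
        Nat.ModEq] at hm
      obtain ⟨k, hk⟩ := hq
      omega
    · have hs' := S.free s (φ 1) (φ (-1)) (φ x) (fun e => hneq (hφinj e).symm) (fun e => hcon.1 (hφinj e).symm)
        (fun e => hcon.2 (hφinj e).symm) (by rw [hφ1, hs3]) (by rw [← hτ _ hneg, hτneg]) (by rw [← hτ x hx, hxx])
      exact h1 (by rw [← hs1, hs', one_smul])
  -- the sign
  have hχ : ∀ x hx, x * τ x hx = 1 ∨ x * τ x hx = -1 := fun x hx => hfix _ (mul_ne_zero hx (hτ0 x hx))
    (by rw [hτmul x hx _ (hτ0 x hx), hττ x hx, mul_comm])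
  obtain ⟨t, ht1, ht2⟩ := haff (-1) 1 hneg
  have hbraid : ∀ x (hx : x ≠ 0) (hx1 : x ≠ 1), ∃ hu : -1 * τ x hx + 1 ≠ 0, ∃ hw : -1 * x + 1 ≠ 0,
      τ (-1 * τ x hx + 1) hu = -1 * τ (-1 * x + 1) hw + 1 := by
    intro x hx hx1
    have hw : -1 * x + 1 ≠ 0 := fun e => hx1 (by linear_combination -(1 : F) * e)
    have hu : -1 * τ x hx + 1 ≠ 0 := fun e => hx1 (by
      rw [← hττ x hx, congrτ (show τ x hx = 1 by linear_combination -(1 : F) * e) _ one_ne_zero, hτ1])
    refine ⟨hu, hw, hφinj ?_⟩
    have ht0 : t • o = one := by rw [← hφ0, ht2, mul_zero, zero_add, hφ1]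
    have ht1' : t • one = o := by rw [← hφ1, ht2, mul_one, neg_add_cancel, hφ0]
    have heq : s * t * s = t * s * t := S.eq_of (a := inf) (b := o) (c := one) h1 h2 h3
      (by simp only [mul_smul, hs1, hs2, hs3, ht1, ht0, ht1'])
      (by simp only [mul_smul, hs1, hs2, hs3, ht1, ht0, ht1'])
      (by simp only [mul_smul, hs1, hs2, hs3, ht1, ht0, ht1'])
    rw [hτ, ← ht2, hτ x hx, ← ht2, hτ _ hw, ← ht2, ← mul_smul, ← mul_smul, ← mul_smul, ← mul_smul, heq]
  -- no exotic exchange
  have hτinv : ∀ x hx, τ x hx = x⁻¹ := by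
    by_contra hcon
    push Not at hcon
    obtain ⟨x₀, hx₀, hne₀⟩ := hcon
    have hne : (-1 : F) ≠ 1 := fun e => hne₀ (eq_inv_of_mul_eq_one_right (by
      rcases hχ x₀ hx₀ with h | h
      · exact h
      · rw [h, e]))
    set P : F → Prop := fun x => ∃ hx : x ≠ 0, x * τ x hx = 1 with hP
    have hPmul : ∀ x y, P x → P y → P (x * y) := by
      rintro x y ⟨hx, ex⟩ ⟨hy, ey⟩
      exact ⟨mul_ne_zero hx hy, by rw [hτmul x hx y hy, show x * y * (τ x hx * τ y hy) = (x * τ x hx) * (y * τ y hy) by ring, ex, ey, mul_one]⟩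
    have hPneg : P (-1) := ⟨hneg, by rw [hτneg]; ring⟩
    have hPinv : ∀ x, P x → P x⁻¹ := by
      rintro x ⟨hx, ex⟩
      refine ⟨inv_ne_zero hx, ?_⟩
      have h4 := hτmul x hx x⁻¹ (inv_ne_zero hx)
      rw [congrτ (mul_inv_cancel₀ hx) _ one_ne_zero, hτ1] at h4
      calc x⁻¹ * τ x⁻¹ (inv_ne_zero hx) = x⁻¹ * τ x⁻¹ (inv_ne_zero hx) * (x * τ x hx) := by rw [ex, mul_one]
        _ = (x⁻¹ * x) * (τ x hx * τ x⁻¹ (inv_ne_zero hx)) := by ring
        _ = 1 := by rw [← h4, mul_one, inv_mul_cancel₀ hx]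
    have hPsub : ∀ x, P x → x ≠ 1 → P (1 - x) := by
      rintro x hPx hx1
      obtain ⟨hx, ex⟩ := hPx
      obtain ⟨hu, hw, he⟩ := hbraid x hx hx1
      refine ⟨sub_ne_zero.2 (Ne.symm hx1), ?_⟩
      rcases hχ (1 - x) (sub_ne_zero.2 (Ne.symm hx1)) with h | h
      · exact h
      exfalso
      have e1 : (-1 * τ x hx + 1) = (-1 * x⁻¹) * (1 - x) := by
        rw [eq_inv_of_mul_eq_one_right ex]; field_simp; ring
      obtain ⟨hxi, hxi'⟩ := hPmul _ _ hPneg (hPinv x ⟨hx, ex⟩)
      rw [congrτ e1 _ (mul_ne_zero hxi (sub_ne_zero.2 (Ne.symm hx1))), hτmul _ hxi _ (sub_ne_zero.2 (Ne.symm hx1)),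
        congrτ (show -1 * x + 1 = 1 - x by ring) _ (sub_ne_zero.2 (Ne.symm hx1))] at he
      set T := τ (1 - x) (sub_ne_zero.2 (Ne.symm hx1))
      have h5 : τ (-1 * x⁻¹) hxi = -x := by
        rw [eq_inv_of_mul_eq_one_right hxi']; field_simp
      rw [h5] at he
      have h6 : (1 - x) * T = 1 := by linear_combination he
      exact hne (h.symm.trans h6)
    let L : AddSubgroup F :=
      { carrier := {x | x = 0 ∨ P x}
        zero_mem' := Or.inl rfl
        neg_mem' := by
          rintro x (rfl | hx)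
          · exact Or.inl neg_zero
          · exact Or.inr (by rw [← neg_one_mul]; exact hPmul _ _ hPneg hx)
        add_mem' := by
          rintro x y (rfl | hx) hy
          · rwa [zero_add]
          rcases hy with rfl | hy
          · rw [add_zero]; exact Or.inr hx
          by_cases hu : -1 * (y * x⁻¹) = 1
          · refine Or.inl ?_
            obtain ⟨hx0, -⟩ := hx
            field_simp at hu
            linear_combination -(1 : F) * hu
          · refine Or.inr ?_
            have h7 := hPmul _ _ hx (hPsub _ (hPmul _ _ hPneg (hPmul _ _ hy (hPinv x hx))) hu)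
            obtain ⟨hx0, -⟩ := hx
            rwa [show x * (1 - -1 * (y * x⁻¹)) = x + y by field_simp; ring] at h7 }
    have hx₀P : ¬ P x₀ := fun ⟨_, h⟩ => hne₀ (eq_inv_of_mul_eq_one_right h)
    let f : Fˣ →* Fˣ :=
      { toFun := fun u => Units.mk0 ((u : F) * τ u u.ne_zero) (mul_ne_zero u.ne_zero (hτ0 _ _))
        map_one' := Units.ext (by simp [hτ1])
        map_mul' := fun u w => Units.ext (by
          show (u : F) * w * τ ((u : F) * w) _ = (u : F) * τ u _ * ((w : F) * τ w _)
          rw [hτmul _ u.ne_zero _ w.ne_zero]; ring) }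
    have hrange : Nat.card f.range ≤ 2 := by
      have hsub : (f.range : Set Fˣ) ⊆ ({1, -1} : Set Fˣ) := by
        rintro _ ⟨u, rfl⟩
        rcases hχ u u.ne_zero with h | h
        · exact Or.inl (Units.ext h)
        · exact Or.inr (Units.ext h)
      exact (Set.ncard_le_ncard hsub (Set.toFinite _)).trans ((Set.ncard_insert_le _ _).trans (by simp))
    have hrange2 : 1 < Nat.card f.range := by
      rw [Finite.one_lt_card_iff_nontrivial, Subgroup.nontrivial_iff_ne_bot]
      intro hb
      refine hx₀P ⟨hx₀, ?_⟩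
      have : f (Units.mk0 x₀ hx₀) = 1 := Subgroup.mem_bot.1 (hb ▸ ⟨_, rfl⟩)
      exact congrArg Units.val this
    have hL : Nat.card L = Nat.card f.ker + 1 := by
      have heq : (L : Set F) = insert 0 ((fun u : Fˣ => (u : F)) '' (f.ker : Set Fˣ)) := by
        ext y
        constructor
        · rintro (rfl | ⟨hy, ey⟩)
          · exact Set.mem_insert _ _
          · exact Set.mem_insert_of_mem _ ⟨Units.mk0 y hy, Units.ext ey, rfl⟩
        · rintro (rfl | ⟨u, hu, rfl⟩)
          · exact Or.inl rfl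
          · exact Or.inr ⟨u.ne_zero, congrArg Units.val hu⟩
      show Nat.card (L : Set F) = _
      rw [Nat.card_coe_set_eq, heq, Set.ncard_insert_of_notMem (by rintro ⟨u, -, hu⟩; exact u.ne_zero hu),
        Set.ncard_image_of_injective _ (fun u w h => Units.ext h), ← Nat.card_coe_set_eq]
      rfl
    have hk := f.ker.card_mul_index
    rw [Subgroup.index_ker, show Nat.card f.range = 2 by omega, Nat.card_units] at hk
    have hd : Nat.card L ∣ Nat.card F := L.card_addSubgroup_dvd_card
    rw [hL] at hd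
    have hq : 2 ≤ Nat.card F := Finite.one_lt_card
    have hdd : Nat.card f.ker + 1 ∣ 1 := by
      have := Nat.dvd_sub (dvd_mul_left (Nat.card f.ker + 1) 2) hd
      rwa [show 2 * (Nat.card f.ker + 1) - Nat.card F = 1 by omega] at this
    have := Nat.le_of_dvd one_pos hdd
    omega
  -- the projective line
  let Φ : Option F → ProjLine.Pt F := fun o' => o'.elim ProjLine.P0 affPt
  have hΦ : Function.Bijective Φ := by
    refine (Nat.bijective_iff_injective_and_card Φ).2 ⟨?_, ?_⟩
    · rintro (_ | u) (_ | w) h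
      · rfl
      · exfalso
        obtain ⟨c, hc⟩ := (Projectivization.mk_eq_mk_iff' F _ _ _ _).1 h
        have h1' := congrFun hc 1
        have h0' := congrFun hc 0
        simp at h1' h0'
        simp [h1'] at h0'
      · exfalso
        obtain ⟨c, hc⟩ := (Projectivization.mk_eq_mk_iff' F _ _ _ _).1 h
        simpa using congrFun hc 1
      · obtain ⟨c, hc⟩ := (Projectivization.mk_eq_mk_iff' F _ _ _ _).1 h
        have h1' := congrFun hc 1
        have h0' := congrFun hc 0
        simp at h1' h0'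
        rw [h1', one_mul] at h0'
        exact congrArg some h0'.symm
    · rw [Projectivization.card_of_finrank_two F (Fin 2 → F) (by simp), Nat.card_eq_fintype_card, Nat.card_eq_fintype_card, Fintype.card_option]
  let Ψ : Option F → α := fun o' => o'.elim inf φ
  have hΨ : Function.Bijective Ψ := by
    refine ⟨?_, fun y => ?_⟩
    · rintro (_ | u) (_ | w) h
      · rfl
      · exact absurd h.symm (hφne w)
      · exact absurd h (hφne u)
      · exact congrArg some (hφinj h)
    · by_cases hy : y = inf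
      · exact ⟨none, hy.symm⟩
      · obtain ⟨u, hu⟩ := hφsurj y hy
        exact ⟨some u, hu⟩
  haveI : Finite (ProjLine.Pt F) := Finite.of_surjective Φ hΦ.2
  let ψ : ProjLine.Pt F ≃ α := (Equiv.ofBijective Φ hΦ).symm.trans (Equiv.ofBijective Ψ hΨ)
  have hψ : ∀ o', ψ (Φ o') = Ψ o' := fun o' => by
    show Ψ ((Equiv.ofBijective Φ hΦ).symm (Φ o')) = _
    rw [show (Equiv.ofBijective Φ hΦ).symm (Φ o') = o' from (Equiv.ofBijective Φ hΦ).symm_apply_apply o']
  let Θ : Matrix.ProjGenLinGroup (Fin 2) F →* Equiv.Perm α :=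
    ψ.permCongrHom.toMonoidHom.comp (MulAction.toPermHom _ (ProjLine.Pt F))
  have hΘ : ∀ γ P, Θ γ (ψ P) = ψ (γ • P) := fun γ P => by simp [Θ, Equiv.permCongr_apply]
  -- generators lie in the image
  have key : ∀ (g : G) (M : GL (Fin 2) F), (∀ o', g • Ψ o' = ψ (M • Φ o')) → (g : Equiv.Perm α) ∈ Θ.range := by
    intro g M hM
    refine ⟨Matrix.ProjGenLinGroup.mk M, Equiv.ext fun y => ?_⟩
    obtain ⟨o', rfl⟩ := hΨ.2 y
    conv_lhs => rw [← hψ o']
    rw [hΘ]
    exact (hM o').symm
  have hs_mem : (s : Equiv.Perm α) ∈ Θ.range := by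
    refine key s (Matrix.GeneralLinearGroup.mkOfDetNeZero !![0, 1; 1, 0] (by simp [Matrix.det_fin_two])) ?_
    rintro (_ | x)
    · show s • inf = ψ (_ • ProjLine.P0)
      rw [show (Matrix.GeneralLinearGroup.mkOfDetNeZero !![(0 : F), 1; 1, 0] (by simp [Matrix.det_fin_two])) • (ProjLine.P0 : ProjLine.Pt F) = Φ (some 0) by
        show _ = affPt 0
        rw [ProjLine.P0, affPt, Projectivization.smul_mk, Projectivization.mk_eq_mk_iff']
        exact ⟨1, funext fun i => by fin_cases i <;> simp [Matrix.mulVec, dotProduct, Fin.sum_univ_two, Units.smul_def]⟩, hψ]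
      show s • inf = φ 0
      rw [hs1, hφ0]
    · show s • φ x = ψ (_ • affPt x)
      by_cases hx : x = 0
      · subst hx
        rw [show (Matrix.GeneralLinearGroup.mkOfDetNeZero !![(0 : F), 1; 1, 0] (by simp [Matrix.det_fin_two])) • affPt (0 : F) = Φ none by
          show _ = ProjLine.P0
          rw [ProjLine.P0, affPt, Projectivization.smul_mk, Projectivization.mk_eq_mk_iff']
          exact ⟨1, funext fun i => by fin_cases i <;> simp [Matrix.mulVec, dotProduct, Fin.sum_univ_two, Units.smul_def]⟩, hψ]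
        show s • φ 0 = inf
        rw [hφ0, hs2]
      · rw [affPt_smul (y := x⁻¹) (c := x) (by simp [hx]) (by simp), show affPt x⁻¹ = Φ (some x⁻¹) from rfl, hψ,
          ← hτ x hx, hτinv]
        rfl
  have haff_mem : ∀ g : G, g • inf = inf → (g : Equiv.Perm α) ∈ Θ.range := by
    intro g hg
    obtain ⟨a, c, ha, hac⟩ := haff' g hg
    refine key g (Matrix.GeneralLinearGroup.mkOfDetNeZero !![a, c; 0, 1] (by simp [Matrix.det_fin_two, ha])) ?_
    rintro (_ | x)
    · show g • inf = ψ (_ • ProjLine.P0)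
      rw [smul_P0 (by simp), show (ProjLine.P0 : ProjLine.Pt F) = Φ none from rfl, hψ, hg]
      rfl
    · show g • φ x = ψ (_ • affPt x)
      rw [affPt_smul (y := a * x + c) (c := 1) (by simp) (by simp), show affPt (a * x + c) = Φ (some (a * x + c)) from rfl, hψ]
      exact hac x
  have hle : ∀ g : G, (g : Equiv.Perm α) ∈ Θ.range := by
    intro g
    by_cases hg : g • inf = inf
    · exact haff_mem g hg
    obtain ⟨x, hx⟩ := hφsurj _ hg
    obtain ⟨k, hk1, hk2⟩ := haff 1 x one_ne_zero
    have hfix' : (s⁻¹ * k⁻¹ * g) • inf = inf := by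
      rw [mul_smul, mul_smul, ← hx, inv_smul_eq_iff, inv_smul_eq_iff, hs1, ← hφ0, hk2]; simp
    have := mul_mem (mul_mem (haff_mem k hk1) hs_mem) (haff_mem _ hfix')
    rwa [← Subgroup.coe_mul, ← Subgroup.coe_mul, show k * s * (s⁻¹ * k⁻¹ * g) = g by group] at this
  have hrange : Θ.range = G := by
    refine le_antisymm ?_ fun g hg => hle ⟨g, hg⟩
    rintro _ ⟨γ, rfl⟩
    have hne : ∀ {u v : α}, u ≠ v → Θ γ u ≠ Θ γ v := fun h e => h ((Θ γ).injective e)
    obtain ⟨g, g1, g2, g3⟩ := S.trans inf o one _ _ _ h1 h2 h3 (hne h1) (hne h2) (hne h3)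
    obtain ⟨γ', hγ'⟩ := hle g
    have hpts : ∀ y : α, g • y = Θ γ y → (γ'⁻¹ * γ) • ψ.symm y = ψ.symm y := fun y hy => by
      apply ψ.injective
      rw [← hΘ, map_mul, map_inv, hγ', Equiv.apply_symm_apply, Equiv.Perm.mul_apply, ← hy]
      exact (g : Equiv.Perm α).symm_apply_apply y
    have := ProjLine.PGL_eq_one (g := γ'⁻¹ * γ) (fun e => h1 (ψ.symm.injective e)) (fun e => h2 (ψ.symm.injective e))
      (fun e => h3 (ψ.symm.injective e)) (hpts inf g1) (hpts o g2) (hpts one g3)
    rw [← inv_mul_eq_one.1 this, hγ']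
    exact g.2
  have hinj : Function.Injective Θ := by
    rw [injective_iff_map_eq_one]
    intro γ hγ
    have hfixall : ∀ P, γ • P = P := fun P => ψ.injective (by rw [← hΘ, hγ]; rfl)
    exact ProjLine.PGL_eq_one (fun e => h1 (ψ.symm.injective e)) (fun e => h2 (ψ.symm.injective e))
      (fun e => h3 (ψ.symm.injective e)) (hfixall _) (hfixall _) (hfixall _)
  refine ⟨F, iF, iFt, ?_, ⟨((MonoidHom.ofInjective hinj).trans (MulEquiv.subgroupCongr hrange)).symm⟩⟩
  rw [← Fintype.card_option]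
  exact Fintype.card_of_bijective hΨ

end CfsgLib.Perm.SharpThree
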