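import Cfsg.Agent.Perm.SylowNumber
import Cfsg.Agent.Perm.SharplyThreePGL

/-!
Simple groups with `q + 1` Sylow `q`-subgroups and order `q (q² - 1) / 2`.
-/

set_option autoImplicit false
set_option linter.style.haveILetI false
set_option linter.unusedSectionVars false
set_option linter.unusedSimpArgs false

namespace CfsgLib.Perm.PrimePSL

open CfsgLib.Lie CfsgLib.Perm.SylowNumber

variable {q : ℕ}

/-- The candidate exchange. -/
def cand (a g : ZMod q) (m k : ℕ) (c1 c2 : ZMod q) (x : Option (ZMod q)) : Option (ZMod q) :=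
  match x with
  | none => some 0
  | some x => if x = 0 then none else
      match (List.range m).find? (fun i => decide (a ^ i = x)) with
      | some i => some (a ^ (k * i) * c1)
      | none => match (List.range m).find? (fun i => decide (g * a ^ i = x)) with
        | some i => some (a ^ (k * i) * c2)
        | none => none

/-- The word fixing infinity. -/
def word (w : Option (ZMod q) → Option (ZMod q)) (b c : ZMod q) (x : Option (ZMod q)) : Option (ZMod q) :=
  w ((w ((w x).map (· + b))).map (· - c))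

/-- The closure test. -/
def test [NeZero q] (m : ℕ) (w : Option (ZMod q) → Option (ZMod q)) : Bool :=
  (List.range q).all fun b => (b == 0) ||
    match w (some (b : ZMod q)) with
    | none => false
    | some c => match word w b c (some 0), word w b c (some 1) with
      | some d, some e => (decide ((e - d) ^ m = 1)) &&
          (List.range q).all fun x => word w b c (some (x : ZMod q)) == some ((e - d) * x + d)
      | _, _ => false

/-- The certificate. -/
def cert (q : ℕ) [NeZero q] (g : ZMod q) (m : ℕ) : Bool :=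
  (List.range m).all fun k => (k * k % m != 1 % m) || (k == 1 && m == 3) ||
    (List.range (q - 1)).all fun i => (List.range (q - 1)).all fun j =>
      !(test m (cand (g * g) g m k (i + 1 : ℕ) (j + 1 : ℕ))) ||
      (((List.range q).all fun x => (x == 0) || cand (g * g) g m k (i + 1 : ℕ) (j + 1 : ℕ) (some (x : ZMod q)) == some (((i + 1 : ℕ) : ZMod q) * (x : ZMod q)⁻¹))
        && (List.range q).any fun r => decide ((r : ZMod q) * r = -((i + 1 : ℕ) : ZMod q)))

theorem cert_seven : cert 7 3 3 = true := by decide +kernel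
theorem cert_seventeen : cert 17 3 8 = true := by decide +kernel
theorem cert_nineteen : cert 19 2 9 = true := by decide +kernel
theorem cert_twentyThree : cert 23 5 11 = true := by decide +kernel

/-- The numerical facts used for one prime. -/
structure Data (q : ℕ) [NeZero q] (g : ZMod q) (m : ℕ) : Prop where
  hm : 2 * m + 1 = q
  pow : (g * g) ^ m = 1
  roots : ∀ s : ZMod q, s ^ m = 1 → ∃ i < m, s = (g * g) ^ i
  split : ∀ x : ZMod q, x ≠ 0 → ∃ i < m, x = (g * g) ^ i ∨ x = g * (g * g) ^ i
  check : cert q g m = true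

theorem data_seven : Data 7 3 3 := ⟨by norm_num, by decide, by decide, by decide, cert_seven⟩
theorem data_seventeen : Data 17 3 8 := ⟨by norm_num, by decide, by decide +kernel, by decide +kernel, cert_seventeen⟩
theorem data_nineteen : Data 19 2 9 := ⟨by norm_num, by decide, by decide +kernel, by decide +kernel, cert_nineteen⟩
theorem data_twentyThree : Data 23 5 11 := ⟨by norm_num, by decide, by decide +kernel, by decide +kernel, cert_twentyThree⟩

variable [hq : Fact q.Prime]

theorem zmod_eq_succ {c : ZMod q} (hc : c ≠ 0) : ∃ i < q - 1, c = ((i + 1 : ℕ) : ZMod q) := by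
  have h0 : c.val ≠ 0 := fun e => hc ((ZMod.val_eq_zero c).1 e)
  have h1 := ZMod.val_lt c
  exact ⟨c.val - 1, by omega, by rw [show c.val - 1 + 1 = c.val by omega, ZMod.natCast_zmod_val]⟩

/-- Coordinates on the Sylow subgroups. -/
theorem exists_frame {G : Type*} [Group G] [Finite G] [IsSimpleGroup G] {g : ZMod q} {m : ℕ}
    (D : Data q g m) (hn : Nat.card (Sylow q G) = q + 1) (hG : Nat.card G = q * m * (q + 1))
    (h3 : m = 3 → ¬ 9 ∣ Nat.card G) :
    ∃ f : G →* Equiv.Perm (Option (ZMod q)), Function.Injective f ∧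
      (∀ y : G, f y none = none → ∃ i : ℕ, ∃ d : ZMod q, ∀ x : ZMod q, f y (some x) = some ((g * g) ^ i * x + d)) ∧
      (∀ d : ZMod q, ∃ y : G, f y none = none ∧ ∀ x : ZMod q, f y (some x) = some (x + d)) ∧
      ∃ (w : G) (r : ZMod q), r ≠ 0 ∧ f w none = some 0 ∧ f w (some 0) = none ∧
        ∀ x : ZMod q, x ≠ 0 → f w (some x) = some (-(r * r) * x⁻¹) := by
  classical
  have hqp : q.Prime := hq.out
  have hq2 := hqp.two_le
  have hqm := D.hm
  have hm0 : 0 < m := by omega
  haveI := Fintype.ofFinite (Sylow q G)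
  obtain ⟨P⟩ : Nonempty (Sylow q G) := inferInstance
  have hPc : Nat.card (P : Subgroup G) = q := by
    obtain ⟨k, hk⟩ := IsPGroup.iff_card.1 P.2
    have h1 : Nat.card (P : Subgroup G) ∣ Nat.card G := Subgroup.card_subgroup_dvd_card _
    have h2 := P.dvd_card_of_dvd_card (hG ▸ Dvd.dvd.mul_right (dvd_mul_right q m) _)
    rw [hk] at h1 h2 ⊢
    rcases Nat.lt_or_ge k 2 with hk2 | hk2
    · interval_cases k
      · rw [pow_zero, Nat.dvd_one] at h2; omega
      · rw [pow_one]
    · exfalso
      have h4 : q * q ∣ q * (m * (q + 1)) := by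
        rw [← mul_assoc, ← hG, ← pow_two]; exact (pow_dvd_pow q hk2).trans h1
      have h5 := (Nat.mul_dvd_mul_iff_left (by omega)).1 h4
      rcases hqp.dvd_mul.1 h5 with h6 | h6
      · have := Nat.le_of_dvd hm0 h6; omega
      · exact hqp.not_dvd_one ((Nat.dvd_add_right (dvd_refl q)).1 h6)
  have hfaith : ∀ y : G, (∀ Q : Sylow q G, y • Q = Q) → y = 1 := by
    intro y hy
    have hker : (MulAction.toPermHom G (Sylow q G)).ker = ⊥ := by
      refine ((MonoidHom.normal_ker (MulAction.toPermHom G (Sylow q G))).eq_bot_or_eq_top).resolve_right fun h => ?_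
      have hs : Subsingleton (Sylow q G) := ⟨fun A B => by
        obtain ⟨y, hy⟩ := MulAction.exists_smul_eq G A B
        have : MulAction.toPermHom G (Sylow q G) y = 1 := MonoidHom.mem_ker.1 (h ▸ Subgroup.mem_top y)
        rw [← hy]
        exact (congrArg (fun σ : Equiv.Perm (Sylow q G) => σ A) this).symm⟩
      have := Finite.card_le_one_iff_subsingleton.2 hs
      omega
    rw [← Subgroup.mem_bot, ← hker, MonoidHom.mem_ker]
    exact Equiv.ext hy
  obtain ⟨Q0, hQ0⟩ : ∃ Q0 : Sylow q G, Q0 ≠ P := by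
    by_contra h
    push Not at h
    have : Nat.card (Sylow q G) ≤ 1 := Finite.card_le_one_iff_subsingleton.2 ⟨fun A B => (h A).trans (h B).symm⟩
    omega
  obtain ⟨x, hx, hxo⟩ : ∃ x ∈ (P : Subgroup G), orderOf x = q := by
    obtain ⟨x, hx⟩ := exists_prime_orderOf_dvd_card' (G := (P : Subgroup G)) q (dvd_of_eq hPc.symm)
    exact ⟨x, x.2, by rw [Subgroup.orderOf_coe]; exact hx⟩
  have hxP : ∀ n : ℕ, (x ^ n) • P = P := fun n =>
    Sylow.smul_eq_iff_mem_normalizer.2 (Subgroup.le_normalizer ((P : Subgroup G).pow_mem hx n))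
  let h : ZMod q → Sylow q G := fun i => x ^ i.val • Q0
  have hh : ∀ n : ℕ, x ^ n • Q0 = h (n : ZMod q) := fun n => by
    show _ = x ^ ((n : ZMod q)).val • Q0
    rw [ZMod.val_natCast, show x ^ (n % q) = x ^ n from by rw [← pow_mod_orderOf x n, hxo]]
  have hh0 : h 0 = Q0 := by simpa using (hh 0).symm
  have hhne : ∀ i, h i ≠ P := fun i e => hQ0 (MulAction.injective (x ^ i.val) (e.trans (hxP _).symm))
  have hhadd : ∀ (i : ZMod q) (n : ℕ), x ^ n • h i = h (i + n) := fun i n => by
    rw [show x ^ n • h i = x ^ n • x ^ i.val • Q0 from rfl, ← mul_smul, ← pow_add, hh]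
    simp [add_comm]
  have hzero : ∀ n : ℕ, x ^ n • Q0 = Q0 → (n : ZMod q) = 0 := by
    intro n hn'
    by_contra hne
    refine hQ0 (eq_of_smul_eq P hPc ((P : Subgroup G).pow_mem hx n) (fun e => hne ?_) hn')
    rw [ZMod.natCast_eq_zero_iff, ← hxo]
    exact orderOf_dvd_of_pow_eq_one e
  have hhinj : Function.Injective h := by
    intro i j e
    have h1 := congrArg (x ^ (-i).val • ·) e
    simp only [hhadd, ZMod.natCast_zmod_val, add_neg_cancel, hh0] at h1
    rw [← hh0, ← sub_eq_add_neg] at h1
    have h2 : (((j - i).val : ℕ) : ZMod q) = 0 := hzero _ (by rw [hh, ZMod.natCast_zmod_val, ← h1, hh0])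
    rw [ZMod.natCast_zmod_val, sub_eq_zero] at h2
    exact h2.symm
  let e0 : Option (ZMod q) → Sylow q G := fun o => o.elim P h
  have he0 : Function.Bijective e0 := by
    refine (Nat.bijective_iff_injective_and_card e0).2 ⟨?_, ?_⟩
    · rintro (_ | u) (_ | v) e
      · rfl
      · exact absurd e.symm (hhne v)
      · exact absurd e (hhne u)
      · exact congrArg some (hhinj e)
    · rw [hn, Nat.card_eq_fintype_card, Fintype.card_option, ZMod.card]
  have hsurj : ∀ Q, Q ≠ P → ∃ i, h i = Q := fun Q hQ => by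
    obtain ⟨_ | i, hi⟩ := he0.2 Q
    · exact absurd hi.symm hQ
    · exact ⟨i, hi⟩
  let ee : Option (ZMod q) ≃ Sylow q G := Equiv.ofBijective e0 he0
  let f : G →* Equiv.Perm (Option (ZMod q)) := ee.symm.permCongrHom.toMonoidHom.comp (MulAction.toPermHom G (Sylow q G))
  have hf : ∀ (y : G) o o', y • e0 o = e0 o' → f y o = o' := fun y o o' e => by
    show ee.symm (y • ee o) = o'
    rw [Equiv.symm_apply_eq]; exact e
  have hf' : ∀ (y : G) o o', f y o = o' → y • e0 o = e0 o' := fun y o o' e => by
    have e1 : ee.symm (y • ee o) = o' := e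
    rw [Equiv.symm_apply_eq] at e1; exact e1
  have hfinj : Function.Injective f := by
    rw [injective_iff_map_eq_one]
    intro y hy
    refine hfaith y fun Q => ?_
    obtain ⟨o, rfl⟩ := he0.2 Q
    exact hf' y o o (by rw [hy]; rfl)
  -- the two-point stabiliser
  set T := MulAction.stabilizer G P ⊓ MulAction.stabilizer G Q0 with hT
  have hstab : Nat.card (MulAction.stabilizer G P) = q * m := by
    have h1 := (MulAction.stabilizer G P).card_mul_index
    rw [MulAction.index_stabilizer_of_transitive, hn, hG] at h1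
    exact Nat.eq_of_mul_eq_mul_right (by omega) h1
  have hdec : ∀ y : G, y • P = P → ∃ (i : ZMod q) (t : T), y = x ^ i.val * t := fun y hy => by
    obtain ⟨i, hi⟩ := hsurj (y • Q0) (fun e => hQ0 (MulAction.injective y (e.trans hy.symm)))
    refine ⟨i, ⟨(x ^ i.val)⁻¹ * y, ?_, ?_⟩, by simp⟩
    · show ((x ^ i.val)⁻¹ * y) • P = P
      rw [mul_smul, hy, inv_smul_eq_iff, hxP]
    · show ((x ^ i.val)⁻¹ * y) • Q0 = Q0
      rw [mul_smul, inv_smul_eq_iff, ← hi]
  have hTc : Nat.card T = m := by
    let π : ZMod q × T → MulAction.stabilizer G P := fun z => ⟨x ^ z.1.val * z.2, by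
      show (x ^ z.1.val * (z.2 : G)) • P = P
      rw [mul_smul, z.2.2.1, hxP]⟩
    have hπ : Function.Bijective π := by
      refine ⟨fun z z' e => ?_, fun y => ?_⟩
      · have e1 : x ^ z.1.val * (z.2 : G) = x ^ z'.1.val * z'.2 := congrArg Subtype.val e
        have e2 : z.1 = z'.1 := hhinj (by
          have := congrArg (· • Q0) e1
          simp only [mul_smul, show (z.2 : G) • Q0 = Q0 from z.2.2.2, show (z'.2 : G) • Q0 = Q0 from z'.2.2.2] at this
          exact this)
        refine Prod.ext e2 (Subtype.ext ?_)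
        rw [e2] at e1
        exact mul_left_cancel e1
      · obtain ⟨i, t, hit⟩ := hdec y y.2
        exact ⟨(i, t), Subtype.ext hit.symm⟩
    have h1 := Nat.card_congr (Equiv.ofBijective π hπ)
    rw [Nat.card_prod, Nat.card_zmod, hstab] at h1
    exact Nat.eq_of_mul_eq_mul_left hqp.pos h1
  have hmult : ∀ t : T, ∃ s : ZMod q, ∀ i : ZMod q, (t : G) • h i = h (s * i) := by
    intro t
    have h1 : (t : G) * x * (t : G)⁻¹ ∈ (P : Subgroup G) :=
      (Subgroup.mem_normalizer_iff.1 (Sylow.smul_eq_iff_mem_normalizer.1 t.2.1) x).1 hx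
    have hz : Subgroup.zpowers x = (P : Subgroup G) :=
      zpowers_eq_of_mem P hPc hx (fun e => by rw [e, orderOf_one] at hxo; omega)
    obtain ⟨s, hs⟩ := mem_powers_iff_mem_zpowers.2 (hz.symm ▸ h1 : (t : G) * x * (t : G)⁻¹ ∈ Subgroup.zpowers x)
    refine ⟨(s : ZMod q), fun i => ?_⟩
    have e1 : (t : G) * x ^ i.val = x ^ (s * i.val) * t := by
      rw [pow_mul, show x ^ s = (t : G) * x * (t : G)⁻¹ from hs, conj_pow, inv_mul_cancel_right]
    show (t : G) • x ^ i.val • Q0 = _
    rw [← mul_smul, e1, mul_smul, show (t : G) • Q0 = Q0 from t.2.2, hh]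
    simp
  choose μ hμ using hmult
  let μ' : T →* ZMod q :=
    { toFun := μ
      map_one' := hhinj (by rw [← mul_one (μ 1), ← hμ, OneMemClass.coe_one, one_smul])
      map_mul' := fun s t => hhinj (by
        rw [← mul_one (μ (s * t)), ← hμ, Subgroup.coe_mul, mul_smul, hμ t, mul_one, hμ s]) }
  have hμinj : Function.Injective μ' := by
    intro s t e
    have e1 : ∀ o, (s : G) • e0 o = (t : G) • e0 o := fun o => by
      cases o with
      | none => exact s.2.1.trans t.2.1.symm
      | some i => show (s : G) • h i = (t : G) • h i; rw [hμ, hμ, show μ s = μ t from e]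
    refine Subtype.ext (inv_mul_eq_one.1 (hfaith _ fun Q => ?_)).symm
    obtain ⟨o, rfl⟩ := he0.2 Q
    rw [mul_smul, e1, inv_smul_smul]
  have hμroot : ∀ t, μ' t ^ m = 1 := fun t => by
    rw [← map_pow, ← hTc, pow_card_eq_one', map_one]
  haveI : Fintype T := Fintype.ofFinite _
  have himg : (Finset.univ.image μ') = (Finset.range m).image (fun i => (g * g) ^ i) := by
    refine Finset.eq_of_subset_of_card_le (fun s hs => ?_) ?_
    · obtain ⟨t, -, rfl⟩ := Finset.mem_image.1 hs
      obtain ⟨i, hi, e⟩ := D.roots _ (hμroot t)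
      exact Finset.mem_image.2 ⟨i, Finset.mem_range.2 hi, e.symm⟩
    · rw [Finset.card_image_of_injective _ hμinj, Finset.card_univ, ← Nat.card_eq_fintype_card, hTc]
      exact Finset.card_image_le.trans (Finset.card_range m).le
  obtain ⟨t0, -, ht0⟩ := Finset.mem_image.1 (himg.symm ▸ (Finset.mem_image.2 ⟨1 % m, Finset.mem_range.2 (Nat.mod_lt _ hm0), rfl⟩ :
    (g * g) ^ (1 % m) ∈ (Finset.range m).image (fun i => (g * g) ^ i)))
  have ht0' : μ' t0 = g * g := by
    rw [ht0]
    conv_rhs => rw [← pow_one (g * g), ← Nat.mod_add_div 1 m, pow_add, pow_mul, D.pow, one_pow, mul_one]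
  have hTgen : ∀ t : T, ∃ i < m, t = t0 ^ i := fun t => by
    obtain ⟨i, hi, e⟩ := D.roots _ (hμroot t)
    exact ⟨i, hi, hμinj (by rw [map_pow, ht0', e])⟩
  have haff : ∀ y : G, y • P = P → ∃ i : ℕ, ∃ d : ZMod q, ∀ z : ZMod q, y • h z = h ((g * g) ^ i * z + d) := by
    intro y hy
    obtain ⟨d, t, rfl⟩ := hdec y hy
    obtain ⟨i, -, rfl⟩ := hTgen t
    refine ⟨i, d, fun z => ?_⟩
    rw [mul_smul, hμ, hhadd, ZMod.natCast_zmod_val, show μ (t0 ^ i) = (g * g) ^ i by
      rw [← ht0', ← map_pow]; rfl]
  -- the exchange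
  obtain ⟨g1, hg1⟩ := MulAction.exists_smul_eq G P Q0
  obtain ⟨i1, hi1⟩ := hsurj (g1⁻¹ • P) (fun e => hQ0 (by
    rw [inv_smul_eq_iff, hg1] at e; exact e.symm))
  set w := g1 * x ^ i1.val with hw
  have hwP : w • P = Q0 := by rw [hw, mul_smul, hxP, hg1]
  have hwQ : w • Q0 = P := by
    rw [hw, mul_smul, show x ^ i1.val • Q0 = h i1 from rfl, hi1, smul_inv_smul]
  have hwT : ∀ t : T, ∃ t' : T, w * t = t' * w := fun t =>
    ⟨⟨w * t * w⁻¹, by
      show (w * (t : G) * w⁻¹) • P = P
      rw [mul_smul, mul_smul, inv_smul_eq_iff.2 hwQ.symm, show (t : G) • Q0 = Q0 from t.2.2, hwQ], by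
      show (w * (t : G) * w⁻¹) • Q0 = Q0
      rw [mul_smul, mul_smul, inv_smul_eq_iff.2 hwP.symm, show (t : G) • P = P from t.2.1, hwP]⟩, by simp⟩
  obtain ⟨t1, ht1⟩ := hwT t0
  obtain ⟨k, hk, rfl⟩ := hTgen t1
  have hwpow : ∀ i : ℕ, w * (t0 : G) ^ i = (t0 : G) ^ (k * i) * w := fun i => by
    induction i with
    | zero => simp
    | succ i ih =>
      rw [pow_succ, ← mul_assoc, ih, mul_assoc, ht1, ← mul_assoc, Subgroup.coe_pow, ← pow_add]
      ring_nf
  have ht0o : orderOf t0 = m := by
    refine Nat.dvd_antisymm (hTc ▸ orderOf_dvd_natCard t0) ?_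
    have hle : Nat.card T ≤ orderOf t0 := by
      rw [← Nat.card_zpowers]
      refine Nat.card_le_card_of_injective (fun t => ⟨t, ?_⟩) (fun a b e => congrArg Subtype.val e)
      obtain ⟨i, -, rfl⟩ := hTgen t
      exact Subgroup.pow_mem _ (Subgroup.mem_zpowers t0) i
    have := Nat.le_of_dvd hm0 (hTc ▸ orderOf_dvd_natCard t0)
    rw [show orderOf t0 = m by omega]
  have hk2 : k * k % m = 1 % m := by
    have hww : w * w ∈ T := ⟨by show (w * w) • P = P; rw [mul_smul, hwP, hwQ],
      by show (w * w) • Q0 = Q0; rw [mul_smul, hwQ, hwP]⟩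
    obtain ⟨j, -, hj⟩ := hTgen ⟨w * w, hww⟩
    have hj' : w * w = (t0 : G) ^ j := congrArg Subtype.val hj
    have e1 : w * (w * (t0 : G)) = (t0 : G) ^ (k * k) * (w * w) := by
      rw [show w * (t0 : G) = (t0 : G) ^ k * w by simpa using hwpow 1, ← mul_assoc, hwpow k, mul_assoc]
    rw [← mul_assoc, hj', ← pow_succ, ← pow_add, pow_eq_pow_iff_modEq, Subgroup.orderOf_coe, ht0o] at e1
    have e2 : 1 ≡ k * k [MOD m] := Nat.ModEq.add_left_cancel' j (by rw [Nat.add_comm j (k * k)]; exact e1)
    exact e2.symm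
  have hwne : ∀ i : ZMod q, i ≠ 0 → ∃ c : ZMod q, c ≠ 0 ∧ w • h i = h c := fun i hi => by
    obtain ⟨c, hc⟩ := hsurj (w • h i) (fun e => hi (hhinj (by rw [hh0]; exact MulAction.injective w (e.trans hwQ.symm))))
    refine ⟨c, fun e0' => hhne i (MulAction.injective w ?_), hc.symm⟩
    show w • h i = w • P
    rw [← hc, e0', hh0, hwP]
  have hg0 : g ≠ 0 := fun e => by
    have := D.pow
    rw [e, mul_zero, zero_pow (by omega)] at this
    exact zero_ne_one this
  obtain ⟨c1, hc1, hwc1⟩ := hwne 1 one_ne_zero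
  obtain ⟨c2, hc2, hwc2⟩ := hwne g hg0
  have ha0 : ∀ i, (g * g) ^ i ≠ 0 := fun i => pow_ne_zero _ (mul_ne_zero hg0 hg0)
  have hwa : ∀ (i : ℕ) (z c : ZMod q), w • h z = h c → w • h ((g * g) ^ i * z) = h ((g * g) ^ (k * i) * c) := by
    intro i z c hzc
    have e1 : ∀ (j : ℕ) (u : ZMod q), (t0 : G) ^ j • h u = h ((g * g) ^ j * u) := fun j u => by
      rw [← Subgroup.coe_pow, hμ, show μ (t0 ^ j) = μ' (t0 ^ j) from rfl, map_pow, ht0']
    rw [← e1, ← mul_smul, hwpow, mul_smul, hzc, e1]
  have hcand : ∀ o, f w o = cand (g * g) g m k c1 c2 o := by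
    rintro (_ | z)
    · exact hf _ _ _ (by show w • P = h 0; rw [hwP, hh0])
    show _ = if z = 0 then none else _
    split_ifs with hz
    · subst hz
      exact hf _ _ _ (by show w • h 0 = P; rw [hh0, hwQ])
    · obtain ⟨i, hi, hi'⟩ := D.split z hz
      cases e : (List.range m).find? (fun j => decide ((g * g) ^ j = z)) with
      | some j =>
        have hj := of_decide_eq_true (List.find?_some (p := fun j => decide ((g * g) ^ j = z)) e)
        refine hf _ _ _ ?_
        show w • h z = h _
        rw [← hj]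
        simpa using hwa j 1 c1 hwc1
      | none =>
        have hn1 := List.find?_eq_none.1 e
        rcases hi' with hi' | hi'
        · exact absurd (decide_eq_true hi'.symm) (by simpa using hn1 i (List.mem_range.2 hi))
        cases e2 : (List.range m).find? (fun j => decide (g * (g * g) ^ j = z)) with
        | some j =>
          have hj := of_decide_eq_true (List.find?_some (p := fun j => decide (g * (g * g) ^ j = z)) e2)
          refine hf _ _ _ ?_
          show w • h z = h _
          rw [← hj, mul_comm g]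
          exact hwa j g c2 hwc2
        | none => exact absurd (decide_eq_true hi'.symm) (by simpa using List.find?_eq_none.1 e2 i (List.mem_range.2 hi))
  have hx_f : ∀ (n : ℕ) o, f (x ^ n) o = o.map (· + (n : ZMod q)) := by
    rintro n (_ | z)
    · exact hf _ _ _ (hxP n)
    · exact hf _ _ _ (hhadd z n)
  have hfaff : ∀ y : G, f y none = none → ∃ i : ℕ, ∃ d : ZMod q, ∀ z : ZMod q, f y (some z) = some ((g * g) ^ i * z + d) := by
    intro y hy
    obtain ⟨i, d, hyd⟩ := haff y (hf' _ _ _ hy)
    exact ⟨i, d, fun z => hf _ _ _ (hyd z)⟩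
  have htest : test m (cand (g * g) g m k c1 c2) = true := by
    simp only [test, List.all_eq_true, List.mem_range, Bool.or_eq_true, beq_iff_eq]
    intro b hb
    rw [or_iff_not_imp_left]
    intro hb0
    have hbz : (b : ZMod q) ≠ 0 := by
      rw [Ne, ZMod.natCast_eq_zero_iff]
      exact fun hd => by have := Nat.le_of_dvd (by omega) hd; omega
    obtain ⟨c, hc, hwb⟩ := hwne _ hbz
    have hwb' : cand (g * g) g m k c1 c2 (some (b : ZMod q)) = some c := by rw [← hcand]; exact hf _ _ _ hwb
    rw [hwb']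
    set u := w * x ^ (-c).val * w * x ^ b * w with hu
    have hword : ∀ o, word (cand (g * g) g m k c1 c2) (b : ZMod q) c o = f u o := fun o => by
      simp only [word, ← hcand, hu, map_mul, Equiv.Perm.mul_apply, hx_f, ZMod.natCast_zmod_val, sub_eq_add_neg]
    have huP : f u none = none := by
      rw [← hword]
      simp only [word]
      rw [show cand (g * g) g m k c1 c2 none = some 0 from rfl, Option.map_some, zero_add, hwb', Option.map_some, sub_self]
      simp [cand]
    obtain ⟨i, d, hid⟩ := hfaff u huP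
    simp only [hword, hid, mul_zero, zero_add, mul_one, add_sub_cancel_right, Bool.and_eq_true, decide_eq_true_eq,
      List.all_eq_true, beq_self_eq_true, implies_true, and_true]
    rw [← pow_mul, mul_comm i, pow_mul, D.pow, one_pow]
  have hcheck := D.check
  simp only [cert, List.all_eq_true, List.mem_range, Bool.or_eq_true, Bool.and_eq_true, beq_iff_eq, bne_iff_ne,
    Bool.not_eq_true', List.any_eq_true, decide_eq_true_eq] at hcheck
  rcases hcheck k hk with (hbad | ⟨hk1, hm3⟩) | hrest
  · exact absurd hk2 hbad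
  · -- the exchange cannot centralise the two-point stabiliser
    exfalso
    haveI : Fact (Nat.Prime 3) := ⟨Nat.prime_three⟩
    have hfac : (Nat.card G).factorization 3 = 1 := by
      have h9 := h3 hm3
      have hd : 3 ∣ Nat.card G := by rw [hG, hm3]; exact Dvd.dvd.mul_right (dvd_mul_left 3 q) _
      have h1 := (Nat.prime_three.pow_dvd_iff_le_factorization (k := 2) Nat.card_pos.ne').not.1 h9
      have h2 := Nat.prime_three.factorization_pos_of_dvd Nat.card_pos.ne' hd
      omega
    have hTc3 : Nat.card T = 3 ^ (Nat.card G).factorization 3 := by rw [hfac, hTc, hm3, pow_one]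
    let S : Sylow 3 G := Sylow.ofCard T hTc3
    have hS : (S : Subgroup G) = T := Sylow.coe_ofCard _ _
    have ht0fix : ∀ i : ZMod q, (t0 : G) • h i = h i → i = 0 := fun i e => by
      rw [hμ] at e
      have e1 : (μ t0 - 1) * i = 0 := by rw [sub_mul, one_mul, hhinj e, sub_self]
      refine (mul_eq_zero.1 e1).resolve_left fun e2 => ?_
      have e3 : t0 = 1 := hμinj (by rw [map_one]; exact sub_eq_zero.1 e2)
      rw [e3, orderOf_one] at ht0o
      omega
    have hNC : Subgroup.normalizer ((S : Subgroup G) : Set G) ≤ Subgroup.centralizer ((S : Subgroup G) : Set G) := by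
      rw [hS]
      intro y hy
      have hwc : w ∈ Subgroup.centralizer (T : Set G) := by
        rw [Subgroup.mem_centralizer_iff]
        intro t ht
        obtain ⟨i, -, hi⟩ := hTgen ⟨t, ht⟩
        have hi' : t = (t0 : G) ^ i := congrArg Subtype.val hi
        rw [hi', hwpow i, hk1, one_mul]
      have hTcen : ∀ z : G, z ∈ T → z ∈ Subgroup.centralizer (T : Set G) := fun z hz => by
        rw [Subgroup.mem_centralizer_iff]
        intro t ht
        obtain ⟨i, -, hi⟩ := hTgen ⟨t, ht⟩
        obtain ⟨j, -, hj⟩ := hTgen ⟨z, hz⟩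
        rw [show t = (t0 : G) ^ i from congrArg Subtype.val hi, show z = (t0 : G) ^ j from congrArg Subtype.val hj,
          ← pow_add, ← pow_add, add_comm]
      have hmove : ∀ Q, (∀ t ∈ T, t • Q = Q) → Q = P ∨ Q = Q0 := fun Q hQ => by
        by_cases hQP : Q = P
        · exact Or.inl hQP
        obtain ⟨i, rfl⟩ := hsurj Q hQP
        exact Or.inr (by rw [ht0fix i (hQ _ t0.2), hh0])
      have hfix : ∀ t ∈ T, t • (y • P) = y • P ∧ t • (y • Q0) = y • Q0 := fun t ht => by
        have h1 : y⁻¹ * t * y ∈ T := (Subgroup.mem_normalizer_iff''.1 hy t).1 ht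
        refine ⟨?_, ?_⟩
        · have := congrArg (y • ·) h1.1
          simpa [mul_smul] using this
        · have := congrArg (y • ·) h1.2
          simpa [mul_smul] using this
      rcases hmove _ (fun t ht => (hfix t ht).1) with hy1 | hy1
      · rcases hmove _ (fun t ht => (hfix t ht).2) with hy2 | hy2
        · exact absurd (MulAction.injective y (hy2.trans hy1.symm)) hQ0
        · exact hTcen y ⟨hy1, hy2⟩
      · rcases hmove _ (fun t ht => (hfix t ht).2) with hy2 | hy2
        · have hz : w⁻¹ * y ∈ T := ⟨by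
            show (w⁻¹ * y) • P = P
            rw [mul_smul, hy1, inv_smul_eq_iff, hwP], by
            show (w⁻¹ * y) • Q0 = Q0
            rw [mul_smul, hy2, inv_smul_eq_iff, hwQ]⟩
          have := Subgroup.mul_mem _ hwc (hTcen _ hz)
          rwa [mul_inv_cancel_left] at this
        · exact absurd (MulAction.injective y (hy2.trans hy1.symm)) hQ0
    have hc := MonoidHom.ker_transferSylow_isComplement' S hNC
    rcases (MonoidHom.normal_ker (MonoidHom.transferSylow S hNC)).eq_bot_or_eq_top with hb | hb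
    · have := hc.card_mul
      rw [hb, Subgroup.card_bot, one_mul, hS, hTc, hG, hm3] at this
      nlinarith
    · have := hc.card_mul
      rw [hb, Subgroup.card_top, hS, hTc, hm3] at this
      have := Nat.card_pos (α := G)
      omega
  obtain ⟨i, hi, rfl⟩ := zmod_eq_succ hc1
  obtain ⟨j, hj, rfl⟩ := zmod_eq_succ hc2
  rcases hrest i hi j hj with hbad | ⟨hstd, r, -, hr⟩
  · rw [htest] at hbad; exact absurd hbad (by simp)
  have hr0 : (r : ZMod q) ≠ 0 := fun e => hc1 (by rw [e, mul_zero] at hr; exact neg_eq_zero.1 hr.symm)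
  refine ⟨f, hfinj, hfaff, fun d => ⟨x ^ d.val, hx_f _ none, fun z => by
    rw [hx_f]; simp⟩, w, (r : ZMod q), hr0, by rw [hcand]; rfl, by rw [hcand]; simp [cand], fun z hz => ?_⟩
  rw [hcand]
  have hv : z.val ≠ 0 := fun e => hz ((ZMod.val_eq_zero z).1 e)
  have := (hstd z.val (ZMod.val_lt z)).resolve_left hv
  rw [ZMod.natCast_zmod_val] at this
  rw [this, hr, neg_neg]

/-- Recognition of the projective special linear group of prime degree. -/
theorem iso_PSL {G : Type*} [Group G] [Finite G] [IsSimpleGroup G] {g : ZMod q} {m : ℕ}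
    (D : Data q g m) (hn : Nat.card (Sylow q G) = q + 1) (hG : Nat.card G = q * m * (q + 1))
    (h3 : m = 3 → ¬ 9 ∣ Nat.card G) :
    Nonempty (G ≃* Matrix.ProjectiveSpecialLinearGroup (Fin 2) (ZMod q)) := by
  classical
  open CfsgLib.Perm.SharpThree in
  obtain ⟨f, hfinj, hfaff, hftr, w, r, hr, hw0, hw1, hw2⟩ := exists_frame D hn hG h3
  let Φ : Option (ZMod q) → ProjLine.Pt (ZMod q) := fun o => o.elim ProjLine.P0 SharpThree.affPt
  have hΦ : Function.Bijective Φ := by
    refine (Nat.bijective_iff_injective_and_card Φ).2 ⟨?_, ?_⟩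
    · rintro (_ | u) (_ | v) e
      · rfl
      · exfalso
        obtain ⟨c, hc⟩ := (Projectivization.mk_eq_mk_iff' (ZMod q) _ _ _ _).1 e
        have h1 := congrFun hc 1
        have h0 := congrFun hc 0
        simp at h1 h0
        simp [h1] at h0
      · exfalso
        obtain ⟨c, hc⟩ := (Projectivization.mk_eq_mk_iff' (ZMod q) _ _ _ _).1 e
        simpa using congrFun hc 1
      · obtain ⟨c, hc⟩ := (Projectivization.mk_eq_mk_iff' (ZMod q) _ _ _ _).1 e
        have h1 := congrFun hc 1
        have h0 := congrFun hc 0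
        simp at h1 h0
        rw [h1, one_mul] at h0
        exact congrArg some h0.symm
    · rw [Projectivization.card_of_finrank_two (ZMod q) (Fin 2 → ZMod q) (by simp), Nat.card_eq_fintype_card,
        Nat.card_eq_fintype_card, Fintype.card_option]
  let eΦ := Equiv.ofBijective Φ hΦ
  let ψ : Matrix.ProjectiveSpecialLinearGroup (Fin 2) (ZMod q) →* Equiv.Perm (Option (ZMod q)) :=
    eΦ.symm.permCongrHom.toMonoidHom.comp (MulAction.toPermHom _ (ProjLine.Pt (ZMod q)))
  have hψinj : Function.Injective ψ := eΦ.symm.permCongrHom.injective.comp ProjLine.perm_hom_injective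
  have key : ∀ (σ : Equiv.Perm (Option (ZMod q))) (M : Matrix.SpecialLinearGroup (Fin 2) (ZMod q)),
      (∀ o, (Matrix.SpecialLinearGroup.toGL M) • Φ o = Φ (σ o)) → σ ∈ ψ.range := by
    intro σ M hM
    refine ⟨(QuotientGroup.mk M : Matrix.ProjectiveSpecialLinearGroup (Fin 2) (ZMod q)), Equiv.ext fun o => ?_⟩
    show eΦ.symm ((QuotientGroup.mk M : Matrix.ProjectiveSpecialLinearGroup (Fin 2) (ZMod q)) • Φ o) = σ o
    rw [Equiv.symm_apply_eq]
    exact hM o
  have hg0 : g ≠ 0 := fun e => by
    have := D.pow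
    rw [e, mul_zero, zero_pow (by have := D.hm; have := hq.out.two_le; omega)] at this
    exact zero_ne_one this
  have mkM : ∀ a b c d : ZMod q, a * d - b * c = 1 → ∃ M : Matrix.SpecialLinearGroup (Fin 2) (ZMod q),
      ((Matrix.SpecialLinearGroup.toGL M : GL (Fin 2) (ZMod q)) : Matrix (Fin 2) (Fin 2) (ZMod q)) = !![a, b; c, d] :=
    fun a b c d h => ⟨⟨!![a, b; c, d], by rw [Matrix.det_fin_two_of]; exact h⟩, rfl⟩
  have haffmem : ∀ y : G, f y none = none → f y ∈ ψ.range := by
    intro y hy
    obtain ⟨i, d, hyd⟩ := hfaff y hy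
    have hgi : g ^ i ≠ 0 := pow_ne_zero _ hg0
    obtain ⟨M, hM⟩ := mkM (g ^ i) (d * (g ^ i)⁻¹) 0 (g ^ i)⁻¹ (by simp [hgi])
    refine key _ M ?_
    rintro (_ | z)
    · rw [hy]
      exact SharpThree.smul_P0 (by simp [hM])
    · rw [hyd]
      refine SharpThree.affPt_smul (c := (g ^ i)⁻¹) ?_ (by simp [hM])
      simp [hM]
      field_simp
      ring
  have hwmem : f w ∈ ψ.range := by
    obtain ⟨M, hM⟩ := mkM 0 (-r) r⁻¹ 0 (by simp [hr])
    refine key _ M ?_
    rintro (_ | z)
    · rw [hw0]
      show _ = SharpThree.affPt 0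
      simp only [Φ, Option.elim_none, ProjLine.P0, SharpThree.affPt]
      rw [Projectivization.smul_mk, Projectivization.mk_eq_mk_iff']
      exact ⟨r⁻¹, funext fun i => by fin_cases i <;> simp [Matrix.mulVec, dotProduct, Fin.sum_univ_two, Units.smul_def, hM, hr]⟩
    · by_cases hz : z = 0
      · subst hz
        rw [hw1]
        show _ = ProjLine.P0
        simp only [Φ, Option.elim_some, ProjLine.P0, SharpThree.affPt]
        rw [Projectivization.smul_mk, Projectivization.mk_eq_mk_iff']
        exact ⟨-r, funext fun i => by fin_cases i <;> simp [Matrix.mulVec, dotProduct, Fin.sum_univ_two, Units.smul_def, hM, hr]⟩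
      · rw [hw2 z hz]
        refine SharpThree.affPt_smul (c := r⁻¹ * z) ?_ (by simp [hM])
        simp [hM]
        field_simp
  have hle : ∀ y : G, f y ∈ ψ.range := by
    intro y
    rcases hy : f y none with _ | d
    · exact haffmem y hy
    obtain ⟨k, hk0, hk⟩ := hftr d
    have hfix : f (w⁻¹ * k⁻¹ * y) none = none := by
      rw [map_mul, map_mul, Equiv.Perm.mul_apply, Equiv.Perm.mul_apply, hy, map_inv, map_inv]
      rw [show (f k)⁻¹ (some d) = some 0 from by rw [Equiv.Perm.inv_eq_iff_eq, hk, zero_add],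
        Equiv.Perm.inv_eq_iff_eq, hw0]
    have := mul_mem (mul_mem (haffmem k hk0) hwmem) (haffmem _ hfix)
    rwa [← map_mul, ← map_mul, show k * w * (w⁻¹ * k⁻¹ * y) = y by group] at this
  have hcard : Nat.card (Matrix.ProjectiveSpecialLinearGroup (Fin 2) (ZMod q)) = Nat.card G := by
    have h1 := ProjLine.card_PSL_two (F := ZMod q) (ZMod.card q)
    have hm := D.hm
    have h2 : Nat.gcd 2 (q - 1) = 2 := Nat.gcd_eq_left ⟨m, by omega⟩
    rw [h2] at h1
    rw [hG]
    refine Nat.eq_of_mul_eq_mul_left two_pos (h1.trans ?_)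
    subst hm
    have : (2 * m + 1) ^ 2 - 1 = 2 * m * (2 * m + 1 + 1) := by
      rw [Nat.sub_eq_iff_eq_add (Nat.one_le_pow _ _ (by omega))]; ring
    rw [this]; ring
  have hrange : f.range = ψ.range := Subgroup.eq_of_le_of_card_ge (by rintro _ ⟨y, rfl⟩; exact hle y) (by
    rw [← Nat.card_congr (MonoidHom.ofInjective hψinj).toEquiv, hcard, Nat.card_congr (MonoidHom.ofInjective hfinj).toEquiv])
  exact ⟨(MonoidHom.ofInjective hfinj).trans ((MulEquiv.subgroupCongr hrange).trans (MonoidHom.ofInjective hψinj).symm)⟩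

end CfsgLib.Perm.PrimePSL
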