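import Mathlib.NumberTheory.Bertrand

set_option autoImplicit false

/-!
Three primes between `n` and `2 n` for large `n`, after Erdős's proof of Bertrand's postulate.
-/

namespace CfsgLib.Perm.PrimePairs

open Finset

theorem centralBinom_le_of_few_primes (n : ℕ) (hn : 2 < n)
    (hfew : ((Finset.Ioc n (2 * n)).filter Nat.Prime).card ≤ 2) :
    Nat.centralBinom n ≤ (2 * n) ^ (Nat.sqrt (2 * n) + 2) * 4 ^ (2 * n / 3) := by
  classical
  set f : ℕ → ℕ := fun x => x ^ (Nat.centralBinom n).factorization x with hf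
  set B := (Finset.range (2 * n + 1)).filter fun p => 2 * n / 3 < p
  have hsplit : (∏ x ∈ (Finset.range (2 * n + 1)).filter (fun p => ¬ 2 * n / 3 < p), f x) *
      ∏ x ∈ B, f x = Nat.centralBinom n := by
    rw [mul_comm, Finset.prod_filter_mul_prod_filter_not]
    exact n.prod_pow_factorization_centralBinom
  have hle : ∀ p, f p ≤ 2 * n := fun p => Nat.pow_factorization_choose_le (by omega)
  have hB : ∏ x ∈ B, f x ≤ (2 * n) ^ 2 := by
    rw [← Finset.prod_filter_of_ne (p := fun x => n < x ∧ x.Prime) (s := B) (fun x hx h => ?_)]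
    · refine (Finset.prod_le_pow_card _ _ _ fun x _ => hle x).trans ?_
      refine Nat.pow_le_pow_right (by omega) (le_trans (Finset.card_le_card fun x hx => ?_) hfew)
      simp only [B, Finset.mem_filter, Finset.mem_range] at hx
      simp only [Finset.mem_filter, Finset.mem_Ioc]
      exact ⟨⟨hx.2.1, by omega⟩, hx.2.2⟩
    · simp only [B, Finset.mem_filter, Finset.mem_range] at hx
      by_contra hc
      apply h
      rcases not_and_or.1 hc with hc' | hc'
      · simp only [hf]
        rw [Nat.factorization_centralBinom_of_two_mul_self_lt_three_mul hn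
          (not_lt.1 hc') (by omega), pow_zero]
      · simp only [hf]
        rw [Nat.factorization_eq_zero_of_not_prime _ hc', pow_zero]
  have hS : ∏ x ∈ (Finset.range (2 * n + 1)).filter (fun p => ¬ 2 * n / 3 < p), f x ≤
      (2 * n) ^ Nat.sqrt (2 * n) * 4 ^ (2 * n / 3) := by
    let S := (Finset.range (2 * n / 3 + 1)).filter Nat.Prime
    have : ∏ x ∈ (Finset.range (2 * n + 1)).filter (fun p => ¬ 2 * n / 3 < p), f x =
        ∏ x ∈ S, f x := by
      refine (Finset.prod_subset (fun x hx => ?_) fun x hx hxS => ?_).symm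
      · simp only [S, Finset.mem_filter, Finset.mem_range] at hx ⊢
        omega
      · simp only [S, Finset.mem_filter, Finset.mem_range, not_and] at hx hxS
        simp only [hf]
        rw [Nat.factorization_eq_zero_of_not_prime _ (hxS (by omega)), pow_zero]
    rw [this, ← Finset.prod_filter_mul_prod_filter_not S (· ≤ Nat.sqrt (2 * n))]
    apply mul_le_mul'
    · refine (Finset.prod_le_pow_card _ _ _ fun x _ => hle x).trans ?_
      refine Nat.pow_le_pow_right (by omega) ?_
      refine le_trans (Finset.card_le_card fun x hx => ?_)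
        (le_of_eq (show (Finset.Icc 1 (Nat.sqrt (2 * n))).card = Nat.sqrt (2 * n) by simp))
      obtain ⟨h1, h2⟩ := Finset.mem_filter.1 hx
      exact Finset.mem_Icc.2 ⟨(Finset.mem_filter.1 h1).2.one_lt.le, h2⟩
    · refine le_trans ?_ (primorial_le_four_pow (2 * n / 3))
      refine (Finset.prod_le_prod' fun p hp => (?_ : f p ≤ p)).trans ?_
      · obtain ⟨h1, h2⟩ := Finset.mem_filter.1 hp
        refine (Nat.pow_le_pow_right (Finset.mem_filter.1 h1).2.pos ?_).trans (pow_one p).le
        exact Nat.factorization_choose_le_one (Nat.sqrt_lt'.mp <| not_le.1 h2)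
      refine Finset.prod_le_prod_of_subset_of_one_le' (Finset.filter_subset _ _) ?_
      exact fun p hp _ => (Finset.mem_filter.1 hp).2.one_lt.le
  rw [← hsplit, pow_add, mul_right_comm]
  exact Nat.mul_le_mul hS hB

theorem nine_mul_le_two_pow : ∀ L : ℕ, 6 ≤ L → 9 * (L + 1) ≤ 2 ^ L := by
  intro L hL
  induction L, hL using Nat.le_induction with
  | base => norm_num
  | succ k hk ih => rw [pow_succ]; omega

theorem three_primes (n : ℕ) (hn : 2048 ≤ n) :
    2 < ((Finset.Ioc n (2 * n)).filter Nat.Prime).card := by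
  by_contra hfew
  have h1 := centralBinom_le_of_few_primes n (by omega) (not_lt.1 hfew)
  have h2 := Nat.four_pow_lt_mul_centralBinom n (by omega)
  set s := Nat.sqrt (2 * n) with hs
  have hs1 : s * s ≤ 2 * n := Nat.sqrt_le _
  have hs2 : 2 * n < (s + 1) * (s + 1) := Nat.lt_succ_sqrt _
  have hs64 : 64 ≤ s := Nat.le_sqrt.2 (by omega)
  set L := Nat.log 2 (s + 1) with hLdef
  have hL1 : 2 ^ L ≤ s + 1 := Nat.pow_log_le_self 2 (by omega)
  have hL2 : s + 1 < 2 ^ (L + 1) := Nat.lt_pow_succ_log_self one_lt_two _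
  have hL6 : 6 ≤ L := Nat.le_log_of_pow_le one_lt_two (by norm_num; omega)
  have hL : 9 * (L + 1) ≤ s + 1 := (nine_mul_le_two_pow L hL6).trans hL1
  have hkey : 3 * (L + 1) * (s + 3) ≤ n := by nlinarith
  have h3 : 2 * n ≤ 4 ^ (L + 1) := by
    rw [show (4 : ℕ) = 2 * 2 from rfl, mul_pow]
    exact hs2.le.trans (Nat.mul_le_mul hL2.le hL2.le)
  have h4 : n * Nat.centralBinom n ≤ (2 * n) ^ (s + 3) * 4 ^ (2 * n / 3) := by
    calc n * Nat.centralBinom n ≤ (2 * n) * ((2 * n) ^ (s + 2) * 4 ^ (2 * n / 3)) :=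
          Nat.mul_le_mul (by omega) h1
      _ = (2 * n) ^ (s + 3) * 4 ^ (2 * n / 3) := by rw [← mul_assoc, ← pow_succ']
  have h5 : (2 * n) ^ (s + 3) * 4 ^ (2 * n / 3) ≤ 4 ^ n := by
    refine (Nat.mul_le_mul_right _ (Nat.pow_le_pow_left h3 _)).trans ?_
    rw [← pow_mul, ← pow_add]
    refine Nat.pow_le_pow_right (by norm_num) ?_
    have h6 : 2 * n / 3 * 3 ≤ 2 * n := Nat.div_mul_le_self _ _
    nlinarith
  omega

/-- For `m ≥ 17` there are primes `p + 3 ≤ q` with `m < 2 p` and `q ≤ m`. -/
theorem exists_pair (m : ℕ) (hm : 17 ≤ m) :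
    ∃ p q : ℕ, p.Prime ∧ q.Prime ∧ m < 2 * p ∧ p + 3 ≤ q ∧ q ≤ m := by
  by_cases hbig : 4096 ≤ m
  · obtain ⟨a, ha, b, hb, c, hc, hab, hac, hbc⟩ :=
      Finset.two_lt_card.1 (three_primes (m / 2) (by omega))
    simp only [Finset.mem_filter, Finset.mem_Ioc] at ha hb hc
    have hodd : ∀ x : ℕ, x.Prime → m / 2 < x → x % 2 = 1 := fun x hx h =>
      (Nat.Prime.eq_two_or_odd hx).resolve_left (by omega)
    have oa := hodd a ha.2 ha.1.1
    have ob := hodd b hb.2 hb.1.1
    have oc := hodd c hc.2 hc.1.1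
    refine ⟨min a (min b c), max a (max b c), ?_, ?_, by omega, by omega, by omega⟩
    · rcases min_choice a (min b c) with h | h <;> rw [h]
      · exact ha.2
      · rcases min_choice b c with h' | h' <;> rw [h']
        exacts [hb.2, hc.2]
    · rcases max_choice a (max b c) with h | h <;> rw [h]
      · exact ha.2
      · rcases max_choice b c with h' | h' <;> rw [h']
        exacts [hb.2, hc.2]
  rcases (show m < 26 ∨ (26 ≤ m ∧ m < 38) ∨ (38 ≤ m ∧ m < 62) ∨ (62 ≤ m ∧ m < 106) ∨
      (106 ≤ m ∧ m < 194) ∨ (194 ≤ m ∧ m < 362) ∨ (362 ≤ m ∧ m < 706) ∨ (706 ≤ m ∧ m < 1382) ∨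
      (1382 ≤ m ∧ m < 2746) ∨ 2746 ≤ m by omega) with h | h | h | h | h | h | h | h | h | h
  · exact ⟨13, 17, by norm_num, by norm_num, by omega, by omega, by omega⟩
  · exact ⟨19, 23, by norm_num, by norm_num, by omega, by omega, by omega⟩
  · exact ⟨31, 37, by norm_num, by norm_num, by omega, by omega, by omega⟩
  · exact ⟨53, 59, by norm_num, by norm_num, by omega, by omega, by omega⟩
  · exact ⟨97, 101, by norm_num, by norm_num, by omega, by omega, by omega⟩
  · exact ⟨181, 191, by norm_num, by norm_num, by omega, by omega, by omega⟩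
  · exact ⟨353, 359, by norm_num, by norm_num, by omega, by omega, by omega⟩
  · exact ⟨691, 701, by norm_num, by norm_num, by omega, by omega, by omega⟩
  · exact ⟨1373, 1381, by norm_num, by norm_num, by omega, by omega, by omega⟩
  · exact ⟨2731, 2741, by norm_num, by norm_num, by omega, by omega, by omega⟩

end CfsgLib.Perm.PrimePairs
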