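import Mathlib
import Cfsg.Prelude.Def_HallClasses

/-!
Pronormality of subgroups containing a Sylow subgroup in group extensions.
-/

set_option autoImplicit false
set_option linter.style.haveILetI false

namespace CfsgLib.Perm.PronormalSylow

variable {G : Type*} [Group G]

/-- `g H g⁻¹`. -/
abbrev cj (g : G) (H : Subgroup G) : Subgroup G := H.map (MulAut.conj g).toMonoidHom

theorem mem_cj {g x : G} {H : Subgroup G} : x ∈ cj g H ↔ g⁻¹ * x * g ∈ H := by
  constructor
  · rintro ⟨h, hh, rfl⟩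
    simpa [mul_assoc] using hh
  · exact fun h => ⟨_, h, by simp [mul_assoc]⟩

theorem cj_cj (a b : G) (H : Subgroup G) : cj a (cj b H) = cj (a * b) H := by
  ext x; simp only [mem_cj, mul_inv_rev, mul_assoc]

theorem cj_one (H : Subgroup G) : cj 1 H = H := by ext x; simp [mem_cj]

theorem cj_eq_self {g : G} {H : Subgroup G} (h : g ∈ Subgroup.normalizer (H : Set G)) : cj g H = H := by
  ext x
  rw [mem_cj, ← Subgroup.mem_normalizer_iff''.1 h x]

theorem mem_normalizer_of_cj {g : G} {H : Subgroup G} (h : cj g H = H) :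
    g ∈ Subgroup.normalizer (H : Set G) := by
  refine Subgroup.mem_normalizer_iff''.2 fun x => ?_
  conv_lhs => rw [← h, mem_cj]

theorem cj_le {g : G} {H K : Subgroup G} (hg : g ∈ K) (h : H ≤ K) : cj g H ≤ K := by
  intro x hx
  have h1 := h (mem_cj.1 hx)
  simpa [mul_assoc] using K.mul_mem (K.mul_mem hg h1) (K.inv_mem hg)

theorem cj_sup (g : G) (H K : Subgroup G) : cj g (H ⊔ K) = cj g H ⊔ cj g K := Subgroup.map_sup _ _ _

theorem card_cj (g : G) (H : Subgroup G) : Nat.card (cj g H) = Nat.card H :=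
  (Nat.card_congr (H.equivMapOfInjective _ (MulAut.conj g).injective).toEquiv).symm

/-- `IsPronormal` in terms of `cj`. -/
theorem pronormal_iff {H : Subgroup G} :
    Cfsg.IsPronormal H ↔ ∀ g : G, ∃ x ∈ H ⊔ cj g H, cj g H = cj x H := Iff.rfl

theorem pronormal_cj {H : Subgroup G} (h : Cfsg.IsPronormal H) (a : G) : Cfsg.IsPronormal (cj a H) := by
  rw [pronormal_iff] at h ⊢
  intro g
  obtain ⟨x, hx, hxe⟩ := h (a⁻¹ * g * a)
  refine ⟨a * x * a⁻¹, ?_, ?_⟩
  · have h1 : cj a (H ⊔ cj (a⁻¹ * g * a) H) = cj a H ⊔ cj g (cj a H) := by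
      rw [cj_sup, cj_cj, cj_cj]; congr 2; group
    rw [← h1, mem_cj]
    simpa [mul_assoc] using hx
  · rw [cj_cj, cj_cj, show a * x * a⁻¹ * a = a * x by group, ← cj_cj a x H, ← hxe, cj_cj]
    congr 1; group

variable [Finite G] {p : ℕ} [hp : Fact p.Prime]

/-- Two conjugate Sylow subgroups of `A` lying in `Y ≤ A` are conjugate in `Y`. -/
theorem conj_in {A Y T T' : Subgroup G} (hYA : Y ≤ A) (hT : IsPGroup p T)
    (hTi : ¬ p ∣ T.relIndex A) (hTY : T ≤ Y) (hT'Y : T' ≤ Y) (hcard : Nat.card T' = Nat.card T) :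
    ∃ y ∈ Y, cj y T = T' := by
  have hTp : ¬ p ∣ T.relIndex Y := fun h => hTi
    ((h.trans (dvd_mul_right _ (Y.relIndex A))).trans (dvd_of_eq (Subgroup.relIndex_mul_relIndex T Y A hTY hYA)))
  have hT' : IsPGroup p T' := by
    obtain ⟨n, hn⟩ := IsPGroup.iff_card.1 hT
    exact IsPGroup.of_card (hcard.trans hn)
  have h1 : ¬ p ∣ (T.subgroupOf Y).index := hTp
  have h2 : ¬ p ∣ (T'.subgroupOf Y).index := by
    intro h
    refine hTp ?_
    have e1 := (T.subgroupOf Y).card_mul_index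
    have e2 := (T'.subgroupOf Y).card_mul_index
    rw [Nat.card_congr (Subgroup.subgroupOfEquivOfLe hTY).toEquiv] at e1
    rw [Nat.card_congr (Subgroup.subgroupOfEquivOfLe hT'Y).toEquiv, hcard, ← e1] at e2
    show p ∣ (T.subgroupOf Y).index
    rwa [← Nat.eq_of_mul_eq_mul_left Nat.card_pos e2]
  let P := (hT.comap_subtype (K := Y)).toSylow h1
  let P' := (hT'.comap_subtype (K := Y)).toSylow h2
  obtain ⟨y, hy⟩ := MulAction.exists_smul_eq Y P P'
  refine ⟨y, y.2, Subgroup.eq_of_le_of_card_ge ?_ (by rw [card_cj, hcard])⟩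
  intro x hx
  have hxY : (y : G)⁻¹ * x * y ∈ T := mem_cj.1 hx
  have h3 : y * ⟨(y : G)⁻¹ * x * y, hTY hxY⟩ * y⁻¹ ∈ ((y • P : Sylow p Y) : Subgroup Y) := by
    refine Subgroup.smul_mem_pointwise_smul (⟨(y : G)⁻¹ * x * y, hTY hxY⟩ : Y) (MulAut.conj y) (P : Subgroup Y) ?_
    exact hxY
  rw [hy] at h3
  have h4 : ((y * ⟨(y : G)⁻¹ * x * y, hTY hxY⟩ * y⁻¹ : Y) : G) ∈ T' := h3
  simpa [mul_assoc] using h4

/-- The backward implication: lifting pronormality through the extension. -/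
theorem pronormal_of {A : Subgroup G} [A.Normal]
    (hA : ∀ K : Subgroup A, (∃ P : Sylow p A, (P : Subgroup A) ≤ K) → Cfsg.IsPronormal K)
    {T : Subgroup G} (hTA : T ≤ A) (hT : IsPGroup p T) (hTi : ¬ p ∣ T.relIndex A)
    [(T.subgroupOf (Subgroup.normalizer (T : Set G))).Normal]
    (hN : ∀ K : Subgroup (↥(Subgroup.normalizer (T : Set G)) ⧸ T.subgroupOf (Subgroup.normalizer (T : Set G))),
      (∃ P : Sylow p (↥(Subgroup.normalizer (T : Set G)) ⧸ T.subgroupOf (Subgroup.normalizer (T : Set G))),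
        (P : Subgroup (↥(Subgroup.normalizer (T : Set G)) ⧸ T.subgroupOf (Subgroup.normalizer (T : Set G)))) ≤ K) →
      Cfsg.IsPronormal K)
    {K : Subgroup G} (hK : ∃ P : Sylow p G, (P : Subgroup G) ≤ K) (hTK : T ≤ K)
    (hlift : ∀ g ∈ Subgroup.normalizer (T : Set G),
      cj g (K ⊓ Subgroup.normalizer (T : Set G)) = K ⊓ Subgroup.normalizer (T : Set G) →
      ∃ a ∈ A, cj g K = cj a K) : Cfsg.IsPronormal K := by
  classical
  set N := Subgroup.normalizer (T : Set G) with hNdef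
  set L := K ⊓ A with hLdef
  set K' := K ⊓ N with hK'def
  have hTN : T ≤ N := Subgroup.le_normalizer
  have hTL : T ≤ L := le_inf hTK hTA
  have hTK' : T ≤ K' := le_inf hTK hTN
  have hKL : ∀ k ∈ K, cj k L ≤ L := by
    intro k hk x hx
    have h1 := mem_cj.1 hx
    refine ⟨cj_le hk le_rfl ⟨_, h1.1, by simp [mul_assoc]⟩, ?_⟩
    simpa [mul_assoc] using ‹A.Normal›.conj_mem _ h1.2 k
  -- `K = L K'`
  have hfac : K ≤ L ⊔ K' := by
    intro k hk
    obtain ⟨l, hl, hle⟩ := conj_in (T' := cj k T) inf_le_right hT hTi hTL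
      ((Subgroup.map_mono hTL).trans (hKL k hk)) (card_cj k T)
    have h1 : l⁻¹ * k ∈ K' := ⟨K.mul_mem (K.inv_mem hl.1) hk,
      mem_normalizer_of_cj (by rw [← cj_cj, ← hle, cj_cj, inv_mul_cancel, cj_one])⟩
    rw [show k = l * (l⁻¹ * k) by group]
    exact Subgroup.mul_mem_sup hl h1
  have hKeq : L ⊔ K' = K := le_antisymm (sup_le inf_le_left inf_le_left) hfac
  -- a Sylow subgroup of `G` inside `K'`
  obtain ⟨P, hPK'⟩ : ∃ P : Sylow p G, (P : Subgroup G) ≤ K' := by
    obtain ⟨P0, hP0⟩ := hK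
    obtain ⟨S, hS⟩ := (hT.comap_subtype (K := K)).exists_le_sylow
    obtain ⟨k, hk⟩ := MulAction.exists_smul_eq K (P0.subtype hP0) S
    refine ⟨(k : G) • P0, ?_⟩
    have hPK : (((k : G) • P0 : Sylow p G) : Subgroup G) ≤ K := by
      rw [Sylow.coe_subgroup_smul]; exact cj_le k.2 hP0
    have hTP : T ≤ (((k : G) • P0 : Sylow p G) : Subgroup G) := by
      intro t ht
      have h1 : (⟨t, hTK ht⟩ : K) ∈ ((k • P0.subtype hP0 : Sylow p K) : Subgroup K) := hk ▸ hS ht
      rw [Sylow.coe_subgroup_smul, Subgroup.mem_pointwise_smul_iff_inv_smul_mem] at h1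
      rw [Sylow.coe_subgroup_smul, Subgroup.mem_pointwise_smul_iff_inv_smul_mem]
      simpa [MulAut.smul_def, Sylow.coe_subtype, Subgroup.mem_subgroupOf] using h1
    set P := (k : G) • P0
    have hPA : (P : Subgroup G) ⊓ A = T := by
      refine (Subgroup.eq_of_le_of_card_ge (le_inf hTP hTA) ?_).symm
      refine Nat.le_of_dvd Nat.card_pos ?_
      obtain ⟨n, hn⟩ := IsPGroup.iff_card.1 (P.isPGroup'.to_le (inf_le_left : (P : Subgroup G) ⊓ A ≤ P))
      have h1 := Subgroup.card_dvd_of_le (inf_le_right : (P : Subgroup G) ⊓ A ≤ A)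
      have h2 : Nat.card T * T.relIndex A = Nat.card A := by
        rw [← Subgroup.relIndex_bot_left, ← Subgroup.relIndex_bot_left]
        exact Subgroup.relIndex_mul_relIndex _ _ _ bot_le hTA
      rw [hn] at h1 ⊢
      rw [← h2] at h1
      exact ((hp.out.coprime_iff_not_dvd.2 hTi).pow_left n).dvd_of_dvd_mul_right h1
    refine le_inf hPK fun x hx => mem_normalizer_of_cj ?_
    refine Subgroup.eq_of_le_of_card_ge ?_ (card_cj x T).ge
    rintro y hy
    rw [← hPA] at hy ⊢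
    exact ⟨cj_le hx le_rfl ⟨_, (mem_cj.1 hy).1, by simp [mul_assoc]⟩, by
      simpa [mul_assoc] using ‹A.Normal›.conj_mem _ (mem_cj.1 hy).2 x⟩
  -- pronormality of `K'` in `N`
  have hK'N : ∀ g ∈ N, ∃ y ∈ K' ⊔ cj g K', cj g K' = cj y K' := by
    intro g hg
    let π := QuotientGroup.mk' (T.subgroupOf N)
    have hπ : Function.Surjective π := QuotientGroup.mk'_surjective _
    obtain ⟨y0, hy0, hy0e⟩ := (pronormal_iff.1 (hN ((K'.subgroupOf N).map π)
      ⟨(P.subtype (hPK'.trans inf_le_right)).mapSurjective hπ, Subgroup.map_mono fun x hx => hPK' hx⟩))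
      (π ⟨g, hg⟩)
    have hmap : ∀ z : N, cj (π z) ((K'.subgroupOf N).map π) = (cj z (K'.subgroupOf N)).map π := by
      intro z
      simp only [cj]
      rw [Subgroup.map_map, Subgroup.map_map]
      congr 1
    rw [hmap, ← Subgroup.map_sup] at hy0
    obtain ⟨y, hy, rfl⟩ := hy0
    rw [hmap, hmap] at hy0e
    have hcomap := congrArg (Subgroup.comap π) hy0e
    have hge : ∀ z : N, π.ker ≤ cj z (K'.subgroupOf N) := by
      intro z w hw
      rw [QuotientGroup.ker_mk'] at hw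
      rw [mem_cj]
      exact hTK' ((Subgroup.mem_normalizer_iff''.1 z.2 w).1 hw)
    rw [Subgroup.comap_map_eq, Subgroup.comap_map_eq, sup_eq_left.2 (hge _), sup_eq_left.2 (hge _)] at hcomap
    have hval : ∀ z : N, (cj z (K'.subgroupOf N)).map N.subtype = cj (z : G) K' := by
      intro z
      have e : ((K'.subgroupOf N)).map N.subtype = K' := by
        rw [Subgroup.subgroupOf_map_subtype, inf_eq_left.2 inf_le_right]
      conv_rhs => rw [← e]
      rw [Subgroup.map_map, cj, Subgroup.map_map]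
      congr 1
    refine ⟨(y : G), ?_, by rw [← hval ⟨g, hg⟩, hcomap, hval]⟩
    have h1 : N.subtype y ∈ ((K'.subgroupOf N) ⊔ cj ⟨g, hg⟩ (K'.subgroupOf N)).map N.subtype := ⟨y, hy, rfl⟩
    rw [Subgroup.map_sup, hval, Subgroup.subgroupOf_map_subtype, inf_eq_left.2 inf_le_right] at h1
    exact h1
  rw [pronormal_iff]
  intro g
  set X := K ⊔ cj g K
  -- it suffices to reach `cj g K` from `K` inside `X`
  have hconjX : ∀ {x : G}, x ∈ X → ∀ {H : Subgroup G}, H ≤ X → cj x H ≤ X := by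
    intro x hx H hH
    exact cj_le hx hH
  obtain ⟨x, hx, hxT⟩ := conj_in (A := A) (Y := X ⊓ A) (T' := cj g T) inf_le_right hT hTi
    (le_inf (hTK.trans le_sup_left) hTA)
    (le_inf ((Subgroup.map_mono hTK).trans le_sup_right) (fun y hy => by
      simpa [mul_assoc] using ‹A.Normal›.conj_mem _ (hTA (mem_cj.1 hy)) g)) (card_cj g T)
  set g1 := x⁻¹ * g
  have hg1 : g1 ∈ N := mem_normalizer_of_cj (by rw [← cj_cj, ← hxT, cj_cj, inv_mul_cancel, cj_one])
  have hX1 : cj g1 K ≤ X := by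
    rw [← cj_cj]; exact hconjX (X.inv_mem hx.1) le_sup_right
  obtain ⟨y, hy, hye⟩ := hK'N g1 hg1
  have hyX : y ∈ X :=
    (sup_le (inf_le_left.trans le_sup_left) ((Subgroup.map_mono inf_le_left).trans hX1)) hy
  have hyN : y ∈ N := (sup_le inf_le_right (cj_le hg1 inf_le_right)) hy
  set g2 := y⁻¹ * g1
  have hg2 : g2 ∈ N := N.mul_mem (N.inv_mem hyN) hg1
  obtain ⟨a, ha, hga⟩ := hlift g2 hg2 (by rw [← cj_cj, hye, cj_cj, inv_mul_cancel, cj_one])
  have hXa : cj a K ≤ X := by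
    rw [← hga, ← cj_cj]; exact hconjX (X.inv_mem hyX) hX1
  -- inside `A`
  obtain ⟨z, hz, hze⟩ : ∃ z ∈ L ⊔ cj a L, cj a L = cj z L := by
    let L0 : Subgroup A := L.subgroupOf A
    obtain ⟨S, hS⟩ : ∃ S : Sylow p A, (S : Subgroup A) ≤ L0 :=
      ⟨(hT.comap_subtype (K := A)).toSylow hTi, fun w hw => hTL hw⟩
    obtain ⟨z, hz, hze⟩ := pronormal_iff.1 (hA L0 ⟨S, hS⟩) ⟨a, ha⟩
    have hval : ∀ w : A, (cj w L0).map A.subtype = cj (w : G) L := by
      intro w
      have e : L0.map A.subtype = L := by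
        rw [Subgroup.subgroupOf_map_subtype, inf_eq_left.2 inf_le_right]
      conv_rhs => rw [← e]
      rw [Subgroup.map_map, cj, Subgroup.map_map]
      congr 1
    refine ⟨(z : G), ?_, by rw [← hval ⟨a, ha⟩, hze, hval]⟩
    have h1 : A.subtype z ∈ (L0 ⊔ cj ⟨a, ha⟩ L0).map A.subtype := ⟨z, hz, rfl⟩
    rw [Subgroup.map_sup, hval, Subgroup.subgroupOf_map_subtype, inf_eq_left.2 inf_le_right] at h1
    exact h1
  have hzX : z ∈ X :=
    (sup_le (inf_le_left.trans le_sup_left) ((Subgroup.map_mono inf_le_left).trans hXa)) hz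
  set b := z⁻¹ * a
  have hbL : cj b L = L := by rw [← cj_cj, hze, cj_cj, inv_mul_cancel, cj_one]
  obtain ⟨l, hl, hle⟩ := conj_in (T' := cj b T) inf_le_right hT hTi hTL
    ((Subgroup.map_mono hTL).trans hbL.le) (card_cj b T)
  set c := l⁻¹ * b
  have hcN : c ∈ N := mem_normalizer_of_cj (by rw [← cj_cj, ← hle, cj_cj, inv_mul_cancel, cj_one])
  have hcL : cj c L = L := by
    rw [← cj_cj, hbL]; exact cj_eq_self (Subgroup.le_normalizer (L.inv_mem hl))
  have hXc : cj c K ≤ X := by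
    have h1 : cj b K ≤ X := by rw [← cj_cj]; exact hconjX (X.inv_mem hzX) hXa
    rw [← cj_cj]; exact hconjX (X.inv_mem (Subgroup.mem_sup_left (hl.1 : l ∈ K))) h1
  obtain ⟨w, hw, hwe⟩ := hK'N c hcN
  have hwX : w ∈ X :=
    (sup_le (inf_le_left.trans le_sup_left) ((Subgroup.map_mono inf_le_left).trans hXc)) hw
  have hwL : cj w L = L := by
    refine cj_eq_self ((sup_le (fun k hk => ?_) (fun k hk => ?_) : K' ⊔ cj c K' ≤ Subgroup.normalizer (L : Set G)) hw)
    · exact mem_normalizer_of_cj (Subgroup.eq_of_le_of_card_ge (hKL k hk.1) (card_cj k L).ge)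
    · refine mem_normalizer_of_cj ?_
      have h1 : cj (c⁻¹ * k * c) L = L :=
        Subgroup.eq_of_le_of_card_ge (hKL _ (mem_cj.1 hk).1) (card_cj _ L).ge
      have h2 := congrArg (cj c) h1
      rw [cj_cj, hcL, show c * (c⁻¹ * k * c) = k * c by group, ← cj_cj, hcL] at h2
      exact h2
  have hfinal : cj (w⁻¹ * c) K = K := by
    conv_lhs => rw [← hKeq]
    rw [cj_sup, ← cj_cj w⁻¹ c L, hcL, ← cj_cj w⁻¹ c K', hwe, cj_cj, inv_mul_cancel, cj_one]
    rw [show cj w⁻¹ L = L from by conv_lhs => rw [← hwL, cj_cj, inv_mul_cancel, cj_one], hKeq]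
  -- assemble
  refine ⟨x * y * z * l * w, X.mul_mem (X.mul_mem (X.mul_mem (X.mul_mem hx.1 hyX) hzX) (Subgroup.mem_sup_left hl.1)) hwX, ?_⟩
  calc cj g K = cj (x * y) (cj g2 K) := by
        rw [cj_cj]; congr 1; simp only [g2, g1]; group
    _ = cj (x * y) (cj a K) := by rw [hga]
    _ = cj (x * y * z * l * w) (cj (w⁻¹ * c) K) := by
        rw [cj_cj, cj_cj]; congr 1; simp only [c, b]; group
    _ = _ := by rw [hfinal]

/-- Pronormal subgroups above a Sylow subgroup pass to `N(T)/T`. -/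
theorem pronormal_normalizer_quotient {T : Subgroup G} (hT : ∃ P : Sylow p G, T ≤ (P : Subgroup G) ∧
      (P : Subgroup G) ≤ Subgroup.normalizer (T : Set G))
    [(T.subgroupOf (Subgroup.normalizer (T : Set G))).Normal]
    (h : ∀ K : Subgroup G, (∃ P : Sylow p G, (P : Subgroup G) ≤ K) → Cfsg.IsPronormal K)
    (K : Subgroup (↥(Subgroup.normalizer (T : Set G)) ⧸ T.subgroupOf (Subgroup.normalizer (T : Set G))))
    (hK : ∃ P : Sylow p (↥(Subgroup.normalizer (T : Set G)) ⧸ T.subgroupOf (Subgroup.normalizer (T : Set G))),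
      (P : Subgroup (↥(Subgroup.normalizer (T : Set G)) ⧸ T.subgroupOf (Subgroup.normalizer (T : Set G)))) ≤ K) :
    Cfsg.IsPronormal K := by
  set N := Subgroup.normalizer (T : Set G)
  let π := QuotientGroup.mk' (T.subgroupOf N)
  have hπ : Function.Surjective π := QuotientGroup.mk'_surjective _
  obtain ⟨P, hTP, hPN⟩ := hT
  obtain ⟨Q, hQ⟩ := hK
  obtain ⟨q, hq⟩ := MulAction.exists_smul_eq (↥N ⧸ T.subgroupOf N) ((P.subtype hPN).mapSurjective hπ) Q
  obtain ⟨n, rfl⟩ := hπ q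
  let K1 : Subgroup G := (K.comap π).map N.subtype
  have hK1 : ((n : G) • P : Sylow p G).toSubgroup ≤ K1 := by
    rintro x ⟨u, hu, rfl⟩
    refine ⟨n * ⟨u, hPN hu⟩ * n⁻¹, hQ (hq ▸ ?_), by simp⟩
    rw [map_mul, map_mul, map_inv]
    exact Subgroup.smul_mem_pointwise_smul (π ⟨u, hPN hu⟩) (MulAut.conj (π n))
      (((P.subtype hPN).mapSurjective hπ : Sylow p _) : Subgroup _) (Subgroup.mem_map_of_mem π (hu : (⟨u, hPN hu⟩ : N) ∈ (P : Subgroup G).subgroupOf N))
  rw [pronormal_iff]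
  intro g
  obtain ⟨g, rfl⟩ := hπ g
  obtain ⟨x, hx, hxe⟩ := pronormal_iff.1 (h K1 ⟨_, hK1⟩) (g : G)
  have hval : cj (g : G) K1 = (cj g (K.comap π)).map N.subtype := by
    rw [Subgroup.map_map, cj, Subgroup.map_map]; congr 1
  rw [hval, ← Subgroup.map_sup] at hx
  obtain ⟨x, hx, rfl⟩ := hx
  have hmap : ∀ z : N, (cj z (K.comap π)).map π = cj (π z) K := fun z => by
    conv_rhs => rw [← Subgroup.map_comap_eq_self_of_surjective hπ K]
    rw [Subgroup.map_map, cj, Subgroup.map_map]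
    congr 1
  refine ⟨π x, ?_, ?_⟩
  · have h1 : π x ∈ (K.comap π ⊔ cj g (K.comap π)).map π := ⟨x, hx, rfl⟩
    rwa [Subgroup.map_sup, hmap, Subgroup.map_comap_eq_self_of_surjective hπ] at h1
  · have hvx : cj (x : G) K1 = (cj x (K.comap π)).map N.subtype := by
      rw [Subgroup.map_map, cj, Subgroup.map_map]; congr 1
    have h2 : cj g (K.comap π) = cj x (K.comap π) :=
      Subgroup.map_injective N.subtype_injective (hval.symm.trans (hxe.trans hvx))
    rw [← hmap, ← hmap, h2]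

/-- A normalising element of the image lifts to the normaliser of a pronormal subgroup. -/
theorem map_normalizer_eq {A : Subgroup G} [A.Normal] {K : Subgroup G} (hK : Cfsg.IsPronormal K) :
    (Subgroup.normalizer (K : Set G)).map (QuotientGroup.mk' A) =
      Subgroup.normalizer ((K.map (QuotientGroup.mk' A) : Subgroup (G ⧸ A)) : Set (G ⧸ A)) := by
  refine le_antisymm (Subgroup.le_normalizer_map _) fun q hq => ?_
  obtain ⟨g, rfl⟩ := QuotientGroup.mk'_surjective A q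
  obtain ⟨x, hx, hxe⟩ := pronormal_iff.1 hK g
  have hle : cj g K ≤ (K.map (QuotientGroup.mk' A)).comap (QuotientGroup.mk' A) := by
    intro y hy
    have h1 : QuotientGroup.mk' A (g⁻¹ * y * g) ∈ K.map (QuotientGroup.mk' A) := ⟨_, mem_cj.1 hy, rfl⟩
    have h2 := (Subgroup.mem_normalizer_iff.1 hq _).1 h1
    rw [← map_inv, ← map_mul, ← map_mul, show g * (g⁻¹ * y * g) * g⁻¹ = y by group] at h2
    exact h2
  have hxq : QuotientGroup.mk' A x ∈ K.map (QuotientGroup.mk' A) :=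
    (sup_le (Subgroup.le_comap_map _ _) hle) hx
  obtain ⟨k, hk, hkx⟩ := hxq
  refine ⟨k * (x⁻¹ * g), Subgroup.mul_mem _ (Subgroup.le_normalizer hk)
    (mem_normalizer_of_cj (by rw [← cj_cj, hxe, cj_cj, inv_mul_cancel, cj_one])), ?_⟩
  rw [map_mul, map_mul, map_inv, hkx, mul_inv_cancel_left]

/-- A Sylow subgroup over a Sylow subgroup of `A` normalises it. -/
theorem sylow_over {A T : Subgroup G} [A.Normal] (hTA : T ≤ A) (hT : IsPGroup p T)
    (hTi : ¬ p ∣ T.relIndex A) :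
    ∃ P : Sylow p G, T ≤ (P : Subgroup G) ∧ (P : Subgroup G) ≤ Subgroup.normalizer (T : Set G) := by
  obtain ⟨P, hP⟩ := hT.exists_le_sylow
  refine ⟨P, hP, fun x hx => mem_normalizer_of_cj ?_⟩
  have hPA : (P : Subgroup G) ⊓ A = T := by
    refine (Subgroup.eq_of_le_of_card_ge (le_inf hP hTA) ?_).symm
    refine Nat.le_of_dvd Nat.card_pos ?_
    obtain ⟨n, hn⟩ := IsPGroup.iff_card.1 (P.isPGroup'.to_le (inf_le_left : (P : Subgroup G) ⊓ A ≤ P))
    have h1 := Subgroup.card_dvd_of_le (inf_le_right : (P : Subgroup G) ⊓ A ≤ A)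
    have h2 : Nat.card T * T.relIndex A = Nat.card A := by
      rw [← Subgroup.relIndex_bot_left, ← Subgroup.relIndex_bot_left]
      exact Subgroup.relIndex_mul_relIndex _ _ _ bot_le hTA
    rw [hn] at h1 ⊢
    rw [← h2] at h1
    exact ((hp.out.coprime_iff_not_dvd.2 hTi).pow_left n).dvd_of_dvd_mul_right h1
  refine Subgroup.eq_of_le_of_card_ge ?_ (card_cj x T).ge
  rintro y hy
  rw [← hPA] at hy ⊢
  exact ⟨cj_le hx le_rfl ⟨_, (mem_cj.1 hy).1, by simp [mul_assoc]⟩, by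
    simpa [mul_assoc] using ‹A.Normal›.conj_mem _ (mem_cj.1 hy).2 x⟩

/-- Every subgroup over a Sylow subgroup of `G` is, up to conjugation, over `T`. -/
theorem exists_conj_over {A T : Subgroup G} [A.Normal] (hTA : T ≤ A) (hT : IsPGroup p T)
    (hTi : ¬ p ∣ T.relIndex A) {K : Subgroup G} (hK : ∃ P : Sylow p G, (P : Subgroup G) ≤ K) :
    ∃ a : G, T ≤ cj a K ∧ ∃ P : Sylow p G, (P : Subgroup G) ≤ cj a K := by
  obtain ⟨P, hP⟩ := hK
  obtain ⟨S, hS⟩ := hT.exists_le_sylow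
  obtain ⟨a, ha⟩ := MulAction.exists_smul_eq G P S
  have h1 : (S : Subgroup G) ≤ cj a K := by
    rw [← ha, Sylow.coe_subgroup_smul]
    exact Subgroup.map_mono hP
  exact ⟨a, hS.trans h1, S, h1⟩

theorem sylow_data {A : Subgroup G} {T : Subgroup G}
    (hT : ∃ P : Sylow p A, (P : Subgroup A).map A.subtype = T) :
    T ≤ A ∧ IsPGroup p T ∧ ¬ p ∣ T.relIndex A := by
  obtain ⟨P, rfl⟩ := hT
  refine ⟨Subgroup.map_subtype_le _, P.isPGroup'.map _, ?_⟩
  rw [Subgroup.relIndex, Subgroup.subgroupOf, Subgroup.comap_map_eq_self_of_injective A.subtype_injective]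
  exact P.not_dvd_index

end CfsgLib.Perm.PronormalSylow
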