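import Cfsg.Agent.Perm.ZassenhausSplit

/-!
The five small quotients of a Frobenius complement, and the automorphisms of the alternating group
of degree five.
-/

set_option autoImplicit false
set_option linter.style.haveILetI false

namespace CfsgLib.Perm.Fpf

open Subgroup

theorem not_zgroup_of_commuting_invol {Q : Type*} [Group Q] [Finite Q] [hQ : IsZGroup Q] (s t : Q)
    (hs : s * s = 1) (ht : t * t = 1) (hs1 : s ≠ 1) (ht1 : t ≠ 1) (hst : s * t = t * s) (hne : s ≠ t) : False := by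
  classical
  haveI := Fact.mk Nat.prime_two
  have hso : orderOf s = 2 := orderOf_eq_prime (by rw [pow_two, hs]) hs1
  have hto : orderOf t = 2 := orderOf_eq_prime (by rw [pow_two, ht]) ht1
  have hs1' : IsPGroup 2 (Subgroup.zpowers s) := IsPGroup.of_card (n := 1) (by rw [Nat.card_zpowers, hso, pow_one])
  have ht1' : IsPGroup 2 (Subgroup.zpowers t) := IsPGroup.of_card (n := 1) (by rw [Nat.card_zpowers, hto, pow_one])
  obtain ⟨P, hP⟩ := (hs1'.to_sup_of_normal_right' ht1' (Subgroup.zpowers_le.2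
    (mem_normalizer_zpowers (by rw [hst, mul_inv_cancel_right]; exact Subgroup.mem_zpowers t)))).exists_le_sylow
  haveI : IsCyclic (P : Subgroup Q) := hQ.isZGroup 2 Nat.prime_two P
  letI := Fintype.ofFinite (P : Subgroup Q)
  set s' : (P : Subgroup Q) := ⟨s, hP (Subgroup.mem_sup_left (Subgroup.mem_zpowers s))⟩ with hs'
  set t' : (P : Subgroup Q) := ⟨t, hP (Subgroup.mem_sup_right (Subgroup.mem_zpowers t))⟩ with ht'
  have hle := IsCyclic.card_pow_eq_one_le (α := (P : Subgroup Q)) (n := 2) two_pos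
  have hsub : ({1, s', t'} : Finset (P : Subgroup Q)) ⊆ (Finset.univ.filter fun x => x ^ 2 = 1) := by
    intro x hx
    simp only [Finset.mem_insert, Finset.mem_singleton] at hx
    refine Finset.mem_filter.2 ⟨Finset.mem_univ _, ?_⟩
    rcases hx with rfl | rfl | rfl
    · exact one_pow 2
    · exact Subtype.ext (by rw [SubgroupClass.coe_pow, pow_two]; exact hs)
    · exact Subtype.ext (by rw [SubgroupClass.coe_pow, pow_two]; exact ht)
  have hc := (Finset.card_le_card hsub).trans hle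
  rw [Finset.card_eq_three.2 ⟨1, s', t', fun e => hs1 (congrArg Subtype.val e).symm,
    fun e => ht1 (congrArg Subtype.val e).symm, fun e => hne (congrArg Subtype.val e), rfl⟩] at hc
  omega

theorem isZGroup_of_sylow_cyclic {N : Type*} [Group N] (h : ∀ (p : ℕ) [Fact p.Prime] (P : Sylow p N), IsCyclic P) :
    IsZGroup N := ⟨fun p hp P => @h p ⟨hp⟩ P⟩

theorem v4_pair : ∃ s t : DihedralGroup 2, s * s = 1 ∧ t * t = 1 ∧ s ≠ 1 ∧ t ≠ 1 ∧ s * t = t * s ∧ s ≠ t := by decide
theorem a4_pair : ∃ s t : alternatingGroup (Fin 4), s * s = 1 ∧ t * t = 1 ∧ s ≠ 1 ∧ t ≠ 1 ∧ s * t = t * s ∧ s ≠ t := by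
  decide +kernel
theorem a5_pair : ∃ s t : A5, s * s = 1 ∧ t * t = 1 ∧ s ≠ 1 ∧ t ≠ 1 ∧ s * t = t * s ∧ s ≠ t := by
  refine ⟨⟨Equiv.swap 0 1 * Equiv.swap 2 3, Equiv.Perm.mem_alternatingGroup.2 (by decide)⟩,
    ⟨Equiv.swap 0 2 * Equiv.swap 1 3, Equiv.Perm.mem_alternatingGroup.2 (by decide)⟩, ?_⟩
  decide +kernel
theorem s4_pair : ∃ s t : Equiv.Perm (Fin 4), s * s = 1 ∧ t * t = 1 ∧ s ≠ 1 ∧ t ≠ 1 ∧ s * t = t * s ∧ s ≠ t := by
  refine ⟨Equiv.swap 0 1, Equiv.swap 2 3, ?_⟩
  decide +kernel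
theorem s5_pair : ∃ s t : Equiv.Perm (Fin 5), s * s = 1 ∧ t * t = 1 ∧ s ≠ 1 ∧ t ≠ 1 ∧ s * t = t * s ∧ s ≠ t := by
  refine ⟨Equiv.swap 0 1, Equiv.swap 2 3, ?_⟩
  decide +kernel

/-- The five targets. -/
def QuotientCond (G : Type*) [Group G] (N : Subgroup G) : Prop :=
  N = ⊤ ∨
    (∃ f : G →* DihedralGroup 2, Function.Surjective f ∧ f.ker = N) ∨
    (∃ f : G →* alternatingGroup (Fin 4), Function.Surjective f ∧ f.ker = N) ∨
    (∃ f : G →* Equiv.Perm (Fin 4), Function.Surjective f ∧ f.ker = N) ∨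
    (∃ f : G →* A5, Function.Surjective f ∧ f.ker = N) ∨
    (∃ f : G →* Equiv.Perm (Fin 5), Function.Surjective f ∧ f.ker = N)

theorem eq_top_of_zgroup {G : Type*} [Group G] [Finite G] [IsZGroup G] {N : Subgroup G} (h : QuotientCond G N) :
    N = ⊤ := by
  rcases h with e | ⟨f, hf, -⟩ | ⟨f, hf, -⟩ | ⟨f, hf, -⟩ | ⟨f, hf, -⟩ | ⟨f, hf, -⟩
  · exact e
  all_goals
    exfalso
    haveI := IsZGroup.of_surjective hf
  · obtain ⟨s, t, a, b, c, d, e, g⟩ := v4_pair
    exact not_zgroup_of_commuting_invol s t a b c d e g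
  · obtain ⟨s, t, a, b, c, d, e, g⟩ := a4_pair
    exact not_zgroup_of_commuting_invol s t a b c d e g
  · obtain ⟨s, t, a, b, c, d, e, g⟩ := s4_pair
    exact not_zgroup_of_commuting_invol s t a b c d e g
  · obtain ⟨s, t, a, b, c, d, e, g⟩ := a5_pair
    exact not_zgroup_of_commuting_invol s t a b c d e g
  · obtain ⟨s, t, a, b, c, d, e, g⟩ := s5_pair
    exact not_zgroup_of_commuting_invol s t a b c d e g

theorem centralizer_alt5_trivial : ∀ s : Equiv.Perm (Fin 5),
    s * (Equiv.swap 0 1 * Equiv.swap 1 2) = Equiv.swap 0 1 * Equiv.swap 1 2 * s →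
      s * (Equiv.swap 2 3 * Equiv.swap 3 4) = Equiv.swap 2 3 * Equiv.swap 3 4 * s → s = 1 := by
  decide +kernel

theorem eq_one_of_centralizes_alt5 {s : Equiv.Perm (Fin 5)} (h : ∀ a : A5, s * a = a * s) : s = 1 :=
  centralizer_alt5_trivial s
    (h ⟨_, Equiv.Perm.mem_alternatingGroup.2 (show Equiv.Perm.sign (Equiv.swap (0 : Fin 5) 1 * Equiv.swap 1 2) = 1 by decide)⟩)
    (h ⟨_, Equiv.Perm.mem_alternatingGroup.2 (show Equiv.Perm.sign (Equiv.swap (2 : Fin 5) 3 * Equiv.swap 3 4) = 1 by decide)⟩)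

/-- Conjugation by permutations. -/
def conjA5 : Equiv.Perm (Fin 5) →* MulAut A5 := MulAut.conjNormal

theorem conjA5_bijective : Function.Bijective conjA5 := by
  classical
  have hinj : Function.Injective conjA5 := by
    rw [injective_iff_map_eq_one]
    intro s hs
    refine eq_one_of_centralizes_alt5 fun a => ?_
    have := congrArg Subtype.val (DFunLike.congr_fun hs a)
    rw [show ((conjA5 s a : A5) : Equiv.Perm (Fin 5)) = s * a * s⁻¹ from MulAut.conjNormal_apply s a] at this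
    exact mul_inv_eq_iff_eq_mul.1 this
  obtain ⟨a, b, ha, hb, hab, hgen⟩ := exists_gen_pair
  have hle : Nat.card (MulAut A5) ≤ 121 := by
    refine le_trans ?_ card_gen_pairs
    haveI : Finite (MulAut A5) := Finite.of_injective (fun φ => (φ : A5 → A5)) DFunLike.coe_injective
    letI := Fintype.ofFinite (MulAut A5)
    rw [Nat.card_eq_fintype_card, ← Finset.card_univ]
    refine Finset.card_le_card_of_injOn (fun φ => (φ a, φ b)) (fun φ _ => ?_) (fun φ _ ψ _ e => ?_)
    · simp only [Finset.coe_filter, Finset.mem_univ, true_and, Set.mem_setOf_eq]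
      exact ⟨by rw [← map_pow, ha, map_one], by rw [← map_pow, hb, map_one], by rw [← map_mul, ← map_pow, hab, map_one]⟩
    · simp only [Prod.mk.injEq] at e
      have : φ.toMonoidHom = ψ.toMonoidHom :=
        MonoidHom.eq_of_eqOn_dense hgen (fun x hx => by
          rcases hx with rfl | rfl
          · exact e.1
          · exact e.2)
      exact MulEquiv.ext fun x => DFunLike.congr_fun this x
  haveI : Finite (MulAut A5) := Finite.of_injective (fun φ => (φ : A5 → A5)) DFunLike.coe_injective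
  have hdvd := Subgroup.card_dvd_of_injective conjA5 hinj
  have h120 : Nat.card (Equiv.Perm (Fin 5)) = 120 := by rw [Nat.card_perm, Nat.card_fin]; decide
  rw [h120] at hdvd
  refine (Nat.bijective_iff_injective_and_card _).2 ⟨hinj, ?_⟩
  rw [h120]
  have hpos : 0 < Nat.card (MulAut A5) := Nat.card_pos
  obtain ⟨c, hc⟩ := hdvd
  have : c = 1 := by rcases c with _ | _ | c <;> omega
  rw [hc, this]

end CfsgLib.Perm.Fpf
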