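import Mathlib
import Cfsg.Agent.Lie.PSL2Four
import Cfsg.Agent.Lie.GL2
import Cfsg.Agent.S0262

/-!
Redundant Sylow subgroups of two-dimensional special linear groups.
-/

set_option autoImplicit false
set_option linter.style.haveILetI false
set_option linter.unusedSectionVars false

namespace CfsgLib.Perm.RedundantSylow

open CfsgLib.Fus.PSL2Two

/-- Every element of prime power order lies in a Sylow subgroup other than some fixed one. -/
def Red (p : ℕ) (G : Type*) [Group G] : Prop :=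
  ∃ Q : Sylow p G, ∀ x : G, (∃ k : ℕ, orderOf x = p ^ k) → ∃ P : Sylow p G, P ≠ Q ∧ x ∈ P

section General
variable {G : Type*} [Group G] [Finite G] {p : ℕ} [hp : Fact p.Prime]

theorem mem_powers (Q : Sylow p G) {x : G} (hx : x ∈ Q) : ∃ k : ℕ, orderOf x = p ^ k := by
  obtain ⟨k, hk⟩ := IsPGroup.iff_orderOf.1 Q.isPGroup' ⟨x, hx⟩
  exact ⟨k, by rw [← hk, Subgroup.orderOf_mk]⟩

theorem syl_card_eq (P Q : Sylow p G) : Nat.card (P : Subgroup G) = Nat.card (Q : Subgroup G) := by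
  rw [Sylow.card_eq_multiplicity, Sylow.card_eq_multiplicity]

theorem not_red_of_cyclic (h : ∀ Q : Sylow p G, IsCyclic (Q : Subgroup G)) : ¬ Red p G := by
  rintro ⟨Q, hQ⟩
  obtain ⟨⟨x, hx⟩, hgen⟩ := (h Q).exists_generator
  obtain ⟨P, hne, hxP⟩ := hQ x (mem_powers Q hx)
  refine hne (Sylow.ext (Subgroup.eq_of_le_of_card_ge ?_ (syl_card_eq P Q).le).symm)
  intro y hy
  obtain ⟨i, hi⟩ := Subgroup.mem_zpowers_iff.1 (hgen ⟨y, hy⟩)
  rw [← show x ^ i = y from congrArg Subtype.val hi]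
  exact (P : Subgroup G).zpow_mem hxP i

theorem not_red_of_TI (h : ∀ P Q : Sylow p G, P ≠ Q → (P : Subgroup G) ⊓ (Q : Subgroup G) = ⊥) :
    ¬ Red p G := by
  rintro ⟨Q, hQ⟩
  by_cases hb : (Q : Subgroup G) = ⊥
  · refine not_red_of_cyclic (fun R => ?_) ⟨Q, hQ⟩
    have h1 : Nat.card (R : Subgroup G) = 1 := by rw [syl_card_eq R Q, hb, Subgroup.card_bot]
    haveI : Subsingleton (R : Subgroup G) := (Nat.card_eq_one_iff_unique.1 h1).1
    infer_instance
  obtain ⟨x, hx, hx1⟩ := (Subgroup.bot_or_exists_ne_one (Q : Subgroup G)).resolve_left hb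
  obtain ⟨P, hne, hxP⟩ := hQ x (mem_powers Q hx)
  have : x ∈ (P : Subgroup G) ⊓ (Q : Subgroup G) := ⟨hxP, hx⟩
  rw [h P Q hne, Subgroup.mem_bot] at this
  exact hx1 this

variable {H : Type*} [Group H] [Finite H]

theorem red_iff_of_pKer (f : G →* H) (hf : Function.Surjective f) (hker : IsPGroup p f.ker) :
    Red p G ↔ Red p H := by
  have hle : ∀ P : Sylow p G, f.ker ≤ (P : Subgroup G) := hker.le_sylow_of_normal
  have hmem : ∀ (P : Sylow p G) x, x ∈ P ↔ f x ∈ P.mapSurjective hf := by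
    intro P x
    refine ⟨fun h => ⟨x, h, rfl⟩, ?_⟩
    rintro ⟨y, hy, hyx⟩
    have h1 : y⁻¹ * x ∈ (P : Subgroup G) := hle P (by rw [MonoidHom.mem_ker, map_mul, map_inv, hyx, inv_mul_cancel])
    have := (P : Subgroup G).mul_mem hy h1
    rwa [mul_inv_cancel_left] at this
  have hinj : ∀ P Q : Sylow p G, P.mapSurjective hf = Q.mapSurjective hf → P = Q := fun P Q h =>
    Sylow.ext (Subgroup.ext fun x => (hmem P x).trans ((by rw [h] : f x ∈ P.mapSurjective hf ↔ f x ∈ Q.mapSurjective hf).trans (hmem Q x).symm))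
  constructor
  · rintro ⟨Q, hQ⟩
    refine ⟨Q.mapSurjective hf, fun y hy => ?_⟩
    obtain ⟨x, rfl⟩ := hf y
    obtain ⟨k, hk⟩ := hy
    have hpx : ∃ j, orderOf x = p ^ j := by
      have h1 : x ^ p ^ k ∈ f.ker := by rw [MonoidHom.mem_ker, map_pow, ← hk, pow_orderOf_eq_one]
      obtain ⟨j, hj⟩ := hker ⟨_, h1⟩
      have h2 : x ^ p ^ (k + j) = 1 := by rw [pow_add, pow_mul]; exact congrArg Subtype.val hj
      obtain ⟨i, -, hi⟩ := (Nat.dvd_prime_pow hp.out).1 (orderOf_dvd_of_pow_eq_one h2)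
      exact ⟨i, hi⟩
    obtain ⟨P, hne, hx⟩ := hQ x hpx
    exact ⟨P.mapSurjective hf, fun h => hne (hinj _ _ h), (hmem P x).1 hx⟩
  · rintro ⟨Q', hQ'⟩
    obtain ⟨Q, rfl⟩ := Sylow.mapSurjective_surjective hf p Q'
    refine ⟨Q, fun x hx => ?_⟩
    obtain ⟨k, hk⟩ := hx
    obtain ⟨i, -, hi⟩ := (Nat.dvd_prime_pow hp.out).1 (hk ▸ orderOf_map_dvd f x)
    obtain ⟨P', hne, hxP⟩ := hQ' (f x) ⟨i, hi⟩
    obtain ⟨P, rfl⟩ := Sylow.mapSurjective_surjective hf p P'
    exact ⟨P, fun h => hne (h ▸ rfl), (hmem P x).2 hxP⟩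

end General

variable {F : Type*} [Field F] [Fintype F]

local notation "SL2" => Matrix.SpecialLinearGroup (Fin 2) F
local notation "PSL2" => Matrix.ProjectiveSpecialLinearGroup (Fin 2) F

/-- The projection. -/
noncomputable abbrev proj : SL2 →* PSL2 := QuotientGroup.mk' _

theorem proj_surjective : Function.Surjective (proj : SL2 →* PSL2) := QuotientGroup.mk'_surjective _

theorem ker_cases {g : SL2} (h : g ∈ (proj : SL2 →* PSL2).ker) : g = 1 ∨ g = -1 :=
  mem_center_cases ((QuotientGroup.eq_one_iff _).1 h)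

theorem proj_neg_one : proj (-1 : SL2) = 1 := (QuotientGroup.eq_one_iff _).2 neg_one_mem_center

theorem ker_isPGroup_two : IsPGroup 2 (proj : SL2 →* PSL2).ker := fun x => ⟨1, Subtype.ext (by
  show ((x : SL2)) ^ (2 ^ 1) = 1
  rcases ker_cases x.2 with h | h <;> rw [h] <;> simp)⟩

theorem red_SL_iff_PSL_two : Red 2 SL2 ↔ Red 2 PSL2 := by
  haveI : Fact (Nat.Prime 2) := ⟨Nat.prime_two⟩
  exact red_iff_of_pKer proj proj_surjective ker_isPGroup_two

theorem ker_eq_bot_of_even (h2 : (2 : F) = 0) : (proj : SL2 →* PSL2).ker = ⊥ := by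
  rw [Subgroup.eq_bot_iff_forall]
  intro g hg
  rcases ker_cases hg with h | h
  · exact h
  · rw [h]
    refine Subtype.ext ?_
    show -(1 : Matrix (Fin 2) (Fin 2) F) = 1
    have : (-1 : F) = 1 := by linear_combination -h2
    ext i j; fin_cases i <;> fin_cases j <;> simp [this]

/-- Defining characteristic: trivial intersections. -/
theorem TI_SL (p : ℕ) [Fact p.Prime] [CharP F p] (P Q : Sylow p SL2) (h : P ≠ Q) :
    (P : Subgroup SL2) ⊓ (Q : Subgroup SL2) = ⊥ := by
  obtain ⟨S, hS⟩ := CfsgLib.Lie.GL2.map_sylow_SL p P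
  obtain ⟨T, hT⟩ := CfsgLib.Lie.GL2.map_sylow_SL p Q
  have hinj := Matrix.SpecialLinearGroup.toGL_injective (n := Fin 2) (R := F)
  have hne : S ≠ T := fun e => h (Sylow.ext (Subgroup.map_injective hinj (by rw [hS, hT, e])))
  have h1 := CfsgLib.Lie.GL2.sylow_inf (hF := rfl) (p := p) S T hne
  rw [← hS, ← hT, ← Subgroup.map_inf _ _ _ hinj, Subgroup.map_eq_bot_iff_of_injective _ hinj] at h1
  exact h1

/-- Defining characteristic, projective group. -/
theorem TI_PSL (p : ℕ) [Fact p.Prime] [CharP F p] (P' Q' : Sylow p PSL2) (h : P' ≠ Q') :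
    (P' : Subgroup PSL2) ⊓ (Q' : Subgroup PSL2) = ⊥ := by
  obtain ⟨P, rfl⟩ := Sylow.mapSurjective_surjective proj_surjective p P'
  obtain ⟨Q, rfl⟩ := Sylow.mapSurjective_surjective proj_surjective p Q'
  have hPQ := TI_SL p P Q fun e => h (e ▸ rfl)
  rw [Subgroup.eq_bot_iff_forall]
  rintro y ⟨⟨a, ha, rfl⟩, b, hb, hba⟩
  have hk : b⁻¹ * a ∈ (proj : SL2 →* PSL2).ker := by
    rw [MonoidHom.mem_ker, map_mul, map_inv, hba, inv_mul_cancel]
  rcases ker_cases hk with e | e
  · obtain rfl : b = a := inv_mul_eq_one.1 e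
    have : b ∈ (P : Subgroup SL2) ⊓ (Q : Subgroup SL2) := ⟨ha, hb⟩
    rw [hPQ, Subgroup.mem_bot] at this
    rw [this, map_one]
  · have hab : a = -b := by rw [← mul_inv_cancel_left b a, e, mul_neg_one]
    have h2 : a * a = b * b := by rw [hab, neg_mul_neg]
    have hmem : a * a ∈ (P : Subgroup SL2) ⊓ (Q : Subgroup SL2) :=
      ⟨(P : Subgroup SL2).mul_mem ha ha, h2 ▸ (Q : Subgroup SL2).mul_mem hb hb⟩
    rw [hPQ, Subgroup.mem_bot, ← pow_two] at hmem
    rcases (Nat.dvd_prime Nat.prime_two).1 (orderOf_dvd_of_pow_eq_one hmem) with h1 | h1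
    · rw [orderOf_eq_one_iff.1 h1, map_one]
    · obtain ⟨j, hj⟩ := mem_powers P ha
      rw [h1] at hj
      have hp2 : p = 2 := ((Nat.prime_dvd_prime_iff_eq Nat.prime_two Fact.out).1
        (Nat.prime_two.dvd_of_dvd_pow (m := p) (n := j) (by rw [← hj]))).symm
      subst hp2
      rw [ker_eq_bot_of_even (F := F) (by exact_mod_cast CharP.cast_eq_zero F 2), Subgroup.mem_bot, e] at hk
      have : b ∈ (P : Subgroup SL2) ⊓ (Q : Subgroup SL2) := ⟨by rw [hab, ← mul_neg_one, hk, mul_one] at ha; exact ha, hb⟩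
      rw [hPQ, Subgroup.mem_bot] at this
      rw [hab, this, proj_neg_one]

/-- Odd primes different from the characteristic: cyclic Sylow subgroups. -/
theorem cyclic_SL (p : ℕ) [Fact p.Prime] (hp : p ≠ 2) (hc : p ≠ ringChar F) (P : Sylow p SL2) :
    IsCyclic (P : Subgroup SL2) := by
  haveI : Fact (ringChar F).Prime := ⟨CharP.char_is_prime F (ringChar F)⟩
  exact Cfsg.Agent.S0262.result (ringChar F) p hp hc P

theorem cyclic_PSL (p : ℕ) [Fact p.Prime] (hp : p ≠ 2) (hc : p ≠ ringChar F) (P' : Sylow p PSL2) :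
    IsCyclic (P' : Subgroup PSL2) := by
  obtain ⟨P, rfl⟩ := Sylow.mapSurjective_surjective proj_surjective p P'
  haveI := cyclic_SL p hp hc P
  exact isCyclic_of_surjective ((proj : SL2 →* PSL2).subgroupMap (P : Subgroup SL2))
    (MonoidHom.subgroupMap_surjective _ _)

theorem not_red_SL_odd (p : ℕ) [Fact p.Prime] (hp : p ≠ 2) : ¬ Red p SL2 := by
  by_cases hc : p = ringChar F
  · haveI : CharP F p := hc ▸ ringChar.charP F
    exact not_red_of_TI (TI_SL p)
  · exact not_red_of_cyclic (cyclic_SL p hp hc)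

theorem not_red_PSL_odd (p : ℕ) [Fact p.Prime] (hp : p ≠ 2) : ¬ Red p PSL2 := by
  by_cases hc : p = ringChar F
  · haveI : CharP F p := hc ▸ ringChar.charP F
    exact not_red_of_TI (TI_PSL p)
  · exact not_red_of_cyclic (cyclic_PSL p hp hc)

theorem not_red_PSL_even (h2 : Fintype.card F % 2 = 0) : ¬ Red 2 PSL2 := by
  haveI : Fact (Nat.Prime 2) := ⟨Nat.prime_two⟩
  haveI : CharP F 2 := by
    rw [← FiniteField.even_card_iff_char_two.2 h2]
    exact ringChar.charP F
  exact not_red_of_TI (TI_PSL 2)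

/-- The centralizer of an involution in the projective group. -/
theorem card_centralizer (hodd : Fintype.card F % 2 = 1) {u : PSL2} (hu : orderOf u = 2) :
    Nat.card (Subgroup.centralizer ({u} : Set PSL2)) = Nat.card {p : F × F // p.1 ^ 2 + p.2 ^ 2 = 1} := by
  have hj : orderOf (proj (jEl : SL2)) = 2 := by
    haveI : Fact (Nat.Prime 2) := ⟨Nat.prime_two⟩
    refine orderOf_eq_prime ?_ ?_
    · rw [← map_pow, pow_two, show (jEl : SL2) * jEl = -1 from Subtype.ext (by
        show !![(0 : F), -1; 1, 0] * !![(0 : F), -1; 1, 0] = -1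
        ext i j; fin_cases i <;> fin_cases j <;> simp [Matrix.mul_apply, Fin.sum_univ_two]), proj_neg_one]
    · intro h
      rcases ker_cases (g := (jEl : SL2)) h with e | e <;>
        simpa [jEl] using congrArg (fun g : SL2 => g 1 0) e
  obtain ⟨g, hg⟩ := one_class hodd hj hu
  have hpre : (Subgroup.centralizer ({proj (jEl : SL2)} : Set PSL2)).comap proj =
      Subgroup.normalizer (Subgroup.zpowers (jEl : SL2) : Set SL2) := by
    ext h
    rw [Subgroup.mem_comap, Subgroup.mem_centralizer_singleton_iff, ← map_mul, ← map_mul,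
      CfsgLib.Lie.PSL2Four.normalizer_zpowers_j hodd]
    constructor
    · intro e
      have h1 : ((jEl : SL2) * h)⁻¹ * (h * jEl) ∈ (proj : SL2 →* PSL2).ker := by
        rw [MonoidHom.mem_ker, map_mul, map_inv, e, inv_mul_cancel]
      rcases ker_cases h1 with e1 | e1
      · exact Or.inl (inv_mul_eq_one.1 e1).symm
      · right; rw [← mul_inv_cancel_left ((jEl : SL2) * h) (h * jEl), e1, mul_neg_one]
    · rintro (e | e)
      · rw [e]
      · rw [e, ← mul_neg_one, map_mul, proj_neg_one, mul_one]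
  have hK : Nat.card (proj : SL2 →* PSL2).ker = 2 := by
    refine Nat.card_eq_two_iff.2 ⟨⟨1, one_mem _⟩, ⟨-1, proj_neg_one⟩,
      fun e => CfsgLib.Lie.SL2Sylow.neg_one_ne_one hodd (congrArg Subtype.val e).symm, ?_⟩
    ext x
    simp only [Set.mem_insert_iff, Set.mem_singleton_iff, Set.mem_univ, iff_true, Subtype.ext_iff]
    exact ker_cases x.2
  have h1 := CfsgLib.Lie.PSL2Four.card_normalizer_j hodd
  rw [← hpre] at h1
  have h2 : Nat.card ((Subgroup.centralizer ({proj (jEl : SL2)} : Set PSL2)).comap proj) =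
      2 * Nat.card (Subgroup.centralizer ({proj (jEl : SL2)} : Set PSL2)) := by
    rw [← Subgroup.relIndex_bot_left, ← Subgroup.relIndex_mul_relIndex ⊥ (proj : SL2 →* PSL2).ker _ bot_le
      (Subgroup.ker_le_comap _ _), Subgroup.relIndex_bot_left, hK, ← MonoidHom.comap_bot,
      Subgroup.relIndex_comap, Subgroup.map_comap_eq_self_of_surjective proj_surjective, Subgroup.relIndex_bot_left]
  rw [h2] at h1
  rw [← Nat.eq_of_mul_eq_mul_left (by norm_num : 0 < 2) h1]
  refine (Nat.card_congr ((MulAut.conj g).toEquiv.subtypeEquiv fun h => ?_)).symm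
  show h ∈ Subgroup.centralizer ({proj (jEl : SL2)} : Set PSL2) ↔ g * h * g⁻¹ ∈ Subgroup.centralizer ({u} : Set PSL2)
  rw [Subgroup.mem_centralizer_singleton_iff, Subgroup.mem_centralizer_singleton_iff, ← hg]
  constructor
  · intro e
    calc g * h * g⁻¹ * (g * proj jEl * g⁻¹) = g * (h * proj jEl) * g⁻¹ := by group
      _ = _ := by rw [e]; group
  · intro e
    calc h * proj jEl = g⁻¹ * (g * h * g⁻¹ * (g * proj jEl * g⁻¹)) * g := by group
      _ = _ := by rw [e]; group

/-- The main count: redundancy fails exactly when the torus is a 2-group. -/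
theorem red_PSL_two (hodd : Fintype.card F % 2 = 1) {n m k : ℕ} (a w : SL2) (ha : orderOf a = n)
    (hwa : w * a * w⁻¹ = a⁻¹) (hww : w * w = -1)
    (hn : n = Nat.card {p : F × F // p.1 ^ 2 + p.2 ^ 2 = 1}) (hnm : n = 2 ^ (k + 2) * m) (hm : Odd m) :
    Red 2 PSL2 ↔ m ≠ 1 := by
  classical
  haveI : Fact (Nat.Prime 2) := ⟨Nat.prime_two⟩
  set α := proj a
  set y := proj w
  set A := Subgroup.zpowers α
  have hhalf : a ^ (2 ^ (k + 1) * m) = -1 := by
    have h1 : a ^ (2 ^ (k + 1) * m) * a ^ (2 ^ (k + 1) * m) = 1 := by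
      rw [← pow_add, show 2 ^ (k + 1) * m + 2 ^ (k + 1) * m = n by rw [hnm]; ring, ← ha, pow_orderOf_eq_one]
    refine (sq_eq_one_cases hodd h1).resolve_left fun h => ?_
    have h2 := Nat.le_of_dvd (Nat.mul_pos (Nat.pow_pos two_pos) hm.pos) (orderOf_dvd_of_pow_eq_one h)
    rw [ha, hnm, pow_succ 2 (k + 1)] at h2
    have : 0 < 2 ^ (k + 1) * m := Nat.mul_pos (Nat.pow_pos two_pos) hm.pos
    nlinarith
  have hαo : orderOf α = 2 ^ (k + 1) * m := by
    refine Nat.dvd_antisymm (orderOf_dvd_of_pow_eq_one ?_) ?_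
    · show proj a ^ _ = 1
      rw [← map_pow, hhalf, proj_neg_one]
    · have h1 : a ^ (orderOf α * 2) = 1 := by
        rw [pow_mul, pow_two]
        rcases ker_cases (g := a ^ orderOf α) (by rw [MonoidHom.mem_ker, map_pow]; exact pow_orderOf_eq_one α) with h | h <;>
          simp [h]
      have h2 := orderOf_dvd_of_pow_eq_one h1
      rw [ha, hnm, pow_succ, mul_right_comm] at h2
      exact Nat.dvd_of_mul_dvd_mul_right two_pos h2
  have hyα : y * α * y⁻¹ = α⁻¹ := by show proj w * proj a * (proj w)⁻¹ = _; rw [← map_inv, ← map_mul, ← map_mul, hwa, map_inv]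
  have hyy : y * y = 1 := by show proj w * proj w = 1; rw [← map_mul, hww, proj_neg_one]
  have hinv : ∀ i : ℤ, y * α ^ i * y⁻¹ = α ^ (-i) := fun i => by
    rw [← conj_zpow, hyα, inv_zpow, zpow_neg]
  set z := α ^ (2 ^ k * m)
  have hz : orderOf z = 2 := by
    rw [orderOf_pow' _ (Nat.mul_pos (Nat.pow_pos two_pos) hm.pos).ne', hαo,
      show 2 ^ (k + 1) * m = 2 * (2 ^ k * m) by ring, Nat.gcd_eq_right (dvd_mul_left _ _),
      Nat.mul_div_cancel _ (Nat.mul_pos (Nat.pow_pos two_pos) hm.pos)]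
  set C := Subgroup.centralizer ({z} : Set PSL2) with hC
  have hCc : Nat.card C = n := (card_centralizer hodd hz).trans hn.symm
  have hAC : A ≤ C := Subgroup.zpowers_le.2 (Subgroup.mem_centralizer_singleton_iff.2 ((Commute.refl α).pow_right _).eq)
  have hAc : Nat.card A = 2 ^ (k + 1) * m := by rw [Nat.card_zpowers, hαo]
  have hzz : z⁻¹ = z := inv_eq_of_mul_eq_one_right (by
    have h := pow_orderOf_eq_one z
    rwa [hz, pow_two] at h)
  -- the Sylow order
  obtain ⟨S⟩ : Nonempty (Sylow 2 C) := inferInstance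
  have hSc : Nat.card (S : Subgroup C) = 2 ^ (k + 2) := by
    rw [Sylow.card_eq_multiplicity, hCc, hnm, Nat.factorization_mul (by positivity) hm.pos.ne', Finsupp.add_apply,
      Nat.prime_two.factorization_pow, Finsupp.single_eq_same, Nat.factorization_eq_zero_of_not_dvd
        (fun h => Nat.not_even_iff_odd.2 hm (even_iff_two_dvd.2 h)), add_zero]
  have hGsyl : ∀ P : Sylow 2 PSL2, Nat.card (P : Subgroup PSL2) = 2 ^ (k + 2) := by
    intro P
    refine le_antisymm ?_ ?_
    · haveI : Nontrivial (P : Subgroup PSL2) := by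
        rw [← Finite.one_lt_card_iff_nontrivial]
        obtain ⟨P', hP'⟩ := ((IsPGroup.of_card (n := 1) (by rw [Nat.card_zpowers, hz, pow_one]) :
          IsPGroup 2 (Subgroup.zpowers z))).exists_le_sylow
        rw [syl_card_eq P P']
        have := Subgroup.card_le_of_le hP'
        rw [Nat.card_zpowers, hz] at this
        omega
      haveI := P.isPGroup'.center_nontrivial
      obtain ⟨⟨⟨v, hv⟩, hvc⟩, hvo⟩ := exists_prime_orderOf_dvd_card' (G := Subgroup.center (P : Subgroup PSL2)) 2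
        ((P.isPGroup'.to_subgroup _).card_eq_or_dvd.resolve_left Finite.one_lt_card.ne')
      rw [← Subgroup.orderOf_coe, Subgroup.orderOf_mk] at hvo
      have hPC : (P : Subgroup PSL2) ≤ Subgroup.centralizer ({v} : Set PSL2) := fun x hx =>
        Subgroup.mem_centralizer_singleton_iff.2 (congrArg Subtype.val (Subgroup.mem_center_iff.1 hvc ⟨x, hx⟩))
      have h1 := Subgroup.card_dvd_of_le hPC
      rw [card_centralizer hodd hvo, ← hn, hnm] at h1
      obtain ⟨j, hj⟩ := IsPGroup.iff_card.1 P.isPGroup'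
      rw [hj] at h1 ⊢
      exact Nat.le_of_dvd (by positivity) (Nat.Coprime.dvd_of_dvd_mul_right
        (Nat.Coprime.pow_left j (Nat.coprime_two_left.2 hm)) h1)
    · obtain ⟨P', hP'⟩ := (S.isPGroup'.map C.subtype).exists_le_sylow
      rw [syl_card_eq P P', ← hSc, ← Subgroup.card_map_of_injective (K := (S : Subgroup C)) (f := C.subtype) Subtype.val_injective]
      exact Subgroup.card_le_of_le hP'
  have hlift : ∀ T : Sylow 2 C, ∃ P : Sylow 2 PSL2, (P : Subgroup PSL2) = (T : Subgroup C).map C.subtype := by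
    intro T
    obtain ⟨P, hP⟩ := (T.isPGroup'.map C.subtype).exists_le_sylow
    refine ⟨P, (Subgroup.eq_of_le_of_card_ge hP (le_of_eq ?_)).symm⟩
    rw [hGsyl P, Subgroup.card_map_of_injective Subtype.val_injective, syl_card_eq T S, hSc]
  constructor
  · rintro ⟨Q, hQ⟩ hm1
    subst hm1
    -- the centralizer is a Sylow subgroup and the torus generator lies in it only
    have hCp : IsPGroup 2 C := IsPGroup.of_card (n := k + 2) (by rw [hCc, hnm, mul_one])
    obtain ⟨P₀, hP₀⟩ := hCp.exists_le_sylow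
    have hP₀C : (P₀ : Subgroup PSL2) = C :=
      (Subgroup.eq_of_le_of_card_ge hP₀ (by rw [hGsyl, hCc, hnm, mul_one])).symm
    have honly : ∀ P : Sylow 2 PSL2, α ∈ P → P = P₀ := by
      intro P hαP
      have hAP : A ≤ (P : Subgroup PSL2) := Subgroup.zpowers_le.2 hαP
      have hidx : (A.subgroupOf (P : Subgroup PSL2)).index = 2 := by
        have h1 := (A.subgroupOf (P : Subgroup PSL2)).card_mul_index
        rw [Nat.card_congr (Subgroup.subgroupOfEquivOfLe hAP).toEquiv, hAc, hGsyl, mul_one, pow_succ 2 (k + 1)] at h1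
        exact Nat.eq_of_mul_eq_mul_left (by positivity) h1
      haveI := Subgroup.normal_of_index_eq_two hidx
      refine Sylow.ext ?_
      rw [hP₀C]
      refine Subgroup.eq_of_le_of_card_ge (fun g hg => ?_) (by rw [hGsyl, hCc, hnm, mul_one])
      refine Subgroup.mem_centralizer_singleton_iff.2 ?_
      have h1 : g * z * g⁻¹ ∈ A :=
        (inferInstance : (A.subgroupOf (P : Subgroup PSL2)).Normal).conj_mem ⟨z, hAP (Subgroup.npow_mem_zpowers α _)⟩
          (Subgroup.npow_mem_zpowers α _) ⟨g, hg⟩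
      obtain ⟨i, hi⟩ := Subgroup.mem_zpowers_iff.1 h1
      have ho : orderOf (g * z * g⁻¹) = 2 := ((MulAut.conj g).orderOf_eq z).trans hz
      -- a cyclic group has one involution
      have h2 : g * z * g⁻¹ = z := by
        have hcyc : IsCyclic A := inferInstance
        have hu := IsCyclic.card_orderOf_eq_totient (α := A) (d := 2) (by
          rw [← Nat.card_eq_fintype_card, hAc, pow_succ]; exact dvd_mul_of_dvd_left (dvd_mul_left _ _) _)
        rw [Nat.totient_two, Finset.card_eq_one] at hu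
        obtain ⟨e, he⟩ := hu
        have e1 : (⟨g * z * g⁻¹, h1⟩ : A) = e := Finset.mem_singleton.1 (he ▸ by simp [ho])
        have e2 : (⟨z, Subgroup.npow_mem_zpowers α _⟩ : A) = e := Finset.mem_singleton.1 (he ▸ by simp [hz])
        exact congrArg Subtype.val (e1.trans e2.symm)
      exact mul_inv_eq_iff_eq_mul.1 h2
    obtain ⟨g, hg⟩ := MulAction.exists_smul_eq PSL2 P₀ Q
    have hαQ : g * α * g⁻¹ ∈ Q := by
      rw [← hg]
      exact Subgroup.smul_mem_pointwise_smul α (MulAut.conj g) _ (hP₀C.symm ▸ hAC (Subgroup.mem_zpowers α))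
    obtain ⟨P, hne, hP⟩ := hQ _ (mem_powers Q hαQ)
    refine hne ?_
    have h1 : α ∈ g⁻¹ • P := by
      have h2 : g⁻¹ * (g * α * g⁻¹) * g⁻¹⁻¹ ∈ g⁻¹ • P := Subgroup.smul_mem_pointwise_smul _ (MulAut.conj g⁻¹) _ hP
      simpa [mul_assoc] using h2
    have h3 := honly _ h1
    rw [← hg, ← h3, smul_inv_smul]
  · intro hm1
    obtain ⟨Q⟩ : Nonempty (Sylow 2 PSL2) := inferInstance
    refine ⟨Q, ?_⟩
    set c := α ^ 2 ^ (k + 1) with hc
    have hco : orderOf c = m := by
      rw [hc, orderOf_pow' _ (by positivity), hαo, Nat.gcd_eq_right (dvd_mul_right _ _), Nat.mul_div_cancel_left _ (by positivity)]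
    have hyA : y ∉ A := by
      intro h
      obtain ⟨i, hi⟩ := Subgroup.mem_zpowers_iff.1 h
      have h1 : α⁻¹ = α := by rw [← hyα, ← hi]; group
      have h2 : α ^ 2 = 1 := by rw [pow_two]; nth_rewrite 1 [← h1]; exact inv_mul_cancel α
      have h3 := Nat.le_of_dvd two_pos (orderOf_dvd_of_pow_eq_one h2)
      rw [hαo] at h3
      have : 3 ≤ m := by obtain ⟨t, rfl⟩ := hm; omega
      have : 2 ≤ 2 ^ (k + 1) := Nat.le_self_pow (by omega) 2
      nlinarith
    have hyC : y ∈ C := by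
      refine Subgroup.mem_centralizer_singleton_iff.2 ?_
      have h1 := hinv ((2 ^ k * m : ℕ) : ℤ)
      rw [zpow_natCast, zpow_neg, zpow_natCast, show α ^ (2 ^ k * m) = z from rfl, hzz] at h1
      exact mul_inv_eq_iff_eq_mul.1 h1
    have hidx : (A.subgroupOf C).index = 2 := by
      have h1 := (A.subgroupOf C).card_mul_index
      rw [Nat.card_congr (Subgroup.subgroupOfEquivOfLe hAC).toEquiv, hAc, hCc, hnm,
        show 2 ^ (k + 2) * m = 2 ^ (k + 1) * m * 2 by ring] at h1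
      exact Nat.eq_of_mul_eq_mul_left (Nat.mul_pos (Nat.pow_pos two_pos) hm.pos) h1
    have hout : ∀ u ∈ C, u ∉ A → ∃ i : ℤ, u = α ^ i * y := by
      intro u hu huA
      have h1 := (Subgroup.mul_mem_iff_of_index_two hidx (a := (⟨u, hu⟩ : C)) (b := ⟨y⁻¹, C.inv_mem hyC⟩)).2
        ⟨fun h => absurd h huA, fun h => absurd (by simpa [Subgroup.mem_subgroupOf] using h) hyA⟩
      obtain ⟨i, hi⟩ := Subgroup.mem_zpowers_iff.1 (show u * y⁻¹ ∈ A from h1)
      exact ⟨i, by rw [hi, inv_mul_cancel_right]⟩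
    -- two Sylow subgroups through any element of 2-power order in the centralizer
    have htwo : ∀ x ∈ A, (∃ j, orderOf x = 2 ^ j) → ∃ P P' : Sylow 2 PSL2, P ≠ P' ∧ x ∈ P ∧ x ∈ P' := by
      intro x hxA hx
      obtain ⟨j, hj⟩ := hx
      obtain ⟨T, hT⟩ := (IsPGroup.of_card (n := j) (by rw [Nat.card_zpowers, ← Subgroup.orderOf_coe]; exact hj) :
        IsPGroup 2 (Subgroup.zpowers (⟨x, hAC hxA⟩ : C))).exists_le_sylow
      obtain ⟨P, hP⟩ := hlift T
      have hxP : x ∈ P := by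
        show x ∈ (P : Subgroup PSL2)
        rw [hP]; exact ⟨_, hT (Subgroup.mem_zpowers _), rfl⟩
      refine ⟨P, c • P, fun h => ?_, hxP, ?_⟩
      · -- an element outside the torus
        have hex : ∃ u ∈ (P : Subgroup PSL2), u ∉ A := by
          by_contra hcon
          push Not at hcon
          have h1 := Subgroup.card_dvd_of_le (fun u hu => hcon u hu : (P : Subgroup PSL2) ≤ A)
          rw [hGsyl, hAc] at h1
          have h2 : 2 ^ (k + 2) ∣ 2 ^ (k + 1) :=
            (Nat.Coprime.pow_left _ (Nat.coprime_two_left.2 hm)).dvd_of_dvd_mul_right h1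
          have := (Nat.pow_dvd_pow_iff_le_right (by norm_num : 1 < 2)).1 h2
          omega
        obtain ⟨u, hu, huA⟩ := hex
        have huC : u ∈ C := by rw [hP] at hu; exact Subgroup.map_subtype_le _ hu
        obtain ⟨i, rfl⟩ := hout u huC huA
        have h1 : c * (α ^ i * y) * c⁻¹ ∈ (P : Subgroup PSL2) := by
          have : c * (α ^ i * y) * c⁻¹ ∈ ((c • P : Sylow 2 PSL2) : Subgroup PSL2) :=
            Subgroup.smul_mem_pointwise_smul _ (MulAut.conj c) _ hu
          rwa [← h] at this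
        have hyc : y * c⁻¹ = c * y := by
          have h3 := hinv (-((2 ^ (k + 1) : ℕ) : ℤ))
          rw [neg_neg, zpow_neg, zpow_natCast, ← hc] at h3
          exact mul_inv_eq_iff_eq_mul.1 h3
        have hcomm : Commute c (α ^ i) := ((Commute.refl α).pow_left _).zpow_right i
        have h2 : c * c ∈ (P : Subgroup PSL2) := by
          have e : c * (α ^ i * y) * c⁻¹ * (α ^ i * y)⁻¹ = c * c := by
            calc c * (α ^ i * y) * c⁻¹ * (α ^ i * y)⁻¹ = c * α ^ i * (y * c⁻¹) * y⁻¹ * (α ^ i)⁻¹ := by group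
              _ = c * (α ^ i * c) * (α ^ i)⁻¹ := by rw [hyc]; group
              _ = _ := by rw [← hcomm.eq]; group
          rw [← e]
          exact (P : Subgroup PSL2).mul_mem h1 ((P : Subgroup PSL2).inv_mem hu)
        obtain ⟨l, hl⟩ := mem_powers P h2
        rw [← pow_two, orderOf_pow' c two_ne_zero, hco, show Nat.gcd m 2 = 1 from Nat.coprime_two_right.2 hm,
          Nat.div_one] at hl
        rcases l with _ | l
        · exact hm1 (by rw [hl, pow_zero])
        · exact Nat.not_even_iff_odd.2 hm (hl ▸ (Nat.even_pow.2 ⟨even_two, l.succ_ne_zero⟩))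
      · obtain ⟨i, hi⟩ := Subgroup.mem_zpowers_iff.1 hxA
        have hcomm : c * x * c⁻¹ = x := by
          rw [← hi, (((Commute.refl α).pow_left _).zpow_right i).eq, mul_inv_cancel_right]
        have := Subgroup.smul_mem_pointwise_smul x (MulAut.conj c) _ hxP
        rw [MulAut.smul_def, MulAut.conj_apply, hcomm] at this
        exact this
    intro x hx
    -- move the element into the torus
    obtain ⟨g, hg⟩ : ∃ g, g * x * g⁻¹ ∈ A := by
      by_cases hx1 : x = 1
      · exact ⟨1, by simp [hx1, one_mem]⟩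
      obtain ⟨j, hj⟩ := hx
      obtain ⟨j, rfl⟩ : ∃ i, j = i + 1 := ⟨j - 1, by
        have : j ≠ 0 := fun h => hx1 (orderOf_eq_one_iff.1 (by rw [hj, h, pow_zero]))
        omega⟩
      have hv : orderOf (x ^ 2 ^ j) = 2 := by
        rw [orderOf_pow' _ (by positivity), hj, Nat.gcd_eq_right (pow_dvd_pow 2 j.le_succ), pow_succ',
          Nat.mul_div_cancel _ (by positivity)]
      obtain ⟨g, hg⟩ := one_class hodd hv hz
      refine ⟨g, ?_⟩
      have hxC : g * x * g⁻¹ ∈ C := by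
        refine Subgroup.mem_centralizer_singleton_iff.2 ?_
        rw [← hg, ← conj_pow]
        exact ((Commute.refl (g * x * g⁻¹)).pow_right _).eq
      by_contra hA'
      obtain ⟨i, hi⟩ := hout _ hxC hA'
      have h2 : (g * x * g⁻¹) ^ 2 = 1 := by
        rw [hi, pow_two]
        calc α ^ i * y * (α ^ i * y) = α ^ i * (y * α ^ i * y⁻¹) * (y * y) := by group
          _ = 1 := by rw [hinv, hyy]; group
      rcases j with _ | j
      · rw [pow_zero, pow_one] at hg
        exact hA' (hg ▸ Subgroup.npow_mem_zpowers α _)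
      · have h3 := Nat.le_of_dvd two_pos (orderOf_dvd_of_pow_eq_one h2)
        rw [show orderOf (g * x * g⁻¹) = orderOf x from (MulAut.conj g).orderOf_eq x, hj] at h3
        have : 4 ≤ 2 ^ (j + 1 + 1) := by rw [show j + 1 + 1 = j + 2 from rfl, pow_add]; nlinarith [Nat.one_le_two_pow (n := j)]
        omega
    obtain ⟨P, P', hne, hP, hP'⟩ := htwo _ hg (by
      obtain ⟨j, hj⟩ := hx
      exact ⟨j, ((MulAut.conj g).orderOf_eq x).trans hj⟩)
    have hback : ∀ P : Sylow 2 PSL2, g * x * g⁻¹ ∈ P → x ∈ g⁻¹ • P := fun P hP => by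
      have h2 : g⁻¹ * (g * x * g⁻¹) * g⁻¹⁻¹ ∈ g⁻¹ • P := Subgroup.smul_mem_pointwise_smul _ (MulAut.conj g⁻¹) _ hP
      simpa [mul_assoc] using h2
    by_cases h1 : g⁻¹ • P = Q
    · exact ⟨g⁻¹ • P', fun h => hne (smul_left_cancel g⁻¹ (h1.trans h.symm)), hback _ hP'⟩
    · exact ⟨g⁻¹ • P, h1, hback _ hP⟩

theorem red_PSL_iff (p : ℕ) [Fact p.Prime] : Red p PSL2 ↔
    (p = 2 ∧ (¬ ∃ k : ℕ, Fintype.card F + 1 = 2 ^ k) ∧ (¬ ∃ k : ℕ, Fintype.card F = 2 ^ k) ∧
      ¬ ∃ k : ℕ, Fintype.card F = 2 ^ k + 1) := by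
  by_cases hp : p = 2
  swap
  · exact ⟨fun h => absurd h (not_red_PSL_odd p hp), fun h => absurd h.1 hp⟩
  subst hp
  set q := Fintype.card F with hq
  by_cases h2 : q % 2 = 0
  · refine ⟨fun h => absurd h (not_red_PSL_even h2), fun h => absurd ?_ h.2.2.1⟩
    obtain ⟨r, hr⟩ := CharP.exists F
    obtain ⟨n, hr', hn⟩ := FiniteField.card F r
    rw [← hq] at hn
    obtain rfl : r = 2 := ((Nat.prime_dvd_prime_iff_eq Nat.prime_two hr').1
      (Nat.prime_two.dvd_of_dvd_pow (hn ▸ Nat.dvd_of_mod_eq_zero h2))).symm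
    exact ⟨n, hn⟩
  have hodd : q % 2 = 1 := by omega
  have hq1 : 1 < q := Fintype.one_lt_card
  have hqsq : (q - 1) * (q + 1) = q ^ 2 - 1 := by
    have := Nat.sq_sub_sq q 1
    rw [one_pow] at this
    rw [this, mul_comm]
  have hdata : ∃ (n : ℕ) (a w : SL2), orderOf a = n ∧ w * a * w⁻¹ = a⁻¹ ∧ w * w = -1 ∧
      n = Nat.card {p : F × F // p.1 ^ 2 + p.2 ^ 2 = 1} ∧ 4 ∣ n ∧
      ((∃ j, n = 2 ^ j) ↔ ((∃ k, q + 1 = 2 ^ k) ∨ ∃ k, q = 2 ^ k + 1)) := by
    by_cases h4 : q % 4 = 1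
    · obtain ⟨a, w, h1, h3, h5⟩ := exists_split_torus q hq.symm
      refine ⟨q - 1, a, w, h1, h3, h5, (CfsgLib.Lie.PSL2Four.circle_one h4).symm, by omega,
        fun ⟨j, hj⟩ => Or.inr ⟨j, by omega⟩, ?_⟩
      rintro (⟨j, hj⟩ | ⟨j, hj⟩)
      · rcases j with _ | _ | j
        · omega
        · omega
        · rw [pow_add] at hj; omega
      · exact ⟨j, by omega⟩
    · obtain ⟨a, w, h1, h3, h5⟩ := exists_nonsplit_torus q hq.symm hodd (by omega) hqsq
      refine ⟨q + 1, a, w, h1, h3, h5, (CfsgLib.Lie.PSL2Four.circle_three (by omega)).symm, by omega,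
        fun ⟨j, hj⟩ => Or.inl ⟨j, hj⟩, ?_⟩
      rintro (⟨j, hj⟩ | ⟨j, hj⟩)
      · exact ⟨j, hj⟩
      · rcases j with _ | _ | j
        · omega
        · exact ⟨2, by omega⟩
        · rw [pow_add] at hj; omega
  obtain ⟨n, a, w, ha, hwa, hww, hn, h4n, hiff⟩ := hdata
  obtain ⟨e, m, hm, hnm⟩ := Nat.exists_eq_two_pow_mul_odd (n := n) (by rw [← ha]; exact (orderOf_pos a).ne')
  obtain ⟨k, rfl⟩ : ∃ k, e = k + 2 := ⟨e - 2, by
    by_contra hlt
    have h1 : 2 ^ 2 ∣ 2 ^ e := (Nat.Coprime.pow_left 2 (Nat.coprime_two_left.2 hm)).dvd_of_dvd_mul_right (hnm ▸ h4n)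
    have := (Nat.pow_dvd_pow_iff_le_right (by norm_num : 1 < 2)).1 h1
    omega⟩
  rw [red_PSL_two hodd a w ha hwa hww hn hnm hm]
  have hm1 : m = 1 ↔ ∃ j, n = 2 ^ j := by
    refine ⟨fun h => ⟨k + 2, by rw [hnm, h, mul_one]⟩, fun ⟨j, hj⟩ => ?_⟩
    obtain ⟨i, -, hi⟩ := (Nat.dvd_prime_pow Nat.prime_two).1 (hj ▸ hnm ▸ dvd_mul_left m (2 ^ (k + 2)))
    rcases i with _ | i
    · simpa using hi
    · exact absurd (hi ▸ Nat.even_pow.2 ⟨even_two, i.succ_ne_zero⟩) (Nat.not_even_iff_odd.2 hm)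
  rw [Ne, hm1, hiff]
  have hnp : ¬ ∃ k : ℕ, q = 2 ^ k := by
    rintro ⟨j, hj⟩
    rcases j with _ | j
    · omega
    · rw [pow_succ] at hj; omega
  tauto

theorem red_SL_iff (p : ℕ) [Fact p.Prime] : Red p SL2 ↔
    (p = 2 ∧ (¬ ∃ k : ℕ, Fintype.card F + 1 = 2 ^ k) ∧ (¬ ∃ k : ℕ, Fintype.card F = 2 ^ k) ∧
      ¬ ∃ k : ℕ, Fintype.card F = 2 ^ k + 1) := by
  by_cases hp : p = 2
  · subst hp
    exact red_SL_iff_PSL_two.trans (red_PSL_iff 2)
  · exact ⟨fun h => absurd h (not_red_SL_odd p hp), fun h => absurd h.1 hp⟩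

end CfsgLib.Perm.RedundantSylow
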