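import Cfsg.Agent.S0688

/-!
The data of a soluble exceptional regular linear group.
-/

set_option autoImplicit false
set_option linter.style.haveILetI false

namespace CfsgLib.Perm.RegularLinear

open CfsgLib.Perm.Fpf Cfsg.Agent.S0688

variable {p : ℕ} [Fact p.Prime] {V : Type*} [AddCommGroup V] [Module (ZMod p) V] [Finite V]

/-- Structure in the soluble exceptional case. -/
theorem exceptional_data (H : Subgroup (V ≃ₗ[ZMod p] V))
    (hreg : ∀ v w : V, v ≠ 0 → w ≠ 0 → ∃! h : H, (h : V ≃ₗ[ZMod p] V) v = w)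
    (hI : ∀ A : Subgroup H, A.Normal → IsCyclic A →
      ∃ W : Submodule (ZMod p) V, W ≠ ⊥ ∧ W ≠ ⊤ ∧ ∀ a ∈ A, ∀ v ∈ W, ((a : H) : V ≃ₗ[ZMod p] V) v ∈ W)
    (hsolv : Group.IsSolvable H) :
    (p = 5 ∨ p = 7 ∨ p = 11 ∨ p = 23) ∧ Nat.card V = p ^ 2 ∧ Nat.card H + 1 = p ^ 2 ∧
    ∃ (A : Subgroup H) (f : QuaternionGroup 2 →* H) (ψ : H →* MulAut (QuaternionGroup 2)),
      IsCyclic A ∧ (∀ a ∈ A, ∀ h : H, a * h = h * a) ∧ Nat.card A ∣ p - 1 ∧ ψ.ker = A ∧ Function.Injective f ∧
      (∀ h q, h * f q * h⁻¹ = f (ψ h q)) ∧ A.index ∣ 24 ∧ p + 1 ∣ A.index := by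
  classical
  haveI : Finite (V ≃ₗ[ZMod p] V) := Finite.of_injective (fun f => (f : V → V)) DFunLike.coe_injective
  haveI : Nontrivial V := by
    obtain ⟨W, hW, -⟩ := hI ⊥ inferInstance inferInstance
    obtain ⟨v, -, hv⟩ := (Submodule.ne_bot_iff _).1 hW
    exact ⟨v, 0, hv⟩
  let S : Set (Subgroup H) := {B | B.Normal ∧ IsMulCommutative B}
  obtain ⟨A, ⟨hAn, hAc⟩, hAmax'⟩ := (Set.toFinite S).exists_maximal ⟨⊥, inferInstance, inferInstance⟩
  have hAmax : ∀ B : Subgroup H, B.Normal → IsMulCommutative B → A ≤ B → B = A :=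
    fun B h1 h2 h3 => le_antisymm (hAmax' ⟨h1, h2⟩ h3) h3
  obtain ⟨-, hCna⟩ := Cfsg.Agent.S0685.result H hreg hI A hAn hAc hAmax
  haveI := hAn
  let T : Set (Subgroup H) := {M | M.Normal ∧ M ≤ Subgroup.centralizer (A : Set H) ∧ ¬ IsMulCommutative M}
  obtain ⟨N, ⟨hNn, hNle, hNna⟩, hNmin'⟩ := (Set.toFinite T).exists_minimal ⟨_, inferInstance, le_rfl, hCna⟩
  have hNmin : ∀ M : Subgroup H, M.Normal → M ≤ N → ¬ IsMulCommutative M → M = N :=
    fun M h1 h2 h3 => le_antisymm h2 (hNmin' ⟨h1, h2.trans hNle, h3⟩ h2)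
  obtain ⟨hirr, hCN⟩ := Cfsg.Agent.S0687.result H hreg hI A hAn hAc hAmax N hNn hNle hNna hNmin
  haveI := hNn
  rcases Cfsg.Agent.S0686.result H hreg hI A hAn hAc hAmax N hNn hNle hNna hNmin with ⟨⟨e⟩⟩ | ⟨⟨e⟩⟩
  swap
  · exfalso
    haveI : Group.IsSolvable (Matrix.SpecialLinearGroup (Fin 2) (ZMod 5)) :=
      Group.isSolvable_of_surjective (f := e.toMonoidHom) e.surjective
    haveI : Nontrivial (Matrix.SpecialLinearGroup (Fin 2) (ZMod 5)) :=
      Finite.one_lt_card_iff_nontrivial.1 (by rw [sl25_card]; norm_num)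
    exact (IsSolvable.commutator_lt_top_of_nontrivial _).ne sl25_perfect
  set φ : QuaternionGroup 2 →* Module.End (ZMod p) V := ((toEnd H).comp N.subtype).comp e.symm.toMonoidHom with hφ
  have hφinj : Function.Injective φ :=
    (toEnd_injective H).comp (N.subtype_injective.comp e.symm.injective)
  obtain ⟨r1, r2, r3, r4⟩ := q8_relations
  have hfix : ∀ q : QuaternionGroup 2, ∀ v, φ q v = v → v ≠ 0 → q = 1 := fun q v h hv => hφinj (by
    rw [map_one, show φ q = toEnd H (e.symm q : H) from rfl, fixed_eq_one hreg (g := (e.symm q : H)) hv h, map_one])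
  set z : Module.End (ZMod p) V := φ (QuaternionGroup.a 2) with hz
  have hzz : ∀ v, z (z v) = v := fun v => by
    rw [hz, ← Module.End.mul_apply, ← map_mul,
      show (QuaternionGroup.a 2 * QuaternionGroup.a 2 : QuaternionGroup 2) = 1 by decide, map_one]
    rfl
  have hzneg : z = -1 := LinearMap.ext fun v => by
    by_contra hne
    have h0 : v + z v ≠ 0 := fun h => hne (by rw [eq_neg_of_add_eq_zero_right h]; rfl)
    have := hfix _ (v + z v) (by rw [← hz, map_add, hzz, add_comm]) h0
    exact absurd this (by decide)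
  have hp2 : p ≠ 2 := fun h2 => by
    subst h2
    have := hφinj (a₁ := QuaternionGroup.a 2) (a₂ := 1) (by
      rw [← hz, hzneg, map_one]
      exact LinearMap.ext fun v => by
        show -v = v
        rw [← neg_one_smul (ZMod 2) v, show (-1 : ZMod 2) = 1 from rfl, one_smul])
    exact absurd this (by decide)
  have hmem : ∀ W : Submodule (ZMod p) V, (∀ v ∈ W, φ (QuaternionGroup.a 1) v ∈ W) →
      (∀ v ∈ W, φ (QuaternionGroup.xa 0) v ∈ W) → W = ⊥ ∨ W = ⊤ := by
    intro W h1 h2
    refine hirr W fun n hn v hv => ?_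
    have key : ∀ q : QuaternionGroup 2, ∀ v ∈ W, φ q v ∈ W := by
      intro q
      obtain ⟨m, k, rfl⟩ := q8_gen' q
      have hpow : ∀ (T : Module.End (ZMod p) V), (∀ v ∈ W, T v ∈ W) → ∀ l : ℕ, ∀ v ∈ W, (T ^ l) v ∈ W := by
        intro T hT l
        induction l with
        | zero => intro v hv; simpa using hv
        | succ l ih => intro v hv; rw [pow_succ', Module.End.mul_apply]; exact hT _ (ih v hv)
      intro v hv
      rw [map_mul, map_pow, map_pow, Module.End.mul_apply]
      exact hpow _ h1 _ _ (hpow _ h2 _ _ hv)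
    have h := key (e ⟨n, hn⟩) v hv
    rwa [show φ (e ⟨n, hn⟩) = toEnd H n from
      congrArg (fun x : N => toEnd H (x : H)) (e.symm_apply_apply _)] at h
  have hI' : φ (QuaternionGroup.a 1) * φ (QuaternionGroup.a 1) = -1 := by rw [← map_mul, r1]; exact hzneg
  have hJ' : φ (QuaternionGroup.xa 0) * φ (QuaternionGroup.xa 0) = -1 := by rw [← map_mul, r2]; exact hzneg
  have hJI' : φ (QuaternionGroup.xa 0) * φ (QuaternionGroup.a 1) =
      -(φ (QuaternionGroup.a 1) * φ (QuaternionGroup.xa 0)) := by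
    rw [← map_mul, r3, map_mul, map_mul, ← hz, hzneg, neg_one_mul]
  obtain ⟨hcardV, hscal⟩ := plane_of_pair hp2 _ _ hI' hJ' hJI' hmem
  -- the maximal abelian normal subgroup acts by scalars
  have hAle : Nat.card A ≤ p - 1 := by
    obtain ⟨v₀, hv₀⟩ := exists_ne (0 : V)
    have hc : ∀ a : A, ∃ c : (ZMod p)ˣ, toEnd H (a : H) = (c : ZMod p) • 1 := by
      intro a
      have hcomm : ∀ q, toEnd H (a : H) * φ q = φ q * toEnd H (a : H) := fun q => by
        rw [show φ q = toEnd H (e.symm q : H) from rfl, ← map_mul, ← map_mul,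
          Subgroup.mem_centralizer_iff.1 (hNle (e.symm q).2) (a : H) a.2]
      obtain ⟨c, hc⟩ := hscal _ (hcomm _) (hcomm _)
      have hc0 : c ≠ 0 := fun h0 => by
        have h1 : ((a : H) : V ≃ₗ[ZMod p] V) v₀ = 0 := by
          rw [← toEnd_apply, hc, h0, zero_smul]; rfl
        exact hv₀ ((LinearEquiv.map_eq_zero_iff _).1 h1)
      exact ⟨Units.mk0 c hc0, hc⟩
    choose c hc using hc
    have hinj : Function.Injective c := fun a b e => Subtype.ext (toEnd_injective H (by rw [hc, hc, e]))
    have := Nat.card_le_card_of_injective c hinj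
    rwa [Nat.card_units, Nat.card_zmod] at this
  -- the quotient acts faithfully on the quaternion group
  set ψ : H →* MulAut (QuaternionGroup 2) :=
    (MulAut.congr e).toMonoidHom.comp (MulAut.conjNormal (H := N)) with hψ
  have hker : ψ.ker = A := by
    rw [← hCN]
    ext h
    rw [hψ, MonoidHom.mem_ker, MonoidHom.comp_apply, MulEquiv.coe_toMonoidHom, EmbeddingLike.map_eq_one_iff, Subgroup.mem_centralizer_iff]
    constructor
    · intro hh n hn
      have := congrArg Subtype.val (DFunLike.congr_fun hh (⟨n, hn⟩ : N))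
      rw [MulAut.conjNormal_apply] at this
      exact (mul_inv_eq_iff_eq_mul.1 this).symm
    · intro hh
      refine MulEquiv.ext fun n => Subtype.ext ?_
      rw [MulAut.conjNormal_apply, ← hh n n.2, mul_inv_cancel_right]
      rfl
  have hm : A.index ∣ 24 := by
    rw [← hker, Subgroup.index_ker]
    exact (Subgroup.card_subgroup_dvd_card _).trans card_aut_q8
  have hH : Nat.card H + 1 = p ^ 2 := by rw [card_regular hreg, hcardV]
  have hAm : Nat.card A * A.index + 1 = p ^ 2 := by rw [A.card_mul_index]; exact hH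
  haveI : IsCyclic A := (Cfsg.Agent.S0684.result H hreg hI A hAn hAc hAmax).1
  have hAdvd : Nat.card A ∣ p - 1 := by
    obtain ⟨v₀, hv₀⟩ := exists_ne (0 : V)
    obtain ⟨-, W, hW0, hWt, -, -, hd⟩ := Cfsg.Agent.S0684.result H hreg hI A hAn hAc hAmax
    have h1 : Module.finrank (ZMod p) W = 1 := by
      have hlt : Module.finrank (ZMod p) W < 2 := by
        have := Submodule.finrank_lt hWt
        have h2 : Module.finrank (ZMod p) V = 2 := by
          rw [Module.natCard_eq_pow_finrank (K := ZMod p), Nat.card_zmod] at hcardV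
          exact Nat.pow_right_injective (Fact.out : p.Prime).two_le hcardV
        omega
      have : Module.finrank (ZMod p) W ≠ 0 := fun h0 => hW0 (Submodule.finrank_eq_zero.1 h0)
      omega
    rwa [h1, pow_one] at hd
  have hp : p.Prime := Fact.out
  have hpm : p + 1 ∣ A.index := by
    obtain ⟨t, ht⟩ := hAdvd
    have hA0 : 0 < Nat.card A := Nat.card_pos
    have h1 : Nat.card A * A.index = Nat.card A * (t * (p + 1)) := by
      rw [← mul_assoc, ← ht]
      have := hp.two_le
      zify [show 1 ≤ p by omega] at hAm ⊢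
      linear_combination hAm
    exact Dvd.intro_left t (Nat.eq_of_mul_eq_mul_left hA0 h1).symm
  have hp24 : p + 1 ∣ 24 := hpm.trans hm
  have hp3 : p ≠ 3 := by
    intro h3
    subst h3
    have hN8 : Nat.card N = 8 := by rw [Nat.card_congr e.toEquiv, Nat.card_eq_fintype_card, QuaternionGroup.card]
    have hNtop : N = ⊤ := Subgroup.eq_top_of_card_eq N (by rw [hN8]; omega)
    set B : Subgroup H := (Subgroup.zpowers (e.symm (QuaternionGroup.a 1))).map N.subtype with hB
    haveI : IsCyclic B :=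
      isCyclic_of_surjective _ ((Subgroup.zpowers (e.symm (QuaternionGroup.a 1))).equivMapOfInjective
        N.subtype N.subtype_injective).surjective
    have hB4 : Nat.card B = 4 := by
      rw [Subgroup.card_map_of_injective N.subtype_injective, Nat.card_zpowers, MulEquiv.orderOf_eq,
        QuaternionGroup.orderOf_a_one]
    haveI : B.Normal := Subgroup.normal_of_index_eq_two (by
      have := B.card_mul_index
      rw [hB4] at this; omega)
    obtain ⟨W, hW0, hWt, hWi⟩ := hI B inferInstance inferInstance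
    have hW1 : Module.finrank (ZMod 3) W = 1 := by
      have hlt := Submodule.finrank_lt hWt
      have h2 : Module.finrank (ZMod 3) V = 2 := by
        rw [Module.natCard_eq_pow_finrank (K := ZMod 3), Nat.card_zmod] at hcardV
        exact Nat.pow_right_injective le_add_self hcardV
      have : Module.finrank (ZMod 3) W ≠ 0 := fun h0 => hW0 (Submodule.finrank_eq_zero.1 h0)
      omega
    obtain ⟨v, hv, hv0⟩ := (Submodule.ne_bot_iff _).1 hW0
    have hmem1 : φ (QuaternionGroup.a 1) v ∈ W := hWi _ ⟨_, Subgroup.mem_zpowers _, rfl⟩ v hv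
    obtain ⟨c, hc⟩ := (finrank_eq_one_iff_of_nonzero' (⟨v, hv⟩ : W) (by simpa using hv0)).1 hW1 ⟨_, hmem1⟩
    have hc' : φ (QuaternionGroup.a 1) v = c • v := (congrArg Subtype.val hc).symm
    have h2 : ((c * c) • v : V) = -v := by
      have := LinearMap.congr_fun hI' v
      rw [Module.End.mul_apply, hc', map_smul, hc', smul_smul] at this
      exact this
    have h3 : ((c * c + 1) • v : V) = 0 := by rw [add_smul, h2, one_smul, neg_add_cancel]
    exact z3_sq c ((smul_eq_zero.1 h3).resolve_right hv0)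
  have hle : p + 1 ≤ 24 := Nat.le_of_dvd (by norm_num) hp24
  have hmem' : p = 5 ∨ p = 7 ∨ p = 11 ∨ p = 23 := by
    have h := hp.two_le
    have h' : p ≤ 23 := by omega
    interval_cases p <;> first | omega | (norm_num at hp; done) | (exfalso; omega)
  refine ⟨hmem', hcardV, hH, A, N.subtype.comp e.symm.toMonoidHom, ψ, inferInstance, ?_, hAdvd, hker,
    N.subtype_injective.comp e.symm.injective, ?_, hm, hpm⟩
  · intro a ha h
    refine toEnd_injective H ?_
    have hcomm : ∀ q, toEnd H a * φ q = φ q * toEnd H a := fun q => by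
      rw [show φ q = toEnd H (e.symm q : H) from rfl, ← map_mul, ← map_mul,
        Subgroup.mem_centralizer_iff.1 (hNle (e.symm q).2) a ha]
    obtain ⟨c, hc⟩ := hscal _ (hcomm _) (hcomm _)
    rw [map_mul, map_mul, hc, smul_mul_assoc, mul_smul_comm, one_mul, mul_one]
  · intro h q
    show h * (e.symm q : H) * h⁻¹ = ((e.symm (e (MulAut.conjNormal h (e.symm q)))) : H)
    rw [e.symm_apply_apply, MulAut.conjNormal_apply]

end CfsgLib.Perm.RegularLinear
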