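import Mathlib

/-!
Linear groups regular on the non-zero vectors: normal subgroups and their irreducible submodules.
-/

set_option autoImplicit false
set_option linter.style.haveILetI false

namespace CfsgLib.Perm.RegularLinear

variable {p : ℕ} [hp : Fact p.Prime] {V : Type*} [AddCommGroup V] [Module (ZMod p) V]
  (H : Subgroup (V ≃ₗ[ZMod p] V))

local notation "End'" => Module.End (ZMod p) V

/-- The linear map underlying a group element. -/
def toEnd : H →* End' where
  toFun h := ((h : V ≃ₗ[ZMod p] V) : V →ₗ[ZMod p] V)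
  map_one' := rfl
  map_mul' _ _ := rfl

theorem toEnd_apply (h : H) (v : V) : toEnd H h v = (h : V ≃ₗ[ZMod p] V) v := rfl

theorem toEnd_injective : Function.Injective (toEnd H) := fun a b h =>
  Subtype.ext (LinearEquiv.ext fun v => LinearMap.congr_fun h v)

/-- Invariance under a subgroup. -/
def Inv (N : Subgroup H) (W : Submodule (ZMod p) V) : Prop :=
  ∀ n ∈ N, ∀ v ∈ W, ((n : H) : V ≃ₗ[ZMod p] V) v ∈ W

/-- Irreducible invariant submodule. -/
def Irr (N : Subgroup H) (W : Submodule (ZMod p) V) : Prop :=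
  W ≠ ⊥ ∧ Inv H N W ∧ ∀ W' : Submodule (ZMod p) V, W' ≤ W → Inv H N W' → W' = ⊥ ∨ W' = W

variable [Finite V] {H}

theorem exists_irr {N : Subgroup H} {U : Submodule (ZMod p) V} (hU : U ≠ ⊥) (hi : Inv H N U) :
    ∃ W ≤ U, Irr H N W := by
  haveI : Finite (Submodule (ZMod p) V) :=
    Finite.of_injective (fun W => (W : Set V)) SetLike.coe_injective
  obtain ⟨W, hWU, hW⟩ := Finite.exists_le_minimal (p := fun W => W ≠ ⊥ ∧ Inv H N W) ⟨hU, hi⟩
  refine ⟨W, hWU, hW.1.1, hW.1.2, fun W' hle hi' => or_iff_not_imp_left.2 fun hne => ?_⟩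
  exact le_antisymm hle (hW.2 ⟨hne, hi'⟩ hle)

theorem inv_map {N : Subgroup H} [N.Normal] {W : Submodule (ZMod p) V} (hW : Inv H N W) (h : H) :
    Inv H N (W.map (toEnd H h)) := by
  rintro n hn _ ⟨v, hv, rfl⟩
  have hm : h⁻¹ * n * h ∈ N := by
    simpa using Subgroup.Normal.conj_mem (inferInstance : N.Normal) n hn h⁻¹
  refine ⟨_, hW _ hm v hv, ?_⟩
  show toEnd H h (toEnd H (h⁻¹ * n * h) v) = toEnd H n (toEnd H h v)
  rw [← Module.End.mul_apply, ← map_mul, ← Module.End.mul_apply, ← map_mul]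
  congr 2
  group

theorem map_map_inv (W : Submodule (ZMod p) V) (h : H) :
    (W.map (toEnd H h⁻¹)).map (toEnd H h) = W := by
  rw [← Submodule.map_comp, show toEnd H h ∘ₗ toEnd H h⁻¹ = toEnd H (h * h⁻¹) from (map_mul _ _ _).symm,
    mul_inv_cancel, map_one]
  exact Submodule.map_id W

theorem irr_map {N : Subgroup H} [N.Normal] {W : Submodule (ZMod p) V} (hW : Irr H N W) (h : H) :
    Irr H N (W.map (toEnd H h)) := by
  obtain ⟨h0, hi, hmin⟩ := hW
  refine ⟨?_, inv_map hi h, fun W' hle hi' => ?_⟩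
  · intro hb
    apply h0
    have := map_map_inv (H := H) W h⁻¹
    rw [inv_inv, hb, Submodule.map_bot] at this
    exact this.symm
  · have hle' : W'.map (toEnd H h⁻¹) ≤ W := by
      have := Submodule.map_mono (f := toEnd H h⁻¹) hle
      have h2 := map_map_inv (H := H) W h⁻¹
      rw [inv_inv] at h2
      rwa [h2] at this
    rcases hmin _ hle' (inv_map hi' h⁻¹) with h1 | h1
    · left; rw [← map_map_inv (H := H) W' h, h1, Submodule.map_bot]
    · right; rw [← map_map_inv (H := H) W' h, h1]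

/-- A regular group is transitive on non-zero vectors. -/
theorem exists_irr_mem
    (hreg : ∀ v w : V, v ≠ 0 → w ≠ 0 → ∃! h : H, (h : V ≃ₗ[ZMod p] V) v = w)
    {N : Subgroup H} [N.Normal] {W : Submodule (ZMod p) V} (hW : Irr H N W) {v : V} (hv : v ≠ 0) :
    ∃ Z, Irr H N Z ∧ v ∈ Z ∧ Nat.card Z = Nat.card W := by
  obtain ⟨w, hw, hw0⟩ := (Submodule.ne_bot_iff _).1 hW.1
  obtain ⟨h, hh, -⟩ := hreg w v hw0 hv
  refine ⟨_, irr_map hW h, ⟨w, hw, hh⟩, ?_⟩
  exact Nat.card_congr (Submodule.equivMapOfInjective _ ((h : V ≃ₗ[ZMod p] V).injective) W).toEquiv.symm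

theorem irr_eq {N : Subgroup H} {A B : Submodule (ZMod p) V} (hA : Irr H N A) (hB : Irr H N B)
    {x : V} (hx : x ≠ 0) (hxA : x ∈ A) (hxB : x ∈ B) : A = B := by
  have hi : Inv H N (A ⊓ B) := fun n hn v hv => ⟨hA.2.1 n hn v hv.1, hB.2.1 n hn v hv.2⟩
  have hne : A ⊓ B ≠ ⊥ := fun h => hx ((Submodule.mem_bot (ZMod p)).1 (h ▸ ⟨hxA, hxB⟩))
  have h1 := (hA.2.2 _ inf_le_left hi).resolve_left hne
  have h2 := (hB.2.2 _ inf_le_right hi).resolve_left hne
  rw [← h1, h2]

/-- The algebra of a normal subgroup with a proper invariant subspace has no zero divisors. -/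
theorem injective_of_reducible
    (hreg : ∀ v w : V, v ≠ 0 → w ≠ 0 → ∃! h : H, (h : V ≃ₗ[ZMod p] V) v = w)
    {N : Subgroup H} [N.Normal] {W : Submodule (ZMod p) V} (hW : Irr H N W) (hWtop : W ≠ ⊤)
    {r : End'} (hr : r ∈ Algebra.adjoin (ZMod p) ((toEnd H) '' (N : Set H))) (hr0 : r ≠ 0) :
    Function.Injective r := by
  have hpres : ∀ Z : Submodule (ZMod p) V, Inv H N Z → ∀ z ∈ Z, r z ∈ Z := by
    intro Z hZ
    induction hr using Algebra.adjoin_induction with
    | mem x hx => obtain ⟨n, hn, rfl⟩ := hx; exact hZ n hn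
    | algebraMap c => intro z hz; rw [Module.algebraMap_end_apply]; exact Z.smul_mem c hz
    | add x y _ _ hx hy =>
      intro z hz; rw [LinearMap.add_apply]
      by_cases hx0 : x = 0
      · by_cases hy0 : y = 0
        · simp [hx0, hy0]
        · rw [hx0, LinearMap.zero_apply, zero_add]; exact hy hy0 z hz
      · by_cases hy0 : y = 0
        · rw [hy0, LinearMap.zero_apply, add_zero]; exact hx hx0 z hz
        · exact Z.add_mem (hx hx0 z hz) (hy hy0 z hz)
    | mul x y _ _ hx hy =>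
      intro z hz
      have hx0 : x ≠ 0 := fun h => hr0 (by rw [h, zero_mul])
      have hy0 : y ≠ 0 := fun h => hr0 (by rw [h, mul_zero])
      exact hx hx0 _ (hy hy0 z hz)
  rw [← LinearMap.ker_eq_bot, Submodule.eq_bot_iff]
  intro w hw
  rw [LinearMap.mem_ker] at hw
  by_contra hw0
  obtain ⟨Zw, hZw, hwZ, hcard⟩ := exists_irr_mem hreg hW hw0
  have hout : ∀ v, v ∉ Zw → r v = 0 := by
    intro v hv
    have hv0 : v ≠ 0 := fun h => hv (h ▸ Zw.zero_mem)
    have hx0 : v + w ≠ 0 := fun h => hv (by rw [eq_neg_of_add_eq_zero_left h]; exact Zw.neg_mem hwZ)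
    obtain ⟨Z, hZ, hxZ, -⟩ := exists_irr_mem hreg hW hx0
    obtain ⟨Zv, hZv, hvZ, -⟩ := exists_irr_mem hreg hW hv0
    by_contra hne
    have h1 : r v ∈ Z := by simpa [hw] using hpres Z hZ.2.1 _ hxZ
    have h2 : Z = Zv := irr_eq hZ hZv hne h1 (hpres Zv hZv.2.1 v hvZ)
    have h3 : w ∈ Zv := by
      have := Zv.sub_mem (h2 ▸ hxZ) hvZ
      rwa [add_sub_cancel_left] at this
    exact hv (irr_eq hZw hZv hw0 hwZ h3 ▸ hvZ)
  have hZtop : Zw ≠ ⊤ := by
    intro h
    apply hWtop
    refine SetLike.coe_injective (Set.eq_of_subset_of_ncard_le (Set.subset_univ _) ?_ (Set.toFinite _))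
    rw [Submodule.top_coe, Set.ncard_univ, ← Nat.card_coe_set_eq]
    show Nat.card V ≤ Nat.card W
    rw [← hcard, h]
    exact le_of_eq (Nat.card_congr (LinearEquiv.ofTop (⊤ : Submodule (ZMod p) V) rfl).toEquiv).symm
  obtain ⟨v, -, hv⟩ := SetLike.exists_of_lt (lt_top_iff_ne_top.2 hZtop)
  refine hr0 (LinearMap.ext fun x => ?_)
  rw [LinearMap.zero_apply]
  by_cases hx : x ∈ Zw
  · have hxv : x + v ∉ Zw := fun h => hv (by simpa using Zw.sub_mem h hx)
    have := hout _ hxv
    rwa [map_add, hout v hv, add_zero] at this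
  · exact hout x hx

theorem isField_of_injective [Nontrivial V] (S : Subalgebra (ZMod p) End')
    (h : ∀ r ∈ S, r ≠ 0 → Function.Injective r) : IsField S := by
  haveI : Finite End' := Finite.of_injective (fun f => (f : V → V)) DFunLike.coe_injective
  haveI : Nontrivial S := ⟨0, 1, fun h0 => by
    obtain ⟨v, hv⟩ := exists_ne (0 : V)
    exact hv (LinearMap.congr_fun (congrArg Subtype.val h0) v).symm⟩
  haveI : NoZeroDivisors S := ⟨fun {a b} hab => or_iff_not_imp_left.2 fun ha => by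
    have hinj := h _ a.2 (fun h0 => ha (Subtype.ext h0))
    refine Subtype.ext (LinearMap.ext fun v => hinj ?_)
    have := LinearMap.congr_fun (congrArg Subtype.val hab) v
    simpa using this⟩
  haveI : IsDomain S := NoZeroDivisors.to_isDomain S
  exact Finite.isDomain_to_isField S

/-- A subgroup lying in such an algebra is cyclic. -/
theorem isCyclic_of_field [Nontrivial V] {N : Subgroup H} (S : Subalgebra (ZMod p) End')
    (h : ∀ r ∈ S, r ≠ 0 → Function.Injective r) (hN : ∀ n ∈ N, toEnd H n ∈ S) : IsCyclic N := by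
  letI := (isField_of_injective S h).toField
  haveI : Finite (V ≃ₗ[ZMod p] V) := Finite.of_injective (fun f => (f : V → V)) DFunLike.coe_injective
  let φ : N →* S :=
    { toFun := fun n => ⟨toEnd H n, hN n n.2⟩
      map_one' := Subtype.ext (map_one (toEnd H))
      map_mul' := fun a b => Subtype.ext (map_mul (toEnd H) (a : H) b) }
  exact isCyclic_of_injective_ringHom φ
    fun a b hab => Subtype.ext (toEnd_injective H (congrArg Subtype.val hab))

theorem isCyclic_of_reducible [Nontrivial V]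
    (hreg : ∀ v w : V, v ≠ 0 → w ≠ 0 → ∃! h : H, (h : V ≃ₗ[ZMod p] V) v = w)
    {N : Subgroup H} [N.Normal] {W : Submodule (ZMod p) V} (hW : Irr H N W) (hWtop : W ≠ ⊤) :
    IsCyclic N :=
  isCyclic_of_field (Algebra.adjoin (ZMod p) ((toEnd H) '' (N : Set H)))
    (fun _ hr hr0 => injective_of_reducible hreg hW hWtop hr hr0)
    fun n hn => Algebra.subset_adjoin ⟨n, hn, rfl⟩

theorem injective_of_irreducible {N : Subgroup H} (hirr : ∀ W, Inv H N W → W = ⊥ ∨ W = ⊤)
    {r : End'} (hr : r ∈ Subalgebra.centralizer (ZMod p) ((toEnd H) '' (N : Set H))) (hr0 : r ≠ 0) :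
    Function.Injective r := by
  rw [← LinearMap.ker_eq_bot]
  refine (hirr (LinearMap.ker r) fun n hn v hv => ?_).resolve_right fun h => hr0 (LinearMap.ker_eq_top.1 h)
  rw [LinearMap.mem_ker] at hv ⊢
  have h1 : toEnd H n * r = r * toEnd H n := hr _ ⟨n, hn, rfl⟩
  have := LinearMap.congr_fun h1 v
  simp only [Module.End.mul_apply, toEnd_apply, hv, map_zero] at this
  exact this.symm

theorem isCyclic_centralizer_of_irreducible [Nontrivial V] {N : Subgroup H}
    (hirr : ∀ W, Inv H N W → W = ⊥ ∨ W = ⊤) : IsCyclic (Subgroup.centralizer (N : Set H)) :=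
  isCyclic_of_field (Subalgebra.centralizer (ZMod p) ((toEnd H) '' (N : Set H)))
    (fun _ hr hr0 => injective_of_irreducible hirr hr hr0)
    (fun c hc => by
      rintro _ ⟨n, hn, rfl⟩
      rw [← map_mul, ← map_mul, Subgroup.mem_centralizer_iff.1 hc n hn])

/-- A normal abelian subgroup is cyclic. -/
theorem isCyclic_of_abelian [Nontrivial V]
    (hreg : ∀ v w : V, v ≠ 0 → w ≠ 0 → ∃! h : H, (h : V ≃ₗ[ZMod p] V) v = w)
    (A : Subgroup H) [A.Normal] (hA : IsMulCommutative A) : IsCyclic A := by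
  by_cases hirr : ∀ W, Inv H A W → W = ⊥ ∨ W = ⊤
  · haveI := isCyclic_centralizer_of_irreducible hirr
    have hle : A ≤ Subgroup.centralizer (A : Set H) := Subgroup.le_centralizer A
    exact isCyclic_of_injective (Subgroup.inclusion hle) (Subgroup.inclusion_injective hle)
  · push Not at hirr
    obtain ⟨U, hU, hb, ht⟩ := hirr
    obtain ⟨W, hWU, hW⟩ := exists_irr hb hU
    exact isCyclic_of_reducible hreg hW fun h => ht (top_le_iff.1 (h ▸ hWU))

end CfsgLib.Perm.RegularLinear
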