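import Cfsg.Agent.Perm.ZassenhausSplit
import Cfsg.Agent.Perm.RegularLinear

/-!
Insoluble linear groups regular on the non-zero vectors.
-/

set_option autoImplicit false
set_option linter.style.haveILetI false

namespace CfsgLib.Perm.RegularLinear

open CfsgLib.Perm.Fpf

variable {p : ℕ} [hp : Fact p.Prime] {V : Type*} [AddCommGroup V] [Module (ZMod p) V] [Finite V]
  {H : Subgroup (V ≃ₗ[ZMod p] V)}

theorem fixed_eq_one (hreg : ∀ v w : V, v ≠ 0 → w ≠ 0 → ∃! h : H, (h : V ≃ₗ[ZMod p] V) v = w)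
    {g : H} {v : V} (hv : v ≠ 0) (hg : (g : V ≃ₗ[ZMod p] V) v = v) : g = 1 :=
  (hreg v v hv hv).unique hg rfl

theorem card_regular [Nontrivial V] (hreg : ∀ v w : V, v ≠ 0 → w ≠ 0 → ∃! h : H, (h : V ≃ₗ[ZMod p] V) v = w) :
    Nat.card H + 1 = Nat.card V := by
  classical
  obtain ⟨v₀, hv₀⟩ := exists_ne (0 : V)
  let f : H → {w : V // w ≠ 0} := fun h => ⟨(h : V ≃ₗ[ZMod p] V) v₀, fun e => hv₀ ((LinearEquiv.map_eq_zero_iff _).1 e)⟩
  have hf : Function.Bijective f :=
    ⟨fun a b e => (hreg v₀ _ hv₀ (f a).2).unique rfl (congrArg Subtype.val e).symm, fun w => by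
      obtain ⟨h, hh, -⟩ := hreg v₀ w.1 hv₀ w.2
      exact ⟨h, Subtype.ext hh⟩⟩
  letI := Fintype.ofFinite V
  rw [Nat.card_congr (Equiv.ofBijective f hf), Nat.card_eq_fintype_card, Nat.card_eq_fintype_card,
    Fintype.card_subtype_compl, Fintype.card_subtype_eq]
  have : 0 < Fintype.card V := Fintype.card_pos
  omega

theorem not_dvd_card_regular [Nontrivial V]
    (hreg : ∀ v w : V, v ≠ 0 → w ≠ 0 → ∃! h : H, (h : V ≃ₗ[ZMod p] V) v = w) :
    ¬ p ∣ Nat.card H := by
  intro hd
  have h1 := card_regular hreg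
  have hpV : p ∣ Nat.card V := by
    rw [Module.natCard_eq_pow_finrank (K := ZMod p), Nat.card_zmod]
    exact dvd_pow_self p Module.finrank_pos.ne'
  rw [← h1] at hpV
  exact hp.out.ne_one (Nat.dvd_one.1 ((Nat.dvd_add_right hd).1 hpV))

theorem hasFpf_regular [Nontrivial V] [Finite H]
    (hreg : ∀ v w : V, v ≠ 0 → w ≠ 0 → ∃! h : H, (h : V ≃ₗ[ZMod p] V) v = w) : HasFpf H := by
  refine hasFpf_of_module (l := p) (V := V) (fun v => ?_) (not_dvd_card_regular hreg)
    { toFun := fun h => ((h : V ≃ₗ[ZMod p] V).toAddEquiv.toAddMonoidHom).toIntLinearMap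
      map_one' := rfl
      map_mul' := fun a b => rfl } fun g hg v hv => ?_
  · rw [← Nat.cast_smul_eq_nsmul (ZMod p), ZMod.natCast_self, zero_smul]
  · by_contra h0
    exact hg (fixed_eq_one hreg h0 hv)

/-- The numerical part. -/
theorem arith_regular {q d m i : ℕ} (hd : 2 ≤ d) (hm : Nat.Coprime m 30) (hmq : m ∣ q - 1)
    (hi : i = 1 ∨ i = 2) (hq : IsPrimePow q) (hq30 : Nat.Coprime q 30) (heq : 120 * m * i + 1 = q ^ d) :
    d = 2 ∧ i = 1 ∧ ((q = 11 ∧ m = 1) ∨ (q = 29 ∧ m = 7) ∨ (q = 59 ∧ m = 29)) := by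
  obtain ⟨c, hc⟩ := hmq
  have hq7 : 7 ≤ q := by
    have := hq.one_lt
    by_contra hlt
    interval_cases q <;> simp_all (config := {decide := true})
  have hm0 : 0 < m := by
    rcases Nat.eq_zero_or_pos m with rfl | h
    · simp at hm
    · exact h
  -- the geometric sum divides `240`
  have hgeom := Nat.geomSum_eq (show 2 ≤ q by omega) d
  have hdvd : (q - 1) ∣ q ^ d - 1 := by simpa using Nat.sub_dvd_pow_sub_pow q 1 d
  obtain ⟨Q, hQ⟩ := hdvd
  have hsum : ∑ k ∈ Finset.range d, q ^ k = Q := by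
    rw [hgeom, hQ, Nat.mul_div_cancel_left _ (by omega)]
  have hQ240 : c * Q = 120 * i := by
    have h1 : m * (c * Q) = m * (120 * i) := by
      rw [← mul_assoc, ← hc, ← hQ, ← heq]; simp; ring
    exact Nat.eq_of_mul_eq_mul_left hm0 h1
  have hQd : Q ∣ 240 := by
    have : Q ∣ 120 * i := ⟨c, by rw [← hQ240, mul_comm]⟩
    rcases hi with rfl | rfl
    · exact this.trans (by norm_num)
    · exact this
  have hd3 : d ≤ 3 := by
    by_contra h4
    have : ∑ k ∈ Finset.range 4, q ^ k ≤ Q := hsum ▸ Finset.sum_le_sum_of_subset (Finset.range_mono (by omega))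
    simp only [Finset.sum_range_succ, Finset.range_zero, Finset.sum_empty] at this
    have hle := Nat.le_of_dvd (by norm_num) hQd
    nlinarith [Nat.pow_le_pow_left hq7 3, Nat.pow_le_pow_left hq7 2]
  interval_cases d
  · have hQ' : Q = q + 1 := by rw [← hsum]; simp [Finset.sum_range_succ]; ring
    subst hQ'
    have hmem := Nat.mem_divisors.2 ⟨hQd, by norm_num⟩
    rw [show Nat.divisors 240 = {1, 2, 3, 4, 5, 6, 8, 10, 12, 15, 16, 20, 24, 30, 40, 48, 60, 80, 120, 240} by decide] at hmem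
    simp only [Finset.mem_insert, Finset.mem_singleton] at hmem
    have hnp : ∀ n ∈ ([9, 14, 15, 39, 119] : List ℕ), ¬ (IsPrimePow n ∧ Nat.Coprime n 30) := by
      intro n hn ⟨hn1, hn2⟩
      simp only [List.mem_cons, List.not_mem_nil, or_false] at hn
      rcases hn with rfl | rfl | rfl | rfl | rfl <;> revert hn1 hn2 <;> norm_num [isPrimePow_nat_iff_bounded_log]
      · decide
    have hqs : q = 7 ∨ q = 11 ∨ q = 19 ∨ q = 23 ∨ q = 29 ∨ q = 47 ∨ q = 59 ∨ q = 79 ∨ q = 239 := by
      rcases hmem with h | h | h | h | h | h | h | h | h | h | h | h | h | h | h | h | h | h | h | h <;>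
        first
          | omega
          | exact absurd ⟨hq, hq30⟩ (hnp q (by simp; omega))
    have hi' : 120 * m * i + 1 = q ^ 2 := heq
    rcases hqs with rfl | rfl | rfl | rfl | rfl | rfl | rfl | rfl | rfl <;> rcases hi with rfl | rfl <;>
      norm_num at hi' ⊢ <;>
      first
        | omega
        | (exfalso
           have h' : m = 3 ∨ m = 52 ∨ m = 26 ∨ m = 476 ∨ m = 238 := by omega
           rcases h' with rfl | rfl | rfl | rfl | rfl <;> norm_num at hm)
  · exfalso
    have hQ' : Q = q * q + q + 1 := by rw [← hsum]; simp [Finset.sum_range_succ]; ring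
    have hle := Nat.le_of_dvd (by norm_num) hQd
    have : q ≤ 15 := by nlinarith
    subst hQ'
    interval_cases q <;> revert hQd <;> decide

/-- Insoluble groups regular on the non-zero vectors. -/
theorem insoluble_regular [Nontrivial V] [Finite H]
    (hreg : ∀ v w : V, v ≠ 0 → w ≠ 0 → ∃! h : H, (h : V ≃ₗ[ZMod p] V) v = w) (hns : ¬ Group.IsSolvable H) :
    ∃ q m : ℕ, Nat.card V = q ^ 2 ∧ ((q = 11 ∧ m = 1) ∨ (q = 29 ∧ m = 7) ∨ (q = 59 ∧ m = 29)) ∧
      Nonempty (H ≃* Matrix.SpecialLinearGroup (Fin 2) (ZMod 5) × Multiplicative (ZMod m)) := by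
  classical
  have hfpf := hasFpf_regular hreg
  obtain ⟨L, M, hLn, hMn, hn, hidx, hinf, hcomm, hLp, ⟨eL⟩, hMcyc, hMco⟩ := split_of_fpf hfpf hns
  haveI := hLn
  haveI := hMn
  haveI hLnt : Nontrivial L := by
    rw [← Finite.one_lt_card_iff_nontrivial, Nat.card_congr eL.toEquiv, sl25_card]; norm_num
  have hLnc : ¬ IsMulCommutative L := fun hc => by
    haveI : Group.IsSolvable L := Group.isSolvable_of_comm fun a b => mul_comm' a b
    exact not_perfect_of_solvable (CfsgLib.Perm.Fpf.perfect_subtype hLp)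
  have hirr : ∀ W, Inv H L W → W = ⊥ ∨ W = ⊤ := by
    intro U hU
    by_contra h
    push Not at h
    obtain ⟨W, hWU, hW⟩ := exists_irr h.1 hU
    haveI := isCyclic_of_reducible hreg hW (fun e => h.2 (top_le_iff.1 (e ▸ hWU)))
    exact hLnc IsCyclic.isMulCommutative
  set S := Subalgebra.centralizer (ZMod p) ((toEnd H) '' (L : Set H)) with hS
  have hSinj : ∀ r ∈ S, r ≠ 0 → Function.Injective r := fun r hr hr0 => injective_of_irreducible hirr hr hr0
  haveI : Finite (Module.End (ZMod p) V) := Finite.of_injective (fun f => (f : V → V)) DFunLike.coe_injective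
  letI : Field S := (isField_of_injective S hSinj).toField
  letI modS : Module S V :=
    { smul := fun s v => (s : Module.End (ZMod p) V) v
      one_smul := fun v => rfl
      mul_smul := fun a b v => rfl
      smul_zero := fun a => map_zero (a : Module.End (ZMod p) V)
      smul_add := fun a => map_add (a : Module.End (ZMod p) V)
      add_smul := fun a b v => rfl
      zero_smul := fun v => rfl }
  haveI : Module.Finite S V := Module.Finite.of_finite
  set q := Nat.card S with hq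
  set d := Module.finrank S V with hd
  have hcardV : Nat.card V = q ^ d := Module.natCard_eq_pow_finrank
  have hd2 : 2 ≤ d := by
    by_contra hd1
    have hd0 : 0 < d := Module.finrank_pos
    obtain ⟨v₀, hv₀, hspan⟩ := finrank_eq_one_iff'.1 (show Module.finrank S V = 1 by omega)
    refine hLnc ⟨⟨fun a b => ?_⟩⟩
    have key : ∀ (x : L) (s : S) (v : V), toEnd H (x : H) (s • v) = s • toEnd H (x : H) v := fun x s v =>
      LinearMap.congr_fun (s.2 _ ⟨(x : H), x.2, rfl⟩) v
    obtain ⟨s, hs⟩ := hspan (toEnd H (a : H) v₀)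
    obtain ⟨t, ht⟩ := hspan (toEnd H (b : H) v₀)
    have h0 : toEnd H (((a * b : L) : H)) v₀ = toEnd H (((b * a : L) : H)) v₀ := by
      rw [Subgroup.coe_mul, Subgroup.coe_mul, map_mul, map_mul, Module.End.mul_apply, Module.End.mul_apply,
        ← ht, ← hs, key, key, ← hs, ← ht, smul_smul, smul_smul, mul_comm]
    refine Subtype.ext (toEnd_injective H (LinearMap.ext fun v => ?_))
    obtain ⟨w, rfl⟩ := hspan v
    rw [key, key, h0]
  obtain ⟨m, hm⟩ : ∃ m, m = Nat.card M := ⟨_, rfl⟩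
  have hMS : ∀ x ∈ M, toEnd H x ∈ S := fun x hx => by
    rintro _ ⟨l, hl, rfl⟩
    rw [← map_mul, ← map_mul, hcomm l hl x hx]
  let φ : M →* Sˣ := MonoidHom.toHomUnits
    { toFun := fun x => (⟨toEnd H (x : H), hMS x x.2⟩ : S)
      map_one' := Subtype.ext (map_one (toEnd H))
      map_mul' := fun a b => Subtype.ext (map_mul (toEnd H) (a : H) (b : H)) }
  have hφ : Function.Injective φ := fun a b e =>
    Subtype.ext (toEnd_injective H (congrArg (fun u : Sˣ => ((u : S) : Module.End (ZMod p) V)) e))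
  have hmq : m ∣ q - 1 := by
    rw [hm, hq, ← Nat.card_units]
    exact Subgroup.card_dvd_of_injective φ hφ
  have hcardH : Nat.card H = 120 * m * (L ⊔ M).index := by
    have h1 : Nat.card (L ⊔ M : Subgroup H) = 120 * m := by
      rw [hm, ← sl25_card, ← Nat.card_congr eL.toEquiv, ← Nat.card_prod]
      refine (Nat.card_congr (Equiv.ofBijective (fun p : L × M =>
        (⟨(p.1 : H) * p.2, mul_mem (Subgroup.mem_sup_left p.1.2) (Subgroup.mem_sup_right p.2.2)⟩ :
          (L ⊔ M : Subgroup H))) ⟨?_, ?_⟩)).symm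
      · rintro ⟨⟨a, ha⟩, ⟨b, hb⟩⟩ ⟨⟨c, hc⟩, ⟨d, hd⟩⟩ e
        have e' : a * b = c * d := congrArg Subtype.val e
        have h1 : c⁻¹ * a = d * b⁻¹ := by rw [eq_mul_inv_iff_mul_eq, mul_assoc, e', inv_mul_cancel_left]
        have h2 : c⁻¹ * a ∈ L ⊓ M :=
          Subgroup.mem_inf.2 ⟨mul_mem (inv_mem hc) ha, h1 ▸ mul_mem hd (inv_mem hb)⟩
        rw [hinf, Subgroup.mem_bot, inv_mul_eq_one] at h2
        subst h2
        simp [mul_left_cancel e']
      · rintro ⟨x, hx⟩
        have hx' : x ∈ ((L ⊔ M : Subgroup H) : Set H) := hx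
        rw [Subgroup.normal_mul] at hx'
        obtain ⟨a, ha, b, hb, rfl⟩ := hx'
        exact ⟨⟨⟨a, ha⟩, ⟨b, hb⟩⟩, rfl⟩
    rw [← h1, Subgroup.card_mul_index]
  have hqp : IsPrimePow q := by
    haveI : Finite S := Subtype.finite
    letI := Fintype.ofFinite S
    rw [hq, Nat.card_eq_fintype_card]
    exact FiniteField.isPrimePow_card S
  have hq30 : Nat.Coprime q 30 := by
    have h30 : 30 ∣ Nat.card H := ⟨4 * m * (L ⊔ M).index, by rw [hcardH]; ring⟩
    have hco : Nat.Coprime (q ^ d) (Nat.card H) := by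
      rw [← hcardV, ← card_regular hreg]
      simp [Nat.Coprime]
    exact ((Nat.coprime_pow_left_iff (by omega) _ _).1 hco).coprime_dvd_right h30
  obtain ⟨hd', hi', hcases⟩ := arith_regular hd2 (hm ▸ hMco) hmq hidx hqp hq30
    (by rw [← hcardH, card_regular hreg, hcardV])
  refine ⟨q, m, by rw [hcardV, hd'], hcases, ?_⟩
  haveI : IsCyclic M := by
    refine isCyclic_of_injective ((Units.coeHom S).comp φ |>.comp (MonoidHom.id M) |>.toHomUnits) ?_
    intro a b e
    exact hφ (Units.ext (congrArg (fun u : Sˣ => (u : S)) e))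
  have eM : M ≃* Multiplicative (ZMod m) := (hm ▸ zmodCyclicMulEquiv (G := M) inferInstance).symm
  have htop : L ⊔ M = ⊤ := Subgroup.index_eq_one.1 hi'
  let ψ : L × M →* H := MonoidHom.noncommCoprod L.subtype M.subtype fun a b => hcomm a a.2 b b.2
  have hψ : Function.Bijective ψ := by
    refine ⟨(MonoidHom.ker_eq_bot_iff _).1 ((Subgroup.eq_bot_iff_forall _).2 ?_), fun x => ?_⟩
    · rintro ⟨a, b⟩ hab
      have e : (a : H) * b = 1 := hab
      have h2 : (a : H) ∈ L ⊓ M :=
        Subgroup.mem_inf.2 ⟨a.2, by rw [eq_inv_of_mul_eq_one_left e]; exact inv_mem b.2⟩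
      rw [hinf, Subgroup.mem_bot] at h2
      rw [h2, one_mul] at e
      exact Prod.ext (Subtype.ext h2) (Subtype.ext e)
    · have hx : x ∈ ((L ⊔ M : Subgroup H) : Set H) := htop ▸ Subgroup.mem_top x
      rw [Subgroup.normal_mul] at hx
      obtain ⟨a, ha, b, hb, rfl⟩ := hx
      exact ⟨(⟨a, ha⟩, ⟨b, hb⟩), rfl⟩
  exact ⟨(MulEquiv.ofBijective ψ hψ).symm.trans (eL.prodCongr eM)⟩

end CfsgLib.Perm.RegularLinear
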