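import Mathlib.GroupTheory.SpecificGroups.Cyclic
import Mathlib.GroupTheory.Frattini
import Cfsg.Prelude.Def_CaseTheorems
import Cfsg.Agent.Perm.MinClass
import Cfsg.Agent.Solv.FittingBasic
import Cfsg.Agent.Fus.CoreBasic

/-!
Pairs of normal non-abelian subgroups with centres of order two in `2`-groups of bounded
sectional rank.
-/

set_option autoImplicit false
set_option linter.style.haveILetI false
set_option linter.unusedSectionVars false

open scoped commutatorElement

namespace CfsgLib.Perm.SecPair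

variable {S : Type*} [Group S] [Finite S]

theorem center_le_of_normal (h2 : IsPGroup 2 S) (A : Subgroup S)
    (hZ : Nat.card (Subgroup.center A) = 2) (N : Subgroup A) [N.Normal] (hN : N ≠ ⊥) :
    Subgroup.center A ≤ N := by
  haveI : Fact (Nat.Prime 2) := ⟨Nat.prime_two⟩
  have h := inf_center_ne_bot (h2.to_subgroup A) N hN
  have h1 : N ⊓ Subgroup.center A = Subgroup.center A := by
    refine Subgroup.eq_of_le_of_card_ge inf_le_right (le_of_eq ?_)
    have h3 : Nat.card ↥(N ⊓ Subgroup.center A) ∣ 2 :=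
      hZ ▸ Subgroup.card_dvd_of_le (inf_le_right : N ⊓ Subgroup.center A ≤ _)
    rcases (Nat.dvd_prime Nat.prime_two).1 h3 with h4 | h4
    · exact absurd ((Subgroup.eq_bot_iff_card _).2 h4) h
    · rw [h4, hZ]
  exact h1 ▸ inf_le_left

theorem center_le_frattini (h2 : IsPGroup 2 S) (A : Subgroup S) (hA : ¬ IsMulCommutative A)
    (hZ : Nat.card (Subgroup.center A) = 2) : Subgroup.center A ≤ frattini A := by
  haveI : Fact (Nat.Prime 2) := ⟨Nat.prime_two⟩
  refine (center_le_of_normal h2 A hZ (commutator A) fun h => hA ⟨⟨fun a b => ?_⟩⟩).trans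
    (CfsgLib.Solv.commutator_le_frattini (h2.to_subgroup A))
  have h1 : ⁅a, b⁆ ∈ commutator A :=
    Subgroup.commutator_mem_commutator (Subgroup.mem_top a) (Subgroup.mem_top b)
  rw [h, Subgroup.mem_bot, commutatorElement_eq_one_iff_mul_comm] at h1
  exact h1

theorem four_le_frattini_index (h2 : IsPGroup 2 S) (A : Subgroup S) (hA : ¬ IsMulCommutative A) :
    4 * Nat.card (frattini A) ≤ Nat.card A := by
  haveI : Fact (Nat.Prime 2) := ⟨Nat.prime_two⟩
  obtain ⟨n, hn⟩ := (h2.to_subgroup A).index (frattini A)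
  rw [← Subgroup.card_mul_index (frattini A), hn, mul_comm]
  refine Nat.mul_le_mul_left _ ?_
  by_contra hlt
  have hn1 : n ≤ 1 := by
    by_contra h
    exact hlt (Nat.pow_le_pow_right two_pos (show 2 ≤ n by omega))
  haveI : IsCyclic (A ⧸ frattini A) := by
    interval_cases n
    · haveI : Subsingleton (A ⧸ frattini A) := (Nat.card_eq_one_iff_unique.1 (by
        rw [← Subgroup.index_eq_card]; simpa using hn)).1
      infer_instance
    · exact isCyclic_of_prime_card (p := 2) (by rw [← Subgroup.index_eq_card]; simpa using hn)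
  obtain ⟨g, hg⟩ := IsCyclic.exists_generator (α := A ⧸ frattini A)
  obtain ⟨a, rfl⟩ := QuotientGroup.mk'_surjective (frattini A) g
  have htop : Subgroup.zpowers a ⊔ frattini A = ⊤ := by
    rw [eq_top_iff]
    intro x _
    obtain ⟨i, hi⟩ := Subgroup.mem_zpowers_iff.1 (hg (QuotientGroup.mk' _ x))
    rw [← map_zpow] at hi
    have h1 : (a ^ i)⁻¹ * x ∈ frattini A := QuotientGroup.eq.1 hi
    rw [← mul_inv_cancel_left (a ^ i) x]
    exact Subgroup.mul_mem_sup (Subgroup.zpow_mem_zpowers a i) h1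
  have h3 := frattini_nongenerating htop
  refine hA ⟨⟨fun x y => ?_⟩⟩
  obtain ⟨i, rfl⟩ := Subgroup.mem_zpowers_iff.1 (h3.ge (Subgroup.mem_top x))
  obtain ⟨j, rfl⟩ := Subgroup.mem_zpowers_iff.1 (h3.ge (Subgroup.mem_top y))
  exact zpow_mul_comm a i j

theorem main (h2 : IsPGroup 2 S) (hr : Cfsg.SectionalPRankLE 2 4 S) (P Q : Subgroup S) [P.Normal]
    [Q.Normal] (hP : ¬ IsMulCommutative P) (hQ : ¬ IsMulCommutative Q)
    (hZP : Nat.card (Subgroup.center P) = 2) (hZQ : Nat.card (Subgroup.center Q) = 2)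
    (hne : (Subgroup.center P).map P.subtype ≠ (Subgroup.center Q).map Q.subtype) :
    ⁅P, Q⁆ = ⊥ ∧ P ⊓ Q = ⊥ ∧ Subgroup.centralizer ((P ⊔ Q : Subgroup S) : Set S) ≤ P ⊔ Q := by
  classical
  haveI : Fact (Nat.Prime 2) := ⟨Nat.prime_two⟩
  have hinf : P ⊓ Q = ⊥ := by
    by_contra h
    have hne' : (P ⊓ Q).subgroupOf Q ≠ ⊥ := fun e => h (by
      rw [Subgroup.subgroupOf_eq_bot] at e
      exact le_bot_iff.1 (e le_rfl inf_le_right))
    have hle : (Subgroup.center Q).map Q.subtype ≤ P := by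
      rintro _ ⟨z, hz, rfl⟩
      exact (center_le_of_normal h2 Q hZQ ((P ⊓ Q).subgroupOf Q) hne' hz).1
    apply hne
    symm
    refine Subgroup.eq_of_le_of_card_ge ?_ (le_of_eq ?_)
    · rintro _ ⟨z, hz, rfl⟩
      have hzP : (z : S) ∈ P := hle ⟨z, hz, rfl⟩
      refine ⟨⟨_, hzP⟩, Subgroup.mem_center_iff.2 fun g => Subtype.ext ?_, rfl⟩
      show (g : S) * z = z * g
      have hzS : (g : S) * z * (g : S)⁻¹ = z := by
        have hzn : (g : S) * z * (g : S)⁻¹ ∈ (Subgroup.center Q).map Q.subtype := by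
          haveI := CfsgLib.Solv.normal_map_subtype_of_characteristic (Subgroup.center Q)
          exact Subgroup.Normal.conj_mem (inferInstance : ((Subgroup.center Q).map Q.subtype).Normal) (z : S) ⟨z, hz, rfl⟩ g
        obtain ⟨w, hw, hwe⟩ := hzn
        by_cases hz1 : z = 1
        · subst hz1; simp
        · obtain ⟨u, hu⟩ := (Nat.card_eq_two_iff' (1 : Subgroup.center Q)).1 hZQ
          have h1 := hu.2 ⟨z, hz⟩ (fun e => hz1 (congrArg Subtype.val e))
          have hw1 : w ≠ 1 := fun e => hz1 (by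
            subst e
            have h4 : (g : S) * z * (g : S)⁻¹ = 1 := by simpa using hwe.symm
            exact Subtype.ext (conj_eq_one_iff.1 h4))
          have h5 := hu.2 ⟨w, hw⟩ (fun e => hw1 (congrArg Subtype.val e))
          rw [← hwe, show w = z from congrArg Subtype.val (h5.trans h1.symm)]
          rfl
      exact mul_inv_eq_iff_eq_mul.1 hzS
    · rw [Subgroup.card_map_of_injective P.subtype_injective, hZP,
        Subgroup.card_map_of_injective Q.subtype_injective, hZQ]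
  have hcomm : ⁅P, Q⁆ = ⊥ := le_bot_iff.1 ((Subgroup.commutator_le_inf P Q).trans hinf.le)
  refine ⟨hcomm, hinf, ?_⟩
  by_contra hnot
  obtain ⟨c₀, hc₀C, hc₀⟩ := SetLike.not_le_iff_exists.1 hnot
  -- `c` centralises `PQ`, lies outside, and squares into it
  obtain ⟨c, hcC, hc, hc2⟩ : ∃ c ∈ Subgroup.centralizer ((P ⊔ Q : Subgroup S) : Set S),
      c ∉ P ⊔ Q ∧ c ^ 2 ∈ P ⊔ Q := by
    have hex : ∃ j : ℕ, c₀ ^ 2 ^ j ∈ P ⊔ Q := by
      obtain ⟨j, hj⟩ := h2 c₀
      exact ⟨j, hj ▸ Subgroup.one_mem _⟩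
    set j := Nat.find hex with hj
    obtain ⟨i, hi⟩ : ∃ i, j = i + 1 := Nat.exists_eq_succ_of_ne_zero fun h0 => hc₀ (by
      have := Nat.find_spec hex
      rwa [← hj, h0, pow_zero, pow_one] at this)
    refine ⟨c₀ ^ 2 ^ i, Subgroup.pow_mem _ hc₀C _, Nat.find_min hex (by omega), ?_⟩
    rw [← pow_mul, ← pow_succ, ← hi]
    exact Nat.find_spec hex
  have hcomm' : ∀ a ∈ P, ∀ b ∈ Q, a * b = b * a := fun a ha b hb =>
    (Subgroup.mem_centralizer_iff.1 (Subgroup.commutator_eq_bot_iff_le_centralizer.1 hcomm ha) b hb).symm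
  set W := (P ⊔ Q) ⊔ Subgroup.zpowers c with hWdef
  set N₀ := (frattini P).map P.subtype ⊔ (frattini Q).map Q.subtype with hN₀
  have hPW : P ≤ W := le_sup_left.trans le_sup_left
  have hQW : Q ≤ W := le_sup_right.trans le_sup_left
  haveI : ((frattini P).map P.subtype).Normal :=
    CfsgLib.Solv.normal_map_subtype_of_characteristic _
  haveI : ((frattini Q).map Q.subtype).Normal :=
    CfsgLib.Solv.normal_map_subtype_of_characteristic _
  haveI : N₀.Normal := Subgroup.sup_normal _ _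
  set N := N₀.subgroupOf W
  let π := QuotientGroup.mk' N
  -- squares
  have hsqP : ∀ a ∈ P, a ^ 2 ∈ N₀ := fun a ha => Subgroup.mem_sup_left
    ⟨⟨a, ha⟩ ^ 2, CfsgLib.Solv.pow_mem_frattini (h2.to_subgroup P) _, rfl⟩
  have hsqQ : ∀ a ∈ Q, a ^ 2 ∈ N₀ := fun a ha => Subgroup.mem_sup_right
    ⟨⟨a, ha⟩ ^ 2, CfsgLib.Solv.pow_mem_frattini (h2.to_subgroup Q) _, rfl⟩
  have hsqc : c ^ 2 ∈ N₀ := by
    obtain ⟨a, ha, b, hb, hab⟩ := Subgroup.mem_sup_of_normal_left.1 hc2
    have hcen : ∀ x : S, x ∈ P ⊔ Q → x * c ^ 2 = c ^ 2 * x := fun x hx =>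
      Subgroup.mem_centralizer_iff.1 (Subgroup.pow_mem _ hcC 2) x hx
    rw [← hab]
    refine Subgroup.mul_mem_sup ⟨⟨a, ha⟩, center_le_frattini h2 P hP hZP
      (Subgroup.mem_center_iff.2 fun g => Subtype.ext ?_), rfl⟩
      ⟨⟨b, hb⟩, center_le_frattini h2 Q hQ hZQ
        (Subgroup.mem_center_iff.2 fun g => Subtype.ext ?_), rfl⟩
    · show (g : S) * a = a * g
      have h1 := hcen g (Subgroup.mem_sup_left g.2)
      rw [← hab, mul_assoc a b, ← hcomm' _ g.2 _ hb, ← mul_assoc, ← mul_assoc] at h1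
      exact mul_right_cancel h1
    · show (g : S) * b = b * g
      have h1 := hcen g (Subgroup.mem_sup_right g.2)
      rw [← hab, ← mul_assoc, ← hcomm' _ ha _ g.2, mul_assoc, mul_assoc a b] at h1
      exact mul_left_cancel h1
  -- generators of `W`
  set U : Set W := {w | (w : S) ∈ P ∨ (w : S) ∈ Q ∨ (w : S) = c}
  have hUtop : Subgroup.closure U = ⊤ := by
    rw [eq_top_iff]
    rintro ⟨w, hw⟩ -
    have hle : W ≤ (Subgroup.closure U).map W.subtype := by
      refine sup_le (sup_le (fun x hx => ?_) fun x hx => ?_) (Subgroup.zpowers_le.2 ?_)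
      · exact ⟨⟨x, hPW hx⟩, Subgroup.subset_closure (Or.inl hx), rfl⟩
      · exact ⟨⟨x, hQW hx⟩, Subgroup.subset_closure (Or.inr (Or.inl hx)), rfl⟩
      · exact ⟨⟨c, (le_sup_right : Subgroup.zpowers c ≤ W) (Subgroup.mem_zpowers c)⟩,
          Subgroup.subset_closure (Or.inr (Or.inr rfl)), rfl⟩
    obtain ⟨v, hv, he⟩ := hle hw
    rwa [show v = (⟨w, hw⟩ : W) from Subtype.ext he] at hv
  have hUcomm : ∀ u ∈ U, ∀ v ∈ U, Commute (π u) (π v) := by
    have hπ : ∀ u v : W, (u : S) * v * (u : S)⁻¹ * (v : S)⁻¹ ∈ N₀ → Commute (π u) (π v) := by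
      intro u v h
      have h1 : π (u * v * u⁻¹ * v⁻¹) = 1 := (QuotientGroup.eq_one_iff _).2 h
      rw [map_mul, map_mul, map_mul, map_inv, map_inv, mul_inv_eq_one, mul_inv_eq_iff_eq_mul] at h1
      exact h1
    have hcc : ∀ x ∈ P ⊔ Q, x * c = c * x := fun x hx => Subgroup.mem_centralizer_iff.1 hcC x hx
    have hone : ∀ x y : S, x * y = y * x → x * y * x⁻¹ * y⁻¹ ∈ N₀ := fun x y h => by
      rw [h, mul_inv_cancel_right, mul_inv_cancel]; exact Subgroup.one_mem _
    rintro u (hu | hu | hu) v (hv | hv | hv) <;> refine hπ u v ?_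
    · refine Subgroup.mem_sup_left ⟨⁅(⟨_, hu⟩ : P), ⟨_, hv⟩⁆,
        CfsgLib.Solv.commutator_le_frattini (h2.to_subgroup P) (Subgroup.commutator_mem_commutator
          (Subgroup.mem_top _) (Subgroup.mem_top _)), rfl⟩
    · exact hone _ _ (hcomm' _ hu _ hv)
    · exact hone _ _ (hv ▸ hcc _ (Subgroup.mem_sup_left hu))
    · exact hone _ _ (hcomm' _ hv _ hu).symm
    · refine Subgroup.mem_sup_right ⟨⁅(⟨_, hu⟩ : Q), ⟨_, hv⟩⁆,
        CfsgLib.Solv.commutator_le_frattini (h2.to_subgroup Q) (Subgroup.commutator_mem_commutator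
          (Subgroup.mem_top _) (Subgroup.mem_top _)), rfl⟩
    · exact hone _ _ (hv ▸ hcc _ (Subgroup.mem_sup_right hu))
    · exact hone _ _ (hu ▸ (hcc _ (Subgroup.mem_sup_left hv)).symm)
    · exact hone _ _ (hu ▸ (hcc _ (Subgroup.mem_sup_right hv)).symm)
    · exact hone _ _ (by rw [hu, hv])
  have hcommAll : ∀ x y : W, Commute (π x) (π y) := by
    have h1 : ∀ v ∈ U, ∀ x : W, Commute (π x) (π v) := fun v hv x => by
      have hx : x ∈ Subgroup.closure U := hUtop ▸ Subgroup.mem_top x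
      induction hx using Subgroup.closure_induction with
      | mem a ha => exact hUcomm a ha v hv
      | one => rw [map_one]; exact Commute.one_left _
      | mul a b _ _ ha hb => rw [map_mul]; exact ha.mul_left hb
      | inv a _ ha => rw [map_inv]; exact ha.inv_left
    intro x y
    have hy : y ∈ Subgroup.closure U := hUtop ▸ Subgroup.mem_top y
    induction hy using Subgroup.closure_induction with
    | mem a ha => exact h1 a ha x
    | one => rw [map_one]; exact Commute.one_right _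
    | mul a b _ _ ha hb => rw [map_mul]; exact ha.mul_right hb
    | inv a _ ha => rw [map_inv]; exact ha.inv_right
  have hsq : ∀ x : W, π x ^ 2 = 1 := fun x => by
    have hx : x ∈ Subgroup.closure U := hUtop ▸ Subgroup.mem_top x
    induction hx using Subgroup.closure_induction with
    | mem a ha =>
      rw [← map_pow]
      refine (QuotientGroup.eq_one_iff _).2 ?_
      show (a : S) ^ 2 ∈ N₀
      rcases ha with h | h | h
      · exact hsqP _ h
      · exact hsqQ _ h
      · exact h ▸ hsqc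
    | one => simp
    | mul a b _ _ ha hb => rw [map_mul, (hcommAll a b).mul_pow, ha, hb, one_mul]
    | inv a _ ha => rw [map_inv, inv_pow, ha, inv_one]
  have hb := hr W N ⊤ ⟨⟨fun x y => Subtype.ext (by
      obtain ⟨a, ha⟩ := QuotientGroup.mk'_surjective N (x : W ⧸ N)
      obtain ⟨b, hb⟩ := QuotientGroup.mk'_surjective N (y : W ⧸ N)
      show (x : W ⧸ N) * y = y * x
      rw [← ha, ← hb]; exact hcommAll a b)⟩⟩
    (fun x _ => by obtain ⟨a, rfl⟩ := QuotientGroup.mk'_surjective N x; exact hsq a)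
  rw [Nat.card_congr Subgroup.topEquiv.toEquiv, ← Subgroup.index_eq_card] at hb
  -- counting
  have hN : Nat.card N ≤ Nat.card (frattini P) * Nat.card (frattini Q) := by
    have h1 : N₀ ≤ W := sup_le ((Subgroup.map_subtype_le _).trans hPW)
      ((Subgroup.map_subtype_le _).trans hQW)
    rw [Nat.card_congr (Subgroup.subgroupOfEquivOfLe h1).toEquiv]
    have h3 := CfsgLib.Fus.card_sup_dvd_of_normal ((frattini P).map P.subtype)
      ((frattini Q).map Q.subtype)
    rw [Subgroup.card_map_of_injective P.subtype_injective,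
      Subgroup.card_map_of_injective Q.subtype_injective] at h3
    exact Nat.le_of_dvd (Nat.mul_pos Nat.card_pos Nat.card_pos) h3
  have hW : 2 * (Nat.card P * Nat.card Q) ≤ Nat.card W := by
    have hPQ : Nat.card ↥(P ⊔ Q) = Nat.card P * Nat.card Q := by
      refine Nat.le_antisymm (Nat.le_of_dvd (Nat.mul_pos Nat.card_pos Nat.card_pos)
        (CfsgLib.Fus.card_sup_dvd_of_normal P Q)) ?_
      rw [← Nat.card_prod]
      refine Nat.card_le_card_of_injective (fun z : P × Q => (⟨z.1 * z.2,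
        Subgroup.mul_mem_sup z.1.2 z.2.2⟩ : ↥(P ⊔ Q))) ?_
      exact fun a b hab => Subgroup.mul_injective_of_disjoint (disjoint_iff.2 hinf)
        (congrArg Subtype.val hab)
    have h1 := Subgroup.card_dvd_of_le (le_sup_left : P ⊔ Q ≤ W)
    obtain ⟨k, hk⟩ := h1
    rw [hk, hPQ, mul_comm 2]
    refine Nat.mul_le_mul_left _ ?_
    by_contra hk2
    have hW0 : 0 < Nat.card W := Nat.card_pos
    interval_cases k
    · rw [mul_zero] at hk; exact (Nat.card_pos.ne') hk
    · have h3 : P ⊔ Q = W := Subgroup.eq_of_le_of_card_ge le_sup_left (by rw [hk, mul_one])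
      exact hc (h3 ▸ (le_sup_right : Subgroup.zpowers c ≤ W) (Subgroup.mem_zpowers c))
  have h4 := Nat.mul_le_mul (four_le_frattini_index h2 P hP) (four_le_frattini_index h2 Q hQ)
  have h5 := Subgroup.card_mul_index N
  have h6 : Nat.card N * N.index ≤ (Nat.card (frattini P) * Nat.card (frattini Q)) * 2 ^ 4 :=
    Nat.mul_le_mul hN hb
  have h7 : 0 < Nat.card (frattini P) * Nat.card (frattini Q) :=
    Nat.mul_pos Nat.card_pos Nat.card_pos
  nlinarith

end CfsgLib.Perm.SecPair
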