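import Mathlib.GroupTheory.NoncommCoprod
import Cfsg.Agent.Perm.SectionalPair
import Cfsg.Agent.Inv.Component

/-!
In a `2`-group of sectional rank at most four, the centraliser of the centre of a non-abelian
subgroup with centre of order two has index at most two.
-/

set_option autoImplicit false
set_option linter.style.haveILetI false
set_option linter.unusedSectionVars false

open scoped commutatorElement

namespace CfsgLib.Perm.SecPair

variable {S : Type*} [Group S] [Finite S]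

/-- `z` is the only non-trivial central element of the non-abelian subgroup `P`. -/
def Cen (P : Subgroup S) (z : S) : Prop :=
  z ∈ P ∧ z ≠ 1 ∧ (∀ a ∈ P, a * z = z * a) ∧
    (∀ v ∈ P, (∀ a ∈ P, a * v = v * a) → v = 1 ∨ v = z) ∧ ¬ ∀ a ∈ P, ∀ b ∈ P, a * b = b * a

theorem exists_cen (P : Subgroup S) (hP : ¬ IsMulCommutative P)
    (hZ : Nat.card (Subgroup.center P) = 2) :
    ∃ z : S, Cen P z ∧ (Subgroup.center P).map P.subtype = Subgroup.zpowers z := by
  obtain ⟨⟨u, hu⟩, hu1, huniq⟩ := (Nat.card_eq_two_iff' (1 : Subgroup.center P)).1 hZ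
  have hu1' : u ≠ 1 := fun e => hu1 (Subtype.ext e)
  refine ⟨(u : S), ⟨u.2, fun e => hu1' (Subtype.ext e),
    fun a ha => congrArg Subtype.val (Subgroup.mem_center_iff.1 hu ⟨a, ha⟩), fun v hv h => ?_,
    fun h => hP ⟨⟨fun a b => Subtype.ext (h a a.2 b b.2)⟩⟩⟩, ?_⟩
  · by_cases h1 : v = 1
    · exact Or.inl h1
    · refine Or.inr ?_
      have h2 := huniq ⟨⟨v, hv⟩, Subgroup.mem_center_iff.2 fun a => Subtype.ext (h a a.2)⟩
        (fun e => h1 (congrArg (fun w : Subgroup.center P => ((w : P) : S)) e))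
      exact congrArg (fun w : Subgroup.center P => ((w : P) : S)) h2
  · refine le_antisymm ?_ (Subgroup.zpowers_le.2 ⟨u, hu, rfl⟩)
    rintro _ ⟨v, hv, rfl⟩
    by_cases h1 : v = 1
    · subst h1; exact Subgroup.one_mem _
    · have h2 := huniq ⟨v, hv⟩ (fun e => h1 (congrArg Subtype.val e))
      rw [show v = u from congrArg Subtype.val h2]
      exact Subgroup.mem_zpowers _

theorem Cen.card_center {P : Subgroup S} {z : S} (h : Cen P z) :
    Nat.card (Subgroup.center P) = 2 := by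
  obtain ⟨hz, hz1, hc, hu, -⟩ := h
  refine (Nat.card_eq_two_iff' (1 : Subgroup.center P)).2
    ⟨⟨⟨z, hz⟩, Subgroup.mem_center_iff.2 fun a => Subtype.ext (hc a a.2)⟩,
      fun e => hz1 (congrArg (fun w : Subgroup.center P => ((w : P) : S)) e), fun w hw => ?_⟩
  refine Subtype.ext (Subtype.ext ((hu _ (w : P).2 fun a ha =>
    congrArg Subtype.val (Subgroup.mem_center_iff.1 w.2 ⟨a, ha⟩)).resolve_left fun e => hw ?_))
  exact Subtype.ext (Subtype.ext e)

theorem Cen.not_comm {P : Subgroup S} {z : S} (h : Cen P z) : ¬ IsMulCommutative P := fun hc =>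
  h.2.2.2.2 fun a ha b hb => congrArg Subtype.val (hc.1.1 ⟨a, ha⟩ ⟨b, hb⟩)

theorem mem_conj {P : Subgroup S} {g x : S} :
    x ∈ P.map (MulAut.conj g).toMonoidHom ↔ g⁻¹ * x * g ∈ P := by
  constructor
  · rintro ⟨y, hy, rfl⟩
    simpa [mul_assoc] using hy
  · exact fun h => ⟨_, h, by simp [mul_assoc]⟩

theorem Cen.conj {P : Subgroup S} {z : S} (h : Cen P z) (g : S) :
    Cen (P.map (MulAut.conj g).toMonoidHom) (g * z * g⁻¹) := by
  obtain ⟨hz, hz1, hc, hu, hn⟩ := h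
  refine ⟨⟨z, hz, rfl⟩, fun e => hz1 (conj_eq_one_iff.1 e), ?_, fun v hv hcv => ?_, fun hn' => hn ?_⟩
  · rintro _ ⟨a, ha, rfl⟩
    show g * a * g⁻¹ * (g * z * g⁻¹) = g * z * g⁻¹ * (g * a * g⁻¹)
    calc g * a * g⁻¹ * (g * z * g⁻¹) = g * (a * z) * g⁻¹ := by group
      _ = g * (z * a) * g⁻¹ := by rw [hc a ha]
      _ = _ := by group
  · obtain ⟨w, hw, rfl⟩ := hv
    refine (hu w hw fun a ha => (MulAut.conj g).injective ?_).imp (fun e => ?_) (fun e => ?_)
    · rw [map_mul, map_mul]; exact hcv _ ⟨a, ha, rfl⟩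
    · subst e; simp
    · subst e; rfl
  · intro a ha b hb
    refine (MulAut.conj g).injective ?_
    rw [map_mul, map_mul]
    exact hn' _ ⟨a, ha, rfl⟩ _ ⟨b, hb, rfl⟩

theorem normal_trivial_or_mem (h2 : IsPGroup 2 S) {P : Subgroup S} {z : S} (hP : Cen P z)
    {A : Subgroup S} (hA : A ≤ P) (hn : ∀ a ∈ P, ∀ x ∈ A, a * x * a⁻¹ ∈ A) :
    A = ⊥ ∨ z ∈ A := by
  refine Classical.or_iff_not_imp_left.2 fun hA1 => ?_
  haveI : (A.subgroupOf P).Normal := ⟨fun x hx a => hn a a.2 x hx⟩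
  have h1 := center_le_of_normal h2 P hP.card_center (A.subgroupOf P) fun e => hA1 (by
    rw [Subgroup.subgroupOf_eq_bot] at e
    exact le_bot_iff.1 (e le_rfl hA))
  exact h1 (show (⟨z, hP.1⟩ : P) ∈ Subgroup.center P from
    Subgroup.mem_center_iff.2 fun a => Subtype.ext (hP.2.2.1 a a.2))

/-- Mutually normalising subgroups with different centres commute. -/
theorem cross (h2 : IsPGroup 2 S) {A B : Subgroup S} {u v : S} (hA : Cen A u) (hB : Cen B v)
    (huv : u ≠ v) (h1 : ∀ a ∈ A, ∀ b ∈ B, a * b * a⁻¹ ∈ B) (h1' : ∀ b ∈ B, ∀ a ∈ A, b * a * b⁻¹ ∈ A)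
    (hvA : ∀ a ∈ A, a * v = v * a) :
    ∀ a ∈ A, ∀ b ∈ B, a * b = b * a := by
  have hinf : A ⊓ B = ⊥ := by
    by_contra hne
    rcases normal_trivial_or_mem h2 hB (A := A ⊓ B) inf_le_right (fun b hb x hx =>
      Subgroup.mem_inf.2 ⟨h1' b hb x hx.1,
        B.mul_mem (B.mul_mem hb hx.2) (B.inv_mem hb)⟩) with h | h
    · exact hne h
    · rcases hA.2.2.2.1 v h.1 hvA with e | e
      · exact hB.2.1 e
      · exact huv e.symm
  intro a ha b hb
  have h3 : a * b * a⁻¹ * b⁻¹ ∈ A ⊓ B := Subgroup.mem_inf.2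
    ⟨by rw [mul_assoc, mul_assoc, ← mul_assoc b]; exact A.mul_mem ha (h1' b hb _ (A.inv_mem ha)),
      B.mul_mem (h1 a ha b hb) (B.inv_mem hb)⟩
  rw [hinf, Subgroup.mem_bot, mul_inv_eq_one, mul_inv_eq_iff_eq_mul] at h3
  exact h3

theorem sectional_subgroup (hr : Cfsg.SectionalPRankLE 2 4 S) (T : Subgroup S) :
    Cfsg.SectionalPRankLE 2 4 T := by
  intro H N _ A hA hA2
  let e : H ≃* H.map T.subtype := H.equivMapOfInjective T.subtype T.subtype_injective
  haveI : (N.map e.toMonoidHom).Normal := Subgroup.Normal.map inferInstance _ e.surjective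
  let q := QuotientGroup.congr N (N.map e.toMonoidHom) e rfl
  have h := hr (H.map T.subtype) (N.map e.toMonoidHom) (A.map q.toMonoidHom) ⟨⟨?_⟩⟩ ?_
  · exact (Subgroup.card_map_of_injective (K := A) (f := q.toMonoidHom) q.injective) ▸ h
  · rintro ⟨_, a, ha, rfl⟩ ⟨_, b, hb, rfl⟩
    refine Subtype.ext ?_
    show q a * q b = q b * q a
    rw [← map_mul, ← map_mul, show a * b = b * a from congrArg Subtype.val (hA.1.1 ⟨a, ha⟩ ⟨b, hb⟩)]
  · rintro _ ⟨a, ha, rfl⟩
    show q a ^ 2 = 1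
    rw [← map_pow, hA2 a ha, map_one]

/-- The pair lemma relative to a subgroup `T`. -/
theorem inside (h2 : IsPGroup 2 S) (hr : Cfsg.SectionalPRankLE 2 4 S) (T : Subgroup S)
    {P Q : Subgroup S} {z w : S} (hP : Cen P z) (hQ : Cen Q w) (hzw : z ≠ w) (hPT : P ≤ T)
    (hQT : Q ≤ T) (hPn : ∀ s ∈ T, ∀ x ∈ P, s * x * s⁻¹ ∈ P)
    (hQn : ∀ s ∈ T, ∀ x ∈ Q, s * x * s⁻¹ ∈ Q) :
    P ⊓ Q = ⊥ ∧ (∀ a ∈ P, ∀ b ∈ Q, a * b = b * a) ∧
      ∀ c ∈ T, (∀ a ∈ P, a * c = c * a) → (∀ b ∈ Q, b * c = c * b) → c ∈ P ⊔ Q := by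
  haveI : (P.subgroupOf T).Normal := ⟨fun x hx s => hPn s s.2 x hx⟩
  haveI : (Q.subgroupOf T).Normal := ⟨fun x hx s => hQn s s.2 x hx⟩
  have cenT : ∀ (A : Subgroup S) (u : S), Cen A u → ∀ hAT : A ≤ T,
      Nat.card (Subgroup.center (A.subgroupOf T)) = 2 ∧ ¬ IsMulCommutative (A.subgroupOf T) := by
    intro A u hA hAT
    let e := Subgroup.subgroupOfEquivOfLe hAT
    refine ⟨?_, fun hc => hA.not_comm ⟨⟨fun a b => e.symm.injective ?_⟩⟩⟩
    · rw [← hA.card_center, ← CfsgLib.Inv.center_map_mulEquiv e,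
        Subgroup.card_map_of_injective e.injective]
    · rw [map_mul, map_mul]; exact hc.1.1 _ _
  obtain ⟨hcP, hnP⟩ := cenT P z hP hPT
  obtain ⟨hcQ, hnQ⟩ := cenT Q w hQ hQT
  have h := main (h2.to_subgroup T) (sectional_subgroup hr T) (P.subgroupOf T) (Q.subgroupOf T)
    hnP hnQ hcP hcQ (fun e => by
      have h3 : (⟨z, hPT hP.1⟩ : T) ∈ (Subgroup.center (P.subgroupOf T)).map
          (P.subgroupOf T).subtype :=
        ⟨⟨⟨z, hPT hP.1⟩, hP.1⟩, Subgroup.mem_center_iff.2 fun a => Subtype.ext (Subtype.ext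
          (hP.2.2.1 ((a : T) : S) a.2)), rfl⟩
      rw [e] at h3
      obtain ⟨v, hv, hve⟩ := h3
      have hve' : ((v : T) : S) = z := congrArg Subtype.val hve
      rcases hQ.2.2.2.1 z (hve' ▸ v.2) (fun b hb => by
        have h4 := congrArg (fun t : Q.subgroupOf T => ((t : T) : S))
          (Subgroup.mem_center_iff.1 hv ⟨⟨b, hQT hb⟩, hb⟩)
        simpa [hve'] using h4) with h5 | h5
      · exact hP.2.1 h5
      · exact hzw h5)
  refine ⟨?_, fun a ha b hb => ?_, fun c hc hcP' hcQ' => ?_⟩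
  · rw [eq_bot_iff]
    intro x hx
    have h4 : (⟨x, hPT hx.1⟩ : T) ∈ P.subgroupOf T ⊓ Q.subgroupOf T := hx
    rw [h.2.1, Subgroup.mem_bot] at h4
    exact Subgroup.mem_bot.2 (congrArg Subtype.val h4)
  · exact (congrArg Subtype.val (Subgroup.mem_centralizer_iff.1
      (Subgroup.commutator_eq_bot_iff_le_centralizer.1 h.1
        (show (⟨a, hPT ha⟩ : T) ∈ P.subgroupOf T from ha)) ⟨b, hQT hb⟩ hb)).symm
  · have h5 : (⟨c, hc⟩ : T) ∈ Subgroup.centralizer
        ((P.subgroupOf T ⊔ Q.subgroupOf T : Subgroup T) : Set T) := by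
      rw [Subgroup.mem_centralizer_iff]
      intro t ht
      have hle : P.subgroupOf T ⊔ Q.subgroupOf T ≤ Subgroup.centralizer ({⟨c, hc⟩} : Set T) :=
        sup_le (fun a ha => Subgroup.mem_centralizer_singleton_iff.2 (Subtype.ext (hcP' _ ha)))
          (fun a ha => Subgroup.mem_centralizer_singleton_iff.2 (Subtype.ext (hcQ' _ ha)))
      exact Subgroup.mem_centralizer_singleton_iff.1 (hle ht)
    have h6 := h.2.2 h5
    rw [← Subgroup.subgroupOf_sup hPT hQT] at h6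
    exact h6

theorem main_index (h2 : IsPGroup 2 S) (hr : Cfsg.SectionalPRankLE 2 4 S) (P : Subgroup S)
    (hP : ¬ IsMulCommutative P) (hZP : Nat.card (Subgroup.center P) = 2) (S₀ : Subgroup S)
    (hS₀ : S₀ = Subgroup.centralizer (((Subgroup.center P).map P.subtype : Subgroup S) : Set S))
    (hPn : ∀ s ∈ S₀, ∀ x ∈ P, s * x * s⁻¹ ∈ P) :
    S₀ = ⊤ ∨ (Cfsg.SectionalPRankLE 2 2 P ∧ S₀.index = 2) := by
  classical
  haveI : Fact (Nat.Prime 2) := ⟨Nat.prime_two⟩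
  haveI := h2.isNilpotent
  by_cases htop : S₀ = ⊤
  · exact Or.inl htop
  right
  obtain ⟨z, hz, hzmap⟩ := exists_cen P hP hZP
  have hmem : ∀ s, s ∈ S₀ ↔ s * z = z * s := fun s => by
    rw [hS₀, hzmap, Subgroup.mem_centralizer_iff]
    constructor
    · exact fun h => (h z (Subgroup.mem_zpowers z)).symm
    · rintro h _ ⟨i, rfl⟩
      exact ((show Commute s z from h).zpow_right i).eq.symm
  have hPS : P ≤ S₀ := fun a ha => (hmem a).2 (hz.2.2.1 a ha)
  set N := Subgroup.normalizer (S₀ : Set S) with hN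
  have hSN : S₀ < N := Group.normalizerCondition_of_isNilpotent S₀ (lt_top_iff_ne_top.2 htop)
  have hNn : ∀ n ∈ N, ∀ s ∈ S₀, n * s * n⁻¹ ∈ S₀ ∧ n⁻¹ * s * n ∈ S₀ := fun n hn s hs =>
    ⟨(Subgroup.mem_normalizer_iff.1 hn s).1 hs, (Subgroup.mem_normalizer_iff''.1 hn s).1 hs⟩
  let cj : S → Subgroup S := fun n => P.map (MulAut.conj n).toMonoidHom
  have hcjS : ∀ n ∈ N, cj n ≤ S₀ := by
    rintro n hn _ ⟨a, ha, rfl⟩
    exact (hNn n hn a (hPS ha)).1
  have hcjn : ∀ n ∈ N, ∀ s ∈ S₀, ∀ x ∈ cj n, s * x * s⁻¹ ∈ cj n := by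
    intro n hn s hs x hx
    rw [mem_conj] at hx ⊢
    have h1 := hPn _ (hNn n hn s hs).2 _ hx
    have e : n⁻¹ * (s * x * s⁻¹) * n = (n⁻¹ * s * n) * (n⁻¹ * x * n) * (n⁻¹ * s * n)⁻¹ := by group
    rwa [e]
  -- at most two conjugates of `z` under `N`
  have htwo : ∀ n ∈ N, ∀ m ∈ N, n ∉ S₀ → m ∉ S₀ → n * z * n⁻¹ = m * z * m⁻¹ := by
    intro n hn m hm hn0 hm0
    by_contra hne
    have hzn : z ≠ n * z * n⁻¹ := fun e => hn0 ((hmem n).2 (eq_mul_inv_iff_mul_eq.1 e).symm)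
    have hzm : z ≠ m * z * m⁻¹ := fun e => hm0 ((hmem m).2 (eq_mul_inv_iff_mul_eq.1 e).symm)
    have hR := hz.conj m
    obtain ⟨-, -, hC⟩ := inside h2 hr S₀ hz (hz.conj n) hzn hPS (hcjS n hn) hPn (hcjn n hn)
    obtain ⟨-, hPR, -⟩ := inside h2 hr S₀ hz hR hzm hPS (hcjS m hm) hPn (hcjn m hm)
    obtain ⟨-, hQR, -⟩ := inside h2 hr S₀ (hz.conj n) hR hne (hcjS n hn) (hcjS m hm) (hcjn n hn)
      (hcjn m hm)
    refine hR.2.2.2.2 fun a ha b hb => ?_
    have h1 : a ∈ P ⊔ cj n := hC a (hcjS m hm ha) (fun x hx => hPR x hx a ha)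
      (fun x hx => hQR x hx a ha)
    have hle : P ⊔ cj n ≤ Subgroup.centralizer ({b} : Set S) :=
      sup_le (fun x hx => Subgroup.mem_centralizer_singleton_iff.2 (hPR x hx b hb))
        (fun x hx => Subgroup.mem_centralizer_singleton_iff.2 (hQR x hx b hb))
    exact Subgroup.mem_centralizer_singleton_iff.1 (hle h1)
  obtain ⟨g, hgN, hg0⟩ := SetLike.exists_of_lt hSN
  set w := g * z * g⁻¹ with hw
  have hzw : z ≠ w := fun e => hg0 ((hmem g).2 (eq_mul_inv_iff_mul_eq.1 e).symm)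
  have hpair : ∀ n ∈ N, n * z * n⁻¹ = if n ∈ S₀ then z else w := by
    intro n hn
    split_ifs with h
    · exact mul_inv_eq_iff_eq_mul.2 ((hmem n).1 h)
    · exact htwo n hn g hgN h hg0
  have hQ := hz.conj g
  obtain ⟨hPQ, hPQc, -⟩ := inside h2 hr S₀ hz hQ hzw hPS (hcjS g hgN) hPn (hcjn g hgN)
  refine ⟨?_, ?_⟩
  · -- sectional rank of `P`
    intro H M _ A hA hA2
    let H' := A.comap (QuotientGroup.mk' M)
    let f : H' →* A := (QuotientGroup.mk' M).subgroupComap A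
    have hf : Function.Surjective f :=
      MonoidHom.subgroupComap_surjective_of_surjective _ _ (QuotientGroup.mk'_surjective M)
    let ι : H' →* S := P.subtype.comp (H.subtype.comp H'.subtype)
    have hι : Function.Injective ι :=
      P.subtype_injective.comp (H.subtype_injective.comp H'.subtype_injective)
    let φ : H' × H' →* S := ι.noncommCoprod ((MulAut.conj g).toMonoidHom.comp ι)
      (fun a b => hPQc _ ((a : H) : P).2 _ ⟨_, ((b : H) : P).2, rfl⟩)
    have hφ : Function.Injective φ := fun x y hxy => by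
      have h1 := Subgroup.mul_injective_of_disjoint (H₁ := P) (H₂ := cj g) (disjoint_iff.2 hPQ)
        (a₁ := (⟨ι x.1, ((x.1 : H) : P).2⟩, ⟨MulAut.conj g (ι x.2), _, ((x.2 : H) : P).2, rfl⟩))
        (a₂ := (⟨ι y.1, ((y.1 : H) : P).2⟩, ⟨MulAut.conj g (ι y.2), _, ((y.2 : H) : P).2, rfl⟩)) hxy
      have h3 := congrArg (fun t : P × cj g => (t.1 : S)) h1
      have h4 := congrArg (fun t : P × cj g => (t.2 : S)) h1
      exact Prod.ext (hι h3) (hι ((MulAut.conj g).injective h4))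
    let e : H' × H' ≃* φ.range := φ.ofInjective hφ
    let ψ : φ.range →* A × A := (f.prodMap f).comp e.symm.toMonoidHom
    have hψ : Function.Surjective ψ := (Prod.map_surjective.2 ⟨hf, hf⟩).comp e.symm.surjective
    let q := QuotientGroup.quotientKerEquivOfSurjective ψ hψ
    have h := hr φ.range ψ.ker ⊤ ⟨⟨fun x y => Subtype.ext (q.injective ?_)⟩⟩
      (fun x _ => q.injective ?_)
    · rw [Nat.card_congr Subgroup.topEquiv.toEquiv, Nat.card_congr q.toEquiv, Nat.card_prod] at h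
      nlinarith
    · show q ((x : φ.range ⧸ ψ.ker) * y) = q ((y : φ.range ⧸ ψ.ker) * x)
      rw [map_mul, map_mul]
      exact Prod.ext (hA.1.1 _ _) (hA.1.1 _ _)
    · rw [map_pow, map_one]
      exact Prod.ext (Subtype.ext (hA2 _ (q x).1.2)) (Subtype.ext (hA2 _ (q x).2.2))
  · -- the index is two
    have hNtop : N = ⊤ := by
      by_contra hne
      obtain ⟨h, hhN, hh0⟩ := SetLike.exists_of_lt
        (Group.normalizerCondition_of_isNilpotent N (lt_top_iff_ne_top.2 hne))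
      have hconjN : ∀ n ∈ N, h * n * h⁻¹ ∈ N ∧ h⁻¹ * n * h ∈ N := fun n hn =>
        ⟨(Subgroup.mem_normalizer_iff.1 hhN n).1 hn, (Subgroup.mem_normalizer_iff''.1 hhN n).1 hn⟩
      set u := h * z * h⁻¹ with hu
      set u' := h * w * h⁻¹ with hu'
      have hmem1 : ∀ s, s * u = u * s ↔ h⁻¹ * s * h ∈ S₀ := fun s => by
        rw [hmem]
        constructor
        · intro e
          calc h⁻¹ * s * h * z = h⁻¹ * (s * u) * h := by rw [hu]; group
            _ = h⁻¹ * (u * s) * h := by rw [e]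
            _ = z * (h⁻¹ * s * h) := by rw [hu]; group
        · intro e
          calc s * u = h * (h⁻¹ * s * h * z) * h⁻¹ := by rw [hu]; group
            _ = h * (z * (h⁻¹ * s * h)) * h⁻¹ := by rw [e]
            _ = u * s := by rw [hu]; group
      have hpair1 : ∀ n ∈ N, n * u * n⁻¹ = if h⁻¹ * n * h ∈ S₀ then u else u' := fun n hn => by
        have h1 := hpair _ (hconjN n hn).2
        have h3 : n * u * n⁻¹ = h * ((h⁻¹ * n * h) * z * (h⁻¹ * n * h)⁻¹) * h⁻¹ := by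
          rw [hu]; group
        rw [h3, h1]
        split_ifs <;> rfl
      let P₁ := cj h
      have hP₁ := hz.conj h
      have hP₁n : ∀ s, h⁻¹ * s * h ∈ S₀ → ∀ x ∈ P₁, s * x * s⁻¹ ∈ P₁ := by
        intro s hs x hx
        rw [mem_conj] at hx ⊢
        have h1 := hPn _ hs _ hx
        have e : h⁻¹ * (s * x * s⁻¹) * h = (h⁻¹ * s * h) * (h⁻¹ * x * h) * (h⁻¹ * s * h)⁻¹ := by group
        rwa [e]
      set g₁ := h * g * h⁻¹ with hg₁
      have hg₁N : g₁ ∈ N := (hconjN g hgN).1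
      -- `z ∈ S₁`
      have hP₁N : ∀ a ∈ P₁, a ∈ N := by
        rintro _ ⟨a, ha, rfl⟩
        exact (hconjN a (hSN.le (hPS ha))).1
      have hzu : h⁻¹ * z * h ∈ S₀ := by
        let A := P ⊓ S₀.comap (MulAut.conj h⁻¹).toMonoidHom
        have hA : ∀ x, x ∈ A ↔ x ∈ P ∧ h⁻¹ * x * h ∈ S₀ := fun x => by
          show x ∈ P ∧ h⁻¹ * x * h⁻¹⁻¹ ∈ S₀ ↔ _
          rw [inv_inv]
        rcases normal_trivial_or_mem h2 hz (A := A) inf_le_left (fun a ha x hx => by
          rw [hA] at hx ⊢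
          refine ⟨P.mul_mem (P.mul_mem ha hx.1) (P.inv_mem ha), ?_⟩
          have h1 := (hNn _ (hconjN a (hSN.le (hPS ha))).2 _ hx.2).1
          have e : h⁻¹ * (a * x * a⁻¹) * h = (h⁻¹ * a * h) * (h⁻¹ * x * h) * (h⁻¹ * a * h)⁻¹ := by
            group
          rwa [e]) with h0 | h0
        · exfalso
          refine hz.2.2.2.2 fun a ha b hb => ?_
          by_cases ha1 : a = 1
          · simp [ha1]
          by_cases hb1 : b = 1
          · simp [hb1]
          have hout : ∀ c ∈ P, c ≠ 1 → h⁻¹ * c * h ∉ S₀ := fun c hc hc1 hcs => hc1 (by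
            have h5 : c ∈ A := (hA c).2 ⟨hc, hcs⟩
            rwa [h0, Subgroup.mem_bot] at h5)
          have h6 := htwo _ (hconjN a (hSN.le (hPS ha))).2 _
            (hconjN _ (hSN.le (hPS (P.inv_mem hb)))).2 (hout a ha ha1)
            (hout _ (P.inv_mem hb) (inv_ne_one.2 hb1))
          have h7 : b * a = 1 := by
            by_contra hne'
            refine hout _ (P.mul_mem hb ha) hne' ((hmem _).2 (mul_inv_eq_iff_eq_mul.1 ?_))
            calc h⁻¹ * (b * a) * h * z * (h⁻¹ * (b * a) * h)⁻¹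
                = (h⁻¹ * b * h) * ((h⁻¹ * a * h) * z * (h⁻¹ * a * h)⁻¹) * (h⁻¹ * b * h)⁻¹ := by group
              _ = z := by rw [h6]; group
          rw [mul_eq_one_iff_eq_inv.1 h7, inv_mul_cancel, mul_inv_cancel]
        · exact ((hA z).1 h0).2
      have huS : u ∈ S₀ := (hmem u).2 ((hmem1 z).2 hzu).symm
      have huu' : u ≠ u' := fun e => hzw (by simpa [hu, hu'] using e)
      -- generic: elements of `P` lie in the other centraliser
      have key : ∀ {X : Subgroup S} {g' t t' : S}, X ⊓ X.map (MulAut.conj g').toMonoidHom = ⊥ →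
          t ≠ t' → (∀ x ∈ X, x * t * x⁻¹ = t ∨ x * t * x⁻¹ = t') →
          (∀ x ∈ X.map (MulAut.conj g').toMonoidHom, x * t * x⁻¹ = t ∨ x * t * x⁻¹ = t') →
          (∀ x ∈ X, t * x * t⁻¹ ∈ X) → (∀ x ∈ X.map (MulAut.conj g').toMonoidHom,
            t * x * t⁻¹ ∈ X.map (MulAut.conj g').toMonoidHom) →
          (∀ x ∈ X, x * t * x⁻¹ ≠ t → g' * x * g'⁻¹ * t * (g' * x * g'⁻¹)⁻¹ ≠ t) →
          ∀ x ∈ X, x * t = t * x := by
        intro X g' t t' hX htt h1 h1' h3 h3' h4 x hx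
        by_contra hne
        have hx1 : x * t * x⁻¹ ≠ t := fun e => hne (mul_inv_eq_iff_eq_mul.1 e)
        have ex := (h1 x hx).resolve_left hx1
        set y := g' * x * g'⁻¹
        have hy : y ∈ X.map (MulAut.conj g').toMonoidHom := ⟨x, hx, rfl⟩
        have ey := (h1' y hy).resolve_left (h4 x hx hx1)
        have k1 : t' * t⁻¹ ∈ X := by
          rw [← ex, show x * t * x⁻¹ * t⁻¹ = x * (t * x⁻¹ * t⁻¹) by group]
          exact X.mul_mem hx (h3 _ (X.inv_mem hx))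
        have k2 : t' * t⁻¹ ∈ X.map (MulAut.conj g').toMonoidHom := by
          rw [← ey, show y * t * y⁻¹ * t⁻¹ = y * (t * y⁻¹ * t⁻¹) by group]
          exact Subgroup.mul_mem _ hy (h3' _ (Subgroup.inv_mem _ hy))
        have k3 : t' * t⁻¹ ∈ X ⊓ X.map (MulAut.conj g').toMonoidHom := ⟨k1, k2⟩
        rw [hX, Subgroup.mem_bot, mul_inv_eq_one] at k3
        exact htt k3.symm
      -- the two centralisers are stable under `N`
      have hstab : ∀ n ∈ N, ∀ s, h⁻¹ * s * h ∈ S₀ → h⁻¹ * (n * s * n⁻¹) * h ∈ S₀ := by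
        intro n hn s hs
        have h1 := (hNn _ (hconjN n hn).2 _ hs).1
        have e : h⁻¹ * (n * s * n⁻¹) * h = (h⁻¹ * n * h) * (h⁻¹ * s * h) * (h⁻¹ * n * h)⁻¹ := by group
        rwa [e]
      have hPS1 : ∀ x ∈ P, h⁻¹ * x * h ∈ S₀ := fun x hx => (hmem1 x).1 (by
        refine key (g' := g) (t' := u') hPQ huu' (fun x hx => ?_)
          (fun x hx => ?_) (fun x hx => hPn u huS x hx) (fun x hx => hcjn g hgN u huS x hx)
          (fun x hx hne e => ?_) x hx
        · rw [hpair1 x (hSN.le (hPS hx))]; split_ifs <;> simp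
        · rw [hpair1 x (hSN.le (hcjS g hgN hx))]; split_ifs <;> simp
        · refine hne (mul_inv_eq_iff_eq_mul.2 ((hmem1 x).2 ?_))
          have h1 := hstab _ (N.inv_mem hgN) _ ((hmem1 _).1 (mul_inv_eq_iff_eq_mul.1 e))
          have e' : g⁻¹ * (g * x * g⁻¹) * g⁻¹⁻¹ = x := by group
          rwa [e'] at h1)
      have hP₁conj : P₁.map (MulAut.conj g₁).toMonoidHom = cj (h * g) := by
        ext x
        rw [mem_conj, mem_conj, mem_conj, hg₁]
        have e : h⁻¹ * ((h * g * h⁻¹)⁻¹ * x * (h * g * h⁻¹)) * h = (h * g)⁻¹ * x * (h * g) := by group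
        rw [e]
      have hP₁inf : P₁ ⊓ P₁.map (MulAut.conj g₁).toMonoidHom = ⊥ := by
        rw [hP₁conj, eq_bot_iff]
        intro x hx
        obtain ⟨hx1, hx2⟩ := Subgroup.mem_inf.1 hx
        rw [mem_conj] at hx1 hx2
        have h3 : h⁻¹ * x * h ∈ P ⊓ cj g := by
          refine Subgroup.mem_inf.2 ⟨hx1, mem_conj.2 ?_⟩
          have e : g⁻¹ * (h⁻¹ * x * h) * g = (h * g)⁻¹ * x * (h * g) := by group
          rwa [e]
        rw [hPQ, Subgroup.mem_bot] at h3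
        refine Subgroup.mem_bot.2 ?_
        calc x = h * (h⁻¹ * x * h) * h⁻¹ := by group
          _ = 1 := by rw [h3]; group
      have hQ₁N : ∀ x ∈ P₁.map (MulAut.conj g₁).toMonoidHom, x ∈ N := by
        rintro _ ⟨a, ha, rfl⟩
        exact N.mul_mem (N.mul_mem hg₁N (hP₁N a ha)) (N.inv_mem hg₁N)
      have hP₁S : ∀ x ∈ P₁, x ∈ S₀ := fun x hx => (hmem x).2 (by
        refine key (g' := g₁) (t' := w) hP₁inf hzw (fun x hx => ?_) (fun x hx => ?_)
          (fun x hx => hP₁n z hzu x hx) (fun x hx => ?_) (fun x hx hne e => ?_) x hx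
        · rw [hpair x (hP₁N x hx)]; split_ifs <;> simp
        · rw [hpair x (hQ₁N x hx)]; split_ifs <;> simp
        · obtain ⟨a, ha, rfl⟩ := hx
          refine ⟨(g₁⁻¹ * z * g₁) * a * (g₁⁻¹ * z * g₁)⁻¹, hP₁n _ ?_ a ha, by simp [mul_assoc]⟩
          have h1 := hstab _ (N.inv_mem hg₁N) _ hzu
          rwa [inv_inv] at h1
        · refine hne (mul_inv_eq_iff_eq_mul.2 ((hmem x).1 ?_))
          have h1 := (hNn g₁ hg₁N _ ((hmem _).2 (mul_inv_eq_iff_eq_mul.1 e))).2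
          have e' : g₁⁻¹ * (g₁ * x * g₁⁻¹) * g₁ = x := by group
          rwa [e'] at h1)
      have hQ₁S : ∀ x ∈ P₁.map (MulAut.conj g₁).toMonoidHom, x ∈ S₀ := by
        rintro _ ⟨a, ha, rfl⟩
        exact (hNn g₁ hg₁N a (hP₁S a ha)).1
      have hg₁1 : h⁻¹ * g₁ * h ∉ S₀ := by
        rw [show h⁻¹ * g₁ * h = g by rw [hg₁]; group]; exact hg0
      have huz : u ≠ z := fun e => by
        have h1 : h⁻¹ * g₁ * h ∉ S₀ := hg₁1
        have hh1 : h ∈ S₀ := (hmem h).2 (mul_inv_eq_iff_eq_mul.1 e)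
        exact hh0 (hSN.le hh1)
      have hQ₁ := hP₁.conj g₁
      have hu'z : g₁ * u * g₁⁻¹ ≠ z := fun e => by
        have h1 : h * g * z = z * (h * g) := by
          rw [hg₁, hu] at e
          calc h * g * z = (h * g * h⁻¹ * (h * z * h⁻¹) * (h * g * h⁻¹)⁻¹) * (h * g) := by group
            _ = z * (h * g) := by rw [e]
        exact hh0 (by
          have h3 := N.mul_mem (hSN.le ((hmem _).2 h1)) (N.inv_mem hgN)
          rwa [mul_inv_cancel_right] at h3)
      have hQ₁n : ∀ s, h⁻¹ * s * h ∈ S₀ → ∀ x ∈ P₁.map (MulAut.conj g₁).toMonoidHom,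
          s * x * s⁻¹ ∈ P₁.map (MulAut.conj g₁).toMonoidHom := by
        rintro s hs _ ⟨a, ha, rfl⟩
        refine ⟨(g₁⁻¹ * s * g₁) * a * (g₁⁻¹ * s * g₁)⁻¹, hP₁n _ ?_ a ha, by simp [mul_assoc]⟩
        have h1 := hstab _ (N.inv_mem hg₁N) _ hs
        rwa [inv_inv] at h1
      have c1 := cross h2 hz hP₁ huz.symm (fun a ha b hb => hP₁n a (hPS1 a ha) b hb)
        (fun b hb a ha => hPn b (hP₁S b hb) a ha) (fun a ha => (hmem1 a).2 (hPS1 a ha))
      have hgu : g₁ * u * g₁⁻¹ = u' := by rw [hpair1 g₁ hg₁N, if_neg hg₁1]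
      have hu'comm : ∀ a, h⁻¹ * a * h ∈ S₀ → a * (g₁ * u * g₁⁻¹) = g₁ * u * g₁⁻¹ * a := by
        intro a ha
        have h1 := hstab _ (N.inv_mem hg₁N) _ ha
        rw [inv_inv, ← hmem1] at h1
        calc a * (g₁ * u * g₁⁻¹) = g₁ * (g₁⁻¹ * a * g₁ * u) * g₁⁻¹ := by group
          _ = g₁ * (u * (g₁⁻¹ * a * g₁)) * g₁⁻¹ := by rw [h1]
          _ = _ := by group
      have c2 := cross h2 hz hQ₁ hu'z.symm (fun a ha b hb => hQ₁n a (hPS1 a ha) b hb)
        (fun b hb a ha => hPn b (hQ₁S b hb) a ha) (fun a ha => hu'comm a (hPS1 a ha))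
      let T := S₀.comap (MulAut.conj h⁻¹).toMonoidHom
      have hT : ∀ x, x ∈ T ↔ h⁻¹ * x * h ∈ S₀ := fun x => by
        show h⁻¹ * x * h⁻¹⁻¹ ∈ S₀ ↔ _
        rw [inv_inv]
      have hP₁T : P₁ ≤ T := fun x hx => (hT x).2 (hPS (mem_conj.1 hx))
      have hQ₁T : P₁.map (MulAut.conj g₁).toMonoidHom ≤ T := by
        rintro _ ⟨a, ha, rfl⟩
        exact (hT _).2 (hstab g₁ hg₁N a ((hT a).1 (hP₁T ha)))
      obtain ⟨-, -, hC⟩ := inside h2 hr T hP₁ hQ₁ (hgu ▸ huu') hP₁T hQ₁T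
        (fun s hs x hx => hP₁n s ((hT s).1 hs) x hx) (fun s hs x hx => hQ₁n s ((hT s).1 hs) x hx)
      refine hz.2.2.2.2 fun a ha b hb => ?_
      have h1 := hC a ((hT a).2 (hPS1 a ha)) (fun x hx => (c1 a ha x hx).symm)
        (fun x hx => (c2 a ha x hx).symm)
      have hle : P₁ ⊔ P₁.map (MulAut.conj g₁).toMonoidHom ≤ Subgroup.centralizer ({b} : Set S) :=
        sup_le (fun x hx => Subgroup.mem_centralizer_singleton_iff.2 (c1 b hb x hx).symm)
          (fun x hx => Subgroup.mem_centralizer_singleton_iff.2 (c2 b hb x hx).symm)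
      exact Subgroup.mem_centralizer_singleton_iff.1 (hle h1)
    rw [Subgroup.index_eq_two_iff]
    refine ⟨g, fun b => ?_⟩
    have hall : ∀ x, x ∈ N := fun x => hNtop ▸ Subgroup.mem_top x
    by_cases hb : b ∈ S₀
    · exact Or.inr ⟨hb, fun h => hg0 ((S₀.mul_mem_cancel_left hb).1 h)⟩
    · refine Or.inl ⟨(hmem _).2 (mul_inv_eq_iff_eq_mul.1 ?_), hb⟩
      have h1 := htwo g hgN b⁻¹ (hall _) hg0 (fun h => hb (inv_inv b ▸ S₀.inv_mem h))
      calc b * g * z * (b * g)⁻¹ = b * (g * z * g⁻¹) * b⁻¹ := by group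
        _ = z := by rw [h1]; group

end CfsgLib.Perm.SecPair
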