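import Mathlib.GroupTheory.SpecificGroups.Cyclic
import Cfsg.Prelude.Def_CaseTheorems
import Cfsg.Agent.Solv.MaximalClass
import Cfsg.Agent.Solv.FittingBasic
import Cfsg.Agent.Perm.MinClass

/-!
A `2`-group of sectional rank at most two containing a non-abelian subgroup of order eight has
maximal class.
-/

set_option autoImplicit false
set_option linter.style.haveILetI false
set_option linter.unusedSectionVars false

open scoped commutatorElement

universe u

namespace CfsgLib.Perm.SecTwo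

theorem sectional_sub {G : Type u} [Group G] {p k : ℕ} (hr : Cfsg.SectionalPRankLE p k G)
    (T : Subgroup G) : Cfsg.SectionalPRankLE p k T := by
  intro H N _ A hA hA2
  let e : H ≃* H.map T.subtype := H.equivMapOfInjective T.subtype T.subtype_injective
  haveI : (N.map e.toMonoidHom).Normal := Subgroup.Normal.map inferInstance _ e.surjective
  let q := QuotientGroup.congr N (N.map e.toMonoidHom) e rfl
  have h := hr (H.map T.subtype) (N.map e.toMonoidHom) (A.map q.toMonoidHom) ⟨⟨?_⟩⟩ ?_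
  · exact (Subgroup.card_map_of_injective (K := A) (f := q.toMonoidHom) q.injective) ▸ h
  · rintro ⟨_, a, ha, rfl⟩ ⟨_, b, hb, rfl⟩
    refine Subtype.ext ?_
    show q a * q b = q b * q a
    rw [← map_mul, ← map_mul, show a * b = b * a from congrArg Subtype.val (hA.1.1 ⟨a, ha⟩ ⟨b, hb⟩)]
  · rintro _ ⟨a, ha, rfl⟩
    show q a ^ p = 1
    rw [← map_pow, hA2 a ha, map_one]

variable {G : Type u} [Group G] [Finite G]

/-- A section generated by commuting involutions has order at most `2 ^ k`. -/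
theorem section_bound {k : ℕ} (hr : Cfsg.SectionalPRankLE 2 k G) (U : Set G) (N : Subgroup G)
    (hle : N ≤ Subgroup.closure U) (hN : ∀ u ∈ U, ∀ x ∈ N, u * x * u⁻¹ ∈ N)
    (hc : ∀ u ∈ U, ∀ v ∈ U, u * v * u⁻¹ * v⁻¹ ∈ N) (hsq : ∀ u ∈ U, u ^ 2 ∈ N) :
    Nat.card (Subgroup.closure U) ≤ 2 ^ k * Nat.card N := by
  set W := Subgroup.closure U
  have hnorm : W ≤ Subgroup.normalizer (N : Set G) :=
    (Subgroup.closure_le _).2 fun u hu => Subgroup.mem_normalizer_fintype (hN u hu)
  haveI : (N.subgroupOf W).Normal := (Subgroup.normal_subgroupOf_iff_le_normalizer hle).2 hnorm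
  let π := QuotientGroup.mk' (N.subgroupOf W)
  let U' : Set W := W.subtype ⁻¹' U
  have htop : Subgroup.closure U' = ⊤ := by
    rw [eq_top_iff]
    rintro x -
    have : (x : G) ∈ (Subgroup.closure U').map W.subtype := by
      have h1 : W ≤ (Subgroup.closure U').map W.subtype := (Subgroup.closure_le _).2 fun u hu =>
        ⟨⟨u, Subgroup.subset_closure hu⟩, Subgroup.subset_closure hu, rfl⟩
      exact h1 x.2
    obtain ⟨y, hy, hyx⟩ := this
    rwa [show y = x from Subtype.ext hyx] at hy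
  have h1 : ∀ u ∈ U', ∀ v ∈ U', Commute (π u) (π v) := fun u hu v hv => by
    have h : π (u * v * u⁻¹ * v⁻¹) = 1 := (QuotientGroup.eq_one_iff _).2 (hc _ hu _ hv)
    rw [map_mul, map_mul, map_mul, map_inv, map_inv, mul_inv_eq_one, mul_inv_eq_iff_eq_mul] at h
    exact h
  have h2 : ∀ v ∈ U', ∀ x : W, Commute (π x) (π v) := fun v hv x => by
    have hx : x ∈ Subgroup.closure U' := htop ▸ Subgroup.mem_top x
    induction hx using Subgroup.closure_induction with
    | mem a ha => exact h1 a ha v hv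
    | one => rw [map_one]; exact Commute.one_left _
    | mul a b _ _ ha hb => rw [map_mul]; exact ha.mul_left hb
    | inv a _ ha => rw [map_inv]; exact ha.inv_left
  have h3 : ∀ x y : W, Commute (π x) (π y) := fun x y => by
    have hy : y ∈ Subgroup.closure U' := htop ▸ Subgroup.mem_top y
    induction hy using Subgroup.closure_induction with
    | mem a ha => exact h2 a ha x
    | one => rw [map_one]; exact Commute.one_right _
    | mul a b _ _ ha hb => rw [map_mul]; exact ha.mul_right hb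
    | inv a _ ha => rw [map_inv]; exact ha.inv_right
  have h4 : ∀ x : W, π x ^ 2 = 1 := fun x => by
    have hx : x ∈ Subgroup.closure U' := htop ▸ Subgroup.mem_top x
    induction hx using Subgroup.closure_induction with
    | mem a ha =>
      rw [← map_pow]
      exact (QuotientGroup.eq_one_iff _).2 (hsq _ ha)
    | one => simp
    | mul a b _ _ ha hb => rw [map_mul, (h3 a b).mul_pow, ha, hb, one_mul]
    | inv a _ ha => rw [map_inv, inv_pow, ha, inv_one]
  have hb := hr W (N.subgroupOf W) ⊤ ⟨⟨fun x y => Subtype.ext (by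
      obtain ⟨a, ha⟩ := QuotientGroup.mk'_surjective _ (x : W ⧸ N.subgroupOf W)
      obtain ⟨b, hb⟩ := QuotientGroup.mk'_surjective _ (y : W ⧸ N.subgroupOf W)
      show (x : W ⧸ N.subgroupOf W) * y = y * x
      rw [← ha, ← hb]; exact h3 a b)⟩⟩
    (fun x _ => by obtain ⟨a, rfl⟩ := QuotientGroup.mk'_surjective _ x; exact h4 a)
  rw [Nat.card_congr Subgroup.topEquiv.toEquiv, ← Subgroup.index_eq_card] at hb
  rw [← Subgroup.card_mul_index (N.subgroupOf W),
    Nat.card_congr (Subgroup.subgroupOfEquivOfLe hle).toEquiv, mul_comm]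
  exact Nat.mul_le_mul_right _ hb

theorem four_le_index_commutator {n : ℕ} (hn : 2 ≤ n) (hG : Nat.card G = 2 ^ n)
    (h : 2 ^ (n - 2) ≤ Nat.card (commutator G)) : Nat.card (commutator G) = 2 ^ (n - 2) := by
  obtain ⟨m, hm, hc⟩ := CfsgLib.Solv.MaxClass.card_commutator_le hn hG
  have := Nat.pow_le_pow_right (two_pos : 0 < 2) hm
  omega

/-- One step up: index two over a subgroup of maximal class. -/
theorem step (hr : Cfsg.SectionalPRankLE 2 2 G) {n : ℕ} (hn : 3 ≤ n) (M : Subgroup G)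
    (hMi : M.index = 2) (hMc : Nat.card M = 2 ^ n) (hd : Nat.card (commutator M) = 2 ^ (n - 2))
    (hcen : ∀ c : G, (∀ m ∈ M, m * c = c * m) → c ∈ M) :
    Nat.card (commutator G) = 2 ^ (n - 1) := by
  classical
  haveI : Fact (Nat.Prime 2) := ⟨Nat.prime_two⟩
  obtain ⟨k, rfl⟩ : ∃ k, n = k + 3 := ⟨n - 3, by omega⟩
  have hG : Nat.card G = 2 ^ (k + 4) := by
    rw [← Subgroup.card_mul_index M, hMc, hMi, ← pow_succ]
  haveI hMn : M.Normal := Subgroup.normal_of_index_eq_two hMi
  obtain ⟨⟨a, haM⟩, ⟨b, hbM⟩, e, f, ha, hb, hi, hba, hb2, he⟩ :=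
    CfsgLib.Solv.MaxClass.shape hn hMc hd
  rw [show k + 3 - 1 = k + 2 by omega, ← Subgroup.orderOf_coe] at ha
  simp only [show k + 3 - 2 = k + 1 by omega] at hba hb2
  set r : ℤ := -1 + e * 2 ^ (k + 1) with hr0
  replace hba : b * a * b⁻¹ = a ^ r := congrArg Subtype.val hba
  replace hb2 : b ^ 2 = a ^ (f * 2 ^ (k + 1)) := congrArg Subtype.val hb2
  have hord : ∀ i : ℤ, a ^ i = 1 ↔ (2 : ℤ) ^ (k + 2) ∣ i := fun i => by
    rw [← orderOf_dvd_iff_zpow_eq_one]
    show ((orderOf a : ℕ) : ℤ) ∣ i ↔ _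
    rw [show orderOf a = 2 ^ (k + 2) from ha]; push_cast; rfl
  have hr4 : ∃ t : ℤ, r = 4 * t - 1 := by
    rcases he with rfl | hn4
    · exact ⟨0, by rw [hr0]; ring⟩
    · obtain ⟨j, rfl⟩ : ∃ j, k = j + 1 := ⟨k - 1, by omega⟩
      exact ⟨e * 2 ^ j, by rw [hr0]; ring⟩
  obtain ⟨t, ht⟩ := hr4
  -- the elements of `M`
  have hMel : ∀ m ∈ M, ∃ i : ℤ, m = a ^ i ∨ m = b * a ^ i := by
    intro m hm
    by_cases h : (⟨m, hm⟩ : M) ∈ Subgroup.zpowers (⟨a, haM⟩ : M)
    · obtain ⟨i, hi'⟩ := h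
      exact ⟨i, Or.inl (congrArg Subtype.val hi').symm⟩
    · have h1 : (⟨b, hbM⟩ : M)⁻¹ * ⟨m, hm⟩ ∈ Subgroup.zpowers (⟨a, haM⟩ : M) :=
        (Subgroup.mul_mem_iff_of_index_two hi).2 (by simp [hb, h])
      obtain ⟨i, hi'⟩ := h1
      refine ⟨i, Or.inr ?_⟩
      have h2 : a ^ i = b⁻¹ * m := congrArg Subtype.val hi'
      rw [h2, mul_inv_cancel_left]
  have hbai : ∀ i : ℤ, b * a ^ i * b⁻¹ = a ^ (r * i) := fun i => by
    rw [← conj_zpow, hba, ← zpow_mul]
  -- the derived subgroup of `M`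
  set B := Subgroup.zpowers (a ^ (2 : ℤ))
  have hBmem : ∀ i : ℤ, a ^ (2 * i) ∈ B := fun i => by
    rw [zpow_mul]; exact Subgroup.zpow_mem_zpowers _ i
  have hB : B = (commutator M).map M.subtype := by
    have hcard : Nat.card B = 2 ^ (k + 1) := by
      rw [Nat.card_zpowers, zpow_ofNat, orderOf_pow' _ two_ne_zero,
        show orderOf a = 2 ^ (k + 2) from ha, Nat.gcd_eq_right (dvd_pow_self 2 (by omega)), pow_succ,
        Nat.mul_div_cancel _ two_pos]
    symm
    refine Subgroup.eq_of_le_of_card_ge ?_ ?_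
    · have hle : commutator M ≤ B.subgroupOf M := by
        have hgen : Subgroup.closure ({⟨a, haM⟩, ⟨b, hbM⟩} : Set M) = ⊤ :=
          CfsgLib.Solv.MaxClass.closure_pair_eq_top rfl hi hb
        refine (CfsgLib.Solv.MaxClass.commutator_le_zpowers (s := r) hgen
          (Subtype.ext hba)).trans (Subgroup.zpowers_le.2 ?_)
        show a ^ (r - 1) ∈ B
        rw [ht, show 4 * t - 1 - 1 = 2 * (2 * t - 1) by ring]
        exact hBmem _
      exact (Subgroup.map_mono hle).trans (by
        rw [Subgroup.subgroupOf_map_subtype]; exact inf_le_left)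
    · rw [hcard, Subgroup.card_map_of_injective M.subtype_injective, hd]
      exact le_of_eq (by congr 1)
  haveI hBn : B.Normal := hB ▸ CfsgLib.Solv.normal_map_subtype_of_characteristic _
  have hBM : B ≤ M := Subgroup.zpowers_le.2 (M.zpow_mem haM 2)
  have hBG : B ≤ commutator G := by
    rw [hB, Subgroup.map_le_iff_le_comap, commutator_def, Subgroup.commutator_le]
    intro x _ y _
    show (⁅x, y⁆ : M).1 ∈ commutator G
    exact Subgroup.commutator_mem_commutator (Subgroup.mem_top (x : G)) (Subgroup.mem_top (y : G))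
  have hBc : Nat.card B = 2 ^ (k + 1) := by
    rw [hB, Subgroup.card_map_of_injective M.subtype_injective, hd]
    congr 1
  by_cases hlt : B = commutator G
  case neg =>
    refine four_le_index_commutator (n := k + 4) (by omega) hG ?_
    have h1 := Subgroup.card_mul_index ((B.subgroupOf (commutator G)))
    have h2 : (B.subgroupOf (commutator G)).index ≠ 1 := fun h0 => hlt
      (le_antisymm hBG (by
        rw [Subgroup.index_eq_one, Subgroup.subgroupOf_eq_top] at h0; exact h0))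
    have h3 : (B.subgroupOf (commutator G)).index ≠ 0 := Subgroup.index_ne_zero_of_finite
    rw [Nat.card_congr (Subgroup.subgroupOfEquivOfLe hBG).toEquiv, hBc] at h1
    rw [show k + 4 - 2 = k + 1 + 1 by omega, pow_succ, ← h1]
    exact Nat.mul_le_mul_left _ (by omega)
  exfalso
  have hcomm : ∀ x y : G, x * y * x⁻¹ * y⁻¹ ∈ B := fun x y => hlt.symm ▸
    Subgroup.commutator_mem_commutator (Subgroup.mem_top x) (Subgroup.mem_top y)
  obtain ⟨s, hs⟩ : ∃ s : G, s ^ 2 ∉ B := by
    by_contra h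
    push Not at h
    have hc := section_bound hr Set.univ B (by rw [Subgroup.closure_univ]; exact le_top)
      (fun u _ x hx => hBn.conj_mem x hx u) (fun u _ v _ => hcomm u v) (fun u _ => h u)
    rw [Subgroup.closure_univ, Nat.card_congr Subgroup.topEquiv.toEquiv, hBc, hG] at hc
    have h1 : 2 ^ 2 * 2 ^ (k + 1) = 2 ^ (k + 3) := by rw [← pow_add]; congr 1; omega
    have h2 : (2 : ℕ) ^ (k + 3) < 2 ^ (k + 4) := Nat.pow_lt_pow_right one_lt_two (by omega)
    omega
  have hsM : s ∉ M := by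
    intro hsM
    refine hs ?_
    obtain ⟨i, rfl | rfl⟩ := hMel s hsM
    · rw [← zpow_natCast, ← zpow_mul, Nat.cast_two, mul_comm]; exact hBmem i
    · have h1 : (b * a ^ i) ^ 2 = a ^ (r * i) * b ^ 2 * a ^ i := by
        rw [← hbai, sq, sq]; group
      rw [h1, hb2, ← zpow_add, ← zpow_add, ht,
        show (4 * t - 1) * i + f * 2 ^ (k + 1) + i = 2 * (2 * t * i + f * 2 ^ k) by ring]
      exact hBmem _
  have hBa : ∀ x ∈ B, ∃ i : ℤ, x = a ^ (2 * i) := by
    rintro _ ⟨i, rfl⟩
    exact ⟨i, (zpow_mul a 2 i).symm⟩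
  obtain ⟨j₁, hj₁⟩ := hBa _ (hcomm s a)
  obtain ⟨j₂, hj₂⟩ := hBa _ (hcomm s b)
  have hsa : s * a * s⁻¹ = a ^ (2 * j₁ + 1) := by
    rw [zpow_add_one, ← hj₁]; group
  have hsb : s * b * s⁻¹ = a ^ (2 * j₂) * b := by
    rw [← hj₂]; group
  have hs2M : s ^ 2 ∈ M := Subgroup.sq_mem_of_index_two hMi s
  obtain ⟨i, hi' | hi'⟩ := hMel _ hs2M
  · -- `s` centralises `a` and can be corrected to centralise `M`
    have hodd : ¬ (2 : ℤ) ∣ i := fun ⟨l, hl⟩ => hs (by rw [hi', hl]; exact hBmem l)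
    have hco : IsCoprime i ((2 : ℤ) ^ (k + 2)) :=
      ((Int.prime_two.coprime_iff_not_dvd.2 hodd).symm).pow_right
    obtain ⟨u', v', huv⟩ := hco
    have ha' : a = (s ^ 2) ^ u' := by
      rw [hi', ← zpow_mul]
      calc a = a ^ (u' * i + v' * 2 ^ (k + 2)) := by rw [huv, zpow_one]
        _ = a ^ (i * u') := by
          rw [zpow_add, (hord (v' * 2 ^ (k + 2))).2 (dvd_mul_left _ _), mul_one, mul_comm]
    have hca : Commute s a := by
      rw [ha']; exact ((Commute.refl s).pow_right 2).zpow_right u'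
    obtain ⟨u₂, v₂, huv₂⟩ : IsCoprime (2 * t - 1) ((2 : ℤ) ^ (k + 2)) :=
      (show IsCoprime (2 * t - 1) (2 : ℤ) from ⟨-1, t, by ring⟩).pow_right
    set l : ℤ := u₂ * j₂ with hl
    refine hsM ?_
    have h1 : a ^ l * s ∈ M := hcen _ fun m hm => by
      have hcb : Commute (a ^ l * s) b := by
        show a ^ l * s * b = b * (a ^ l * s)
        have e1 : s * b = a ^ (2 * j₂) * b * s := by rw [← hsb]; group
        have e2 : b * a ^ l = a ^ (r * l) * b := by rw [← hbai]; group
        rw [mul_assoc, e1, ← mul_assoc, ← mul_assoc, ← zpow_add, ← mul_assoc b, e2]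
        congr 2
        rw [← mul_inv_eq_one, ← zpow_neg, ← zpow_add, hord]
        refine ⟨2 * j₂ * v₂, ?_⟩
        rw [ht, hl]
        linear_combination (-2 * j₂) * huv₂
      have hca' : Commute (a ^ l * s) a := ((Commute.refl a).zpow_left l).mul_left hca
      obtain ⟨j, rfl | rfl⟩ := hMel m hm
      · exact (hca'.zpow_right j).eq.symm
      · exact (hcb.mul_right (hca'.zpow_right j)).eq.symm
    exact (M.mul_mem_cancel_left (M.zpow_mem haM l)).1 h1
  · -- a square root of an element inverting `a`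
    have h1 : s ^ 2 * a * (s ^ 2)⁻¹ = a ^ r := by
      rw [hi', ← hba]
      calc b * a ^ i * a * (b * a ^ i)⁻¹ = b * (a ^ i * a * (a ^ i)⁻¹) * b⁻¹ := by group
        _ = b * a * b⁻¹ := by rw [(Commute.self_zpow a i).symm.eq, mul_inv_cancel_right]
    have h2 : s ^ 2 * a * (s ^ 2)⁻¹ = a ^ ((2 * j₁ + 1) * (2 * j₁ + 1)) := by
      rw [zpow_mul, ← hsa]
      calc s ^ 2 * a * (s ^ 2)⁻¹ = s * (s * a * s⁻¹) * s⁻¹ := by rw [sq]; group
        _ = s * a ^ (2 * j₁ + 1) * s⁻¹ := by rw [hsa]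
        _ = (s * a * s⁻¹) ^ (2 * j₁ + 1) := by rw [conj_zpow]
    rw [h1, ← mul_inv_eq_one, ← zpow_neg, ← zpow_add, hord] at h2
    obtain ⟨w, hw⟩ := (dvd_trans (pow_dvd_pow (2 : ℤ) (show 2 ≤ k + 2 by omega)) h2)
    rw [ht] at hw
    ring_nf at hw
    omega

theorem cent_le (hr : Cfsg.SectionalPRankLE 2 2 G) (h2 : IsPGroup 2 G) (H : Subgroup G)
    (hH : Nat.card H = 2 ^ 3) (hna : ¬ IsMulCommutative H) (c : G)
    (hc : ∀ x ∈ H, x * c = c * x) : c ∈ H := by
  classical
  haveI : Fact (Nat.Prime 2) := ⟨Nat.prime_two⟩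
  by_contra hcH
  obtain ⟨c, hc, hcH, hc2⟩ : ∃ d : G, (∀ x ∈ H, x * d = d * x) ∧ d ∉ H ∧ d ^ 2 ∈ H := by
    have hex : ∃ j : ℕ, c ^ 2 ^ j ∈ H := by
      obtain ⟨j, hj⟩ := h2 c
      exact ⟨j, hj ▸ H.one_mem⟩
    obtain ⟨i, hi⟩ : ∃ i, Nat.find hex = i + 1 := Nat.exists_eq_succ_of_ne_zero fun h0 => hcH (by
      have := Nat.find_spec hex
      rwa [h0, pow_zero, pow_one] at this)
    refine ⟨c ^ 2 ^ i, fun x hx => ((show Commute x c from hc x hx).pow_right _).eq,
      Nat.find_min hex (by omega), ?_⟩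
    rw [← pow_mul, ← pow_succ, ← hi]
    exact Nat.find_spec hex
  have hna' : ¬ ∀ a b : H, a * b = b * a := fun h => hna ⟨⟨h⟩⟩
  set Z := Subgroup.center H
  have hZ : Nat.card Z = 2 := by
    obtain ⟨m, hm, hmc⟩ := (Nat.dvd_prime_pow Nat.prime_two).1 (hH ▸ Subgroup.card_subgroup_dvd_card Z)
    have h0 : m ≠ 0 := fun h0 => by
      haveI : Nontrivial H := Finite.one_lt_card_iff_nontrivial.1 (by rw [hH]; norm_num)
      haveI := (h2.to_subgroup H).center_nontrivial
      have h1 := Finite.one_lt_card_iff_nontrivial.2 (inferInstance : Nontrivial Z)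
      rw [hmc, h0] at h1
      omega
    have hq : Nat.card (H ⧸ Z) * 2 ^ m = 2 ^ 3 := by
      rw [← hmc, ← Subgroup.card_eq_card_quotient_mul_card_subgroup, hH]
    have h2' : m < 2 := by
      by_contra h
      refine hna' ?_
      haveI : IsCyclic (H ⧸ Z) := by
        interval_cases m
        · exact isCyclic_of_prime_card (p := 2) (by omega)
        · haveI : Subsingleton (H ⧸ Z) := (Nat.card_eq_one_iff_unique.1 (by omega)).1
          infer_instance
      exact commutative_of_cyclic_center_quotient (QuotientGroup.mk' Z) (by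
        rw [QuotientGroup.ker_mk'])
    rw [hmc, show m = 1 by omega, pow_one]
  have hq4 : Nat.card (H ⧸ Z) = 4 := by
    have h := Subgroup.card_eq_card_quotient_mul_card_subgroup Z
    rw [hH, hZ] at h
    omega
  have hqc : ¬ IsCyclic (H ⧸ Z) := fun h => hna'
    (commutative_of_cyclic_center_quotient (QuotientGroup.mk' Z) (by rw [QuotientGroup.ker_mk']))
  have hsqq : ∀ q : H ⧸ Z, q * q = 1 := fun q => by
    obtain ⟨i, hi, ho⟩ := (Nat.dvd_prime_pow Nat.prime_two).1
      (show orderOf q ∣ 2 ^ 2 from (show Nat.card (H ⧸ Z) = 2 ^ 2 from hq4) ▸ orderOf_dvd_natCard q)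
    have hi2 : i ≤ 1 := by
      by_contra h
      exact hqc (isCyclic_of_orderOf_eq_card q (by rw [hq4, ho, show i = 2 by omega]; norm_num))
    rw [← sq, ← orderOf_dvd_iff_pow_eq_one, ho]
    exact (pow_dvd_pow 2 hi2).trans (by norm_num)
  have hcq : ∀ q q' : H ⧸ Z, q * q' = q' * q := fun q q' => by
    have hinv : ∀ x : H ⧸ Z, x⁻¹ = x := fun x => inv_eq_of_mul_eq_one_left (hsqq x)
    rw [← hinv (q * q'), mul_inv_rev, hinv, hinv]
  set ZG := Z.map H.subtype
  have hmemZ : ∀ x (hx : x ∈ H), (QuotientGroup.mk' Z ⟨x, hx⟩ = 1) → x ∈ ZG := fun x hx h =>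
    ⟨⟨x, hx⟩, (QuotientGroup.eq_one_iff _).1 h, rfl⟩
  have hZc : ∀ z ∈ ZG, ∀ x ∈ H, x * z = z * x := by
    rintro _ ⟨z, hz, rfl⟩ x hx
    exact congrArg Subtype.val (Subgroup.mem_center_iff.1 hz ⟨x, hx⟩)
  set U : Set G := (H : Set G) ∪ {c}
  have hb := section_bound hr U ZG ((Subgroup.map_subtype_le Z).trans fun x hx =>
      Subgroup.subset_closure (Or.inl hx))
    (fun u hu x hx => by
      rcases hu with hu | hu
      · rw [hZc x hx u hu, mul_inv_cancel_right]; exact hx
      · rw [Set.mem_singleton_iff.1 hu, ← hc x (Subgroup.map_subtype_le _ hx), mul_inv_cancel_right]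
        exact hx)
    (fun u hu v hv => by
      rcases hu with hu | hu <;> rcases hv with hv | hv
      · refine hmemZ _ (H.mul_mem (H.mul_mem (H.mul_mem hu hv) (H.inv_mem hu)) (H.inv_mem hv)) ?_
        have hm := hcq (QuotientGroup.mk' Z ⟨u, hu⟩) (QuotientGroup.mk' Z ⟨v, hv⟩)
        show QuotientGroup.mk' Z (⟨u, hu⟩ * ⟨v, hv⟩ * ⟨u, hu⟩⁻¹ * ⟨v, hv⟩⁻¹) = 1
        rw [map_mul, map_mul, map_mul, map_inv, map_inv, hm, mul_inv_cancel_right, mul_inv_cancel]
      · rw [Set.mem_singleton_iff.1 hv, hc u hu, mul_inv_cancel_right, mul_inv_cancel]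
        exact ZG.one_mem
      · rw [Set.mem_singleton_iff.1 hu, ← hc v hv, mul_inv_cancel_right, mul_inv_cancel]
        exact ZG.one_mem
      · rw [Set.mem_singleton_iff.1 hu, Set.mem_singleton_iff.1 hv, mul_inv_cancel_right,
          mul_inv_cancel]
        exact ZG.one_mem)
    (fun u hu => by
      rcases hu with hu | hu
      · refine hmemZ _ (H.pow_mem hu 2) ?_
        show QuotientGroup.mk' Z (⟨u, hu⟩ ^ 2) = 1
        rw [map_pow, sq]
        exact hsqq _
      · rw [Set.mem_singleton_iff.1 hu]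
        exact ⟨⟨c ^ 2, hc2⟩, Subgroup.mem_center_iff.2 fun x => Subtype.ext
          ((show Commute (x : G) c from hc x x.2).pow_right 2).eq, rfl⟩)
  rw [Subgroup.card_map_of_injective H.subtype_injective, hZ] at hb
  have hlt : H < Subgroup.closure U := lt_of_le_of_ne
    (fun x hx => Subgroup.subset_closure (Or.inl hx))
    (fun e => hcH (e ▸ Subgroup.subset_closure (Or.inr rfl)))
  refine hlt.ne (Subgroup.eq_of_le_of_card_ge hlt.le ?_)
  rw [hH]
  omega

theorem card_commutator (n : ℕ) : ∀ (G : Type u) [Group G] [Finite G],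
    Cfsg.SectionalPRankLE 2 2 G → Nat.card G = 2 ^ n → ∀ H : Subgroup G, Nat.card H = 2 ^ 3 →
      ¬ IsMulCommutative H → 3 ≤ n ∧ Nat.card (commutator G) = 2 ^ (n - 2) := by
  haveI : Fact (Nat.Prime 2) := ⟨Nat.prime_two⟩
  induction n using Nat.strong_induction_on with
  | _ n ih =>
    intro G _ _ hr hG H hH hna
    have hn : 3 ≤ n := by
      have h := Nat.le_of_dvd Nat.card_pos (Subgroup.card_subgroup_dvd_card H)
      rw [hH, hG] at h
      exact (Nat.pow_le_pow_iff_right one_lt_two).1 h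
    refine ⟨hn, ?_⟩
    have h2 : IsPGroup 2 G := IsPGroup.of_card hG
    rcases eq_or_ne H ⊤ with rfl | hne
    · rw [Nat.card_congr Subgroup.topEquiv.toEquiv, hG] at hH
      obtain rfl : n = 3 := Nat.pow_right_injective (le_refl 2) hH
      refine four_le_index_commutator (by norm_num) hG ?_
      have h1 : 1 < Nat.card (commutator G) := by
        by_contra h
        refine hna ⟨⟨fun x y => Subtype.ext ?_⟩⟩
        have h3 : commutator G = ⊥ := Subgroup.eq_bot_of_card_le _ (by omega)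
        have h4 : ⁅(x : G), (y : G)⁆ ∈ commutator G :=
          Subgroup.commutator_mem_commutator (Subgroup.mem_top _) (Subgroup.mem_top _)
        rw [h3, Subgroup.mem_bot, commutatorElement_eq_one_iff_mul_comm] at h4
        exact h4
      norm_num
      omega
    obtain ⟨M, hM, hle⟩ := (eq_top_or_exists_le_coatom H).resolve_left hne
    obtain ⟨-, hMi⟩ := CfsgLib.Solv.isCoatom_normal_and_card_quotient h2 hM
    obtain ⟨m, rfl⟩ : ∃ m, n = m + 1 := ⟨n - 1, by omega⟩
    have hMc : Nat.card M = 2 ^ m := by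
      have h := Subgroup.card_mul_index M
      rw [hMi, hG, pow_succ] at h
      omega
    obtain ⟨hm, hd⟩ := ih m (by omega) M (sectional_sub hr M) hMc (H.subgroupOf M)
      (by rw [Nat.card_congr (Subgroup.subgroupOfEquivOfLe hle).toEquiv, hH])
      (fun h => hna ⟨⟨fun x y => (Subgroup.subgroupOfEquivOfLe hle).symm.injective (by
        rw [map_mul, map_mul]; exact h.1.1 _ _)⟩⟩)
    rw [show m + 1 - 2 = m - 1 by omega]
    exact step hr hm M hMi hMc hd fun c hc =>
      hle (cent_le hr h2 H hH hna c fun x hx => hc x (hle hx))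

end CfsgLib.Perm.SecTwo
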