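import Mathlib.GroupTheory.SpecificGroups.Cyclic
import Cfsg.Prelude.Def_OddOrderLocal
import Cfsg.Agent.Perm.SectionalTwo

/-!
A `2`-group of sectional rank at most two is metacyclic.
-/

set_option autoImplicit false
set_option linter.style.haveILetI false
set_option linter.unusedSectionVars false

open scoped commutatorElement

universe u

namespace CfsgLib.Perm.SecTwo

variable {G : Type u} [Group G] [Finite G]

theorem metacyclic_of_pair {g h : G} (hgh : Subgroup.closure ({g, h} : Set G) = ⊤)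
    (hn : h * g * h⁻¹ ∈ Subgroup.zpowers g) : Cfsg.IsMetacyclic G := by
  have hN : (Subgroup.zpowers g).Normal := by
    rw [← Subgroup.normalizer_eq_top_iff, eq_top_iff, ← hgh, Subgroup.closure_le]
    rintro x (rfl | rfl)
    · exact Subgroup.le_normalizer (Subgroup.mem_zpowers _)
    · refine Subgroup.mem_normalizer_fintype ?_
      rintro _ ⟨i, rfl⟩
      show x * g ^ i * x⁻¹ ∈ Subgroup.zpowers g
      rw [← conj_zpow]
      exact Subgroup.zpow_mem _ hn i
  haveI := hN
  refine ⟨Subgroup.zpowers g, hN, inferInstance,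
    ⟨QuotientGroup.mk' (Subgroup.zpowers g) h, fun q => ?_⟩⟩
  obtain ⟨x, rfl⟩ := QuotientGroup.mk'_surjective (Subgroup.zpowers g) q
  have hle : Subgroup.closure ({g, h} : Set G) ≤
      (Subgroup.zpowers (QuotientGroup.mk' (Subgroup.zpowers g) h)).comap
        (QuotientGroup.mk' (Subgroup.zpowers g)) := by
    rw [Subgroup.closure_le]
    rintro y (rfl | rfl)
    · refine Subgroup.mem_comap.2 ?_
      rw [show QuotientGroup.mk' (Subgroup.zpowers y) y = 1 from
        (QuotientGroup.eq_one_iff _).2 (Subgroup.mem_zpowers _)]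
      exact Subgroup.one_mem _
    · exact Subgroup.mem_zpowers _
  exact hle (hgh ▸ Subgroup.mem_top x)

theorem odd_zpow_mem (h2 : IsPGroup 2 G) {x : G} {m : ℤ} (hm : Odd m) {H : Subgroup G}
    (h : x ^ m ∈ H) : x ∈ H := by
  obtain ⟨k, hk⟩ := h2 x
  obtain ⟨t, rfl⟩ := hm
  obtain ⟨u', v', huv⟩ : IsCoprime (2 * t + 1) (((2 : ℕ) ^ k : ℕ) : ℤ) := by
    push_cast
    exact (show IsCoprime (2 * t + 1) (2 : ℤ) from ⟨1, -t, by ring⟩).pow_right
  rw [← zpow_one x, ← huv, zpow_add, zpow_mul' x v', zpow_natCast, hk, one_zpow, mul_one, zpow_mul']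
  exact H.zpow_mem h u'

theorem two_mul_card {A B : Subgroup G} (h : A < B) : 2 * Nat.card A ≤ Nat.card B := by
  obtain ⟨k, hk⟩ := Subgroup.card_dvd_of_le h.le
  rcases k with _ | _ | k
  · exact absurd hk (by simp [Nat.card_pos.ne'])
  · exact absurd (Subgroup.eq_of_le_of_card_ge h.le (by rw [hk]; simp)) h.ne
  · rw [hk, mul_comm]; exact Nat.mul_le_mul_left _ (by omega)

theorem two_generated (hr : Cfsg.SectionalPRankLE 2 2 G) (h2 : IsPGroup 2 G) :
    ∃ a b : G, Subgroup.closure ({a, b} : Set G) = ⊤ := by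
  haveI : Fact (Nat.Prime 2) := ⟨Nat.prime_two⟩
  set F := frattini G
  have hb := section_bound hr Set.univ F (by rw [Subgroup.closure_univ]; exact le_top)
    (fun u _ x hx => Subgroup.Normal.conj_mem inferInstance x hx u)
    (fun u _ v _ => CfsgLib.Solv.commutator_le_frattini h2
      (Subgroup.commutator_mem_commutator (Subgroup.mem_top u) (Subgroup.mem_top v)))
    (fun u _ => CfsgLib.Solv.pow_mem_frattini h2 u)
  rw [Subgroup.closure_univ, Nat.card_congr Subgroup.topEquiv.toEquiv] at hb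
  by_contra hne
  push Not at hne
  have key : ∀ a b : G, ¬ ⊤ ≤ Subgroup.closure ({a, b} : Set G) ⊔ F := fun a b h =>
    hne a b (frattini_nongenerating (top_le_iff.1 h))
  obtain ⟨a, -, ha⟩ := SetLike.not_le_iff_exists.1 (key 1 1)
  obtain ⟨b, -, hb'⟩ := SetLike.not_le_iff_exists.1 (key a a)
  obtain ⟨c, -, hc⟩ := SetLike.not_le_iff_exists.1 (key a b)
  have hmono : ∀ {s t : Set G}, s ⊆ t → Subgroup.closure s ⊔ F ≤ Subgroup.closure t ⊔ F :=
    fun h => sup_le_sup_right (Subgroup.closure_mono h) F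
  have h1 : F < Subgroup.closure ({a, a} : Set G) ⊔ F := lt_of_le_of_ne le_sup_right fun e => ha
    (Subgroup.mem_sup_right (e ▸ Subgroup.mem_sup_left (Subgroup.subset_closure (by simp))))
  have h2' : Subgroup.closure ({a, a} : Set G) ⊔ F < Subgroup.closure ({a, b} : Set G) ⊔ F :=
    lt_of_le_of_ne (hmono (by simp)) fun e => hb'
      (e ▸ Subgroup.mem_sup_left (Subgroup.subset_closure (by simp)))
  have h3 : Subgroup.closure ({a, b} : Set G) ⊔ F < ⊤ := lt_top_iff_ne_top.2 fun e => hc
    (e ▸ Subgroup.mem_top c)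
  have := two_mul_card h1
  have := two_mul_card h2'
  have h4 := two_mul_card h3
  rw [Nat.card_congr Subgroup.topEquiv.toEquiv] at h4
  have : 0 < Nat.card F := Nat.card_pos
  omega

/-- Data for a two-generated group with derived subgroup of order two generated by `c`. -/
structure Pair2 (a b c : G) : Prop where
  gen : Subgroup.closure ({a, b} : Set G) = ⊤
  two : c ^ 2 = 1
  ne : c ≠ 1
  cen : ∀ x : G, x * c = c * x
  comm : ∀ x y : G, x * y * x⁻¹ * y⁻¹ ∈ Subgroup.zpowers c
  rel : b * a = c * a * b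

theorem Pair2.comm_eq {a b c : G} (d : Pair2 a b c) (x y : G) :
    x * y = y * x ∨ x * y = c * y * x := by
  obtain ⟨i, hi⟩ := d.comm x y
  rcases Int.even_or_odd' i with ⟨l, rfl | rfl⟩
  · left
    have h1 : x * y * x⁻¹ * y⁻¹ = 1 := by
      rw [← hi]; simp only; rw [zpow_mul, zpow_two, ← sq, d.two, one_zpow]
    rwa [mul_inv_eq_one, mul_inv_eq_iff_eq_mul] at h1
  · right
    have h1 : x * y * x⁻¹ * y⁻¹ = c := by
      rw [← hi]; simp only; rw [zpow_add_one, zpow_mul, zpow_two, ← sq, d.two, one_zpow, one_mul]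
    calc x * y = x * y * x⁻¹ * y⁻¹ * y * x := by group
      _ = c * y * x := by rw [h1]

theorem Pair2.comm_sq {a b c : G} (d : Pair2 a b c) (x y : G) : Commute (x ^ 2) y := by
  show x ^ 2 * y = y * x ^ 2
  rcases d.comm_eq x y with h | h
  · exact ((show Commute x y from h).pow_left 2).eq
  · calc x ^ 2 * y = x * (x * y) := by rw [sq, mul_assoc]
      _ = x * (c * y * x) := by rw [h]
      _ = x * c * y * x := by group
      _ = c * (x * y) * x := by rw [d.cen x]; group
      _ = c * (c * y * x) * x := by rw [h]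
      _ = c ^ 2 * y * x ^ 2 := by rw [sq, sq]; group
      _ = y * x ^ 2 := by rw [d.two, one_mul]

/-- A new pair of generators. -/
theorem Pair2.of_gen {a b c : G} (d : Pair2 a b c) {g h : G}
    (hgh : Subgroup.closure ({g, h} : Set G) = ⊤) : Pair2 g h c := by
  refine ⟨hgh, d.two, d.ne, d.cen, d.comm, ?_⟩
  rcases d.comm_eq h g with e | e
  · exfalso
    have hc : ∀ x y : G, x * y = y * x := fun x y => by
      have h1 : ∀ z : G, z * g = g * z ∧ z * h = h * z := fun z => by
        have hz : z ∈ Subgroup.closure ({g, h} : Set G) := hgh ▸ Subgroup.mem_top z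
        induction hz using Subgroup.closure_induction with
        | mem v hv =>
          rcases hv with rfl | rfl
          · exact ⟨rfl, e.symm⟩
          · exact ⟨e, rfl⟩
        | one => simp
        | mul v w _ _ hv hw =>
          exact ⟨((show Commute v g from hv.1).mul_left hw.1).eq,
            ((show Commute v h from hv.2).mul_left hw.2).eq⟩
        | inv v _ hv =>
          exact ⟨((show Commute v g from hv.1).inv_left).eq, ((show Commute v h from hv.2).inv_left).eq⟩
      have hy : y ∈ Subgroup.closure ({g, h} : Set G) := hgh ▸ Subgroup.mem_top y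
      induction hy using Subgroup.closure_induction with
      | mem v hv =>
        rcases hv with rfl | rfl
        · exact (h1 x).1
        · exact (h1 x).2
      | one => simp
      | mul v w _ _ hv hw => exact ((show Commute x v from hv).mul_right hw).eq
      | inv v _ hv => exact (show Commute x v from hv).inv_right.eq
    refine d.ne (mul_right_cancel (b := a * b) ?_)
    rw [← mul_assoc, ← d.rel, one_mul, hc]
  · exact e

theorem Pair2.swap {a b c : G} (d : Pair2 a b c) : Pair2 b a c :=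
  d.of_gen (by rw [Set.pair_comm]; exact d.gen)

theorem Pair2.done {a b c : G} (d : Pair2 a b c) (hc : c ∈ Subgroup.zpowers a) :
    Cfsg.IsMetacyclic G := by
  refine metacyclic_of_pair d.gen ?_
  rw [show b * a * b⁻¹ = c * a by rw [d.rel, mul_inv_cancel_right]]
  exact Subgroup.mul_mem _ hc (Subgroup.mem_zpowers a)

theorem Pair2.mul_sq {a b c : G} (d : Pair2 a b c) : (a * b) ^ 2 = c * a ^ 2 * b ^ 2 := by
  calc (a * b) ^ 2 = a * (b * a) * b := by rw [sq]; group
    _ = a * c * a * b * b := by rw [d.rel]; group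
    _ = _ := by rw [d.cen a, sq, sq]; group

theorem Pair2.indep (hr : Cfsg.SectionalPRankLE 2 2 G) (h2 : IsPGroup 2 G) {a b c : G}
    (d : Pair2 a b c) (hc : c ∉ Subgroup.zpowers (a ^ 2) ⊔ Subgroup.zpowers (b ^ 2)) :
    a ^ 2 ∈ Subgroup.zpowers (b ^ 2) := by
  haveI : Fact (Nat.Prime 2) := ⟨Nat.prime_two⟩
  by_contra ha
  set N := Subgroup.zpowers ((a ^ 2) ^ 2) ⊔ Subgroup.zpowers (b ^ 2)
  have hcomm : ∀ x ∈ N, ∀ y : G, Commute x y := fun x hx y => by
    have hle : N ≤ Subgroup.centralizer ({y} : Set G) := sup_le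
      (Subgroup.zpowers_le.2 (Subgroup.mem_centralizer_singleton_iff.2 ((d.comm_sq a y).pow_left 2).eq))
      (Subgroup.zpowers_le.2 (Subgroup.mem_centralizer_singleton_iff.2 (d.comm_sq b y).eq))
    exact Subgroup.mem_centralizer_singleton_iff.1 (hle hx)
  haveI : N.Normal := ⟨fun x hx y => by rw [← (hcomm x hx y).eq, mul_inv_cancel_right]; exact hx⟩
  set U : Set G := {a ^ 2, b, c}
  have hNU : N ≤ Subgroup.closure U := sup_le
    (Subgroup.zpowers_le.2 (Subgroup.pow_mem _ (Subgroup.subset_closure (by simp [U])) 2))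
    (Subgroup.zpowers_le.2 (Subgroup.pow_mem _ (Subgroup.subset_closure (by simp [U])) 2))
  have hUc : ∀ u ∈ U, ∀ v ∈ U, Commute u v := by
    have hcc : ∀ x : G, Commute c x := fun x => (d.cen x).symm
    rintro u (rfl | rfl | rfl) v (rfl | rfl | rfl)
    exacts [Commute.refl _, d.comm_sq _ _, (hcc _).symm, (d.comm_sq _ _).symm, Commute.refl _,
      (hcc _).symm, hcc _, hcc _, Commute.refl _]
  have hb := section_bound hr U N hNU (fun u _ x hx => Subgroup.Normal.conj_mem inferInstance x hx u)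
    (fun u hu v hv => by rw [(hUc u hu v hv).eq, mul_inv_cancel_right, mul_inv_cancel]; exact N.one_mem)
    (fun u hu => by
      rcases hu with rfl | rfl | rfl
      · exact Subgroup.mem_sup_left (Subgroup.mem_zpowers _)
      · exact Subgroup.mem_sup_right (Subgroup.mem_zpowers _)
      · rw [d.two]; exact N.one_mem)
  set N₁ := N ⊔ Subgroup.zpowers c
  set N₂ := N₁ ⊔ Subgroup.zpowers (a ^ 2)
  have h1 : N < N₁ := lt_of_le_of_ne le_sup_left fun e => by
    have : c ∈ N := e ▸ Subgroup.mem_sup_right (Subgroup.mem_zpowers c)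
    have hle : N ≤ Subgroup.zpowers (a ^ 2) ⊔ Subgroup.zpowers (b ^ 2) := sup_le_sup_right
      (Subgroup.zpowers_le.2 (Subgroup.pow_mem _ (Subgroup.mem_zpowers _) 2)) _
    exact hc (hle this)
  have h2' : N₁ < N₂ := lt_of_le_of_ne le_sup_left fun e => by
    have hm : a ^ 2 ∈ N₁ := e ▸ Subgroup.mem_sup_right (Subgroup.mem_zpowers _)
    obtain ⟨x, hx, _, ⟨i, rfl⟩, hxy⟩ := Subgroup.mem_sup_of_normal_left.1 hm
    simp only at hxy
    rcases Int.even_or_odd' i with ⟨l, rfl | rfl⟩
    · rw [zpow_mul, zpow_two, ← sq, d.two, one_zpow, mul_one] at hxy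
      subst hxy
      haveI : (Subgroup.zpowers (b ^ 2)).Normal := ⟨fun v hv w => by
          obtain ⟨j, rfl⟩ := hv
          rw [show (fun i : ℤ => (b ^ 2) ^ i) j = (b ^ 2) ^ j from rfl,
            ← ((d.comm_sq b w).zpow_left j).eq, mul_inv_cancel_right]
          exact Subgroup.zpow_mem_zpowers _ j⟩
      obtain ⟨_, ⟨k, rfl⟩, y, hy, hky⟩ := Subgroup.mem_sup_of_normal_right.1 hx
      refine ha (odd_zpow_mem h2 (m := 1 - 2 * k) ⟨-k, by ring⟩ ?_)
      have e1 : (a ^ 2) ^ (1 - 2 * k) = y := by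
        rw [zpow_sub, zpow_one, zpow_mul (a ^ 2) 2 k, zpow_ofNat]
        nth_rewrite 1 [← hky]
        simp only
        have hyk : Commute y (((a ^ 2) ^ 2) ^ k) :=
          ((((d.comm_sq a y).pow_left 2)).zpow_left k).symm
        rw [hyk.symm.eq, mul_inv_cancel_right]
      rw [e1]; exact hy
    · rw [zpow_add_one, zpow_mul, zpow_two, ← sq, d.two, one_zpow, one_mul] at hxy
      refine hc ?_
      have hle : N ≤ Subgroup.zpowers (a ^ 2) ⊔ Subgroup.zpowers (b ^ 2) := sup_le_sup_right
        (Subgroup.zpowers_le.2 (Subgroup.pow_mem _ (Subgroup.mem_zpowers _) 2)) _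
      rw [show c = x⁻¹ * a ^ 2 by rw [← hxy, inv_mul_cancel_left]]
      exact Subgroup.mul_mem _ (Subgroup.inv_mem _ (hle hx))
        (Subgroup.mem_sup_left (Subgroup.mem_zpowers _))
  have hFle : N₂ ≤ frattini G := by
    have hsq : ∀ x : G, x ^ 2 ∈ frattini G := CfsgLib.Solv.pow_mem_frattini h2
    refine sup_le (sup_le (sup_le (Subgroup.zpowers_le.2 (Subgroup.pow_mem _ (hsq a) 2))
      (Subgroup.zpowers_le.2 (hsq b))) (Subgroup.zpowers_le.2 ?_)) (Subgroup.zpowers_le.2 (hsq a))
    have h5 := CfsgLib.Solv.commutator_le_frattini h2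
      (Subgroup.commutator_mem_commutator (Subgroup.mem_top b) (Subgroup.mem_top a))
    rwa [commutatorElement_def, show b * a * b⁻¹ * a⁻¹ = c by rw [d.rel]; group] at h5
  have hU2 : N₂ ≤ Subgroup.closure U := sup_le
    (sup_le hNU (Subgroup.zpowers_le.2 (Subgroup.subset_closure (by simp [U]))))
    (Subgroup.zpowers_le.2 (Subgroup.subset_closure (by simp [U])))
  have h3 : N₂ < Subgroup.closure U := lt_of_le_of_ne hU2 fun e => by
    have hbF : b ∈ frattini G := hFle (e ▸ Subgroup.subset_closure (by simp [U]))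
    have htop : Subgroup.zpowers a ⊔ frattini G = ⊤ := by
      rw [eq_top_iff, ← d.gen, Subgroup.closure_le]
      rintro x (rfl | rfl)
      · exact Subgroup.mem_sup_left (Subgroup.mem_zpowers _)
      · exact Subgroup.mem_sup_right hbF
    have htop' := frattini_nongenerating htop
    refine d.ne ?_
    obtain ⟨i, rfl⟩ := Subgroup.mem_zpowers_iff.1 (htop'.ge (Subgroup.mem_top b))
    refine mul_right_cancel (b := a * a ^ i) ?_
    rw [one_mul, ← mul_assoc, ← d.rel]
    exact (Commute.self_zpow a i).eq.symm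
  have := two_mul_card h1
  have := two_mul_card h2'
  have := two_mul_card h3
  have : 0 < Nat.card N := Nat.card_pos
  omega

theorem Pair2.of_invol (hr : Cfsg.SectionalPRankLE 2 2 G) (h2 : IsPGroup 2 G) {g h c : G}
    (d : Pair2 g h c) (hg : g ^ 2 = 1) : Cfsg.IsMetacyclic G := by
  by_cases hc : c ∈ Subgroup.zpowers h
  · exact d.swap.done hc
  have hh : h ^ 2 = 1 := by
    have h1 := d.swap.indep hr h2 (by
      rw [hg, Subgroup.zpowers_one_eq_bot, sup_bot_eq]
      exact fun hm => hc ((Subgroup.zpowers_le.2 (Subgroup.pow_mem _ (Subgroup.mem_zpowers h) 2)) hm))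
    rwa [hg, Subgroup.zpowers_one_eq_bot, Subgroup.mem_bot] at h1
  have hgh : (g * h) ^ 2 = c := by rw [d.mul_sq, hg, hh, mul_one, mul_one]
  have hgen : Subgroup.closure ({g * h, h} : Set G) = ⊤ := by
    rw [eq_top_iff, ← d.gen, Subgroup.closure_le]
    rintro x (rfl | rfl)
    · rw [show x = x * h * h⁻¹ by group]
      exact Subgroup.mul_mem _ (Subgroup.subset_closure (by simp))
        (Subgroup.inv_mem _ (Subgroup.subset_closure (by simp)))
    · exact Subgroup.subset_closure (by simp)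
  exact (d.of_gen hgen).done (hgh ▸ Subgroup.pow_mem _ (Subgroup.mem_zpowers _) 2)

theorem gen_left {a b g : G} (hgen : Subgroup.closure ({a, b} : Set G) = ⊤)
    (ha : a ∈ Subgroup.closure ({g, b} : Set G)) : Subgroup.closure ({g, b} : Set G) = ⊤ := by
  rw [eq_top_iff, ← hgen, Subgroup.closure_le]
  rintro x (rfl | rfl)
  · exact ha
  · exact Subgroup.subset_closure (by simp)

theorem Pair2.main (hr : Cfsg.SectionalPRankLE 2 2 G) (h2 : IsPGroup 2 G) {a b c : G}
    (d : Pair2 a b c) : Cfsg.IsMetacyclic G := by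
  have hsqc : ∀ l : ℤ, ∀ x : G, ∀ y : G, Commute (x ^ (2 * l)) y := fun l x y => by
    rw [zpow_mul, zpow_ofNat]; exact (d.comm_sq x y).zpow_left l
  have mulsq_comm : ∀ {x y : G}, Commute x y → (x * y) ^ 2 = x ^ 2 * y ^ 2 := fun h => h.mul_pow 2
  -- generators of the form `a ^ i * b ^ j` with `i` or `j` odd
  have hgenij : ∀ i j : ℤ, (Odd i ∨ Odd j) →
      ∃ h, Subgroup.closure ({a ^ i * b ^ j, h} : Set G) = ⊤ := by
    rintro i j (hi | hj)
    · refine ⟨b, gen_left d.gen (odd_zpow_mem h2 hi ?_)⟩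
      rw [show a ^ i = a ^ i * b ^ j * (b ^ j)⁻¹ by group]
      exact Subgroup.mul_mem _ (Subgroup.subset_closure (by simp))
        (Subgroup.inv_mem _ (Subgroup.zpow_mem _ (Subgroup.subset_closure (by simp)) _))
    · refine ⟨a, gen_left d.swap.gen (odd_zpow_mem h2 hj ?_)⟩
      rw [show b ^ j = (a ^ i)⁻¹ * (a ^ i * b ^ j) by group]
      exact Subgroup.mul_mem _
        (Subgroup.inv_mem _ (Subgroup.zpow_mem _ (Subgroup.subset_closure (by simp)) _))
        (Subgroup.subset_closure (by simp))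
  have hsq4 : ∀ i j : ℤ, (a ^ i * b ^ j) ^ 2 = a ^ (2 * i) * b ^ (2 * j) ∨
      (a ^ i * b ^ j) ^ 2 = c * (a ^ (2 * i) * b ^ (2 * j)) := by
    intro i j
    rcases d.comm_eq (b ^ j) (a ^ i) with e | e
    · left
      rw [(show Commute (a ^ i) (b ^ j) from e.symm).mul_pow, ← zpow_natCast, ← zpow_natCast,
        ← zpow_mul, ← zpow_mul, mul_comm i, mul_comm j]
      norm_num
    · right
      calc (a ^ i * b ^ j) ^ 2 = a ^ i * (b ^ j * a ^ i) * b ^ j := by rw [sq]; group
        _ = a ^ i * c * a ^ i * b ^ j * b ^ j := by rw [e]; group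
        _ = c * (a ^ (2 * i) * b ^ (2 * j)) := by
          rw [d.cen, two_mul, two_mul, zpow_add, zpow_add]; group
  by_cases hT : c ∈ Subgroup.zpowers (a ^ 2) ⊔ Subgroup.zpowers (b ^ 2)
  · haveI : (Subgroup.zpowers (a ^ 2)).Normal := ⟨fun v hv w => by
        obtain ⟨j, rfl⟩ := hv
        rw [show (fun i : ℤ => (a ^ 2) ^ i) j = (a ^ 2) ^ j from rfl,
          ← ((d.comm_sq a w).zpow_left j).eq, mul_inv_cancel_right]
        exact Subgroup.zpow_mem_zpowers _ j⟩
    obtain ⟨_, ⟨i₀, rfl⟩, _, ⟨j₀, rfl⟩, hc₀⟩ := Subgroup.mem_sup_of_normal_left.1 hT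
    have main' : ∀ n : ℕ, ∀ (v : ℕ) (i j : ℤ), i.natAbs + j.natAbs = n →
        a ^ ((2 : ℤ) ^ (v + 1) * i) * b ^ ((2 : ℤ) ^ (v + 1) * j) = c → Cfsg.IsMetacyclic G := by
      intro n
      induction n using Nat.strong_induction_on with
      | _ n ih =>
        intro v i j hn hc
        rcases Int.even_or_odd' i with ⟨i', hi | hi⟩ <;>
          rcases Int.even_or_odd' j with ⟨j', hj | hj⟩
        · subst hi hj
          by_cases h0 : i' = 0 ∧ j' = 0
          · obtain ⟨rfl, rfl⟩ := h0
            simp at hc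
            exact absurd hc.symm d.ne
          · refine ih (i'.natAbs + j'.natAbs) ?_ (v + 1) i' j' rfl ?_
            · rw [← hn]
              have : i'.natAbs ≠ 0 ∨ j'.natAbs ≠ 0 := by
                rcases not_and_or.1 h0 with h | h
                · exact Or.inl (Int.natAbs_ne_zero.2 h)
                · exact Or.inr (Int.natAbs_ne_zero.2 h)
              omega
            · rw [← hc, pow_succ _ (v + 1), mul_assoc, mul_assoc]
        all_goals
          have hodd : Odd i ∨ Odd j := by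
            first
              | exact Or.inl ⟨i', hi⟩
              | exact Or.inr ⟨j', hj⟩
          obtain ⟨h, hh⟩ := hgenij i j hodd
          have d' := d.of_gen hh
          rcases v with _ | v
          · rw [zero_add, pow_one] at hc
            rcases hsq4 i j with e | e
            · exact d'.done (hc ▸ e ▸ Subgroup.pow_mem _ (Subgroup.mem_zpowers _) 2)
            · refine d'.of_invol hr h2 ?_
              rw [e, hc, ← sq, d.two]
          · refine d'.done ?_
            have h4 : ((a ^ i * b ^ j) ^ 2) ^ (2 : ℕ) = a ^ (4 * i) * b ^ (4 * j) := by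
              have hcomm : Commute (a ^ (2 * i)) (b ^ (2 * j)) := hsqc i a _
              rcases hsq4 i j with e | e <;> rw [e]
              · rw [hcomm.mul_pow, ← zpow_natCast, ← zpow_natCast, ← zpow_mul, ← zpow_mul]
                congr 1 <;> (congr 1; push_cast; ring)
              · rw [(show Commute c _ from (d.cen _).symm).mul_pow, d.two, one_mul, hcomm.mul_pow,
                  ← zpow_natCast, ← zpow_natCast, ← zpow_mul, ← zpow_mul]
                congr 1 <;> (congr 1; push_cast; ring)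
            have h5 : (((a ^ i * b ^ j) ^ 2) ^ (2 : ℕ)) ^ (2 ^ v : ℕ) = c := by
              have hcomm : Commute (a ^ (4 * i)) (b ^ (4 * j)) := by
                rw [show 4 * i = 2 * (2 * i) by ring]; exact hsqc _ a _
              rw [h4, hcomm.mul_pow, ← zpow_natCast, ← zpow_natCast, ← zpow_mul, ← zpow_mul, ← hc]
              congr 1 <;> (congr 1; push_cast; ring)
            rw [← h5]
            exact Subgroup.pow_mem _ (Subgroup.pow_mem _ (Subgroup.pow_mem _
              (Subgroup.mem_zpowers _) _) _) _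
    refine main' _ 0 i₀ j₀ rfl ?_
    rw [zero_add, pow_one, zpow_mul, zpow_mul, zpow_ofNat, zpow_ofNat]
    exact hc₀
  · have h1 := d.indep hr h2 hT
    obtain ⟨u', hu'⟩ := Subgroup.mem_zpowers_iff.1 (d.swap.indep hr h2 (by rwa [sup_comm]))
    rcases Int.even_or_odd' u' with ⟨l, rfl | rfl⟩
    · obtain ⟨w, hw⟩ := Subgroup.mem_zpowers_iff.1 h1
      have ha : a ^ 2 = 1 := by
        refine Subgroup.mem_bot.1 (odd_zpow_mem h2 (m := 1 - 2 * l * w) ⟨-(l * w), by ring⟩ ?_)
        rw [Subgroup.mem_bot, zpow_sub, zpow_one, zpow_mul, hu', hw, mul_inv_cancel]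
      exact d.of_invol hr h2 ha
    · obtain ⟨h, hh⟩ := hgenij (-(2 * l + 1)) 1 (Or.inr odd_one)
      have d' := d.of_gen hh
      have e1 : a ^ (2 * -(2 * l + 1)) * b ^ (2 * (1 : ℤ)) = 1 := by
        rw [mul_one, zpow_mul, zpow_ofNat, zpow_ofNat, ← hu', ← zpow_add, neg_add_cancel, zpow_zero]
      rcases hsq4 (-(2 * l + 1)) 1 with e | e
      · exact d'.of_invol hr h2 (e.trans e1)
      · refine d'.done ?_
        rw [e1, mul_one] at e
        exact e ▸ Subgroup.pow_mem _ (Subgroup.mem_zpowers _) 2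

theorem metacyclic (n : ℕ) : ∀ (G : Type u) [Group G] [Finite G], Cfsg.SectionalPRankLE 2 2 G →
    IsPGroup 2 G → Nat.card G = n → Cfsg.IsMetacyclic G := by
  haveI : Fact (Nat.Prime 2) := ⟨Nat.prime_two⟩
  induction n using Nat.strong_induction_on with
  | _ n ih =>
    intro G _ _ hr h2 hn
    obtain ⟨a, b, hab⟩ := two_generated hr h2
    set D := commutator G
    set K := ⁅D, (⊤ : Subgroup G)⁆ ⊔ Subgroup.normalClosure ((fun x : G => x ^ 2) '' (D : Set G))
    by_cases hK : K = ⊥
    · set c := b * a * b⁻¹ * a⁻¹ with hc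
      have hcD : c ∈ D := Subgroup.commutator_mem_commutator (Subgroup.mem_top b) (Subgroup.mem_top a)
      have hcen : ∀ x : G, x * c = c * x := fun x => by
        have h1 : ⁅c, x⁆ ∈ K :=
          Subgroup.mem_sup_left (Subgroup.commutator_mem_commutator hcD (Subgroup.mem_top x))
        rw [hK, Subgroup.mem_bot, commutatorElement_eq_one_iff_mul_comm] at h1
        exact h1.symm
      by_cases hc1 : c = 1
      · refine metacyclic_of_pair hab ?_
        rw [hc, mul_inv_eq_one] at hc1
        rw [hc1]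
        exact Subgroup.mem_zpowers a
      have hc2 : c ^ 2 = 1 := by
        have h1 : c ^ 2 ∈ K := Subgroup.mem_sup_right (Subgroup.subset_normalClosure ⟨c, hcD, rfl⟩)
        rwa [hK, Subgroup.mem_bot] at h1
      haveI : (Subgroup.zpowers c).Normal := ⟨fun x hx y => by
        obtain ⟨i, rfl⟩ := hx
        show y * c ^ i * y⁻¹ ∈ Subgroup.zpowers c
        rw [((show Commute y c from hcen y).zpow_right i).eq, mul_inv_cancel_right]
        exact Subgroup.zpow_mem_zpowers c i⟩
      have hcomm : ∀ x y : G, x * y * x⁻¹ * y⁻¹ ∈ Subgroup.zpowers c := by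
        let π := QuotientGroup.mk' (Subgroup.zpowers c)
        have hba : Commute (π b) (π a) := by
          have h1 : π (b * a * b⁻¹ * a⁻¹) = 1 :=
            (QuotientGroup.eq_one_iff _).2 (Subgroup.mem_zpowers c)
          rw [map_mul, map_mul, map_mul, map_inv, map_inv, mul_inv_eq_one, mul_inv_eq_iff_eq_mul] at h1
          exact h1
        have h1 : ∀ z : G, Commute (π z) (π a) ∧ Commute (π z) (π b) := fun z => by
          have hz : z ∈ Subgroup.closure ({a, b} : Set G) := hab ▸ Subgroup.mem_top z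
          induction hz using Subgroup.closure_induction with
          | mem v hv =>
            rcases hv with rfl | rfl
            · exact ⟨Commute.refl _, hba.symm⟩
            · exact ⟨hba, Commute.refl _⟩
          | one => rw [map_one]; exact ⟨Commute.one_left _, Commute.one_left _⟩
          | mul v w _ _ hv hw => rw [map_mul]; exact ⟨hv.1.mul_left hw.1, hv.2.mul_left hw.2⟩
          | inv v _ hv => rw [map_inv]; exact ⟨hv.1.inv_left, hv.2.inv_left⟩
        have h3 : ∀ x y : G, Commute (π x) (π y) := fun x y => by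
          have hy : y ∈ Subgroup.closure ({a, b} : Set G) := hab ▸ Subgroup.mem_top y
          induction hy using Subgroup.closure_induction with
          | mem v hv =>
            rcases hv with rfl | rfl
            · exact (h1 x).1
            · exact (h1 x).2
          | one => rw [map_one]; exact Commute.one_right _
          | mul v w _ _ hv hw => rw [map_mul]; exact hv.mul_right hw
          | inv v _ hv => rw [map_inv]; exact hv.inv_right
        intro x y
        refine (QuotientGroup.eq_one_iff _).1 ?_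
        show π (x * y * x⁻¹ * y⁻¹) = 1
        rw [map_mul, map_mul, map_mul, map_inv, map_inv, (h3 x y).eq, mul_inv_cancel_right,
          mul_inv_cancel]
      exact Pair2.main hr h2 (a := a) (b := b) (c := c)
        ⟨hab, hc2, hc1, hcen, hcomm, by rw [hc]; group⟩
    -- a central involution in `K`
    have hne := inf_center_ne_bot h2 K hK
    obtain ⟨⟨z, hz⟩, hzo⟩ : ∃ z : ↥(K ⊓ Subgroup.center G), orderOf z = 2 := by
      refine exists_prime_orderOf_dvd_card' 2 ?_
      obtain ⟨m, hm⟩ := IsPGroup.iff_card.1 (h2.to_subgroup (K ⊓ Subgroup.center G))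
      rw [hm]
      refine dvd_pow_self 2 fun h0 => hne (Subgroup.eq_bot_of_card_eq _ ?_)
      rw [hm, h0, pow_zero]
    rw [← Subgroup.orderOf_coe] at hzo
    change orderOf z = 2 at hzo
    obtain ⟨hzK, hzC⟩ := Subgroup.mem_inf.1 hz
    have hz2 : z ^ 2 = 1 := hzo ▸ pow_orderOf_eq_one z
    have hz1 : z ≠ 1 := fun e => by rw [e, orderOf_one] at hzo; omega
    set Z := Subgroup.zpowers z
    haveI : Z.Normal := ⟨fun x hx y => by
      obtain ⟨i, rfl⟩ := hx
      show y * z ^ i * y⁻¹ ∈ Z
      rw [Subgroup.mem_center_iff.1 (Subgroup.zpow_mem _ hzC i) y, mul_inv_cancel_right]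
      exact Subgroup.zpow_mem_zpowers z i⟩
    have hlt : Nat.card (G ⧸ Z) < n := by
      rw [← hn, Subgroup.card_eq_card_quotient_mul_card_subgroup Z, Nat.card_zpowers, hzo]
      have : 0 < Nat.card (G ⧸ Z) := Nat.card_pos
      omega
    have hrq : Cfsg.SectionalPRankLE 2 2 (G ⧸ Z) := by
      intro H M _ A hA hA2
      let H' := H.comap (QuotientGroup.mk' Z)
      let f := (QuotientGroup.mk' M).comp ((QuotientGroup.mk' Z).subgroupComap H)
      have hf : Function.Surjective f := (QuotientGroup.mk'_surjective M).comp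
        (MonoidHom.subgroupComap_surjective_of_surjective _ _ (QuotientGroup.mk'_surjective Z))
      let q := QuotientGroup.quotientKerEquivOfSurjective f hf
      have h := hr H' f.ker (A.map q.symm.toMonoidHom) ⟨⟨?_⟩⟩ ?_
      · exact (Subgroup.card_map_of_injective (K := A) (f := q.symm.toMonoidHom) q.symm.injective) ▸ h
      · rintro ⟨_, x, hx, rfl⟩ ⟨_, y, hy, rfl⟩
        refine Subtype.ext ?_
        show q.symm x * q.symm y = q.symm y * q.symm x
        rw [← map_mul, ← map_mul,
          show x * y = y * x from congrArg Subtype.val (hA.1.1 ⟨x, hx⟩ ⟨y, hy⟩)]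
      · rintro _ ⟨x, hx, rfl⟩
        show q.symm x ^ 2 = 1
        rw [← map_pow, hA2 x hx, map_one]
    obtain ⟨Nb, hNb, hNc, hQc⟩ := ih _ hlt (G ⧸ Z) hrq (h2.to_quotient Z) rfl
    haveI := hNb
    obtain ⟨a', ha'⟩ := Subgroup.isCyclic_iff_exists_zpowers_eq_top Nb |>.1 hNc
    obtain ⟨x₀, rfl⟩ := QuotientGroup.mk'_surjective Z a'
    set π := QuotientGroup.mk' Z
    set N := Nb.comap π
    haveI : N.Normal := hNb.comap π
    have hNel : ∀ x ∈ N, ∃ i e : ℤ, x = x₀ ^ i * z ^ e := by
      intro x hx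
      have h1 : π x ∈ Subgroup.zpowers (π x₀) := ha'.symm ▸ hx
      obtain ⟨i, hi⟩ := h1
      have h2' : π (x₀ ^ i) = π x := (map_zpow π x₀ i).trans hi
      obtain ⟨e, he⟩ := (QuotientGroup.eq.1 h2' : (x₀ ^ i)⁻¹ * x ∈ Z)
      exact ⟨i, e, by rw [show z ^ e = (x₀ ^ i)⁻¹ * x from he, mul_inv_cancel_left]⟩
    have hx₀N : x₀ ∈ N := show π x₀ ∈ Nb from ha' ▸ Subgroup.mem_zpowers _
    by_cases hzx : z ∈ Subgroup.zpowers x₀
    · -- lift
      obtain ⟨β, hβ⟩ := hQc.exists_generator
      obtain ⟨β', rfl⟩ := QuotientGroup.mk'_surjective Nb β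
      obtain ⟨y, rfl⟩ := QuotientGroup.mk'_surjective Z β'
      refine metacyclic_of_pair (g := x₀) (h := y) ?_ ?_
      · rw [eq_top_iff]
        intro x _
        obtain ⟨i, hi⟩ := hβ (QuotientGroup.mk' Nb (π x))
        have h1 : QuotientGroup.mk' Nb (π (y ^ i)) = QuotientGroup.mk' Nb (π x) := by
          rw [map_zpow, map_zpow]; exact hi
        have h3 : (y ^ i)⁻¹ * x ∈ N := by
          show π ((y ^ i)⁻¹ * x) ∈ Nb
          rw [map_mul, map_inv]
          exact QuotientGroup.eq.1 h1
        obtain ⟨j, e, hje⟩ := hNel _ h3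
        rw [show x = y ^ i * ((y ^ i)⁻¹ * x) by group, hje]
        exact Subgroup.mul_mem _ (Subgroup.zpow_mem _ (Subgroup.subset_closure (by simp)) _)
          (Subgroup.mul_mem _ (Subgroup.zpow_mem _ (Subgroup.subset_closure (by simp)) _)
            (Subgroup.zpow_mem _ ((Subgroup.zpowers_le.2 (Subgroup.subset_closure (by simp))) hzx) _))
      · obtain ⟨i, e, hie⟩ := hNel _ (Subgroup.Normal.conj_mem inferInstance x₀ hx₀N y)
        rw [hie]
        exact Subgroup.mul_mem _ (Subgroup.zpow_mem_zpowers _ _) (Subgroup.zpow_mem _ hzx _)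
    exfalso
    have hzc : ∀ (e : ℤ) (y : G), Commute (z ^ e) y := fun e y =>
      (show Commute z y from (Subgroup.mem_center_iff.1 hzC y).symm).zpow_left e
    set A₂ := Subgroup.zpowers (x₀ ^ (2 : ℤ))
    have hsqmem : ∀ x ∈ N, x ^ 2 ∈ A₂ := by
      intro x hx
      obtain ⟨i, e, rfl⟩ := hNel x hx
      rw [((hzc e (x₀ ^ i)).symm).mul_pow, ← zpow_natCast (z ^ e), ← zpow_mul, mul_comm e, zpow_mul,
        zpow_natCast, hz2, one_zpow, mul_one, ← zpow_natCast, ← zpow_mul, Nat.cast_two, mul_comm, zpow_mul]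
      exact Subgroup.zpow_mem_zpowers _ i
    haveI hA₂ : A₂.Normal := ⟨fun x hx y => by
      obtain ⟨i, rfl⟩ := hx
      show y * (x₀ ^ (2 : ℤ)) ^ i * y⁻¹ ∈ A₂
      rw [← conj_zpow, ← conj_zpow, zpow_ofNat]
      exact Subgroup.zpow_mem _ (hsqmem _ (Subgroup.Normal.conj_mem inferInstance x₀ hx₀N y)) i⟩
    set M₂ := A₂ ⊔ Z
    haveI : M₂.Normal := Subgroup.sup_normal _ _
    let σ := QuotientGroup.mk' M₂
    have hσsq : σ (x₀ ^ (2 : ℤ)) = 1 :=
      (QuotientGroup.eq_one_iff _).2 (Subgroup.mem_sup_left (Subgroup.mem_zpowers _))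
    have hσz : ∀ e : ℤ, σ (z ^ e) = 1 := fun e =>
      (QuotientGroup.eq_one_iff _).2 (Subgroup.mem_sup_right (Subgroup.zpow_mem_zpowers _ e))
    have hσpow : ∀ i : ℤ, σ (x₀ ^ i) = 1 ∨ σ (x₀ ^ i) = σ x₀ := by
      intro i
      rcases Int.even_or_odd' i with ⟨l, rfl | rfl⟩
      · left; rw [zpow_mul, map_zpow, hσsq, one_zpow]
      · right; rw [zpow_add_one, zpow_mul, map_mul, map_zpow, hσsq, one_zpow, one_mul]
    have hσcen : ∀ y : G, Commute (σ y) (σ x₀) := by
      intro y
      obtain ⟨i, e, hie⟩ := hNel _ (Subgroup.Normal.conj_mem inferInstance x₀ hx₀N y)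
      have h1 : σ y * σ x₀ * (σ y)⁻¹ = σ (x₀ ^ i) := by
        rw [← map_mul, ← map_inv, ← map_mul, hie, map_mul, hσz, mul_one]
      rcases hσpow i with h | h <;> rw [h] at h1
      · rw [conj_eq_one_iff] at h1
        rw [h1]; exact Commute.one_right _
      · exact mul_inv_eq_iff_eq_mul.1 h1
    have hDle : D ≤ M₂ := by
      obtain ⟨β, hβ⟩ := hQc.exists_generator
      obtain ⟨β', rfl⟩ := QuotientGroup.mk'_surjective Nb β
      obtain ⟨y, rfl⟩ := QuotientGroup.mk'_surjective Z β'
      have hdec : ∀ x : G, ∃ i j : ℤ, σ x = σ y ^ i * σ x₀ ^ j := by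
        intro x
        obtain ⟨i, hi⟩ := hβ (QuotientGroup.mk' Nb (π x))
        have h1 : QuotientGroup.mk' Nb (π (y ^ i)) = QuotientGroup.mk' Nb (π x) := by
          rw [map_zpow, map_zpow]; exact hi
        have h3 : (y ^ i)⁻¹ * x ∈ N := by
          show π ((y ^ i)⁻¹ * x) ∈ Nb
          rw [map_mul, map_inv]
          exact QuotientGroup.eq.1 h1
        obtain ⟨j, e, hje⟩ := hNel _ h3
        refine ⟨i, j, ?_⟩
        rw [show x = y ^ i * ((y ^ i)⁻¹ * x) by group, hje, map_mul, map_mul, hσz, mul_one,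
          map_zpow, map_zpow]
      show commutator G ≤ M₂
      rw [commutator_def, Subgroup.commutator_le]
      intro p _ q _
      refine (QuotientGroup.eq_one_iff _).1 ?_
      show σ ⁅p, q⁆ = 1
      rw [map_commutatorElement, commutatorElement_eq_one_iff_mul_comm]
      obtain ⟨i, j, hp⟩ := hdec p
      obtain ⟨i', j', hq⟩ := hdec q
      rw [hp, hq]
      have c1 : Commute (σ y) (σ x₀) := hσcen y
      exact (((Commute.refl (σ y)).zpow_zpow i i').mul_right (c1.zpow_zpow i j')).mul_left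
        ((c1.symm.zpow_zpow j i').mul_right ((Commute.refl (σ x₀)).zpow_zpow j j'))
    have hKle : K ≤ A₂ := by
      refine sup_le ?_ (Subgroup.normalClosure_le_normal ?_)
      · rw [Subgroup.commutator_le]
        intro d hd g _
        obtain ⟨_, ⟨i, rfl⟩, _, ⟨e, rfl⟩, rfl⟩ := Subgroup.mem_sup_of_normal_left.1 (hDle hd)
        show (x₀ ^ (2 : ℤ)) ^ i * z ^ e * g * ((x₀ ^ (2 : ℤ)) ^ i * z ^ e)⁻¹ * g⁻¹ ∈ A₂
        have e1 : (x₀ ^ (2 : ℤ)) ^ i * z ^ e * g * ((x₀ ^ (2 : ℤ)) ^ i * z ^ e)⁻¹ * g⁻¹ =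
            (x₀ ^ (2 : ℤ)) ^ i * (g * ((x₀ ^ (2 : ℤ)) ^ i)⁻¹ * g⁻¹) := by
          rw [mul_assoc ((x₀ ^ (2 : ℤ)) ^ i) (z ^ e) g, (hzc e g).eq]; group
        rw [e1]
        exact A₂.mul_mem (Subgroup.zpow_mem_zpowers _ _)
          (hA₂.conj_mem _ (A₂.inv_mem (Subgroup.zpow_mem_zpowers _ _)) g)
      · rintro _ ⟨d, hd, rfl⟩
        refine hsqmem d ?_
        exact (sup_le (Subgroup.zpowers_le.2 (N.zpow_mem hx₀N 2)) (fun w hw => show π w ∈ Nb by
          rw [show π w = 1 from (QuotientGroup.eq_one_iff _).2 hw]; exact Nb.one_mem) : M₂ ≤ N) (hDle hd)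
    exact hzx ((Subgroup.zpowers_le.2 (Subgroup.zpow_mem_zpowers _ _)) (hKle hzK))

end CfsgLib.Perm.SecTwo
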