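import Mathlib

/-!
A checkable criterion for a group of two by two matrices given by generators to have a
prescribed order and to be sharply transitive on the nonzero vectors.
-/

set_option autoImplicit false
set_option linter.style.haveILetI false

namespace CfsgLib.Perm.SharpClosure

variable {R : Type*} [CommRing R]

/-- A two by two matrix as a tuple. -/
abbrev T (R : Type*) := R × R × R × R

/-- The product of two tuples read as matrices. -/
def tmul (a b : T R) : T R :=
  (a.1 * b.1 + a.2.1 * b.2.2.1, a.1 * b.2.1 + a.2.1 * b.2.2.2,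
    a.2.2.1 * b.1 + a.2.2.2 * b.2.2.1, a.2.2.1 * b.2.1 + a.2.2.2 * b.2.2.2)

/-- The matrix of a tuple. -/
def toMat (a : T R) : Matrix (Fin 2) (Fin 2) R := !![a.1, a.2.1; a.2.2.1, a.2.2.2]

/-- A tuple applied to a vector. -/
def tapp (a : T R) (v : R × R) : R × R :=
  (a.1 * v.1 + a.2.1 * v.2, a.2.2.1 * v.1 + a.2.2.2 * v.2)

/-- The value of a word. -/
def wval {n : ℕ} (ts : Fin n → T R) (w : List (Fin n)) : T R :=
  w.foldl (fun acc i => tmul acc (ts i)) (1, 0, 0, 1)

theorem toMat_tmul (a b : T R) : toMat (tmul a b) = toMat a * toMat b := by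
  ext i j
  fin_cases i <;> fin_cases j <;> simp [toMat, tmul, Matrix.mul_apply, Fin.sum_univ_two]

theorem toMat_one : toMat ((1, 0, 0, 1) : T R) = 1 := by
  ext i j
  fin_cases i <;> fin_cases j <;> simp [toMat]

omit [CommRing R] in
theorem toMat_injective : Function.Injective (toMat : T R → Matrix (Fin 2) (Fin 2) R) := by
  intro a b h
  have h00 := congrFun (congrFun h 0) 0
  have h01 := congrFun (congrFun h 0) 1
  have h10 := congrFun (congrFun h 1) 0
  have h11 := congrFun (congrFun h 1) 1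
  simp [toMat] at h00 h01 h10 h11
  exact Prod.ext h00 (Prod.ext h01 (Prod.ext h10 h11))

theorem toMat_mulVec (a : T R) (v : Fin 2 → R) :
    Matrix.mulVec (toMat a) v = ![(tapp a (v 0, v 1)).1, (tapp a (v 0, v 1)).2] := by
  ext i
  fin_cases i <;> simp [toMat, tapp, Matrix.mulVec, dotProduct, Fin.sum_univ_two]

/-- The criterion. -/
theorem card_and_sharp [Fintype R] [DecidableEq R] {n N : ℕ}
    (gens : Fin n → Matrix.GeneralLinearGroup (Fin 2) R) (ts : Fin n → T R)
    (hgt : ∀ i, (gens i : Matrix (Fin 2) (Fin 2) R) = toMat (ts i))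
    (words : List (List (Fin n))) (L : List (T R))
    (hwords : words.map (wval ts) = L)
    (hone : ((1, 0, 0, 1) : T R) ∈ L)
    (hclosed : ∀ a ∈ L, ∀ i, tmul a (ts i) ∈ L)
    (hnd : L.Nodup) (hlen : L.length = N)
    (hcov : ∀ v : R × R, v ≠ (0, 0) → v ∈ L.map (fun a => tapp a (1, 0)))
    (hfree : ∀ a ∈ L, tapp a (1, 0) = (1, 0) → a = (1, 0, 0, 1))
    (s : Set (Matrix.GeneralLinearGroup (Fin 2) R)) (hs : s = Set.range gens) :
    Nat.card (Subgroup.closure s) = N ∧ ∀ v w : Fin 2 → R, v ≠ 0 → w ≠ 0 →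
      ∃! h : Subgroup.closure s, Matrix.mulVec
        ((h : Matrix.GeneralLinearGroup (Fin 2) R) : Matrix (Fin 2) (Fin 2) R) v = w := by
  classical
  set C := Subgroup.closure s with hC
  have hstab : ∀ g ∈ C, ∀ a ∈ L, ∃ b ∈ L,
      toMat a * (g : Matrix (Fin 2) (Fin 2) R) = toMat b := by
    intro g hg
    have hg' : g ∈ Submonoid.closure s := by
      rw [← Subgroup.closure_toSubmonoid_of_finite]; exact hg
    induction hg' using Submonoid.closure_induction with
    | mem x hx =>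
      subst hs
      obtain ⟨i, rfl⟩ := hx
      intro a ha
      exact ⟨_, hclosed a ha i, by rw [hgt, toMat_tmul]⟩
    | one => intro a ha; exact ⟨a, ha, by simp⟩
    | mul x y hx hy ihx ihy =>
      intro a ha
      have hxC : x ∈ C := by
        have := hx
        rw [← Subgroup.closure_toSubmonoid_of_finite] at this
        exact this
      have hyC : y ∈ C := by
        have := hy
        rw [← Subgroup.closure_toSubmonoid_of_finite] at this
        exact this
      obtain ⟨b, hb, hab⟩ := ihx hxC a ha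
      obtain ⟨c, hc, hbc⟩ := ihy hyC b hb
      exact ⟨c, hc, by rw [Units.val_mul, ← mul_assoc, hab, hbc]⟩
  have hval : ∀ w : List (Fin n), ∀ (g : Matrix.GeneralLinearGroup (Fin 2) R) (t : T R),
      g ∈ C → (g : Matrix (Fin 2) (Fin 2) R) = toMat t →
      ∃ g' ∈ C, (g' : Matrix (Fin 2) (Fin 2) R)
        = toMat (w.foldl (fun acc i => tmul acc (ts i)) t) := by
    intro w
    induction w with
    | nil => intro g t hg hgt'; exact ⟨g, hg, hgt'⟩
    | cons i w ih =>
      intro g t hg hgt'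
      refine ih (g * gens i) (tmul t (ts i))
        (C.mul_mem hg (Subgroup.subset_closure (hs ▸ ⟨i, rfl⟩))) ?_
      rw [Units.val_mul, hgt', hgt, toMat_tmul]
  have hmem : ∀ a : L.toFinset, ∃ g ∈ C, (g : Matrix (Fin 2) (Fin 2) R) = toMat a.1 := by
    intro a
    have ha := List.mem_toFinset.mp a.2
    have ha' : a.1 ∈ words.map (wval ts) := by rw [hwords]; exact ha
    obtain ⟨w, -, hw⟩ := List.mem_map.mp ha'
    obtain ⟨g, hg, hge⟩ := hval w 1 (1, 0, 0, 1) C.one_mem (by rw [Units.val_one, toMat_one])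
    exact ⟨g, hg, by rw [hge, ← hw]; rfl⟩
  choose G hGC hG using hmem
  have hsurj : ∀ g ∈ C, ∃ a : L.toFinset, G a = g := by
    intro g hg
    obtain ⟨b, hb, hgb⟩ := hstab g hg _ hone
    rw [toMat_one, one_mul] at hgb
    exact ⟨⟨b, List.mem_toFinset.mpr hb⟩, Units.ext ((hG _).trans hgb.symm)⟩
  have hbij : Function.Bijective (fun a : L.toFinset => (⟨G a, hGC a⟩ : C)) := by
    constructor
    · intro a b hab
      apply Subtype.ext
      apply toMat_injective
      rw [← hG a, ← hG b]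
      exact congrArg (fun z : C => ((z : Matrix.GeneralLinearGroup (Fin 2) R) :
        Matrix (Fin 2) (Fin 2) R)) hab
    · rintro ⟨g, hg⟩
      obtain ⟨a, rfl⟩ := hsurj g hg
      exact ⟨a, rfl⟩
  refine ⟨?_, ?_⟩
  · rw [← Nat.card_eq_of_bijective _ hbij, Nat.card_eq_fintype_card, Fintype.card_coe,
      List.toFinset_card_of_nodup hnd, hlen]
  intro v w hv hw
  have hne : ∀ u : Fin 2 → R, u ≠ 0 → (u 0, u 1) ≠ ((0, 0) : R × R) := by
    intro u hu h
    simp only [Prod.mk.injEq] at h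
    exact hu (funext fun i => by fin_cases i <;> simp [h.1, h.2])
  have hto : ∀ u : Fin 2 → R, u ≠ 0 → ∃ g ∈ C,
      Matrix.mulVec (g : Matrix (Fin 2) (Fin 2) R) ![1, 0] = u := by
    intro u hu
    obtain ⟨a, ha, hau⟩ := List.mem_map.mp (hcov _ (hne u hu))
    refine ⟨G ⟨a, List.mem_toFinset.mpr ha⟩, hGC _, ?_⟩
    rw [hG, toMat_mulVec]
    simp only [Matrix.cons_val_zero, Matrix.cons_val_one, hau]
    ext i
    fin_cases i <;> rfl
  obtain ⟨g, hg, hgv⟩ := hto v hv
  obtain ⟨k, hk, hkw⟩ := hto w hw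
  have hkg : Matrix.mulVec ((k * g⁻¹ : Matrix.GeneralLinearGroup (Fin 2) R) :
      Matrix (Fin 2) (Fin 2) R) v = w := by
    rw [← hgv, Matrix.mulVec_mulVec, ← Units.val_mul, inv_mul_cancel_right, hkw]
  refine ⟨⟨k * g⁻¹, C.mul_mem hk (C.inv_mem hg)⟩, hkg, ?_⟩
  rintro ⟨h, hh⟩ hhv
  apply Subtype.ext
  show h = k * g⁻¹
  have hfix : Matrix.mulVec (((k * g⁻¹)⁻¹ * h : Matrix.GeneralLinearGroup (Fin 2) R) :
      Matrix (Fin 2) (Fin 2) R) v = v := by
    have hhv' : Matrix.mulVec (h : Matrix (Fin 2) (Fin 2) R) v = w := hhv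
    rw [Units.val_mul, ← Matrix.mulVec_mulVec, hhv', ← hkg, Matrix.mulVec_mulVec,
      ← Units.val_mul, inv_mul_cancel, Units.val_one, Matrix.one_mulVec]
  set m := (k * g⁻¹)⁻¹ * h with hm_def
  have hmC : m ∈ C := C.mul_mem (C.inv_mem (C.mul_mem hk (C.inv_mem hg))) hh
  obtain ⟨a, ha⟩ := hsurj _ (C.mul_mem (C.mul_mem (C.inv_mem hg) hmC) hg)
  have hfix' : Matrix.mulVec ((g⁻¹ * m * g : Matrix.GeneralLinearGroup (Fin 2) R) :
      Matrix (Fin 2) (Fin 2) R) ![1, 0] = ![1, 0] := by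
    rw [Units.val_mul, Units.val_mul, ← Matrix.mulVec_mulVec, ← Matrix.mulVec_mulVec, hgv, hfix,
      ← hgv, Matrix.mulVec_mulVec, ← Units.val_mul, inv_mul_cancel, Units.val_one,
      Matrix.one_mulVec]
  rw [← ha, hG, toMat_mulVec] at hfix'
  have h1 : tapp a.1 (1, 0) = (1, 0) :=
    Prod.ext (by simpa using congrFun hfix' 0) (by simpa using congrFun hfix' 1)
  have h2 := hfree a.1 (List.mem_toFinset.mp a.2) h1
  have h4 : g⁻¹ * m * g = 1 := by
    rw [← ha]
    apply Units.ext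
    rw [hG, h2, toMat_one, Units.val_one]
  have h3 : m = 1 := by
    have := congrArg (fun x => g * x * g⁻¹) h4
    simpa [mul_assoc] using this
  exact (inv_mul_eq_one.mp h3).symm

/-- The criterion for a group generated by matrices of determinant one and a scalar matrix
of order `N`: the count and the freeness are checked on `L.length * N` products. -/
theorem card_and_sharp_scalar {K : Type*} [Field K] [Fintype K] [DecidableEq K] {n N : ℕ}
    (gens : Fin n → Matrix.GeneralLinearGroup (Fin 2) K) (ts : Fin n → T K)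
    (c : Matrix.GeneralLinearGroup (Fin 2) K) (s : K)
    (hgt : ∀ i, (gens i : Matrix (Fin 2) (Fin 2) K) = toMat (ts i))
    (hc : (c : Matrix (Fin 2) (Fin 2) K) = s • (1 : Matrix (Fin 2) (Fin 2) K))
    (words : List (List (Fin n))) (L : List (T K))
    (hwords : words.map (wval ts) = L)
    (hone : ((1, 0, 0, 1) : T K) ∈ L)
    (hclosed : ∀ a ∈ L, ∀ i, tmul a (ts i) ∈ L)
    (hnd : L.Nodup) (hN : 0 < N) (hs : s ^ N = 1)
    (hdet : ∀ a ∈ L, a.1 * a.2.2.2 - a.2.1 * a.2.2.1 = 1)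
    (hsq : ∀ i j : Fin N, s ^ (2 * (i : ℕ)) = s ^ (2 * (j : ℕ)) → i = j)
    (hfree : ∀ a ∈ L, ∀ i : Fin N,
      (s ^ (i : ℕ) * a.1 - 1) * (s ^ (i : ℕ) * a.2.2.2 - 1)
        - s ^ (i : ℕ) * a.2.1 * (s ^ (i : ℕ) * a.2.2.1) = 0 → a = (1, 0, 0, 1) ∧ (i : ℕ) = 0)
    (hcard : L.length * N + 1 = Fintype.card K * Fintype.card K)
    (S : Set (Matrix.GeneralLinearGroup (Fin 2) K)) (hS : S = insert c (Set.range gens)) :
    Nat.card (Subgroup.closure S) = L.length * N ∧ ∀ v w : Fin 2 → K, v ≠ 0 → w ≠ 0 →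
      ∃! h : Subgroup.closure S, Matrix.mulVec
        ((h : Matrix.GeneralLinearGroup (Fin 2) K) : Matrix (Fin 2) (Fin 2) K) v = w := by
  classical
  set C := Subgroup.closure S with hC
  have hgC : ∀ i, gens i ∈ C := fun i =>
    Subgroup.subset_closure (hS ▸ Set.mem_insert_of_mem _ ⟨i, rfl⟩)
  have hcC : c ∈ C := Subgroup.subset_closure (hS ▸ Set.mem_insert _ _)
  have hcpow : ∀ k : ℕ, ((c ^ k : Matrix.GeneralLinearGroup (Fin 2) K) : Matrix (Fin 2) (Fin 2) K)
      = s ^ k • (1 : Matrix (Fin 2) (Fin 2) K) := by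
    intro k
    rw [Units.val_pow_eq_pow_val, hc, smul_pow, one_pow]
  have hmodN : ∀ k : ℕ, s ^ (k % N) = s ^ k := fun k => by
    conv_rhs => rw [← Nat.mod_add_div k N, pow_add, pow_mul, hs, one_pow, mul_one]
  have hstab : ∀ g ∈ C, ∀ a ∈ L, ∀ i : Fin N, ∃ b ∈ L, ∃ j : Fin N,
      s ^ (i : ℕ) • toMat a * (g : Matrix (Fin 2) (Fin 2) K) = s ^ (j : ℕ) • toMat b := by
    intro g hg
    have hg' : g ∈ Submonoid.closure S := by
      rw [← Subgroup.closure_toSubmonoid_of_finite]; exact hg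
    clear hg
    induction hg' using Submonoid.closure_induction with
    | mem x hx =>
      subst hS
      intro a ha i
      rcases hx with rfl | ⟨k, rfl⟩
      · refine ⟨a, ha, ⟨((i : ℕ) + 1) % N, Nat.mod_lt _ hN⟩, ?_⟩
        rw [hc, Matrix.mul_smul, mul_one, smul_smul, hmodN, mul_comm, ← pow_succ]
      · exact ⟨_, hclosed a ha k, i, by rw [hgt, toMat_tmul, smul_mul_assoc]⟩
    | one => intro a ha i; exact ⟨a, ha, i, by simp⟩
    | mul x y hx hy ihx ihy =>
      intro a ha i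
      obtain ⟨b, hb, j, hab⟩ := ihx a ha i
      obtain ⟨d, hd, k, hbd⟩ := ihy b hb j
      exact ⟨d, hd, k, by rw [Units.val_mul, ← mul_assoc, hab, hbd]⟩
  have hval : ∀ w : List (Fin n), ∀ (g : Matrix.GeneralLinearGroup (Fin 2) K) (t : T K),
      g ∈ C → (g : Matrix (Fin 2) (Fin 2) K) = toMat t →
      ∃ g' ∈ C, (g' : Matrix (Fin 2) (Fin 2) K)
        = toMat (w.foldl (fun acc i => tmul acc (ts i)) t) := by
    intro w
    induction w with
    | nil => intro g t hg hgt'; exact ⟨g, hg, hgt'⟩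
    | cons i w ih =>
      intro g t hg hgt'
      refine ih (g * gens i) (tmul t (ts i)) (C.mul_mem hg (hgC i)) ?_
      rw [Units.val_mul, hgt', hgt, toMat_tmul]
  have hmem : ∀ x : L.toFinset × Fin N, ∃ g ∈ C,
      (g : Matrix (Fin 2) (Fin 2) K) = s ^ (x.2 : ℕ) • toMat x.1.1 := by
    intro x
    have ha' : x.1.1 ∈ words.map (wval ts) := by rw [hwords]; exact List.mem_toFinset.mp x.1.2
    obtain ⟨w, -, hw⟩ := List.mem_map.mp ha'
    obtain ⟨g, hg, hge⟩ := hval w 1 (1, 0, 0, 1) C.one_mem (by rw [Units.val_one, toMat_one])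
    refine ⟨c ^ (x.2 : ℕ) * g, C.mul_mem (C.pow_mem hcC _) hg, ?_⟩
    rw [Units.val_mul, hcpow, hge, smul_mul_assoc, one_mul, ← hw]
    rfl
  choose G hGC hG using hmem
  have hsurj : ∀ g ∈ C, ∃ x, G x = g := by
    intro g hg
    obtain ⟨b, hb, j, hgb⟩ := hstab g hg _ hone ⟨0, hN⟩
    rw [toMat_one, pow_zero, one_smul, one_mul] at hgb
    exact ⟨(⟨b, List.mem_toFinset.mpr hb⟩, j), Units.ext ((hG _).trans hgb.symm)⟩
  have hdet' : ∀ a ∈ L, Matrix.det (toMat a) = 1 := by
    intro a ha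
    rw [toMat, Matrix.det_fin_two_of]
    exact hdet a ha
  have hinj : Function.Injective G := by
    intro x y hxy
    have h1 : s ^ (x.2 : ℕ) • toMat x.1.1 = s ^ (y.2 : ℕ) • toMat y.1.1 := by
      rw [← hG, ← hG, hxy]
    have h2 := congrArg Matrix.det h1
    rw [Matrix.det_smul, Matrix.det_smul, hdet' _ (List.mem_toFinset.mp x.1.2),
      hdet' _ (List.mem_toFinset.mp y.1.2), mul_one, mul_one, Fintype.card_fin, ← pow_mul,
      ← pow_mul, mul_comm _ 2, mul_comm _ 2] at h2
    have h3 := hsq _ _ h2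
    have hs0 : s ^ (y.2 : ℕ) ≠ 0 := pow_ne_zero _ fun h0 => by
      rw [h0, zero_pow hN.ne'] at hs
      exact zero_ne_one hs
    rw [h3] at h1
    have h4 := toMat_injective (smul_right_injective _ hs0 h1)
    exact Prod.ext (Subtype.ext h4) h3
  have hfix : ∀ g ∈ C, ∀ v : Fin 2 → K, v ≠ 0 →
      Matrix.mulVec (g : Matrix (Fin 2) (Fin 2) K) v = v → g = 1 := by
    intro g hg v hv hgv
    obtain ⟨x, rfl⟩ := hsurj g hg
    have h1 : Matrix.det ((G x : Matrix (Fin 2) (Fin 2) K) - 1) = 0 :=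
      Matrix.exists_mulVec_eq_zero_iff.mp ⟨v, hv, by
        rw [Matrix.sub_mulVec, Matrix.one_mulVec, hgv, sub_self]⟩
    rw [hG, Matrix.det_fin_two] at h1
    simp [toMat] at h1
    obtain ⟨h2, h3⟩ := hfree _ (List.mem_toFinset.mp x.1.2) x.2 (by
      rw [← h1])
    apply Units.ext
    rw [hG, h2, h3, pow_zero, one_smul, toMat_one, Units.val_one]
  have hbij : Function.Bijective (fun x => (⟨G x, hGC x⟩ : C)) :=
    ⟨fun x y h => hinj (congrArg Subtype.val h), fun ⟨g, hg⟩ => by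
      obtain ⟨x, rfl⟩ := hsurj g hg; exact ⟨x, rfl⟩⟩
  have hCcard : Nat.card C = L.length * N := by
    rw [← Nat.card_eq_of_bijective _ hbij, Nat.card_eq_fintype_card, Fintype.card_prod,
      Fintype.card_coe, List.toFinset_card_of_nodup hnd, Fintype.card_fin]
  refine ⟨hCcard, fun v w hv hw => ?_⟩
  haveI : Fintype C := Fintype.ofFinite C
  have hne : ∀ h : C, Matrix.mulVec
      ((h : Matrix.GeneralLinearGroup (Fin 2) K) : Matrix (Fin 2) (Fin 2) K) v ≠ 0 := by
    intro h h0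
    apply hv
    have := congrArg (Matrix.mulVec (((h : Matrix.GeneralLinearGroup (Fin 2) K)⁻¹ :
      Matrix.GeneralLinearGroup (Fin 2) K) : Matrix (Fin 2) (Fin 2) K)) h0
    rwa [Matrix.mulVec_mulVec, ← Units.val_mul, inv_mul_cancel, Units.val_one, Matrix.one_mulVec,
      Matrix.mulVec_zero] at this
  let f : C → {u : Fin 2 → K // u ≠ 0} := fun h => ⟨_, hne h⟩
  have hf : Function.Bijective f := by
    rw [Fintype.bijective_iff_injective_and_card]
    constructor
    · intro h h' heq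
      have h1 : Matrix.mulVec ((h : Matrix.GeneralLinearGroup (Fin 2) K) : Matrix (Fin 2) (Fin 2) K) v
          = Matrix.mulVec ((h' : Matrix.GeneralLinearGroup (Fin 2) K) : Matrix (Fin 2) (Fin 2) K) v :=
        congrArg Subtype.val heq
      have h2 : ((h' : Matrix.GeneralLinearGroup (Fin 2) K))⁻¹ * h = 1 := by
        refine hfix _ (C.mul_mem (C.inv_mem h'.2) h.2) v hv ?_
        rw [Units.val_mul, ← Matrix.mulVec_mulVec, h1, Matrix.mulVec_mulVec, ← Units.val_mul,
          inv_mul_cancel, Units.val_one, Matrix.one_mulVec]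
      exact Subtype.ext (inv_mul_eq_one.mp h2).symm
    · rw [← Nat.card_eq_fintype_card, hCcard, Fintype.card_subtype_compl,
        Fintype.card_subtype_eq, Fintype.card_fun, Fintype.card_fin, pow_two]
      omega
  obtain ⟨h, hh⟩ := hf.2 ⟨w, hw⟩
  refine ⟨h, congrArg Subtype.val hh, fun h' hh' => hf.1 ?_⟩
  rw [hh]
  exact Subtype.ext hh'

end CfsgLib.Perm.SharpClosure
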