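import Mathlib

/-!
Sharply two-transitive finite permutation groups: the derangements together with the identity
form an elementary abelian regular normal subgroup.
-/

set_option autoImplicit false
set_option linter.style.haveILetI false

namespace CfsgLib.Perm.SharpTwo

variable {G : Type*} [Group G] [Finite G] {α : Type*} [Finite α] [MulAction G α]

/-- The statement of sharp two-transitivity. -/
structure Sharp (G α : Type*) [Group G] [MulAction G α] : Prop where
  trans : ∀ a b c d : α, a ≠ b → c ≠ d → ∃ g : G, g • a = c ∧ g • b = d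
  free : ∀ g : G, ∀ a b : α, a ≠ b → g • a = a → g • b = b → g = 1
  two : 2 ≤ Nat.card α

/-- An element without fixed points. -/
def Fpf (x : G) : Prop := ∀ a : α, x • a ≠ a

omit [Finite G] in
theorem card_eq (h : Sharp G α) : Nat.card G = Nat.card α * (Nat.card α - 1) := by
  classical
  haveI : Fintype α := Fintype.ofFinite α
  have hα : 1 < Nat.card α := h.two
  haveI : Nontrivial α := Finite.one_lt_card_iff_nontrivial.mp hα
  obtain ⟨a, b, hab⟩ := exists_pair_ne α
  have hbij : Function.Bijective (fun g : G =>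
      (⟨(g • a, g • b), fun he => hab (MulAction.injective g he)⟩ : {q : α × α // q.1 ≠ q.2})) := by
    constructor
    · intro g k hgk
      have h1 := congrArg Prod.fst (congrArg Subtype.val hgk)
      have h2 := congrArg Prod.snd (congrArg Subtype.val hgk)
      have h3 : k⁻¹ * g = 1 := h.free _ a b hab
        (by rw [mul_smul, inv_smul_eq_iff]; exact h1) (by rw [mul_smul, inv_smul_eq_iff]; exact h2)
      exact (inv_mul_eq_one.mp h3).symm
    · rintro ⟨⟨c, d⟩, hcd⟩
      obtain ⟨g, h1, h2⟩ := h.trans a b c d hab hcd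
      exact ⟨g, Subtype.ext (Prod.ext h1 h2)⟩
  rw [Nat.card_eq_of_bijective _ hbij, Nat.card_eq_fintype_card, Nat.card_eq_fintype_card]
  have h1 : Fintype.card {q : α × α // q.1 ≠ q.2} + Fintype.card {q : α × α // q.1 = q.2}
      = Fintype.card (α × α) := by
    rw [Fintype.card_subtype_compl]
    have := Fintype.card_subtype_le (fun q : α × α => q.1 = q.2)
    omega
  have h2 : Fintype.card {q : α × α // q.1 = q.2} = Fintype.card α :=
    Fintype.card_congr ⟨fun q => q.1.1, fun a => ⟨(a, a), rfl⟩,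
      fun q => Subtype.ext (Prod.ext rfl q.2), fun a => rfl⟩
  rw [h2, Fintype.card_prod] at h1
  rw [Nat.mul_sub, mul_one]
  omega

theorem card_fpf (h : Sharp G α) : Nat.card {g : G // Fpf (α := α) g} = Nat.card α - 1 := by
  classical
  haveI : Fintype G := Fintype.ofFinite G
  haveI : Fintype α := Fintype.ofFinite α
  have hα : 1 < Nat.card α := h.two
  haveI : Nontrivial α := Finite.one_lt_card_iff_nontrivial.mp hα
  obtain ⟨a₀, b₀, hab⟩ := exists_pair_ne α
  have htr : ∀ a b : α, ∃ g : G, g • a = b := by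
    intro a b
    obtain ⟨a', ha'⟩ := exists_ne a
    obtain ⟨b', hb'⟩ := exists_ne b
    obtain ⟨g, hg, -⟩ := h.trans a a' b b' ha'.symm hb'.symm
    exact ⟨g, hg⟩
  haveI : MulAction.IsPretransitive G α := ⟨htr⟩
  have hstab : ∀ a : α, Nat.card (MulAction.stabilizer G a) = Nat.card α - 1 := by
    intro a
    have h1 := (MulAction.stabilizer G a).card_mul_index
    rw [MulAction.index_stabilizer_of_transitive G a, card_eq h, mul_comm] at h1
    exact Nat.eq_of_mul_eq_mul_left (by omega) h1
  have e : {g : G // g ≠ 1 ∧ ¬ Fpf (α := α) g} ≃ Σ a : α, {g : MulAction.stabilizer G a // g ≠ 1} :=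
    (Equiv.ofBijective (fun x : (Σ a : α, {g : MulAction.stabilizer G a // g ≠ 1}) =>
      (⟨x.2.1.1, fun h1 => x.2.2 (Subtype.ext h1), fun h1 => h1 x.1 x.2.1.2⟩ :
        {g : G // g ≠ 1 ∧ ¬ Fpf (α := α) g})) ⟨by
      rintro ⟨a, ⟨g, hg⟩, hg1⟩ ⟨b, ⟨k, hk⟩, hk1⟩ heq
      have h0 : g = k := congrArg Subtype.val heq
      subst h0
      obtain rfl : a = b := by
        by_contra hne
        exact hg1 (Subtype.ext (h.free g a b hne hg hk))
      rfl, by
      rintro ⟨g, hg1, hg⟩
      simp only [Fpf, not_forall, not_not] at hg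
      obtain ⟨a, ha⟩ := hg
      exact ⟨⟨a, ⟨g, ha⟩, fun h1 => hg1 (congrArg Subtype.val h1)⟩, rfl⟩⟩).symm
  have h2 : Nat.card {g : G // g ≠ 1 ∧ ¬ Fpf (α := α) g}
      = Nat.card α * (Nat.card α - 2) := by
    rw [Nat.card_congr e, Nat.card_sigma]
    have h3 : ∀ a : α, Nat.card {g : MulAction.stabilizer G a // g ≠ 1} = Nat.card α - 2 := by
      intro a
      have h5 : ({(1 : MulAction.stabilizer G a)}ᶜ : Set (MulAction.stabilizer G a)).ncard
          = Nat.card α - 2 := by
        rw [Set.ncard_compl, Set.ncard_singleton, hstab]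
        omega
      rw [← h5, ← Nat.card_coe_set_eq]
      rfl
    rw [Finset.sum_congr rfl fun a _ => h3 a, Finset.sum_const, Finset.card_univ, smul_eq_mul,
      Nat.card_eq_fintype_card]
  have h6 : Nat.card {g : G // Fpf (α := α) g} + Nat.card {g : G // g ≠ 1 ∧ ¬ Fpf (α := α) g} + 1
      = Nat.card G := by
    rw [Nat.card_eq_fintype_card, Nat.card_eq_fintype_card, Nat.card_eq_fintype_card,
      Fintype.card_subtype, Fintype.card_subtype, ← Finset.card_univ]
    have h7 : ({(1 : G)} : Finset G).card = 1 := Finset.card_singleton 1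
    rw [← h7, ← Finset.card_union_of_disjoint, ← Finset.card_union_of_disjoint]
    · congr 1
      ext g
      simp only [Finset.mem_union, Finset.mem_filter, Finset.mem_univ, true_and, Finset.mem_singleton,
        iff_true]
      tauto
    · rw [Finset.disjoint_singleton_right]
      simp only [Finset.mem_union, Finset.mem_filter, Finset.mem_univ, true_and, ne_eq,
        not_true_eq_false, false_and, or_false]
      intro h1
      exact h1 a₀ (one_smul G a₀)
    · rw [Finset.disjoint_filter]
      intro g _ h1 h2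
      exact h2.2 h1
  rw [h2, card_eq h] at h6
  obtain ⟨m, hm⟩ : ∃ m, Nat.card α = m + 2 := ⟨Nat.card α - 2, by omega⟩
  rw [hm] at h6 ⊢
  simp only [show m + 2 - 1 = m + 1 from rfl, show m + 2 - 2 = m from rfl] at h6 ⊢
  nlinarith

/-- The regular normal subgroup. -/
theorem exists_kernel (h : Sharp G α) : ∃ (K : Subgroup G) (p j : ℕ), p.Prime ∧ 1 ≤ j ∧
    Nat.card α = p ^ j ∧ K.Normal ∧ Nat.card K = Nat.card α ∧
    (∀ x ∈ K, ∀ y ∈ K, x * y = y * x) ∧ (∀ x ∈ K, x ^ p = 1) ∧
    (∀ g : G, g ∈ K ↔ g = 1 ∨ Fpf (α := α) g) ∧ (∀ a b : α, ∃ g ∈ K, g • a = b) ∧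
    ∀ a : α, ∀ g ∈ K, g • a = a → g = 1 := by
  classical
  have hα : 1 < Nat.card α := h.two
  haveI : Nontrivial α := Finite.one_lt_card_iff_nontrivial.mp hα
  obtain ⟨x, hx⟩ : ∃ x : G, Fpf (α := α) x := by
    have : 0 < Nat.card {g : G // Fpf (α := α) g} := by rw [card_fpf h]; omega
    obtain ⟨⟨x, hx⟩⟩ := (Nat.card_pos_iff.mp this).1
    exact ⟨x, hx⟩
  obtain ⟨a₀⟩ : Nonempty α := inferInstance
  have hfpf1 : ∀ g : G, Fpf (α := α) g → g ≠ 1 := fun g hg h1 => hg a₀ (by rw [h1, one_smul])
  have hCfree : ∀ y : G, Fpf (α := α) y → ∀ u : G, u * y = y * u → ∀ a : α, u • a = a → u = 1 := by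
    intro y hy u hu a hua
    refine h.free u (y • a) a (hy a) ?_ hua
    rw [← mul_smul, hu, mul_smul, hua]
  have hconjfpf : ∀ g y : G, Fpf (α := α) y → Fpf (α := α) (g * y * g⁻¹) := by
    intro g y hy a ha
    rw [mul_smul, mul_smul, smul_eq_iff_eq_inv_smul] at ha
    exact hy _ ha
  have hC : ∀ y : G, Fpf (α := α) y →
      (∀ z : G, Fpf (α := α) z → IsConj y z) ∧
      ∀ u : G, u ∈ Subgroup.centralizer ({y} : Set G) ↔ u = 1 ∨ Fpf (α := α) u := by
    intro y hy
    set C := Subgroup.centralizer ({y} : Set G) with hCdef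
    have hmem : ∀ u, u ∈ C ↔ u * y = y * u := fun u => Subgroup.mem_centralizer_singleton_iff
    have hle : Nat.card C ≤ Nat.card α := Nat.card_le_card_of_injective
      (fun u : C => (u : G) • a₀) (fun u v huv => by
        have h1 : ((v⁻¹ * u : C) : G) = 1 := hCfree y hy _ ((hmem _).mp (v⁻¹ * u).2) a₀ (by
          push_cast
          rw [mul_smul, inv_smul_eq_iff]
          exact huv)
        exact (inv_mul_eq_one.mp (Subtype.ext h1 : v⁻¹ * u = 1)).symm)
    have hcls : {z : G | IsConj y z} ⊆ {z : G | Fpf (α := α) z} := by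
      intro z hz
      obtain ⟨g, rfl⟩ := isConj_iff.mp hz
      exact hconjfpf g y hy
    have hclcard : {z : G | IsConj y z}.ncard * Nat.card C = Nat.card G := by
      have h1 := C.card_mul_index
      have h2 : C.index = (MulAction.orbit (ConjAct G) y).ncard := by
        rw [← MulAction.index_stabilizer, ConjAct.stabilizer_eq_centralizer]
        rw [hCdef]
        rfl
      have h3 : MulAction.orbit (ConjAct G) y = {z : G | IsConj y z} := by
        ext z
        rw [ConjAct.mem_orbit_conjAct]
        exact isConj_comm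
      rw [← h3, ← h2, mul_comm]
      exact h1
    have hfc : {z : G | Fpf (α := α) z}.ncard = Nat.card α - 1 :=
      (Nat.card_coe_set_eq _).symm.trans (card_fpf h)
    have hle2 := Set.ncard_le_ncard hcls (Set.toFinite _)
    rw [card_eq h, mul_comm (Nat.card α)] at hclcard
    have heq1 : {z : G | IsConj y z}.ncard = Nat.card α - 1 := by
      refine le_antisymm (hfc ▸ hle2) ?_
      by_contra hlt
      have h4 : {z : G | IsConj y z}.ncard * Nat.card C < (Nat.card α - 1) * Nat.card α := by
        calc _ ≤ {z : G | IsConj y z}.ncard * Nat.card α := Nat.mul_le_mul_left _ hle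
          _ < _ := Nat.mul_lt_mul_of_pos_right (not_le.mp hlt) (by omega)
      omega
    have heq2 : Nat.card C = Nat.card α := by
      rw [heq1] at hclcard
      exact Nat.eq_of_mul_eq_mul_left (by omega) hclcard
    refine ⟨fun z hz => ?_, fun u => ⟨fun hu => ?_, fun hu => ?_⟩⟩
    · have hall := Set.eq_of_subset_of_ncard_le hcls (by rw [hfc, heq1]) (Set.toFinite _)
      have hz' : z ∈ {z : G | IsConj y z} := by rw [hall]; exact hz
      exact hz'
    · by_cases hu1 : u = 1
      · exact Or.inl hu1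
      · exact Or.inr fun a ha => hu1 (hCfree y hy u ((hmem u).mp hu) a ha)
    · have hsub : (C : Set G) ⊆ {u : G | u = 1 ∨ Fpf (α := α) u} := by
        intro w hw
        by_cases hw1 : w = 1
        · exact Or.inl hw1
        · exact Or.inr fun a ha => hw1 (hCfree y hy w ((hmem w).mp hw) a ha)
      have hcard : {u : G | u = 1 ∨ Fpf (α := α) u}.ncard ≤ (C : Set G).ncard := by
        have h5 : {u : G | u = 1 ∨ Fpf (α := α) u} = insert 1 {u : G | Fpf (α := α) u} := rfl
        rw [h5, ← Nat.card_coe_set_eq (C : Set G)]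
        refine (Set.ncard_insert_le _ _).trans ?_
        rw [hfc]
        change _ ≤ Nat.card C
        omega
      have hCeq := Set.eq_of_subset_of_ncard_le hsub hcard (Set.toFinite _)
      have hu' : u ∈ (C : Set G) := hCeq.symm ▸ hu
      exact hu'
  set K := Subgroup.centralizer ({x} : Set G) with hK
  have hKmem : ∀ g : G, g ∈ K ↔ g = 1 ∨ Fpf (α := α) g := (hC x hx).2
  have hcomm : ∀ u ∈ K, ∀ v ∈ K, u * v = v * u := by
    intro u hu v hv
    rcases (hKmem u).mp hu with rfl | hu'
    · simp
    · exact (Subgroup.mem_centralizer_singleton_iff.mp (((hC u hu').2 v).mpr ((hKmem v).mp hv))).symm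
  have hnorm : K.Normal := ⟨fun u hu g => (hKmem _).mpr (((hKmem u).mp hu).imp
    (fun h1 => by rw [h1]; group) (hconjfpf g u))⟩
  have hfree : ∀ a : α, ∀ g ∈ K, g • a = a → g = 1 := fun a g hg ha =>
    ((hKmem g).mp hg).resolve_right fun h1 => h1 a ha
  have hcardK : Nat.card K = Nat.card α := by
    have h5 : (K : Set G) = insert 1 {u : G | Fpf (α := α) u} := Set.ext hKmem
    have hfc : {z : G | Fpf (α := α) z}.ncard = Nat.card α - 1 :=
      (Nat.card_coe_set_eq _).symm.trans (card_fpf h)
    show Nat.card (K : Set G) = _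
    rw [Nat.card_coe_set_eq, h5, Set.ncard_insert_of_notMem (fun h1 => hfpf1 1 h1 rfl), hfc]
    omega
  have hord : ∀ u ∈ K, u ≠ 1 → orderOf u = orderOf x := by
    intro u hu hu1
    obtain ⟨g, hg⟩ := isConj_iff.mp ((hC x hx).1 u (((hKmem u).mp hu).resolve_left hu1))
    rw [← hg]
    exact MulEquiv.orderOf_eq (MulAut.conj g) x
  obtain ⟨p, hp, hpd⟩ := Nat.exists_prime_and_dvd (n := orderOf x)
    (by rw [Ne, orderOf_eq_one_iff]; exact hfpf1 x hx)
  haveI : Fact p.Prime := ⟨hp⟩
  have hxK : x ∈ K := Subgroup.mem_centralizer_singleton_iff.mpr rfl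
  have hpK : p ∣ Nat.card K := hpd.trans (Subgroup.orderOf_dvd_natCard _ hxK)
  obtain ⟨⟨y, hyK⟩, hy⟩ := exists_prime_orderOf_dvd_card' (G := K) p hpK
  rw [Subgroup.orderOf_mk] at hy
  have hxp : orderOf x = p := by
    rw [← hord y hyK (fun h1 => by rw [h1, orderOf_one] at hy; exact hp.one_lt.ne hy), hy]
  have hexp : ∀ u ∈ K, u ^ p = 1 := by
    intro u hu
    by_cases hu1 : u = 1
    · rw [hu1, one_pow]
    · rw [← hxp, ← hord u hu hu1]
      exact pow_orderOf_eq_one u
  obtain ⟨j, hj⟩ := IsPGroup.iff_card.mp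
    (show IsPGroup p K from fun u => ⟨1, Subtype.ext (by rw [pow_one]; exact hexp u u.2)⟩)
  refine ⟨K, p, j, hp, ?_, hcardK ▸ hj, hnorm, hcardK, hcomm, hexp, hKmem, fun a b => ?_, hfree⟩
  · by_contra hj0
    have : j = 0 := by omega
    rw [this, pow_zero, hcardK] at hj
    omega
  · have hbij : Function.Bijective (fun u : K => (u : G) • a) := by
      rw [Nat.bijective_iff_injective_and_card]
      refine ⟨fun u v huv => ?_, hcardK⟩
      have h1 : ((v⁻¹ * u : K) : G) = 1 := hfree a _ (v⁻¹ * u).2 (by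
        push_cast
        rw [mul_smul, inv_smul_eq_iff]
        exact huv)
      exact (inv_mul_eq_one.mp (Subtype.ext h1 : v⁻¹ * u = 1)).symm
    obtain ⟨u, hu⟩ := hbij.2 b
    exact ⟨u, u.2, hu⟩

omit [Finite G] [Finite α] in
/-- Sharp two-transitivity from the hypotheses in permutation form. -/
theorem sharp_of (h2 : MulAction.IsMultiplyPretransitive G α 2)
    (hs : ∀ x : Fin 2 ↪ α, MulAction.stabilizer G x = ⊥) (hα : 2 ≤ Nat.card α) : Sharp G α where
  trans := fun a b c d hab hcd => MulAction.is_two_pretransitive_iff.mp h2 hab hcd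
  free := by
    intro g a b hab ha hb
    have hinj : Function.Injective ![a, b] := by
      intro i j hij
      fin_cases i <;> fin_cases j <;> first | rfl | exact absurd hij hab | exact absurd hij.symm hab
    have h1 : g ∈ MulAction.stabilizer G (⟨![a, b], hinj⟩ : Fin 2 ↪ α) := by
      rw [MulAction.mem_stabilizer_iff]
      ext i
      fin_cases i
      · exact ha
      · exact hb
    rw [hs] at h1
    exact h1
  two := hα

end CfsgLib.Perm.SharpTwo
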