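import Mathlib
import Cfsg.Agent.Perm.SharpTwo

/-!
Sharply three-transitive finite permutation groups.
-/

set_option autoImplicit false
set_option linter.style.haveILetI false
set_option linter.unusedSectionVars false

namespace CfsgLib.Perm.SharpThree

variable {α : Type*} [Fintype α] [DecidableEq α] {G : Subgroup (Equiv.Perm α)}

/-- Sharp triple transitivity in working form. -/
structure Sharp (G : Subgroup (Equiv.Perm α)) : Prop where
  trans : ∀ a b c a' b' c' : α, a ≠ b → a ≠ c → b ≠ c → a' ≠ b' → a' ≠ c' → b' ≠ c' →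
    ∃ g : G, g • a = a' ∧ g • b = b' ∧ g • c = c'
  free : ∀ (g : G) (a b c : α), a ≠ b → a ≠ c → b ≠ c → g • a = a → g • b = b → g • c = c → g = 1

theorem vec_injective {β : Type*} {a b c : β} (h1 : a ≠ b) (h2 : a ≠ c) (h3 : b ≠ c) :
    Function.Injective ![a, b, c] := by
  intro i j hij
  fin_cases i <;> fin_cases j <;> simp_all [eq_comm]

theorem sharp_of (h3 : MulAction.IsMultiplyPretransitive G α 3)
    (hsharp : ∀ x : Fin 3 ↪ α, MulAction.stabilizer G x = ⊥) : Sharp G where
  trans := by
    intro a b c a' b' c' h1 h2 h3' h4 h5 h6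
    haveI := h3
    obtain ⟨g, hg⟩ := MulAction.exists_smul_eq G (⟨![a, b, c], vec_injective h1 h2 h3'⟩ : Fin 3 ↪ α)
      ⟨![a', b', c'], vec_injective h4 h5 h6⟩
    exact ⟨g, by simpa using congrArg (fun e : Fin 3 ↪ α => e 0) hg, by simpa using congrArg (fun e : Fin 3 ↪ α => e 1) hg,
      by simpa using congrArg (fun e : Fin 3 ↪ α => e 2) hg⟩
  free := by
    intro g a b c h1 h2 h3' ha hb hc
    have hm : g ∈ MulAction.stabilizer G (⟨![a, b, c], vec_injective h1 h2 h3'⟩ : Fin 3 ↪ α) := by
      rw [MulAction.mem_stabilizer_iff]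
      ext i
      fin_cases i <;> assumption
    rwa [hsharp] at hm

theorem Sharp.eq_of (S : Sharp G) {g g' : G} {a b c : α} (h1 : a ≠ b) (h2 : a ≠ c) (h3 : b ≠ c)
    (ha : g • a = g' • a) (hb : g • b = g' • b) (hc : g • c = g' • c) : g = g' := by
  have h := S.free (g'⁻¹ * g) a b c h1 h2 h3 (by rw [mul_smul, ha, inv_smul_smul])
    (by rw [mul_smul, hb, inv_smul_smul]) (by rw [mul_smul, hc, inv_smul_smul])
  exact (inv_mul_eq_one.1 h).symm

theorem Sharp.trans_two (S : Sharp G) (h3 : 3 ≤ Fintype.card α) {a b a' b' : α} (h : a ≠ b) (h' : a' ≠ b') :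
    ∃ g : G, g • a = a' ∧ g • b = b' := by
  obtain ⟨c, -, hc⟩ := Finset.exists_mem_notMem_of_card_lt_card
    (show ({a, b} : Finset α).card < (Finset.univ : Finset α).card by
      rw [Finset.card_univ]; exact lt_of_le_of_lt Finset.card_le_two (by omega))
  obtain ⟨c', -, hc'⟩ := Finset.exists_mem_notMem_of_card_lt_card
    (show ({a', b'} : Finset α).card < (Finset.univ : Finset α).card by
      rw [Finset.card_univ]; exact lt_of_le_of_lt Finset.card_le_two (by omega))
  simp only [Finset.mem_insert, Finset.mem_singleton, not_or] at hc hc'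
  obtain ⟨g, h1, h2, -⟩ := S.trans a b c a' b' c' h (Ne.symm hc.1) (Ne.symm hc.2) h' (Ne.symm hc'.1) (Ne.symm hc'.2)
  exact ⟨g, h1, h2⟩

/-- Elements of order three fixing two given points: at most two of them. -/
theorem Sharp.card_order_three (S : Sharp G) {a b : α} (hab : a ≠ b) {u : G} (hu : orderOf u = 3)
    (hua : u • a = a) (hub : u • b = b) :
    Nat.card {t : G // orderOf t = 3 ∧ t • a = a ∧ t • b = b} = 2 := by
  classical
  haveI : Fact (Nat.Prime 3) := ⟨Nat.prime_three⟩
  set n := Fintype.card α with hn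
  -- every element of order three fixes exactly two points
  have hfix_le : ∀ t : G, t ≠ 1 → (Finset.univ.filter fun x : α => t • x = x).card ≤ 2 := by
    intro t ht
    by_contra hlt
    obtain ⟨x, y, z, hx, hy, hz, hxy, hxz, hyz⟩ := Finset.two_lt_card_iff.1 (not_le.1 hlt)
    simp only [Finset.mem_filter, Finset.mem_univ, true_and] at hx hy hz
    exact ht (S.free t x y z hxy hxz hyz hx hy hz)
  have hmod : ∀ t : G, orderOf t = 3 → (Finset.univ.filter fun x : α => t • x = x).card % 3 = n % 3 := by
    intro t ht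
    have hp : IsPGroup 3 (Subgroup.zpowers t) := IsPGroup.of_card (n := 1) (by rw [Nat.card_zpowers, ht, pow_one])
    have h := hp.card_modEq_card_fixedPoints α
    rw [Nat.card_eq_fintype_card] at h
    have he : Nat.card (MulAction.fixedPoints (Subgroup.zpowers t) α) = (Finset.univ.filter fun x : α => t • x = x).card := by
      rw [Nat.card_coe_set_eq, Set.ncard_eq_toFinset_card']
      congr 1
      ext x
      simp only [Set.mem_toFinset, MulAction.mem_fixedPoints, Finset.mem_filter, Finset.mem_univ, true_and]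
      refine ⟨fun h => h ⟨t, Subgroup.mem_zpowers t⟩, fun h => ?_⟩
      rintro ⟨g, hg⟩
      show g • x = x
      exact MulAction.mem_stabilizer_iff.1 ((Subgroup.zpowers_le.2 (MulAction.mem_stabilizer_iff.2 h)) hg)
    rw [he] at h
    exact h.symm
  have hu1 : u ≠ 1 := fun h => by rw [h, orderOf_one] at hu; omega
  have hu2 : (Finset.univ.filter fun x : α => u • x = x) = {a, b} := by
    symm
    refine Finset.eq_of_subset_of_card_le (fun x hx => ?_) (by rw [Finset.card_pair hab]; exact hfix_le u hu1)
    simp only [Finset.mem_insert, Finset.mem_singleton] at hx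
    rcases hx with rfl | rfl <;> simp [hua, hub]
  have hn2 : n % 3 = 2 := by rw [← hmod u hu, hu2, Finset.card_pair hab]
  have h2 : ∀ t : G, orderOf t = 3 → (Finset.univ.filter fun x : α => t • x = x).card = 2 := by
    intro t ht
    have := hfix_le t (fun h => by rw [h, orderOf_one] at ht; omega)
    have := hmod t ht
    omega
  set T := Finset.univ.filter fun t : G => orderOf t = 3 with hT
  -- triples determine elements of order three
  have hcard1 : T.card * (n - 2) = n * (n - 1) * (n - 2) := by
    have e1 : (T.sigma fun t => Finset.univ.filter fun x : α => t • x ≠ x).card = T.card * (n - 2) := by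
      rw [Finset.card_sigma, Finset.sum_const_nat]
      intro t ht
      rw [Finset.filter_not, Finset.card_sdiff_of_subset (Finset.subset_univ _), Finset.card_univ,
        h2 t (Finset.mem_filter.1 ht).2]
    rw [← e1]
    have e2 : (Finset.univ : Finset (Fin 3 ↪ α)).card = n * (n - 1) * (n - 2) := by
      rw [Finset.card_univ, Fintype.card_embedding_eq, Fintype.card_fin]
      simp [Nat.descFactorial, ← hn]; ring
    rw [← e2]
    refine Finset.card_bij (fun q hq => ⟨![q.2, q.1 • q.2, q.1 • q.1 • q.2], ?_⟩) (fun _ _ => Finset.mem_univ _) ?_ ?_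
    · obtain ⟨ht, hx⟩ := Finset.mem_sigma.1 hq
      have ht' := (Finset.mem_filter.1 ht).2
      have hx' : q.1 • q.2 ≠ q.2 := (Finset.mem_filter.1 hx).2
      refine vec_injective hx'.symm (fun e => hx' ?_) (fun e => hx' ((MulAction.injective q.1) e).symm)
      have h3 : q.1 ^ 3 = 1 := by rw [← ht']; exact pow_orderOf_eq_one _
      calc q.1 • q.2 = q.1 • (q.1 • q.1 • q.2) := by rw [← e]
        _ = q.2 := by rw [← mul_smul, ← mul_smul, show q.1 * q.1 * q.1 = q.1 ^ 3 by rw [pow_succ, pow_two], h3, one_smul]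
    · rintro ⟨t, x⟩ hq ⟨t', x'⟩ hq' he
      have e0 : x = x' := congrArg (fun e : Fin 3 ↪ α => e 0) he
      subst e0
      have e1' : t • x = t' • x := congrArg (fun e : Fin 3 ↪ α => e 1) he
      have e2' : t • t • x = t' • t' • x := congrArg (fun e : Fin 3 ↪ α => e 2) he
      obtain ⟨ht, hx⟩ := Finset.mem_sigma.1 hq
      obtain ⟨ht', -⟩ := Finset.mem_sigma.1 hq'
      have h3 : t • t • t • x = x := by
        rw [← mul_smul, ← mul_smul, show t * t * t = t ^ 3 by rw [pow_succ, pow_two],
          ← (Finset.mem_filter.1 ht).2, pow_orderOf_eq_one, one_smul]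
      have h3' : t' • t' • t' • x = x := by
        rw [← mul_smul, ← mul_smul, show t' * t' * t' = t' ^ 3 by rw [pow_succ, pow_two],
          ← (Finset.mem_filter.1 ht').2, pow_orderOf_eq_one, one_smul]
      have hx' : t • x ≠ x := (Finset.mem_filter.1 hx).2
      have : t = t' := S.eq_of hx'.symm (a := x) (b := t • x) (c := t • t • x)
        (fun e => hx' (by conv_lhs => rw [e, h3])) (fun e => hx' (MulAction.injective t e).symm) e1'
        (by rw [e2', e1']) (by rw [h3, e2', h3'])
      subst this
      rfl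
    · intro e _
      have h01 : e 0 ≠ e 1 := fun h => absurd (e.injective h) (by decide)
      have h02 : e 0 ≠ e 2 := fun h => absurd (e.injective h) (by decide)
      have h12 : e 1 ≠ e 2 := fun h => absurd (e.injective h) (by decide)
      obtain ⟨g, g1, g2, g3⟩ := S.trans (e 0) (e 1) (e 2) (e 1) (e 2) (e 0) h01 h02 h12 h12 h01.symm h02.symm
      have hg3 : g ^ 3 = 1 := S.free _ (e 0) (e 1) (e 2) h01 h02 h12
        (by rw [pow_succ, pow_two, mul_smul, mul_smul, g1, g2, g3])
        (by rw [pow_succ, pow_two, mul_smul, mul_smul, g2, g3, g1])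
        (by rw [pow_succ, pow_two, mul_smul, mul_smul, g3, g1, g2])
      have hg : orderOf g = 3 := orderOf_eq_prime hg3 fun h => h01 (by rw [← g1, h, one_smul])
      refine ⟨⟨g, e 0⟩, Finset.mem_sigma.2 ⟨Finset.mem_filter.2 ⟨Finset.mem_univ _, hg⟩,
        Finset.mem_filter.2 ⟨Finset.mem_univ _, by rw [g1]; exact h01.symm⟩⟩, ?_⟩
      ext i
      fin_cases i
      · rfl
      · exact g1
      · show g • g • e 0 = e 2
        rw [g1, g2]
  have h3n : 3 ≤ n := by
    obtain ⟨c, hc⟩ : ∃ c : α, u • c ≠ c := by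
      by_contra hcon
      push Not at hcon
      exact hu1 (Subtype.ext (Equiv.ext hcon))
    have : ({a, b, c} : Finset α).card = 3 := Finset.card_eq_three.2
      ⟨a, b, c, hab, fun e => hc (e ▸ hua), fun e => hc (e ▸ hub), rfl⟩
    rw [← this]
    exact Finset.card_le_univ _
  have hTcard : T.card = n * (n - 1) := Nat.eq_of_mul_eq_mul_right (by omega) hcard1
  -- distribute over ordered pairs
  set P := (Finset.univ : Finset (α × α)).filter fun q => q.1 ≠ q.2 with hP
  set F := fun q : α × α => T.filter fun t => t • q.1 = q.1 ∧ t • q.2 = q.2 with hF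
  have hPcard : P.card = n * (n - 1) := by
    rw [hP, show (Finset.univ.filter fun q : α × α => q.1 ≠ q.2) = (Finset.univ : Finset α).offDiag by ext; simp,
      Finset.offDiag_card, Finset.card_univ, ← hn, Nat.mul_sub, mul_one]
  have hconst : ∀ q ∈ P, (F q).card = (F (a, b)).card := by
    rintro ⟨x, y⟩ hq
    obtain ⟨g, gx, gy⟩ := S.trans_two h3n hab (show x ≠ y from (Finset.mem_filter.1 hq).2)
    refine (Finset.card_bij (fun t _ => g * t * g⁻¹) (fun t ht => ?_) (fun t _ t' _ h => by simpa using h) ?_).symm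
    · obtain ⟨ht1, ht2, ht3⟩ := Finset.mem_filter.1 ht
      refine Finset.mem_filter.2 ⟨Finset.mem_filter.2 ⟨Finset.mem_univ _, ?_⟩, ?_, ?_⟩
      · rw [show g * t * g⁻¹ = MulAut.conj g t from rfl, MulEquiv.orderOf_eq]
        exact (Finset.mem_filter.1 ht1).2
      · show (g * t * g⁻¹) • x = x
        rw [mul_smul, mul_smul, show g⁻¹ • x = a by rw [← gx, inv_smul_smul], ht2, gx]
      · show (g * t * g⁻¹) • y = y
        rw [mul_smul, mul_smul, show g⁻¹ • y = b by rw [← gy, inv_smul_smul], ht3, gy]
    · intro t ht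
      obtain ⟨ht1, ht2, ht3⟩ := Finset.mem_filter.1 ht
      refine ⟨g⁻¹ * t * g, Finset.mem_filter.2 ⟨Finset.mem_filter.2 ⟨Finset.mem_univ _, ?_⟩, ?_, ?_⟩, by group⟩
      · rw [show g⁻¹ * t * g = MulAut.conj g⁻¹ t by simp, MulEquiv.orderOf_eq]
        exact (Finset.mem_filter.1 ht1).2
      · show (g⁻¹ * t * g) • a = a
        rw [mul_smul, mul_smul, gx, ht2, ← gx, inv_smul_smul]
      · show (g⁻¹ * t * g) • b = b
        rw [mul_smul, mul_smul, gy, ht3, ← gy, inv_smul_smul]
  have hdc : ∑ q ∈ P, (F q).card = ∑ t ∈ T, 2 := by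
    simp only [hF, Finset.card_filter]
    rw [Finset.sum_comm]
    refine Finset.sum_congr rfl fun t ht => ?_
    rw [← Finset.card_filter]
    have : (P.filter fun q => t • q.1 = q.1 ∧ t • q.2 = q.2) = (Finset.univ.filter fun x : α => t • x = x).offDiag := by
      ext q; simp [hP, Finset.mem_offDiag]; tauto
    rw [this, Finset.offDiag_card, h2 t (Finset.mem_filter.1 ht).2]
  rw [Finset.sum_congr rfl hconst, Finset.sum_const, Finset.sum_const, smul_eq_mul, smul_eq_mul, hPcard, hTcard] at hdc
  have hres : (F (a, b)).card = 2 := Nat.eq_of_mul_eq_mul_left (Nat.mul_pos (by omega) (by omega)) hdc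
  rw [← hres, Nat.card_eq_fintype_card]
  refine Fintype.card_of_subtype _ fun t => ?_
  simp [hF, hT]

/-- At most one subgroup of order three fixes two given points. -/
theorem Sharp.unique_three (S : Sharp G) {a b : α} (hab : a ≠ b) {u v : G} (hu : orderOf u = 3)
    (hv : orderOf v = 3) (hua : u • a = a) (hub : u • b = b) (hva : v • a = a) (hvb : v • b = b) :
    v ∈ Subgroup.zpowers u := by
  by_contra hne
  have h2 := S.card_order_three hab hu hua hub
  let f : Fin 3 → {t : G // orderOf t = 3 ∧ t • a = a ∧ t • b = b} :=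
    ![⟨u, hu, hua, hub⟩,
      ⟨u⁻¹, by rw [orderOf_inv]; exact hu, by rw [inv_smul_eq_iff, hua], by rw [inv_smul_eq_iff, hub]⟩,
      ⟨v, hv, hva, hvb⟩]
  have hf : Function.Injective f := by
    refine vec_injective (fun e => ?_) (fun e => hne ?_) (fun e => hne ?_)
    · have h1 : u = u⁻¹ := congrArg Subtype.val e
      have : u ^ 2 = 1 := by rw [pow_two]; conv_lhs => arg 2; rw [h1]
                             exact mul_inv_cancel u
      have := orderOf_dvd_of_pow_eq_one this
      rw [hu] at this
      norm_num at this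
    · rw [show v = u from (congrArg Subtype.val e).symm]; exact Subgroup.mem_zpowers u
    · rw [show v = u⁻¹ from (congrArg Subtype.val e).symm]; exact Subgroup.inv_mem _ (Subgroup.mem_zpowers u)
  have := Nat.card_le_card_of_injective f hf
  rw [h2, Nat.card_fin] at this
  omega

end CfsgLib.Perm.SharpThree
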