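import Cfsg.Agent.Perm.SharplyThree
import Cfsg.Agent.Perm.RegularInsoluble

/-!
Translations and linearisation of the stabilisers in a sharply three-transitive group.
-/

set_option autoImplicit false
set_option linter.style.haveILetI false
set_option linter.unusedSectionVars false

namespace CfsgLib.Perm.SharpThree

variable {α : Type*} [Fintype α] [DecidableEq α] {G : Subgroup (Equiv.Perm α)}

/-- The group of translations fixing `inf`. -/
theorem Sharp.exists_translations (S : Sharp G) {inf o : α} (hne : inf ≠ o) (h3 : 3 ≤ Fintype.card α) :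
    ∃ (K : Subgroup G) (p j : ℕ), p.Prime ∧ 1 ≤ j ∧ Fintype.card α = p ^ j + 1 ∧ (∀ k ∈ K, k • inf = inf) ∧
      (∀ g : G, g • inf = inf → ∀ k ∈ K, g * k * g⁻¹ ∈ K) ∧ (∀ x ∈ K, ∀ y ∈ K, x * y = y * x) ∧
      (∀ x ∈ K, x ^ p = 1) ∧ (∀ x : α, x ≠ inf → ∃ k ∈ K, k • o = x) ∧ (∀ k ∈ K, k • o = o → k = 1) := by
  classical
  set Gi := MulAction.stabilizer G inf with hGi
  letI act : MulAction Gi {x : α // x ≠ inf} :=
    { smul := fun g x => ⟨(g : G) • (x : α), fun e => x.2 (MulAction.injective (g : G) (e.trans g.2.symm))⟩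
      one_smul := fun x => Subtype.ext (one_smul G (x : α))
      mul_smul := fun g g' x => Subtype.ext (mul_smul (g : G) (g' : G) (x : α)) }
  have hcard : Nat.card {x : α // x ≠ inf} = Fintype.card α - 1 := by
    rw [Nat.card_eq_fintype_card, Fintype.card_subtype_compl, Fintype.card_subtype_eq]
  have hS : SharpTwo.Sharp Gi {x : α // x ≠ inf} :=
    { trans := fun a b c d hab hcd => by
        obtain ⟨g, g1, g2, g3⟩ := S.trans inf a b inf c d a.2.symm b.2.symm (fun e => hab (Subtype.ext e))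
          c.2.symm d.2.symm (fun e => hcd (Subtype.ext e))
        exact ⟨⟨g, g1⟩, Subtype.ext g2, Subtype.ext g3⟩
      free := fun g a b hab ha hb => Subtype.ext (S.free g inf a b a.2.symm b.2.symm (fun e => hab (Subtype.ext e))
          g.2 (congrArg Subtype.val ha) (congrArg Subtype.val hb))
      two := by omega }
  obtain ⟨K, p, j, hp, hj, hpj, hKn, -, hKc, hKe, -, htr, hfree⟩ := SharpTwo.exists_kernel hS
  refine ⟨K.map Gi.subtype, p, j, hp, hj, by omega, ?_, ?_, ?_, ?_, ?_, ?_⟩
  · rintro _ ⟨k, -, rfl⟩; exact k.2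
  · rintro g hg _ ⟨k, hk, rfl⟩
    exact ⟨⟨g, hg⟩ * k * ⟨g, hg⟩⁻¹, hKn.conj_mem k hk _, rfl⟩
  · rintro _ ⟨x, hx, rfl⟩ _ ⟨y, hy, rfl⟩
    rw [← map_mul, hKc x hx y hy, map_mul]
  · rintro _ ⟨x, hx, rfl⟩
    rw [← map_pow, hKe x hx, map_one]
  · intro x hx
    obtain ⟨k, hk, hkx⟩ := htr ⟨o, hne.symm⟩ ⟨x, hx⟩
    exact ⟨k, ⟨k, hk, rfl⟩, congrArg Subtype.val hkx⟩
  · rintro _ ⟨k, hk, rfl⟩ hko
    rw [hfree ⟨o, hne.symm⟩ k hk (Subtype.ext hko), map_one]

/-- The translations at a point. -/
structure Trans (G : Subgroup (Equiv.Perm α)) (inf o : α) (p : ℕ) (K : Subgroup G) : Prop where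
  fix : ∀ k ∈ K, k • inf = inf
  norm : ∀ g : G, g • inf = inf → ∀ k ∈ K, g * k * g⁻¹ ∈ K
  comm : ∀ x ∈ K, ∀ y ∈ K, x * y = y * x
  exp : ∀ x ∈ K, x ^ p = 1
  surj : ∀ x : α, x ≠ inf → ∃ k ∈ K, k • o = x
  free : ∀ k ∈ K, k • o = o → k = 1

open scoped IsMulCommutative

variable {inf o : α} {p : ℕ} {K : Subgroup G}

theorem Trans.isComm (T : Trans G inf o p K) : IsMulCommutative K :=
  ⟨⟨fun a b => Subtype.ext (T.comm a a.2 b b.2)⟩⟩

theorem Trans.nsmul_eq_zero [IsMulCommutative K] (T : Trans G inf o p K) (v : Additive K) : p • v = 0 := by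
  show Additive.ofMul ((Additive.toMul v : K) ^ p) = 0
  rw [show (Additive.toMul v : K) ^ p = 1 from Subtype.ext (by
    rw [SubgroupClass.coe_pow, OneMemClass.coe_one]; exact T.exp _ (Additive.toMul v : K).2)]
  rfl

/-- The point of a translation. -/
def pt (o : α) (v : Additive K) : α := ((Additive.toMul v : K) : G) • o

theorem pt_zero (o : α) : pt (K := K) o 0 = o := one_smul G o

theorem pt_add [IsMulCommutative K] (o : α) (v w : Additive K) :
    pt o (v + w) = ((Additive.toMul v : K) : G) • pt o w := mul_smul _ _ o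

theorem Trans.pt_ne (T : Trans G inf o p K) (hne : inf ≠ o) (v : Additive K) : pt o v ≠ inf := fun e =>
  hne (MulAction.injective ((Additive.toMul v : K) : G) ((T.fix _ (Additive.toMul v : K).2).trans e.symm))

theorem Trans.pt_injective (T : Trans G inf o p K) : Function.Injective (pt (K := K) o) := by
  intro v w h
  have h1 := T.free _ (K.mul_mem (K.inv_mem (Additive.toMul w : K).2) (Additive.toMul v : K).2) (by
    rw [mul_smul]; exact inv_smul_eq_iff.2 h)
  exact Subtype.ext (inv_mul_eq_one.1 h1).symm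

theorem Trans.pt_surj (T : Trans G inf o p K) {x : α} (hx : x ≠ inf) : ∃ v : Additive K, pt o v = x := by
  obtain ⟨k, hk, hkx⟩ := T.surj x hx
  exact ⟨Additive.ofMul ⟨k, hk⟩, hkx⟩

theorem Trans.card_eq (T : Trans G inf o p K) (hne : inf ≠ o) : Nat.card (Additive K) = Fintype.card α - 1 := by
  rw [Nat.card_congr (Equiv.ofBijective (fun v : Additive K => (⟨pt o v, T.pt_ne hne v⟩ : {x : α // x ≠ inf}))
    ⟨fun v w h => T.pt_injective (congrArg Subtype.val h), fun x => by
      obtain ⟨v, hv⟩ := T.pt_surj x.2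
      exact ⟨v, Subtype.ext hv⟩⟩), Nat.card_eq_fintype_card, Fintype.card_subtype_compl, Fintype.card_subtype_eq]

/-- The two-point stabiliser as linear maps. -/
def linHom [IsMulCommutative K] [Module (ZMod p) (Additive K)] (T : Trans G inf o p K) :
    ↥(MulAction.stabilizer G inf ⊓ MulAction.stabilizer G o) →* (Additive K ≃ₗ[ZMod p] Additive K) where
  toFun h :=
    { toFun := fun v => Additive.ofMul ⟨(h : G) * (Additive.toMul v : K) * (h : G)⁻¹, T.norm _ h.2.1 _ (Additive.toMul v : K).2⟩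
      invFun := fun v => Additive.ofMul ⟨((h⁻¹ : ↥(MulAction.stabilizer G inf ⊓ MulAction.stabilizer G o)) : G) *
        (Additive.toMul v : K) * ((h⁻¹ : ↥(MulAction.stabilizer G inf ⊓ MulAction.stabilizer G o)) : G)⁻¹,
        T.norm _ h⁻¹.2.1 _ (Additive.toMul v : K).2⟩
      map_add' := fun v w => Subtype.ext (conj_mul (α := G)).symm
      map_smul' := fun c v => ZMod.map_smul
        (AddMonoidHom.mk' (fun v : Additive K => Additive.ofMul
          (⟨(h : G) * (Additive.toMul v : K) * (h : G)⁻¹, T.norm _ h.2.1 _ (Additive.toMul v : K).2⟩ : K))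
          fun v w => Subtype.ext (conj_mul (α := G)).symm) c v
      left_inv := fun v => Subtype.ext (by simp [mul_assoc])
      right_inv := fun v => Subtype.ext (by simp [mul_assoc]) }
  map_one' := LinearEquiv.ext fun v => Subtype.ext (by simp)
  map_mul' h h' := LinearEquiv.ext fun v => Subtype.ext (by simp [mul_assoc])

theorem pt_linHom [IsMulCommutative K] [Module (ZMod p) (Additive K)] (T : Trans G inf o p K)
    (h : ↥(MulAction.stabilizer G inf ⊓ MulAction.stabilizer G o)) (v : Additive K) :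
    pt o (linHom T h v) = (h : G) • pt o v := by
  show ((h : G) * (Additive.toMul v : K) * (h : G)⁻¹) • o = _
  rw [mul_smul, mul_smul, inv_smul_eq_iff.2 h.2.2.symm]
  rfl

theorem Sharp.linHom_regular [IsMulCommutative K] [Module (ZMod p) (Additive K)] (S : Sharp G)
    (T : Trans G inf o p K) (hne : inf ≠ o) {v w : Additive K} (hv : v ≠ 0) (hw : w ≠ 0) :
    ∃! h, linHom T h v = w := by
  have hvo : pt o v ≠ o := fun e => hv (T.pt_injective (e.trans (pt_zero o).symm))
  have hwo : pt o w ≠ o := fun e => hw (T.pt_injective (e.trans (pt_zero o).symm))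
  obtain ⟨g, g1, g2, g3⟩ := S.trans inf o (pt o v) inf o (pt o w) hne (T.pt_ne hne v).symm hvo.symm
    hne (T.pt_ne hne w).symm hwo.symm
  refine ⟨⟨g, g1, g2⟩, T.pt_injective (by rw [pt_linHom]; exact g3), fun h hh => ?_⟩
  refine Subtype.ext (S.eq_of hne (T.pt_ne hne v).symm hvo.symm (h.2.1.trans g1.symm) (h.2.2.trans g2.symm) ?_)
  rw [← pt_linHom T h, hh]; exact g3.symm

theorem Sharp.linHom_injective [IsMulCommutative K] [Module (ZMod p) (Additive K)] (S : Sharp G)
    (T : Trans G inf o p K) (hne : inf ≠ o) (h3 : 3 ≤ Fintype.card α) : Function.Injective (linHom T) := by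
  intro h h' e
  haveI : Nontrivial (Additive K) := by
    haveI : Finite (Additive K) := Finite.of_injective (pt (K := K) o) T.pt_injective
    exact Finite.one_lt_card_iff_nontrivial.1 (by rw [T.card_eq hne]; omega)
  obtain ⟨v, hv⟩ := exists_ne (0 : Additive K)
  exact (S.linHom_regular T hne hv (fun e0 => hv ((LinearEquiv.map_eq_zero_iff (linHom T h')).1 e0))).unique
    (by rw [e]) rfl

end CfsgLib.Perm.SharpThree
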