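import Cfsg.Agent.Perm.ZassenhausSL
import Cfsg.Agent.S3377

/-!
Insoluble groups with a fixed-point-free representation are, up to index two, `SL(2,5)` times a
metacyclic group of order prime to 30.
-/

set_option autoImplicit false
set_option linter.style.haveILetI false

namespace CfsgLib.Perm.Fpf

open Subgroup

abbrev A5 := alternatingGroup (Fin 5)

theorem card_gen_pairs :
    ((Finset.univ : Finset (A5 × A5)).filter
      fun p => p.1 ^ 3 = 1 ∧ p.2 ^ 5 = 1 ∧ (p.1 * p.2) ^ 2 = 1).card ≤ 121 := by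
  decide +kernel

theorem exists_gen_pair : ∃ a b : A5, a ^ 3 = 1 ∧ b ^ 5 = 1 ∧ (a * b) ^ 2 = 1 ∧ Subgroup.closure {a, b} = ⊤ := by
  obtain ⟨e⟩ := Cfsg.Agent.S3377.result
  refine ⟨e (PresentedGroup.of 0), e (PresentedGroup.of 1), ?_, ?_, ?_, ?_⟩
  · rw [← map_pow, EmbeddingLike.map_eq_one_iff]
    exact PresentedGroup.one_of_mem (x := FreeGroup.of (0 : Fin 2) ^ 3) (by simp)
  · rw [← map_pow, EmbeddingLike.map_eq_one_iff]
    exact PresentedGroup.one_of_mem (x := FreeGroup.of (1 : Fin 2) ^ 5) (by simp)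
  · rw [← map_mul, ← map_pow, EmbeddingLike.map_eq_one_iff]
    exact PresentedGroup.one_of_mem (x := (FreeGroup.of (0 : Fin 2) * FreeGroup.of 1) ^ 2) (by simp)
  · rw [eq_top_iff, ← Subgroup.map_top_of_surjective e.toMonoidHom e.surjective,
      ← PresentedGroup.closure_range_of, MonoidHom.map_closure]
    refine Subgroup.closure_mono ?_
    rintro _ ⟨_, ⟨i, rfl⟩, rfl⟩
    fin_cases i <;> simp

variable {G : Type*} [Group G] [Finite G]

/-- An insoluble group with a fixed-point-free representation has a normal `SL(2,5)`. -/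
theorem exists_sl25 (h : HasFpf G) (hns : ¬ Group.IsSolvable G) :
    ∃ L : Subgroup G, L.Normal ∧ ⁅L, L⁆ = L ∧ L ≠ ⊥ ∧
      Nonempty (L ≃* Matrix.SpecialLinearGroup (Fin 2) (ZMod 5)) := by
  have hns' : ¬ Group.IsSolvable (⊤ : Subgroup G) := fun h' => hns
    (Group.isSolvable_of_isSolvable_injective (f := (Subgroup.topEquiv.symm : G ≃* (⊤ : Subgroup G)).toMonoidHom)
      (MulEquiv.injective _))
  obtain ⟨L, -, hLb, hLp, hLn⟩ := exists_perfect hns'
  haveI := (Subgroup.nontrivial_iff_ne_bot L).2 hLb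
  refine ⟨L, ⟨fun n hn g => hLn g ?_ n hn⟩, hLp, hLb,
    iso_SL25_of_fpf (h.of_injective L.subtype L.subtype_injective) (perfect_subtype hLp)⟩
  rw [Subgroup.normalizer_eq_top]; trivial

/-- An element inducing the identity on a perfect central extension modulo the centre centralises it. -/
theorem commute_of_central_defect {L : Subgroup G} (hperf : commutator L = ⊤) {k : G}
    (hk : ∀ x : L, ∃ hm : k * (x : G) * k⁻¹ ∈ L, (⟨_, hm⟩ : L) * x⁻¹ ∈ Subgroup.center L) :
    ∀ x ∈ L, k * x = x * k := by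
  let d : L → Subgroup.center L := fun x => ⟨_, (hk x).2⟩
  have hd : ∀ x : L, ((d x : L) : G) = k * (x : G) * k⁻¹ * (x : G)⁻¹ := fun x => rfl
  let χ : L →* Subgroup.center L := MonoidHom.mk' d fun x y => by
    apply Subtype.ext; apply Subtype.ext
    show ((d (x * y) : L) : G) = ((d x : L) : G) * ((d y : L) : G)
    rw [hd, hd, hd, Subgroup.coe_mul]
    have hc : (x : G) * (k * (y : G) * k⁻¹ * (y : G)⁻¹) = k * (y : G) * k⁻¹ * (y : G)⁻¹ * (x : G) :=
      congrArg Subtype.val (Subgroup.mem_center_iff.1 (d y).2 x)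
    calc k * ((x : G) * y) * k⁻¹ * ((x : G) * y)⁻¹
        = k * (x : G) * k⁻¹ * (k * (y : G) * k⁻¹ * (y : G)⁻¹ * (x : G)⁻¹) := by group
      _ = k * (x : G) * k⁻¹ * ((x : G)⁻¹ * ((x : G) * (k * (y : G) * k⁻¹ * (y : G)⁻¹)) * (x : G)⁻¹) := by group
      _ = k * (x : G) * k⁻¹ * (x : G)⁻¹ * (k * (y : G) * k⁻¹ * (y : G)⁻¹) := by rw [hc]; group
  intro x hx
  haveI : IsMulCommutative (Subgroup.center L) := inferInstance
  have h1 : χ ⟨x, hx⟩ = 1 := by
    open scoped IsMulCommutative in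
    exact Abelianization.commutator_subset_ker χ (hperf ▸ Subgroup.mem_top _)
  have h2 : ((d ⟨x, hx⟩ : L) : G) = 1 := congrArg (fun t : Subgroup.center L => ((t : L) : G)) h1
  rw [hd] at h2
  exact mul_inv_eq_iff_eq_mul.1 (mul_inv_eq_one.1 h2)

/-- **The structure of insoluble groups with a fixed-point-free representation.** -/
theorem split_of_fpf (h : HasFpf G) (hns : ¬ Group.IsSolvable G) :
    ∃ L M : Subgroup G, L.Normal ∧ M.Normal ∧ (L ⊔ M).Normal ∧ ((L ⊔ M).index = 1 ∨ (L ⊔ M).index = 2) ∧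
      L ⊓ M = ⊥ ∧ (∀ s ∈ L, ∀ x ∈ M, s * x = x * s) ∧ ⁅L, L⁆ = L ∧
      Nonempty (L ≃* Matrix.SpecialLinearGroup (Fin 2) (ZMod 5)) ∧
      (∀ (p : ℕ) [Fact p.Prime] (P : Sylow p M), IsCyclic P) ∧ (Nat.card M).Coprime 30 := by
  classical
  haveI := Fact.mk Nat.prime_two
  haveI h3 : Fact (Nat.Prime 3) := ⟨by norm_num⟩
  haveI h5 : Fact (Nat.Prime 5) := ⟨by norm_num⟩
  obtain ⟨L, hLn, hLp, hLb, ⟨eL⟩⟩ := exists_sl25 h hns
  haveI := hLn
  haveI hLnt := (Subgroup.nontrivial_iff_ne_bot L).2 hLb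
  have hLc : Nat.card L = 120 := by rw [Nat.card_congr eL.toEquiv, sl25_card]
  have hLfpf : HasFpf L := h.of_injective L.subtype L.subtype_injective
  have hLperf : commutator L = ⊤ := perfect_subtype hLp
  set D := Subgroup.centralizer (L : Set G) with hD
  haveI hDn : D.Normal := by
    refine ⟨fun n hn g => Subgroup.mem_centralizer_iff.2 fun x hx => ?_⟩
    have h1 : g⁻¹ * x * g ∈ L := by simpa using hLn.conj_mem x hx g⁻¹
    calc x * (g * n * g⁻¹) = g * (g⁻¹ * x * g * n) * g⁻¹ := by group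
      _ = g * (n * (g⁻¹ * x * g)) * g⁻¹ := by rw [Subgroup.mem_centralizer_iff.1 hn _ h1]
      _ = g * n * g⁻¹ * x := by group
  have hcomm : ∀ {d x : G}, d ∈ D → x ∈ L → Commute d x := fun hd hx =>
    (Subgroup.mem_centralizer_iff.1 hd _ hx).symm
  obtain ⟨⟨z, hzL⟩, hzo⟩ := exists_prime_orderOf_dvd_card' (G := L) 2 (by rw [hLc]; norm_num)
  rw [Subgroup.orderOf_mk] at hzo
  have hzc := invol_central h hzo
  -- a central element of `L` is `1` or `z`
  have hcenter : ∀ {x : G}, x ∈ L → x ∈ D → x = 1 ∨ x = z := by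
    intro x hxL hxD
    by_contra hcon
    push Not at hcon
    have hmin : Minimal L := ⟨hLfpf, hLperf, fun K hK1 hK2 hK3 => by
      haveI := (Subgroup.nontrivial_iff_ne_bot K).2 hK2
      exact card_eq_120 (hLfpf.of_injective K.subtype K.subtype_injective) (perfect_subtype hK3), hLnt⟩
    have hzo' : orderOf (⟨z, hzL⟩ : L) = 2 := by rw [Subgroup.orderOf_mk, hzo]
    have h1 : (⟨x, hxL⟩ : L) ≠ 1 := fun e => hcon.1 (congrArg Subtype.val e)
    have h2 : (⟨x, hxL⟩ : L) ≠ ⟨z, hzL⟩ := fun e => hcon.2 (congrArg Subtype.val e)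
    haveI := hmin.cyclic_cen hzo' h1 h2
    have htop : cenOf (⟨x, hxL⟩ : L) = ⊤ := (Subgroup.eq_top_iff' _).2 fun y =>
      mem_cenOf.2 (Subtype.ext (hcomm hxD y.2).symm.eq)
    haveI : IsCyclic (⊤ : Subgroup L) := htop ▸ inferInstance
    haveI := (Subgroup.topEquiv (G := L)).isCyclic.1 inferInstance
    haveI : Group.IsSolvable L := Group.isSolvable_of_comm (fun a b => by
      letI := IsCyclic.commGroup (α := L); exact mul_comm a b)
    exact not_perfect_of_solvable hLperf
  -- no element of order 3 or 5 or 4 in `D`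
  have hodd35 : ∀ {p : ℕ}, p.Prime → p ≠ 2 → p ∣ 120 → ¬ p ∣ Nat.card D := by
    intro p hp hp2 hp120 hd
    haveI := Fact.mk hp
    obtain ⟨⟨x, hx⟩, hxo⟩ := exists_prime_orderOf_dvd_card' (G := L) p (by rw [hLc]; exact hp120)
    obtain ⟨⟨y, hy⟩, hyo⟩ := exists_prime_orderOf_dvd_card' (G := D) p hd
    rw [Subgroup.orderOf_mk] at hxo hyo
    obtain ⟨i, hi⟩ := Subgroup.mem_zpowers_iff.1 (mem_zpowers_of_commute h hp hyo hxo (hcomm hy hx))
    rcases hcenter (hi ▸ zpow_mem hx i) hy with e | e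
    · rw [e, orderOf_one] at hyo; exact hp.ne_one hyo.symm
    · rw [e, hzo] at hyo; exact hp2 hyo.symm
  have hD4 : ∀ t ∈ D, orderOf t ≠ 4 := by
    intro t ht hto
    obtain ⟨S⟩ : Nonempty (Sylow 2 L) := inferInstance
    obtain ⟨eS⟩ := sylow_card_eight hLfpf hLperf (fun K hK1 hK2 hK3 => by
      haveI := (Subgroup.nontrivial_iff_ne_bot K).2 hK2
      exact card_eq_120 (hLfpf.of_injective K.subtype K.subtype_injective) (perfect_subtype hK3)) S
    set q := ((eS.symm (QuaternionGroup.a 1) : (S : Subgroup L)) : L) with hq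
    have hqo : orderOf (q : G) = 4 := by
      rw [Subgroup.orderOf_coe, hq, Subgroup.orderOf_coe, MulEquiv.orderOf_eq, QuaternionGroup.orderOf_a_one]
    have hsq : ∀ {w : G}, orderOf w = 4 → w * w = z := fun {w} hw =>
      invol_unique h (show orderOf (w * w) = 2 by rw [← pow_two, orderOf_pow, hw]; norm_num) hzo
    have hc := hcomm ht q.2
    have h2 : (t * q) ^ 2 = 1 := by
      rw [hc.mul_pow, pow_two, pow_two, hsq hto, hsq hqo, ← hsq hto, ← pow_two, ← pow_two, ← pow_mul,
        show 2 * 2 = orderOf t by rw [hto], pow_orderOf_eq_one]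
    have htL : t ∈ L := by
      by_cases h1 : t * (q : G) = 1
      · rw [eq_inv_of_mul_eq_one_left h1]; exact inv_mem q.2
      · have := invol_unique h (orderOf_eq_prime h2 h1) hzo
        rw [eq_mul_inv_of_mul_eq this]; exact mul_mem hzL (inv_mem q.2)
    rcases hcenter htL ht with e | e
    · rw [e, orderOf_one] at hto; omega
    · rw [e, hzo] at hto; omega
  have hzD : z ∈ D := Subgroup.mem_centralizer_iff.2 fun x _ => (hzc x)
  obtain ⟨T⟩ : Nonempty (Sylow 2 D) := inferInstance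
  have hTle : ∀ x ∈ (T : Subgroup D), (x : G) ∈ Subgroup.zpowers z := by
    intro x hx
    obtain ⟨k, hk⟩ := IsPGroup.iff_orderOf.1 T.2 ⟨x, hx⟩
    rw [Subgroup.orderOf_mk] at hk
    have hk2 : k ≤ 1 := by
      by_contra hk2
      refine hD4 ((x : G) ^ (2 ^ (k - 2))) (pow_mem x.2 _) ?_
      rw [orderOf_pow, Subgroup.orderOf_coe, hk, Nat.gcd_eq_right (pow_dvd_pow 2 (Nat.sub_le k 2)),
        Nat.pow_div (Nat.sub_le k 2) two_pos, show k - (k - 2) = 2 by omega]
      norm_num
    interval_cases k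
    · rw [pow_zero, orderOf_eq_one_iff] at hk
      rw [hk]; exact one_mem _
    · rw [pow_one, ← Subgroup.orderOf_coe] at hk
      rw [invol_unique h hk hzo]; exact Subgroup.mem_zpowers z
  have hTc : IsCyclic (T : Subgroup D) := by
    refine isCyclic_of_injective
      (({ toFun := fun x => ⟨((x : D) : G), hTle _ x.2⟩, map_one' := rfl, map_mul' := fun _ _ => rfl } :
        (T : Subgroup D) →* Subgroup.zpowers z)) fun a b e => ?_
    exact Subtype.ext (Subtype.ext (congrArg (fun t : Subgroup.zpowers z => (t : G)) e))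
  have hD2 : 2 ∣ Nat.card D := hzo ▸ Subgroup.orderOf_dvd_natCard D hzD
  have hmin : (Nat.card D).minFac = 2 := by rw [Nat.minFac_eq_two_iff]; exact hD2
  have hcomp := hTc.isComplement' hmin
  set M₀ := (MonoidHom.transferSylow T (hTc.normalizer_le_centralizer hmin)).ker with hM₀
  have hTcard : Nat.card (T : Subgroup D) = 2 := by
    obtain ⟨k, hk⟩ := IsPGroup.iff_card.1 T.2
    have h1 : Nat.card (T : Subgroup D) ∣ Nat.card (Subgroup.zpowers z) := by
      rw [Nat.card_congr (Subgroup.equivMapOfInjective (T : Subgroup D) D.subtype D.subtype_injective).toEquiv]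
      exact Subgroup.card_dvd_of_le (by rintro _ ⟨x, hx, rfl⟩; exact hTle x hx)
    rw [Nat.card_zpowers, hzo] at h1
    rcases (Nat.dvd_prime Nat.prime_two).1 h1 with e | e
    · exfalso
      have := T.ne_bot_of_dvd_card hD2
      exact this (Subgroup.card_eq_one.1 e)
    · exact e
  have hM₀c : Nat.card M₀ * 2 = Nat.card D := by rw [← hTcard]; exact hcomp.card_mul
  have hM₀o : Odd (Nat.card M₀) := by
    rw [← Nat.not_even_iff_odd, even_iff_two_dvd, ← hcomp.index_eq_card]
    exact T.not_dvd_index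
  set M := M₀.map D.subtype with hMdef
  have hMD : M ≤ D := Subgroup.map_subtype_le _
  have hMc : Nat.card M = Nat.card M₀ := Subgroup.card_map_of_injective D.subtype_injective
  have hMmem : ∀ {x : G}, x ∈ M ↔ x ∈ D ∧ Odd (orderOf x) := by
    intro x
    refine ⟨fun hx => ⟨hMD hx, (hMc ▸ hM₀o : Odd (Nat.card M)).of_dvd_nat (Subgroup.orderOf_dvd_natCard M hx)⟩,
      fun ⟨hxD, hxo⟩ => ⟨⟨x, hxD⟩, ?_, rfl⟩⟩
    have hquot : orderOf (QuotientGroup.mk' M₀ (⟨x, hxD⟩ : D)) ∣ Nat.card (T : Subgroup D) := by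
      rw [← hcomp.symm.index_eq_card, Subgroup.index_eq_card]
      exact orderOf_dvd_natCard _
    have hdx : orderOf (QuotientGroup.mk' M₀ (⟨x, hxD⟩ : D)) ∣ orderOf x := by
      have := orderOf_map_dvd (QuotientGroup.mk' M₀) (⟨x, hxD⟩ : D)
      rwa [Subgroup.orderOf_mk] at this
    rw [hTcard] at hquot
    have h1 := Nat.dvd_gcd hquot hdx
    rw [Nat.coprime_two_left.2 hxo, Nat.dvd_one, orderOf_eq_one_iff] at h1
    exact (QuotientGroup.eq_one_iff _).1 h1
  haveI hMn : M.Normal := ⟨fun n hn g => hMmem.2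
    ⟨hDn.conj_mem n (hMD hn) g, by rw [← MulAut.conj_apply, MulEquiv.orderOf_eq]; exact (hMmem.1 hn).2⟩⟩
  have hLM : L ⊓ M = ⊥ := by
    rw [eq_bot_iff]
    rintro x ⟨hxL, hxM⟩
    rcases hcenter hxL (hMD hxM) with e | e
    · exact Subgroup.mem_bot.2 e
    · have := (hMmem.1 hxM).2
      rw [e, hzo] at this
      exact absurd this (by decide)
  -- the index
  have hcardLM : Nat.card (L ⊔ M : Subgroup G) = 120 * Nat.card M := by
    rw [← hLc, ← Nat.card_prod]
    refine (Nat.card_congr (Equiv.ofBijective (fun p : L × M =>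
      (⟨(p.1 : G) * p.2, mul_mem (Subgroup.mem_sup_left p.1.2) (Subgroup.mem_sup_right p.2.2)⟩ :
        (L ⊔ M : Subgroup G))) ⟨?_, ?_⟩)).symm
    · rintro ⟨⟨a, ha⟩, ⟨b, hb⟩⟩ ⟨⟨c, hc⟩, ⟨d, hd⟩⟩ e
      have e' : a * b = c * d := congrArg Subtype.val e
      have h1 : c⁻¹ * a = d * b⁻¹ := by
        rw [eq_mul_inv_iff_mul_eq, mul_assoc, e', inv_mul_cancel_left]
      have h2 : c⁻¹ * a ∈ L ⊓ M := Subgroup.mem_inf.2 ⟨mul_mem (inv_mem hc) ha, h1 ▸ mul_mem hd (inv_mem hb)⟩
      rw [hLM, Subgroup.mem_bot, inv_mul_eq_one] at h2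
      subst h2
      simp [mul_left_cancel e']
    · rintro ⟨x, hx⟩
      have hx' : x ∈ ((L ⊔ M : Subgroup G) : Set G) := hx
      rw [Subgroup.normal_mul] at hx'
      obtain ⟨a, ha, b, hb, rfl⟩ := hx'
      exact ⟨⟨⟨a, ha⟩, ⟨b, hb⟩⟩, rfl⟩
  obtain ⟨zc, π, hzo', hπs, hπk⟩ := exists_quotient_alt5 hLc hLperf (fun s t hs ht => invol_unique hLfpf hs ht)
  obtain ⟨a₀, b₀, ha₀, hb₀, hab₀, hgen⟩ := exists_gen_pair
  obtain ⟨a, rfl⟩ := hπs a₀
  obtain ⟨b, rfl⟩ := hπs b₀
  have hkc : π.ker ≤ Subgroup.center L := by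
    rw [hπk]
    exact Subgroup.zpowers_le.2 (Subgroup.mem_center_iff.2 fun g => invol_central hLfpf hzo' g)
  let c : G → L →* L := fun g => (MulAut.conjNormal g : MulAut L).toMonoidHom
  have hcv : ∀ g (x : L), ((c g x : L) : G) = g * x * g⁻¹ := fun g x => MulAut.conjNormal_apply g x
  have hπc : ∀ g, ∀ x ∈ π.ker, π (c g x) = 1 := by
    intro g x hx
    obtain ⟨i, rfl⟩ := Subgroup.mem_zpowers_iff.1 (hπk ▸ hx)
    rw [map_zpow, map_zpow]
    have : c g zc = zc := invol_unique hLfpf (by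
      show orderOf ((MulAut.conjNormal g : MulAut L) zc) = 2
      rw [MulEquiv.orderOf_eq, hzo']) hzo'
    rw [this, MonoidHom.mem_ker.1 (hπk.symm ▸ Subgroup.mem_zpowers zc : zc ∈ π.ker), one_zpow]
  set F : G ⧸ D → A5 × A5 := fun q => (π (c q.out a), π (c q.out b)) with hF
  have hFinj : Function.Injective F := by
    intro q r e
    rw [← QuotientGroup.out_eq' q, ← QuotientGroup.out_eq' r, QuotientGroup.eq]
    simp only [hF, Prod.mk.injEq] at e
    set g := q.out
    set g' := r.out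
    refine Subgroup.mem_centralizer_iff.2 fun x hx => (commute_of_central_defect hLperf ?_ x hx).symm
    intro y
    refine ⟨hLn.conj_mem _ y.2 _, hkc ?_⟩
    -- the two homomorphisms agree
    have hk : ∀ w, π (c g w) = π (c g' w) := by
      intro w
      let K : Subgroup L :=
        { carrier := {w | π (c g w) = π (c g' w)}
          one_mem' := by simp
          mul_mem' := fun {u v} (hu : π (c g u) = π (c g' u)) (hv : π (c g v) = π (c g' v)) => by
            show π (c g (u * v)) = π (c g' (u * v))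
            rw [map_mul, map_mul, map_mul, map_mul, hu, hv]
          inv_mem' := fun {u} (hu : π (c g u) = π (c g' u)) => by
            show π (c g u⁻¹) = π (c g' u⁻¹)
            rw [map_inv, map_inv, map_inv, map_inv, hu] }
      have hK : K = ⊤ := by
        have hker : π.ker ≤ K := fun v hv => by
          show π (c g v) = π (c g' v)
          rw [hπc g v hv, hπc g' v hv]
        have hmap : K.map π = ⊤ := by
          rw [eq_top_iff, ← hgen, Subgroup.closure_le]
          rintro v (rfl | rfl)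
          · exact ⟨a, e.1, rfl⟩
          · exact ⟨b, e.2, rfl⟩
        have := Subgroup.comap_map_eq π K
        rw [hmap, Subgroup.comap_top, sup_eq_left.2 hker] at this
        exact this.symm
      exact (hK ▸ Subgroup.mem_top w : w ∈ K)
    rw [MonoidHom.mem_ker, map_mul, map_inv, mul_inv_eq_one]
    have hy : (⟨(g⁻¹ * g') * (y : G) * (g⁻¹ * g')⁻¹, hLn.conj_mem _ y.2 _⟩ : L) = c g⁻¹ (c g' y) := by
      apply Subtype.ext
      rw [hcv, hcv]; group
    rw [hy]
    have h1 : c g' y * (c g y)⁻¹ ∈ π.ker := by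
      rw [MonoidHom.mem_ker, map_mul, map_inv, ← hk, mul_inv_cancel]
    have h2 := hπc g⁻¹ _ h1
    rw [map_mul, map_inv, map_mul, map_inv, mul_inv_eq_one] at h2
    rw [h2]
    congr 1
    apply Subtype.ext
    rw [hcv, hcv]; group
  have hGD : Nat.card (G ⧸ D) ≤ 121 := by
    haveI := Fintype.ofFinite (G ⧸ D)
    refine le_trans ?_ card_gen_pairs
    rw [Nat.card_eq_fintype_card, ← Finset.card_univ]
    refine Finset.card_le_card_of_injOn F (fun q _ => ?_) hFinj.injOn
    simp only [Finset.coe_filter, Finset.mem_univ, true_and, Set.mem_setOf_eq, hF]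
    refine ⟨?_, ?_, ?_⟩
    · rw [← map_pow, ← map_pow]; exact hπc _ _ (by rw [MonoidHom.mem_ker, map_pow, ha₀])
    · rw [← map_pow, ← map_pow]; exact hπc _ _ (by rw [MonoidHom.mem_ker, map_pow, hb₀])
    · rw [← map_mul, ← map_mul, ← map_pow, ← map_pow]
      exact hπc _ _ (by rw [MonoidHom.mem_ker, map_pow, map_mul, hab₀])
  refine ⟨L, M, hLn, hMn, inferInstance, ?_, hLM, fun s hs x hx => (hcomm (hMD hx) hs).symm.eq, hLp, ⟨eL⟩, ?_, ?_⟩
  · have h1 := (L ⊔ M).card_mul_index
    have h2 := D.card_mul_index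
    rw [hcardLM] at h1
    rw [Subgroup.index_eq_card, ← hM₀c, ← hMc] at h2
    have h3 : 60 * (L ⊔ M).index = Nat.card (G ⧸ D) := by
      have hpos : 0 < Nat.card M := Nat.card_pos
      have : Nat.card M * 2 * (60 * (L ⊔ M).index) = Nat.card M * 2 * Nat.card (G ⧸ D) := by
        rw [h2, ← h1]; ring
      exact Nat.eq_of_mul_eq_mul_left (by omega) this
    have := Subgroup.index_ne_zero_of_finite (H := L ⊔ M)
    omega
  · intro p hp P
    have hMo : Odd (Nat.card M) := hMc ▸ hM₀o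
    haveI := isZGroup_of_odd (h.of_injective M.subtype M.subtype_injective) hMo
    exact IsZGroup.isZGroup p hp.out P
  · have hMdvd : Nat.card M ∣ Nat.card D := Subgroup.card_dvd_of_le hMD
    have h2 : Nat.Coprime (Nat.card M) 2 := Nat.coprime_two_right.2 (hMc ▸ hM₀o)
    have h3 : Nat.Coprime (Nat.card M) 3 := ((Nat.Prime.coprime_iff_not_dvd (by norm_num)).2
      fun hd => hodd35 (by norm_num) (by norm_num) (by norm_num) (hd.trans hMdvd)).symm
    have h5 : Nat.Coprime (Nat.card M) 5 := ((Nat.Prime.coprime_iff_not_dvd (by norm_num)).2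
      fun hd => hodd35 (by norm_num) (by norm_num) (by norm_num) (hd.trans hMdvd)).symm
    have := (h2.mul_right h3).mul_right h5
    simpa using this

end CfsgLib.Perm.Fpf
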