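import Cfsg.Agent.Perm.SharplyThreePGL
import Cfsg.Agent.S0729
import Cfsg.Agent.S3361

/-!
Commutative two-point stabilisers in sharply three-transitive groups.
-/

set_option autoImplicit false
set_option linter.style.haveILetI false
set_option linter.unusedSectionVars false

namespace CfsgLib.Perm.SharpThree

open CfsgLib.Perm.Fpf CfsgLib.Perm.RegularLinear

/-- A group with central cyclic Sylow two-subgroup and an involutive automorphism with small fixed points is commutative. -/
theorem comm_of_odd_index {H : Type*} [Group H] [Finite H] (C : Subgroup H) [C.Normal] (hC : IsCyclic C)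
    (hodd : Odd C.index) (σ : MulAut H) (hσ : ∀ h, σ (σ h) = h) (hfix : ∀ g, σ g = g → g * g = 1) :
    ∀ x y : H, x * y = y * x := by
  classical
  haveI : Fact (Nat.Prime 2) := ⟨Nat.prime_two⟩
  obtain ⟨T⟩ : Nonempty (Sylow 2 H) := inferInstance
  have h2pow : ∀ t ∈ (T : Subgroup H), ∃ k, orderOf t = 2 ^ k := fun t ht => by
    obtain ⟨k, hk⟩ := IsPGroup.iff_orderOf.1 T.2 ⟨t, ht⟩
    exact ⟨k, by rwa [Subgroup.orderOf_mk] at hk⟩
  have hTC : (T : Subgroup H) ≤ C := by
    intro t ht
    obtain ⟨k, hk⟩ := h2pow t ht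
    rw [← QuotientGroup.eq_one_iff, ← orderOf_eq_one_iff]
    refine Nat.eq_one_of_dvd_coprimes ((Nat.coprime_two_left.2 hodd).pow_left k) (hk ▸ orderOf_map_dvd (QuotientGroup.mk' C) t) ?_
    rw [Subgroup.index_eq_card]
    exact orderOf_dvd_natCard _
  haveI := hC
  letI := hC.commGroup
  haveI hTn : (T : Subgroup H).Normal := by
    -- the two-elements of the abelian subgroup form a normal two-subgroup
    let B : Subgroup H :=
      { carrier := {y | y ∈ C ∧ ∃ k : ℕ, y ^ (2 ^ k) = 1}
        one_mem' := ⟨C.one_mem, 0, one_pow _⟩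
        mul_mem' := by
          rintro x y ⟨hx, i, hxi⟩ ⟨hy, k, hyk⟩
          refine ⟨C.mul_mem hx hy, i + k, ?_⟩
          have hc : Commute x y := congrArg Subtype.val (mul_comm (⟨x, hx⟩ : C) ⟨y, hy⟩)
          rw [hc.mul_pow, pow_add, pow_mul, hxi, one_pow, one_mul, mul_comm (2 ^ i), pow_mul, hyk, one_pow]
        inv_mem' := by
          rintro x ⟨hx, i, hxi⟩
          exact ⟨C.inv_mem hx, i, by rw [inv_pow, hxi, inv_one]⟩ }
    have hB : IsPGroup 2 B := fun y => by
      obtain ⟨k, hk⟩ := y.2.2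
      exact ⟨k, Subtype.ext hk⟩
    have hTB : (T : Subgroup H) ≤ B := fun t ht => by
      obtain ⟨k, hk⟩ := h2pow t ht
      exact ⟨hTC ht, k, by rw [← hk]; exact pow_orderOf_eq_one t⟩
    have hBT : B = T := T.is_maximal' hB hTB
    refine ⟨fun t ht g => ?_⟩
    rw [← hBT] at ht ⊢
    obtain ⟨h1, k, hk⟩ := ht
    exact ⟨Subgroup.Normal.conj_mem inferInstance t h1 g, k, by rw [conj_pow, hk]; simp⟩
  haveI hTcyc : IsCyclic (T : Subgroup H) := isCyclic_of_injective (Subgroup.inclusion hTC) (Subgroup.inclusion_injective hTC)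
  have hTcen : ∀ t ∈ (T : Subgroup H), ∀ g : H, g * t = t * g := by
    intro t ht g
    set c : H →* MulAut (T : Subgroup H) := MulAut.conjNormal
    have h1 : c g = 1 := by
      rw [← orderOf_eq_one_iff]
      have hCk : C ≤ c.ker := by
        intro x hx
        rw [MonoidHom.mem_ker]
        refine MulEquiv.ext fun u => Subtype.ext ?_
        show x * (u : H) * x⁻¹ = u
        have := congrArg Subtype.val (mul_comm (⟨x, hx⟩ : C) ⟨u, hTC u.2⟩)
        change x * (u : H) = (u : H) * x at this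
        rw [this, mul_inv_cancel_right]
      have h2 : orderOf (c g) ∣ C.index := by
        refine orderOf_dvd_of_pow_eq_one ?_
        rw [← map_pow, ← MonoidHom.mem_ker]
        exact hCk (C.pow_index_mem g)
      have h3 : orderOf (c g) ∣ Nat.totient (Nat.card (T : Subgroup H)) := by
        refine (orderOf_dvd_natCard (c g)).trans (dvd_of_eq ?_)
        exact IsCyclic.card_mulAut _
      obtain ⟨k, hk⟩ := IsPGroup.iff_card.1 T.2
      rcases Nat.eq_zero_or_pos k with hk0 | hk0
      · rw [hk, hk0, pow_zero, Nat.totient_one, Nat.dvd_one] at h3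
        exact h3
      rw [hk, Nat.totient_prime_pow Nat.prime_two hk0, Nat.mul_one] at h3
      exact Nat.eq_one_of_dvd_coprimes ((Nat.coprime_two_left.2 hodd).pow_left (k - 1)) h3 h2
    have h4 := congrArg Subtype.val (MulEquiv.congr_fun h1 ⟨t, ht⟩)
    change g * t * g⁻¹ = t at h4
    exact mul_inv_eq_iff_eq_mul.1 h4
  have hcop : (Nat.card (T : Subgroup H)).Coprime (T : Subgroup H).index := T.card_coprime_index
  obtain ⟨X, hX⟩ := Subgroup.exists_right_complement'_of_coprime hcop
  haveI hXn : X.Normal := ⟨fun x hx g => by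
    obtain ⟨⟨z, x'⟩, rfl⟩ := hX.2 g
    show (z : H) * x' * x * ((z : H) * x')⁻¹ ∈ X
    have e : (z : H) * x' * x * ((z : H) * x')⁻¹ = z * ((x' : H) * x * (x' : H)⁻¹) * (z : H)⁻¹ := by group
    rw [e, ← hTcen z z.2, mul_inv_cancel_right]
    exact X.mul_mem (X.mul_mem x'.2 hx) (X.inv_mem x'.2)⟩
  have hXodd : Odd (Nat.card X) := by
    rw [← hX.symm.index_eq_card, ← Nat.not_even_iff_odd, even_iff_two_dvd]
    exact T.not_dvd_index
  have hXi : X.index = Nat.card (T : Subgroup H) := hX.index_eq_card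
  have hmem : ∀ x : H, (orderOf x).Coprime X.index → x ∈ X := fun x hx => by
    obtain ⟨m, hm'⟩ := exists_pow_eq_self_of_coprime hx.symm
    rw [← hm']
    exact X.pow_mem (X.pow_index_mem x) m
  have hXσ : ∀ x ∈ X, σ x ∈ X := fun x hx => hmem _ (by
    rw [show orderOf (σ x) = orderOf x from orderOf_injective σ.toMonoidHom σ.injective x, hXi]
    obtain ⟨k, hk⟩ := IsPGroup.iff_card.1 T.2
    rw [hk]
    refine Nat.Coprime.pow_right _ ?_
    rw [Nat.coprime_two_right]
    exact hXodd.of_dvd_nat (Subgroup.orderOf_dvd_natCard X hx))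
  let τ : X →* X :=
    { toFun := fun x => ⟨σ x, hXσ x x.2⟩
      map_one' := Subtype.ext (map_one σ)
      map_mul' := fun x y => Subtype.ext (map_mul σ _ _) }
  have hτ : MonoidHom.FixedPointFree τ := fun x hx => by
    have h1 : (x : H) * x = 1 := hfix _ (congrArg Subtype.val hx)
    refine orderOf_eq_one_iff.1 (Nat.eq_one_of_dvd_coprimes (Nat.coprime_two_left.2 hXodd) ?_ (orderOf_dvd_natCard x))
    exact orderOf_dvd_of_pow_eq_one (Subtype.ext (by rw [pow_two]; exact h1))
  have hXc : ∀ x y : X, Commute x y := hτ.commute_all_of_involutive fun x => Subtype.ext (hσ x)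
  intro a b
  obtain ⟨⟨z, x⟩, rfl⟩ := hX.2 a
  obtain ⟨⟨w, y⟩, rfl⟩ := hX.2 b
  have hxy : (x : H) * y = y * x := congrArg Subtype.val (hXc x y).eq
  show (z : H) * x * ((w : H) * y) = (w : H) * y * ((z : H) * x)
  calc (z : H) * x * ((w : H) * y) = z * ((x : H) * w) * y := by group
    _ = z * ((w : H) * x) * y := by rw [hTcen w w.2]
    _ = (z : H) * w * (x * y) := by group
    _ = (w : H) * z * (y * x) := by rw [hTcen w w.2 z, hxy]
    _ = w * ((z : H) * y) * x := by group
    _ = w * ((y : H) * z) * x := by rw [← hTcen z z.2]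
    _ = (w : H) * y * ((z : H) * x) := by group

/-- A semilinear regular group of odd dimension has a cyclic normal subgroup of odd index. -/
theorem exists_cyclic_odd_index {p f : ℕ} [Fact p.Prime] (hf : Odd f) {V : Type*} [AddCommGroup V]
    [Module (ZMod p) V] [Finite V] (hV : Nat.card V = p ^ f) (H : Subgroup (V ≃ₗ[ZMod p] V))
    (hsemi : ∃ (F : Type) (_ : Field F) (_ : Fintype F) (e : V ≃+ F),
        ∀ h : H, ∃ (a : F) (σ : F ≃+* F), ∀ v : V, e ((h : V ≃ₗ[ZMod p] V) v) = a * σ (e v)) :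
    ∃ C : Subgroup H, C.Normal ∧ IsCyclic C ∧ Odd C.index := by
  classical
  obtain ⟨F, iF, iFt, e, he⟩ := hsemi
  have hF : Nat.card F = p ^ f := by rw [← hV]; exact Nat.card_congr e.symm.toEquiv
  haveI : CharP F p := by
    rw [CharP.charP_iff_prime_eq_zero Fact.out]
    have h1 : ((Fintype.card F : ℕ) : F) = 0 := Nat.cast_card_eq_zero F
    rw [← Nat.card_eq_fintype_card, hF, Nat.cast_pow] at h1
    exact eq_zero_of_pow_eq_zero h1
  letI : Algebra (ZMod p) F := ZMod.algebra F p
  have hrank : Module.finrank (ZMod p) F = f := by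
    have h1 := Module.natCard_eq_pow_finrank (K := ZMod p) (V := F)
    rw [Nat.card_zmod, hF] at h1
    exact (Nat.pow_right_injective (Fact.out : p.Prime).two_le h1).symm
  choose a σ hσ using he
  haveI : Finite (V ≃ₗ[ZMod p] V) := Finite.of_injective (fun g => (g : V → V)) DFunLike.coe_injective
  have key : ∀ (h : H) (b : F) (τ : F →+* F), (∀ v, e ((h : V ≃ₗ[ZMod p] V) v) = b * τ (e v)) →
      a h = b ∧ ∀ x, σ h x = τ x := by
    intro h b τ hb
    have h1 : a h = b := by
      have := (hσ h (e.symm 1)).symm.trans (hb (e.symm 1))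
      simpa using this
    refine ⟨h1, fun x => ?_⟩
    have h2 := (hσ h (e.symm x)).symm.trans (hb (e.symm x))
    rw [e.apply_symm_apply, h1] at h2
    refine mul_left_cancel₀ (fun hb0 : b = 0 => ?_) h2
    have h3 := hb ((h⁻¹ : H).1 (e.symm 1))
    rw [hb0, zero_mul] at h3
    have h4 : (h : V ≃ₗ[ZMod p] V) ((h⁻¹ : H).1 (e.symm 1)) = e.symm 1 :=
      (h : V ≃ₗ[ZMod p] V).apply_symm_apply _
    rw [h4, e.apply_symm_apply] at h3
    exact one_ne_zero h3
  have hone : ∀ x, σ 1 x = x := fun x => (key 1 1 (RingHom.id F) (fun v => by simp)).2 x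
  have hmul : ∀ g h, a (g * h) = a g * σ g (a h) ∧ ∀ x, σ (g * h) x = σ g (σ h x) := fun g h =>
    key (g * h) (a g * σ g (a h)) ((σ g).toRingHom.comp (σ h).toRingHom) (fun v => by
      show e ((g : V ≃ₗ[ZMod p] V) ((h : V ≃ₗ[ZMod p] V) v)) = a g * σ g (a h) * σ g (σ h (e v))
      rw [hσ g, hσ h, map_mul, mul_assoc])
  let θ : H →* (F ≃ₐ[ZMod p] F) :=
    { toFun := fun h => AlgEquiv.ofRingEquiv (f := σ h) (fun c => DFunLike.congr_fun
        (Subsingleton.elim ((σ h).toRingHom.comp (algebraMap (ZMod p) F)) (algebraMap (ZMod p) F)) c)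
      map_one' := AlgEquiv.ext fun x => hone x
      map_mul' := fun g h => AlgEquiv.ext fun x => (hmul g h).2 x }
  have hker : ∀ g ∈ θ.ker, ∀ x, σ g x = x := fun g hg x => AlgEquiv.congr_fun (MonoidHom.mem_ker.1 hg) x
  let α' : θ.ker →* F :=
    { toFun := fun g => a g
      map_one' := (key 1 1 (RingHom.id F) (fun v => by simp)).1
      map_mul' := fun g h => by
        show a ((g : H) * h) = a g * a h
        rw [(hmul g h).1, hker g g.2] }
  refine ⟨θ.ker, inferInstance, isCyclic_of_subgroup_isDomain α' fun g h hgh => Subtype.ext (Subtype.ext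
    (LinearEquiv.ext fun v => e.injective ?_)), ?_⟩
  · show e (((g : H) : V ≃ₗ[ZMod p] V) v) = e (((h : H) : V ≃ₗ[ZMod p] V) v)
    rw [hσ, hσ, hker g g.2, hker h h.2]
    exact congrArg (· * e v) hgh
  · have h1 : θ.ker.index ∣ f := by
      rw [Subgroup.index_ker, ← hrank, ← IsGalois.card_aut_eq_finrank (ZMod p) F]
      exact Subgroup.card_subgroup_dvd_card θ.range
    exact hf.of_dvd_nat h1

variable {α : Type*} [Fintype α] [DecidableEq α] {G : Subgroup (Equiv.Perm α)}

/-- The involution exchanging two points and fixing a third has few fixed points and acts on the two-point stabiliser. -/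
theorem Sharp.exists_swap (S : Sharp G) {inf o one : α} (h1 : inf ≠ o) (h2 : inf ≠ one) (h3 : o ≠ one) :
    ∃ (s : G) (σ : MulAut ↥(MulAction.stabilizer G inf ⊓ MulAction.stabilizer G o)),
      s • one = one ∧ s ≠ 1 ∧ (∀ h, σ (σ h) = h) ∧ (∀ h, σ h = h → s • ((h : G) • one) = (h : G) • one) ∧
      s * s = 1 := by
  obtain ⟨s, hs1, hs2, hs3⟩ := S.trans inf o one o inf one h1 h2 h3 h1.symm h3 h2
  have hss : s * s = 1 := S.free _ inf o one h1 h2 h3 (by rw [mul_smul, hs1, hs2]) (by rw [mul_smul, hs2, hs1])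
    (by rw [mul_smul, hs3, hs3])
  have hsi : s⁻¹ = s := inv_eq_of_mul_eq_one_right hss
  have hconj : ∀ h ∈ MulAction.stabilizer G inf ⊓ MulAction.stabilizer G o,
      s * h * s⁻¹ ∈ MulAction.stabilizer G inf ⊓ MulAction.stabilizer G o := by
    rintro h ⟨ha, hb⟩
    constructor
    · show (s * h * s⁻¹) • inf = inf
      rw [hsi, mul_smul, mul_smul, hs1, show h • o = o from hb, hs2]
    · show (s * h * s⁻¹) • o = o
      rw [hsi, mul_smul, mul_smul, hs2, show h • inf = inf from ha, hs1]
  let τ : ↥(MulAction.stabilizer G inf ⊓ MulAction.stabilizer G o) →* ↥(MulAction.stabilizer G inf ⊓ MulAction.stabilizer G o) :=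
    { toFun := fun h => ⟨s * h * s⁻¹, hconj h h.2⟩
      map_one' := Subtype.ext (by simp)
      map_mul' := fun x y => Subtype.ext (by simp [mul_assoc]) }
  have hττ : ∀ h, τ (τ h) = h := fun h => Subtype.ext (by
    show s * (s * (h : G) * s⁻¹) * s⁻¹ = h
    rw [show s * (s * (h : G) * s⁻¹) * s⁻¹ = s * s * h * (s * s)⁻¹ by group, hss, inv_one, mul_one, one_mul])
  refine ⟨s, τ.toMulEquiv τ (MonoidHom.ext hττ) (MonoidHom.ext hττ), hs3, fun e => h1 (by rw [← hs1, e, one_smul]),
    hττ, fun h hh => ?_, hss⟩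
  have h4 : s * (h : G) * s⁻¹ = h := congrArg Subtype.val hh
  rw [← mul_smul, mul_inv_eq_iff_eq_mul.1 h4, mul_smul, hs3]

/-- In odd degree the two-point stabiliser is commutative. -/
theorem Sharp.comm_of_odd_degree (S : Sharp G) (hodd : Odd (Fintype.card α)) {inf o one : α} (h1 : inf ≠ o)
    (h2 : inf ≠ one) (h3 : o ≠ one) :
    ∀ g h : G, g • inf = inf → g • o = o → h • inf = inf → h • o = o → g * h = h * g := by
  classical
  obtain ⟨s, σ, hs3, hs1, hσσ, hσfix, hss⟩ := S.exists_swap h1 h2 h3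
  have huniq : ∀ y, s • y = y → y = one := by
    intro y hy
    by_contra hne
    haveI : Fact (Nat.Prime 2) := ⟨Nat.prime_two⟩
    have hp : IsPGroup 2 (Subgroup.zpowers s) := IsPGroup.of_card (n := 1)
      (by rw [Nat.card_zpowers, pow_one]; exact orderOf_eq_prime (by rw [pow_two]; exact hss) hs1)
    have hm := hp.card_modEq_card_fixedPoints α
    have hfp : MulAction.fixedPoints (Subgroup.zpowers s) α = {one, y} := by
      ext z
      simp only [MulAction.mem_fixedPoints, Set.mem_insert_iff, Set.mem_singleton_iff]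
      constructor
      · intro hz
        by_contra hc
        push Not at hc
        exact hs1 (S.free s one y z (Ne.symm hne) (Ne.symm hc.1) (Ne.symm hc.2) hs3 hy (hz ⟨s, Subgroup.mem_zpowers s⟩))
      · have key : ∀ z : α, s • z = z → ∀ g : Subgroup.zpowers s, g • z = z := fun z hz g => by
          have hle : Subgroup.zpowers s ≤ MulAction.stabilizer G z := Subgroup.zpowers_le.2 (MulAction.mem_stabilizer_iff.2 hz)
          exact MulAction.mem_stabilizer_iff.1 (hle g.2)
        rintro (rfl | rfl)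
        · exact key _ hs3
        · exact key _ hy
    rw [hfp, Nat.card_coe_set_eq, Set.ncard_pair (Ne.symm hne), Nat.card_eq_fintype_card, Nat.ModEq] at hm
    obtain ⟨k, hk⟩ := hodd
    omega
  have hσ : MonoidHom.FixedPointFree σ.toMonoidHom := fun g hg =>
    Subtype.ext (S.free _ inf o one h1 h2 h3 g.2.1 g.2.2 (huniq _ (hσfix g hg)))
  have hc := hσ.commute_all_of_involutive hσσ
  intro g h hg1 hg2 hh1 hh2
  exact congrArg Subtype.val (hc ⟨g, hg1, hg2⟩ ⟨h, hh1, hh2⟩).eq

set_option synthInstance.maxHeartbeats 400000 in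
open scoped IsMulCommutative in
/-- For degree one more than an odd power of an odd prime with odd exponent the two-point stabiliser is commutative. -/
theorem Sharp.comm_of_odd_exponent (S : Sharp G) {p f : ℕ} (hp : p.Prime) (hp2 : p ≠ 2) (hf : Odd f)
    (hcard : Fintype.card α = p ^ f + 1) {inf o one : α} (h1 : inf ≠ o)
    (h2 : inf ≠ one) (h3 : o ≠ one) :
    ∀ g h : G, g • inf = inf → g • o = o → h • inf = inf → h • o = o → g * h = h * g := by
  classical
  have hf0 : f ≠ 0 := fun e => by rw [e] at hf; exact absurd hf (by decide)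
  have hp3 : 3 ≤ p := lt_of_le_of_ne hp.two_le (Ne.symm hp2)
  have hpf : p ≤ p ^ f := Nat.le_self_pow hf0 p
  obtain ⟨K, q, j, hq, hj, hc', hfix, hnorm, hcomm, hexp, hsurj, hfree⟩ := S.exists_translations h1 (by omega)
  haveI hq' := Fact.mk hq
  obtain ⟨rfl, rfl⟩ : q = p ∧ j = f := by
    have h5 : q ^ j = p ^ f := by omega
    have h6 : q = p := (Nat.prime_dvd_prime_iff_eq hq hp).1 (hq.dvd_of_dvd_pow (h5 ▸ dvd_pow_self q (by omega)))
    subst h6
    exact ⟨rfl, Nat.pow_right_injective hq.two_le h5⟩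
  have T : Trans G inf o q K := ⟨hfix, hnorm, hcomm, hexp, hsurj, hfree⟩
  haveI := T.isComm
  obtain ⟨instM⟩ : Nonempty (Module (ZMod q) (Additive K)) := ⟨AddCommGroup.zmodModule T.nsmul_eq_zero⟩
  haveI : Finite (Additive K) := Finite.of_injective (pt (K := K) o) T.pt_injective
  have hV : Nat.card (Additive K) = q ^ j := by rw [T.card_eq h1, hcard]; omega
  haveI : Nontrivial (Additive K) := Finite.one_lt_card_iff_nontrivial.1 (by omega)
  haveI : Finite (Additive K ≃ₗ[ZMod q] Additive K) := Finite.of_injective (fun g => (g : Additive K → Additive K)) DFunLike.coe_injective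
  have hinj : Function.Injective (linHom T) := S.linHom_injective T h1 (by omega)
  set R := (linHom T).range with hR
  let eR : ↥(MulAction.stabilizer G inf ⊓ MulAction.stabilizer G o) ≃* R := MonoidHom.ofInjective hinj
  have hreg : ∀ v w : Additive K, v ≠ 0 → w ≠ 0 → ∃! h : R, (h : Additive K ≃ₗ[ZMod q] Additive K) v = w := by
    intro v w hv hw
    obtain ⟨h, hh, huniq⟩ := S.linHom_regular T h1 hv hw
    refine ⟨eR h, hh, fun r hr => ?_⟩
    obtain ⟨h', rfl⟩ := eR.surjective r
    exact congrArg eR (huniq h' hr)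
  have bad : ∀ {X : Type} [Group X] (f : X →* ↥(MulAction.stabilizer G inf ⊓ MulAction.stabilizer G o))
      (_ : Function.Injective f) (x y : X), orderOf x = 3 → orderOf y = 3 → y ∉ Subgroup.zpowers x → False := by
    intro X _ f hfi x y hx hy hne
    obtain ⟨k, hk⟩ := S.unique_three h1 (u := (f x : G)) (v := (f y : G))
      (by rw [Subgroup.orderOf_coe, orderOf_injective f hfi]; exact hx)
      (by rw [Subgroup.orderOf_coe, orderOf_injective f hfi]; exact hy) (f x).2.1 (f x).2.2 (f y).2.1 (f y).2.2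
    refine hne ⟨k, hfi (Subtype.ext ?_)⟩
    simpa using hk
  have hsol : Group.IsSolvable R := by
    by_contra hns
    have hfp : HasFpf R := hasFpf_regular hreg
    obtain ⟨L, -, -, -, ⟨e⟩⟩ := exists_sl25 hfp hns
    obtain ⟨x, y, hx, hy, hne⟩ := Cfsg.Agent.S0729.sl25_pair
    exact bad (eR.symm.toMonoidHom.comp (L.subtype.comp e.symm.toMonoidHom))
      (eR.symm.injective.comp (L.subtype_injective.comp e.symm.injective)) x y hx hy hne
  obtain ⟨C, hCn, hCc, hCodd⟩ : ∃ C : Subgroup R, C.Normal ∧ IsCyclic C ∧ Odd C.index := by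
    by_cases hI : ∀ A : Subgroup R, A.Normal → IsCyclic A →
        ∃ W : Submodule (ZMod q) (Additive K), W ≠ ⊥ ∧ W ≠ ⊤ ∧
          ∀ a ∈ A, ∀ v ∈ W, ((a : R) : Additive K ≃ₗ[ZMod q] Additive K) v ∈ W
    · exfalso
      obtain ⟨-, h5, -⟩ := exceptional_data R hreg hI hsol
      rw [hV] at h5
      rw [Nat.pow_right_injective hp.two_le h5] at hf
      exact absurd hf (by decide)
    push Not at hI
    obtain ⟨A, hAn, hAc, hA⟩ := hI
    haveI := hAn
    haveI := hAc
    haveI : IsMulCommutative A := IsCyclic.isMulCommutative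
    have hirr : ∀ W : Submodule (ZMod q) (Additive K), Inv R A W → W = ⊥ ∨ W = ⊤ := fun W hW => by
      by_contra hcon
      push Not at hcon
      obtain ⟨a, ha, v, hv, hn⟩ := hA W hcon.1 hcon.2
      exact hn (hW a ha v hv)
    exact exists_cyclic_odd_index hf hV R (Cfsg.Agent.S3361.semilinear_of_irreducible R A hirr).1
  obtain ⟨s, σ, hs3, hs1, hσσ, hσfix, hss⟩ := S.exists_swap h1 h2 h3
  have hfix2 : ∀ g, σ g = g → g * g = 1 := by
    intro g hg
    by_cases hone : (g : G) • one = one
    · rw [show g = 1 from Subtype.ext (S.free _ inf o one h1 h2 h3 g.2.1 g.2.2 hone), mul_one]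
    refine Subtype.ext (S.free _ inf o one h1 h2 h3 ?_ ?_ ?_)
    · show ((g : G) * g) • inf = inf
      rw [mul_smul, g.2.1, g.2.1]
    · show ((g : G) * g) • o = o
      rw [mul_smul, g.2.2, g.2.2]
    · show ((g : G) * g) • one = one
      have h5 : s • ((g : G) • (g : G) • one) = (g : G) • (g : G) • one := by
        have := hσfix (g * g) (by rw [map_mul, hg])
        rwa [Subgroup.coe_mul, mul_smul] at this
      by_contra hne
      rw [mul_smul] at hne
      exact hs1 (S.free s one ((g : G) • one) ((g : G) • (g : G) • one) (Ne.symm hone) (Ne.symm hne)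
        (fun e => hone ((MulAction.injective (g : G) e).symm)) hs3 (hσfix g hg) h5)
  haveI := hCn
  have hcR := comm_of_odd_index C hCc hCodd ((eR.symm.trans σ).trans eR)
    (fun r => by simp [hσσ]) (fun r hr => eR.symm.injective (by
      rw [map_mul, map_one]
      exact hfix2 _ (eR.injective (by simpa using hr))))
  intro g h hg1 hg2 hh1 hh2
  refine congrArg Subtype.val (show (⟨g, hg1, hg2⟩ : ↥(MulAction.stabilizer G inf ⊓ MulAction.stabilizer G o)) * ⟨h, hh1, hh2⟩ = ⟨h, hh1, hh2⟩ * ⟨g, hg1, hg2⟩ from eR.injective ?_)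
  rw [map_mul, map_mul, hcR]

end CfsgLib.Perm.SharpThree
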