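import Cfsg.Agent.S0904
import Cfsg.Agent.Blk.ExcSylow
import Cfsg.Agent.Base.TI3.Main

/-!
Simple groups of order `p ^ a * q ^ b * r`: the automizer of the Sylow `r`-subgroup, the degree equation of
the exceptional characters of the principal `r`-block and the counting identity at an involution.
-/

set_option autoImplicit false
set_option linter.style.haveILetI false
set_option linter.unusedSectionVars false

namespace CfsgLib.Perm.SimpleOrderR

open Cfsg CfsgLib.Char CfsgLib.Blk CfsgLib.Blk.Exc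
open scoped ComplexConjugate

universe u

theorem card_centralizer_conj {G : Type u} [Group G] {a b : G} (h : IsConj a b) :
    Nat.card (Subgroup.centralizer ({a} : Set G)) = Nat.card (Subgroup.centralizer ({b} : Set G)) := by
  obtain ⟨c, rfl⟩ := isConj_iff.1 h
  refine Nat.card_congr
    { toFun := fun y => ⟨c * y.1 * c⁻¹, Subgroup.mem_centralizer_singleton_iff.2 ?_⟩
      invFun := fun y => ⟨c⁻¹ * y.1 * c, Subgroup.mem_centralizer_singleton_iff.2 ?_⟩
      left_inv := fun y => Subtype.ext (by simp [mul_assoc])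
      right_inv := fun y => Subtype.ext (by simp [mul_assoc]) }
  · have := Subgroup.mem_centralizer_singleton_iff.1 y.2
    calc c * y.1 * c⁻¹ * (c * a * c⁻¹) = c * (y.1 * a) * c⁻¹ := by group
      _ = c * (a * y.1) * c⁻¹ := by rw [this]
      _ = _ := by group
  · have := Subgroup.mem_centralizer_singleton_iff.1 y.2
    calc c⁻¹ * y.1 * c * a = c⁻¹ * (y.1 * (c * a * c⁻¹)) * c := by group
      _ = c⁻¹ * ((c * a * c⁻¹) * y.1) * c := by rw [this]
      _ = _ := by group

variable {G : Type u} [Group G] [Finite G] [IsSimpleGroup G] {r : ℕ} [hr : Fact r.Prime] (S : Sylow r G)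

/-- The standing hypotheses. -/
def SelfCent : Prop :=
  Nat.card (S : Subgroup G) = r ∧ Subgroup.centralizer (S : Set G) = (S : Subgroup G) ∧ ¬ (Nat.card G).Prime

theorem selfCent_of_card (p q a b : ℕ) (hp : p.Prime) (hq : q.Prime) (hpq : p ≠ q) (hpr : p ≠ r) (hqr : q ≠ r)
    (ha : 0 < a) (hcard : Nat.card G = p ^ a * q ^ b * r) : SelfCent S := by
  have hrp : r.Prime := hr.out
  refine ⟨?_, Cfsg.Agent.S0904.result p q r a b hp hq hpq hpr hqr hcard S, ?_⟩
  · rw [S.card_eq_multiplicity, hcard, Nat.factorization_mul (mul_ne_zero (pow_ne_zero _ hp.ne_zero)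
      (pow_ne_zero _ hq.ne_zero)) hrp.ne_zero, Finsupp.add_apply, hrp.factorization_self,
      Nat.factorization_eq_zero_of_not_dvd, zero_add, pow_one]
    intro h
    rcases hrp.dvd_mul.1 h with h | h
    · exact hpr ((Nat.prime_dvd_prime_iff_eq hrp hp).1 (hrp.dvd_of_dvd_pow h)).symm
    · exact hqr ((Nat.prime_dvd_prime_iff_eq hrp hq).1 (hrp.dvd_of_dvd_pow h)).symm
  · intro h
    have h1 : p ∣ Nat.card G := by
      rw [hcard]; exact ((dvd_pow_self p ha.ne').mul_right _).mul_right _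
    have h2 : r ∣ Nat.card G := hcard ▸ dvd_mul_left r _
    exact hpr (((Nat.prime_dvd_prime_iff_eq hp h).1 h1).trans ((Nat.prime_dvd_prime_iff_eq hrp h).1 h2).symm)

variable {S} (h : SelfCent S)

include h in
/-- The automizer of the Sylow subgroup. -/
theorem exists_automizer : ∃ e : ℕ, e ∣ r - 1 ∧ e ≠ 1 ∧ Nat.card G = r * e * Nat.card (Sylow r G) ∧
    Nat.card (Sylow r G) % r = 1 ∧
    (Subgroup.centralizer ((S : Subgroup G) : Set G)).relIndex (Subgroup.normalizer ((S : Subgroup G) : Set G)) = e := by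
  obtain ⟨hS, hC, hnp⟩ := h
  have hrp : r.Prime := hr.out
  set N := Subgroup.normalizer ((S : Subgroup G) : Set G) with hN
  have hC' : Subgroup.centralizer ((S : Subgroup G) : Set G) = (S : Subgroup G) := hC
  haveI : IsCyclic (S : Subgroup G) := isCyclic_of_prime_card hS
  refine ⟨(Subgroup.centralizer ((S : Subgroup G) : Set G)).relIndex N, ?_, ?_, ?_, ?_, rfl⟩
  · have h1 : Nat.card (S : Subgroup G).normalizerMonoidHom.range ∣ Nat.card (MulAut (S : Subgroup G)) :=
      Subgroup.card_subgroup_dvd_card _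
    rw [IsCyclic.card_mulAut, hS, Nat.totient_prime hrp, ← Subgroup.index_ker, Subgroup.normalizerMonoidHom_ker] at h1
    exact h1
  · intro h1
    have hle : N ≤ Subgroup.centralizer ((S : Subgroup G) : Set G) := Subgroup.relIndex_eq_one.1 h1
    have hcomp := MonoidHom.ker_transferSylow_isComplement' (P := S) hle
    rcases (MonoidHom.normal_ker (MonoidHom.transferSylow S hle)).eq_bot_or_eq_top with hb | ht
    · have := hcomp.card_mul
      rw [hb, Subgroup.card_bot, one_mul, hS] at this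
      exact hnp (this ▸ hrp)
    · have := hcomp.disjoint
      rw [ht, top_disjoint] at this
      have h2 := congrArg (fun K : Subgroup G => Nat.card K) this
      simp only [hS, Subgroup.card_bot] at h2
      exact hrp.ne_one h2
  · have h1 := (Subgroup.centralizer ((S : Subgroup G) : Set G)).relIndex_mul_index
      (Subgroup.centralizer_le_normalizer _ : Subgroup.centralizer ((S : Subgroup G) : Set G) ≤ N)
    have h2 := Subgroup.card_mul_index (Subgroup.centralizer ((S : Subgroup G) : Set G))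
    have h3 : Nat.card (Sylow r G) = N.index := S.card_eq_index_normalizer
    rw [← h1, hC', hS, ← h3] at h2
    rw [← h2, hC', mul_assoc]
  · have := card_sylow_modEq_one r G
    rwa [Nat.ModEq, Nat.one_mod_eq_one.2 hrp.ne_one] at this

theorem deg_ne_one (hnp : ¬ (Nat.card G).Prime) {χ : IrrCharacter G} (h1 : (χ : G → ℂ) ≠ fun _ => 1) :
    charDegree (χ : G → ℂ) ≠ 1 := by
  intro hd
  obtain ⟨g, hg⟩ := exists_ne (1 : G)
  haveI := Fintype.ofFinite G
  rcases burnside_zero_or_norm χ.2 g (by rw [hd]; exact Nat.coprime_one_left _) with h0 | h0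
  · have hall : ∀ u : G, u ≠ 1 → (χ : G → ℂ) u = 0 := by
      intro u hu
      rcases burnside_zero_or_norm χ.2 u (by rw [hd]; exact Nat.coprime_one_left _) with h | h
      · exact h
      · exact (Cfsg.Agent.S0904.scalar_false hnp χ.2 h1 hu h).elim
    have hs := irr_inner_self χ.2
    rw [classInner_def, Finset.sum_eq_single (1 : G) (fun u _ hu => by rw [hall u hu, zero_mul])
      (by simp), irr_one_eq χ.2, hd] at hs
    have h1 : (Nat.card G : ℂ) = 1 := by
      simp only [Nat.cast_one, map_one, mul_one] at hs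
      rwa [inv_eq_one] at hs
    have h2 : Nat.card G = 1 := by exact_mod_cast h1
    have := Finite.one_lt_card (α := G)
    omega
  · exact Cfsg.Agent.S0904.scalar_false hnp χ.2 h1 hg h0

/-- Numerical form of the exceptional character data. -/
structure Exc (e : ℕ) where
  t : ℕ
  card_eq : t * e = r - 1
  one_lt : 1 < t
  d : ℤ
  δ : ℤ
  sign : δ = 1 ∨ δ = -1
  X : Finset (IrrCharacter G)
  a : IrrCharacter G → ℤ
  μ : IrrCharacter G
  one_notMem : ∀ χ ∈ X, (χ : G → ℂ) ≠ fun _ => 1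
  a_ne : ∀ χ ∈ X, a χ ≠ 0
  norm : 1 + ∑ χ ∈ X, a χ ^ 2 + (t : ℤ) * d ^ 2 = (e : ℤ) + 2 * δ * d
  congr : ∀ χ ∈ X, (r : ℤ) ∣ (charDegree (χ : G → ℂ) : ℤ) - a χ
  μ_ne : (μ : G → ℂ) ≠ fun _ => 1
  not_dvd : ((t : ℂ) * d - δ) ≠ 0 → ¬ r ∣ charDegree (μ : G → ℂ)
  regular : ∀ z : G, ¬ r ∣ orderOf z →
    (((t : ℂ) * d - δ) * (μ : G → ℂ) z + (1 + ∑ χ ∈ X, (a χ : ℂ) * (χ : G → ℂ) z) = 0)
  count : ∀ z : G, ¬ r ∣ orderOf z → ∃ n : ℕ,
    (n : ℂ) * (Nat.card (Subgroup.centralizer ({z} : Set G)) : ℂ) ^ 2 =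
      (Nat.card G : ℂ) * (1 + ∑ χ ∈ X, (χ : G → ℂ) z ^ 2 * (a χ : ℂ) / (χ : G → ℂ) 1
        + ((t : ℂ) * d - δ) * (μ : G → ℂ) z ^ 2 / (μ : G → ℂ) 1)

include h in
theorem exists_exc {e : ℕ}
    (he : (Subgroup.centralizer ((S : Subgroup G) : Set G)).relIndex (Subgroup.normalizer ((S : Subgroup G) : Set G)) = e)
    (hlt : e + 1 < r) : Nonempty (Exc (G := G) (r := r) e) := by
  classical
  obtain ⟨hS, hC, hnp⟩ := h
  have hC' : Subgroup.centralizer ((S : Subgroup G) : Set G) = (S : Subgroup G) := hC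
  have hrp : r.Prime := hr.out
  haveI := Fintype.ofFinite G
  haveI : IsCyclic (S : Subgroup G) := isCyclic_of_prime_card hS
  have hab : IsMulCommutative ↥(S : Subgroup G) := inferInstance
  have hgen : ∀ y : G, y ∈ (S : Subgroup G) → y ≠ 1 → Subgroup.zpowers y = (S : Subgroup G) := by
    intro y hy hy1
    refine Subgroup.eq_of_le_of_card_ge (Subgroup.zpowers_le.2 hy) ?_
    rw [Nat.card_zpowers, hS]
    have h1 : orderOf y ∣ r := hS ▸ Subgroup.orderOf_dvd_natCard _ hy
    rcases (Nat.dvd_prime hrp).1 h1 with h1 | h1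
    · exact absurd (orderOf_eq_one_iff.1 h1) hy1
    · exact h1.ge
  have hcy : ∀ y : G, y ∈ (S : Subgroup G) → y ≠ 1 →
      Subgroup.centralizer ({y} : Set G) = Subgroup.centralizer ((S : Subgroup G) : Set G) := by
    intro y hy hy1
    rw [← hgen y hy hy1, Subgroup.zpowers_eq_closure, Subgroup.centralizer_closure]
  have hfrob : ∀ y : G, y ∈ (S : Subgroup G) → y ≠ 1 →
      Subgroup.centralizer ({y} : Set G) ⊓ Subgroup.normalizer ((S : Subgroup G) : Set G) =
        Subgroup.centralizer ((S : Subgroup G) : Set G) := fun y hy hy1 => by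
    rw [hcy y hy hy1]; exact inf_eq_left.2 (Subgroup.centralizer_le_normalizer _)
  obtain ⟨M, hM⟩ := exists_isPModular hrp
  haveI := hM.2.1.isPrime
  obtain ⟨D⟩ := Exc.exists_data S hM hab hfrob e (hS.symm ▸ hlt) he
  let one' : IrrCharacter G := ⟨_, isIrr_one⟩
  let i₀ : Fin D.t := ⟨0, lt_trans zero_lt_one D.one_lt⟩
  set XA := (Set.toFinite D.X).toFinset with hXA
  have hone : one' ∈ XA := (Set.Finite.mem_toFinset _).2 D.one_mem_X
  haveI hnt : Nontrivial (S : Subgroup G) := by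
    rw [← Finite.one_lt_card_iff_nontrivial, hS]; exact hrp.one_lt
  obtain ⟨⟨x, hx⟩, hx1'⟩ := exists_ne (1 : (S : Subgroup G))
  have hx1 : x ≠ 1 := fun e => hx1' (Subtype.ext e)
  have hpx : IsPPart r x x := by
    refine isPPart_self ⟨1, ?_⟩ hrp
    rw [pow_one, ← hS, ← hgen x hx hx1, Nat.card_zpowers]
  have hval : ∀ χ ∈ D.X, ∀ y : G, y ∈ (S : Subgroup G) → y ≠ 1 → (χ : G → ℂ) y = (D.a χ : ℂ) := by
    intro χ hχ y hy hy1
    refine D.value χ hχ.1 hχ.2 y y (isPPart_self ⟨1, ?_⟩ hrp) hy hy1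
    rw [pow_one, ← hS, ← hgen y hy hy1, Nat.card_zpowers]
  have hXsum : ∀ F : IrrCharacter G → ℂ, ∑ᶠ χ ∈ D.X, F χ = F one' + ∑ χ ∈ XA.erase one', F χ := fun F => by
    rw [finsum_mem_eq_finite_toFinset_sum _ (Set.toFinite _), Finset.add_sum_erase _ _ hone]
  have hCx : Nat.card (Subgroup.centralizer ({x} : Set G)) = r := by rw [hcy x hx hx1, hC', hS]
  -- only the principal block contributes
  have hout : ∀ χ : IrrCharacter G, χ ∉ principalBlock M G → (χ : G → ℂ) x = 0 := by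
    intro χ hχ
    haveI : Fintype ↥(Subgroup.normalizer ((S : Subgroup G) : Set G)) := Fintype.ofFinite _
    have h1 := column_orth S hab hfrob hM (y := x) (y' := x) hx hx1 hx
    have hf : (Finset.univ.filter fun n : ↥(Subgroup.normalizer ((S : Subgroup G) : Set G)) =>
        (n : G) * x * (n : G)⁻¹ = x).card = r := by
      rw [← Fintype.card_subtype, ← Nat.card_eq_fintype_card]
      refine (Nat.card_congr
        { toFun := fun n => ⟨(n.1 : G), hC'.le ((fix_iff S hfrob hx hx1 n.1).1 n.2)⟩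
          invFun := fun c => ⟨⟨c.1, Subgroup.le_normalizer c.2⟩, (fix_iff S hfrob hx hx1 _).2 (hC'.ge c.2)⟩
          left_inv := fun n => rfl
          right_inv := fun c => rfl }).trans hS
    rw [hC', hS, hf] at h1
    have h2 := second_orth x x
    rw [if_pos (IsConj.refl x), hCx] at h2
    have h3 := mul_right_cancel₀ (Nat.cast_ne_zero.2 hrp.ne_zero) h1
    rw [← Finset.sum_filter] at h3
    rw [← Finset.sum_filter_add_sum_filter_not Finset.univ (fun η : IrrCharacter G => η ∈ principalBlock M G), h3,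
      add_eq_left] at h2
    simp only [Complex.mul_conj] at h2
    rw [← Complex.ofReal_sum, Complex.ofReal_eq_zero,
      Finset.sum_eq_zero_iff_of_nonneg fun η _ => Complex.normSq_nonneg _] at h2
    exact Complex.normSq_eq_zero.1 (h2 χ (by simp [hχ]))
  -- the exceptional values add up
  have hμsum : ∑ i, conj ((D.μ i : G → ℂ) x) = (D.t : ℂ) * D.d - D.δ := by
    have h1 := second_orth x 1
    have hne : ¬ IsConj x 1 := fun hh => hx1 (isConj_one_left.1 hh)
    rw [if_neg hne] at h1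
    have h2 := congrArg conj h1
    simp only [map_sum, map_mul, map_zero, Complex.conj_conj] at h2
    have h3 : ∑ χ : IrrCharacter G, conj ((χ : G → ℂ) x) * (χ : G → ℂ) 1 =
        ∑ᶠ χ ∈ principalBlock M G, conj ((χ : G → ℂ) x) * (χ : G → ℂ) 1 := by
      rw [finsum_mem_eq_finite_toFinset_sum _ (Set.toFinite _)]
      refine (Finset.sum_subset (Finset.subset_univ _) fun χ _ hχ => ?_).symm
      rw [hout χ (fun hh => hχ ((Set.Finite.mem_toFinset _).2 hh)), map_zero, zero_mul]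
    rw [h3, D.sum_split] at h2
    rw [Finset.sum_congr rfl (g := fun i => conj ((D.μ i : G → ℂ) x) * (D.μ i₀ : G → ℂ) 1) fun i _ => by
      rw [D.regular_eq i i₀ (g := 1) (by simp [hrp.ne_one])], ← Finset.sum_mul] at h2
    rw [finsum_mem_congr rfl (g := fun χ : IrrCharacter G => (D.a χ : ℂ) * (χ : G → ℂ) 1) fun χ hχ => by
      rw [hval χ hχ x hx hx1, map_intCast]] at h2
    have h4 := D.regular_X i₀ (g := 1) (by simp [hrp.ne_one])
    refine mul_right_cancel₀ (irr_one_ne_zero (D.μ i₀).2) ?_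
    linear_combination h2 - h4
  have hdvdμ : ((D.t : ℂ) * D.d - D.δ) ≠ 0 → ¬ r ∣ charDegree (D.μ i₀ : G → ℂ) := by
    intro hne hd
    apply hne
    rw [← hμsum]
    refine Finset.sum_eq_zero fun i _ => ?_
    obtain ⟨n, ρ, hirr, hρ⟩ := (D.μ i).2
    haveI := hirr
    have hdi : charDegree (D.μ i : G → ℂ) = charDegree (D.μ i₀ : G → ℂ) := by
      have := D.regular_eq i i₀ (g := 1) (by simp [hrp.ne_one])
      rw [irr_one_eq (D.μ i).2, irr_one_eq (D.μ i₀).2] at this
      exact_mod_cast this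
    rw [← hρ, map_eq_zero]
    refine Cfsg.Agent.S0165.result ρ r 1 hrp ?_ ?_ ?_ x ?_
    · rw [pow_one, ← hS]; exact Subgroup.card_subgroup_dvd_card _
    · intro hd2
      have h2 : Nat.card (S : Subgroup G) = r ^ (Nat.card G).factorization r := S.card_eq_multiplicity
      have h3 := (hrp.pow_dvd_iff_le_factorization Nat.card_pos.ne').1 hd2
      rw [hS] at h2
      have h4 := (Nat.pow_right_injective hrp.two_le) ((pow_one r).trans h2)
      omega
    · rw [pow_one, ← charDegree_eq (n := Module.finrank ℂ (Fin n → ℂ)) (Representation.char_one ρ), hρ, hdi]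
      exact hd
    · have h5 : orderOf x = r := by rw [← Nat.card_zpowers, hgen x hx hx1, hS]
      exact dvd_of_eq h5.symm
  refine ⟨{
    t := D.t, card_eq := by rw [D.card_eq, hS], one_lt := D.one_lt, d := D.d, δ := D.δ, sign := D.sign
    X := XA.erase one', a := D.a, μ := D.μ i₀
    one_notMem := fun χ hχ e => Finset.ne_of_mem_erase hχ (Subtype.ext e)
    a_ne := fun χ hχ => by
      have hm := (Set.Finite.mem_toFinset _).1 (Finset.mem_of_mem_erase hχ)
      exact D.a_ne χ hm.1 hm.2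
    norm := by
      have h1 := D.norm_X
      rw [finsum_mem_eq_finite_toFinset_sum _ (Set.toFinite _), ← Finset.add_sum_erase _ _ hone, D.a_one, one_pow] at h1
      linarith
    congr := fun χ hχ => ?_
    μ_ne := D.one_ne i₀
    regular := fun z hz => by
      have h1 := D.regular_X i₀ hz
      rw [hXsum, D.a_one] at h1
      simpa [one'] using h1
    count := fun z hz => ?_
    not_dvd := hdvdμ }⟩
  · -- the multiplicity of the trivial character of the Sylow subgroup
    have hm := (Set.Finite.mem_toFinset _).1 (Finset.mem_of_mem_erase hχ)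
    haveI : Fintype ↥(S : Subgroup G) := Fintype.ofFinite _
    obtain ⟨k, hk⟩ := inner_char_irr (isCharacter_restrict (S : Subgroup G) (isCharacter_of_isIrr χ.2))
      (isIrr_one (G := ↥(S : Subgroup G)))
    rw [classInner_def, hS, inv_mul_eq_iff_eq_mul₀ (Nat.cast_ne_zero.2 hrp.ne_zero),
      ← Finset.add_sum_erase _ _ (Finset.mem_univ (1 : ↥(S : Subgroup G)))] at hk
    rw [Finset.sum_congr rfl (g := fun _ => (D.a χ : ℂ)) fun y hy => by
      rw [map_one, mul_one]
      exact hval χ hm y.1 y.2 fun e => Finset.ne_of_mem_erase hy (Subtype.ext e)] at hk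
    rw [Finset.sum_const, Finset.card_erase_of_mem (Finset.mem_univ _), Finset.card_univ,
      ← Nat.card_eq_fintype_card, hS, map_one, mul_one] at hk
    simp only [Subgroup.coe_one, nsmul_eq_mul, irr_one_eq χ.2] at hk
    refine ⟨(k : ℤ) - D.a χ, ?_⟩
    have h2 : ((charDegree (χ : G → ℂ) : ℤ) : ℂ) = (((r : ℤ) * ((k : ℤ) - D.a χ) + D.a χ : ℤ) : ℂ) := by
      rw [Nat.cast_sub hrp.one_le] at hk
      push_cast at hk ⊢
      linear_combination hk
    have h3 := Int.cast_injective h2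
    rw [h3]; ring
  · -- the class multiplication at `x`
    set K := Finset.univ.filter (fun u : G => IsConj z u) with hK
    set W := (K ×ˢ K).filter (fun uv : G × G => IsConj (uv.1 * uv.2) x) with hW
    have hCx : Nat.card (Subgroup.centralizer ({x} : Set G)) = r := by rw [hcy x hx hx1, hC', hS]
    have hfib : ∃ n : ℕ, W.card = n * (Subgroup.centralizer ({x} : Set G)).index := by
      refine ⟨((K ×ˢ K).filter (fun uv : G × G => uv.1 * uv.2 = x)).card, ?_⟩
      rw [Finset.card_eq_sum_card_fiberwise (f := fun uv : G × G => uv.1 * uv.2)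
        (t := Finset.univ.filter (fun y : G => IsConj x y)) (fun uv huv => by
          simp only [hW, Finset.mem_coe, Finset.mem_filter] at huv
          simp only [Finset.coe_filter, Set.mem_setOf_eq, Finset.mem_univ, true_and]
          exact huv.2.symm),
        Finset.sum_congr rfl (g := fun _ => ((K ×ˢ K).filter (fun uv : G × G => uv.1 * uv.2 = x)).card) ?_,
        Finset.sum_const, card_filter_isConj, smul_eq_mul, mul_comm]
      intro y hy
      obtain ⟨g, rfl⟩ := isConj_iff.1 (Finset.mem_filter.1 hy).2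
      refine Finset.card_bij' (fun uv _ => (g⁻¹ * uv.1 * g, g⁻¹ * uv.2 * g))
        (fun uv _ => (g * uv.1 * g⁻¹, g * uv.2 * g⁻¹)) ?_ ?_ ?_ ?_
      · intro uv huv
        simp only [hW, Finset.mem_filter, Finset.mem_product, hK, Finset.mem_univ, true_and] at huv ⊢
        obtain ⟨⟨⟨h1, h2⟩, -⟩, h3⟩ := huv
        refine ⟨⟨h1.trans (isConj_iff.2 ⟨g⁻¹, by group⟩), h2.trans (isConj_iff.2 ⟨g⁻¹, by group⟩)⟩, ?_⟩
        rw [show g⁻¹ * uv.1 * g * (g⁻¹ * uv.2 * g) = g⁻¹ * (uv.1 * uv.2) * g by group, h3]; group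
      · intro uv huv
        simp only [hW, Finset.mem_filter, Finset.mem_product, hK, Finset.mem_univ, true_and] at huv ⊢
        obtain ⟨⟨h1, h2⟩, h3⟩ := huv
        have h4 : g * uv.1 * g⁻¹ * (g * uv.2 * g⁻¹) = g * x * g⁻¹ := by rw [← h3]; group
        exact ⟨⟨⟨h1.trans (isConj_iff.2 ⟨g, rfl⟩), h2.trans (isConj_iff.2 ⟨g, rfl⟩)⟩,
          h4 ▸ isConj_iff.2 ⟨g⁻¹, by group⟩⟩, h4⟩
      · intro uv _; simp [mul_assoc]
      · intro uv _; simp [mul_assoc]
    obtain ⟨n, hn⟩ := hfib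
    -- the sum over all characters
    have hmain : ∑ χ : IrrCharacter G, centralChar (χ : G → ℂ) z * centralChar (χ : G → ℂ) z *
        (χ : G → ℂ) 1 * conj ((χ : G → ℂ) x) = (W.card : ℂ) * (r : ℂ) := by
      have h1 : ∀ χ : IrrCharacter G, centralChar (χ : G → ℂ) z * centralChar (χ : G → ℂ) z * (χ : G → ℂ) 1
          * conj ((χ : G → ℂ) x) = ∑ u ∈ K, ∑ v ∈ K, (χ : G → ℂ) (u * v) * conj ((χ : G → ℂ) x) := by
        intro χ
        rw [centralChar_mul χ.2, div_mul_cancel₀ _ (irr_one_ne_zero χ.2), Finset.sum_mul]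
        exact Finset.sum_congr rfl fun u _ => Finset.sum_mul ..
      rw [Finset.sum_congr rfl fun χ _ => h1 χ, Finset.sum_comm,
        Finset.sum_congr rfl fun u _ => Finset.sum_comm, ← Finset.sum_product']
      rw [Finset.sum_congr rfl fun uv _ => second_orth (uv.1 * uv.2) x, ← Finset.sum_filter,
        Finset.sum_congr rfl (g := fun _ => (r : ℂ)) fun uv huv => ?_, Finset.sum_const, nsmul_eq_mul]
      rw [CfsgLib.Perm.SimpleOrderR.card_centralizer_conj (Finset.mem_filter.1 huv).2, hCx]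
    set idx : ℂ := ((Subgroup.centralizer ({z} : Set G)).index : ℂ) with hidx
    have hterm : ∀ χ : IrrCharacter G, centralChar (χ : G → ℂ) z * centralChar (χ : G → ℂ) z * (χ : G → ℂ) 1
        * conj ((χ : G → ℂ) x) = idx ^ 2 * ((χ : G → ℂ) z ^ 2 * conj ((χ : G → ℂ) x) / (χ : G → ℂ) 1) := by
      intro χ
      have := irr_one_ne_zero χ.2
      rw [Cfsg.centralChar]
      field_simp
      ring
    rw [Finset.sum_congr rfl fun χ _ => hterm χ, ← Finset.mul_sum] at hmain
    have hB : ∑ χ : IrrCharacter G, (χ : G → ℂ) z ^ 2 * conj ((χ : G → ℂ) x) / (χ : G → ℂ) 1 =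
        ∑ᶠ χ ∈ principalBlock M G, (χ : G → ℂ) z ^ 2 * conj ((χ : G → ℂ) x) / (χ : G → ℂ) 1 := by
      rw [finsum_mem_eq_finite_toFinset_sum _ (Set.toFinite _)]
      refine (Finset.sum_subset (Finset.subset_univ _) fun χ _ hχ => ?_).symm
      rw [hout χ (fun hh => hχ ((Set.Finite.mem_toFinset _).2 hh)), map_zero, mul_zero, zero_div]
    refine ⟨n, ?_⟩
    rw [hB, D.sum_split] at hmain
    rw [Finset.sum_congr rfl (g := fun i => (D.μ i₀ : G → ℂ) z ^ 2 * conj ((D.μ i : G → ℂ) x) / (D.μ i₀ : G → ℂ) 1)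
        fun i _ => by rw [D.regular_eq i i₀ hz, D.regular_eq i i₀ (g := 1) (by simp [hrp.ne_one])],
      ← Finset.sum_div, ← Finset.mul_sum, hμsum, hXsum, hn] at hmain
    have hx0 : conj ((one' : G → ℂ) x) = 1 := by simp [one']
    rw [Finset.sum_congr rfl (g := fun χ : IrrCharacter G => (χ : G → ℂ) z ^ 2 * (D.a χ : ℂ) / (χ : G → ℂ) 1)
      fun χ hχ => by
        rw [hval χ ((Set.Finite.mem_toFinset _).1 (Finset.mem_of_mem_erase hχ)) x hx hx1, map_intCast]] at hmain
    simp only [one', one_pow, map_one, mul_one, div_one] at hmain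
    have hc1 := congrArg (Nat.cast : ℕ → ℂ) (Subgroup.card_mul_index (Subgroup.centralizer ({z} : Set G)))
    have hc2 := congrArg (Nat.cast : ℕ → ℂ) (Subgroup.card_mul_index (Subgroup.centralizer ({x} : Set G)))
    rw [hCx] at hc2
    push_cast at hc1 hc2 hmain
    rw [← hidx] at hc1
    have hidx0 : idx ≠ 0 := Nat.cast_ne_zero.2 Subgroup.index_ne_zero_of_finite
    apply mul_left_cancel₀ (pow_ne_zero 2 hidx0)
    linear_combination (-(Nat.card G : ℂ)) * hmain
      + (n : ℂ) * (idx * (Nat.card (Subgroup.centralizer ({z} : Set G)) : ℂ) + (Nat.card G : ℂ)) * hc1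
      - (Nat.card G : ℂ) * (n : ℂ) * hc2

theorem eq_singleton_of_sum_sq {ι : Type*} (X : Finset ι) (a : ι → ℤ) (ha : ∀ i ∈ X, a i ≠ 0)
    (h : ∑ i ∈ X, a i ^ 2 = 1) : ∃ i, X = {i} ∧ (a i = 1 ∨ a i = -1) := by
  have h1 : (X.card : ℤ) ≤ ∑ i ∈ X, a i ^ 2 := by
    rw [Finset.card_eq_sum_ones, Nat.cast_sum]
    exact Finset.sum_le_sum fun i hi => by rw [Nat.cast_one]; exact sq_pos_of_ne_zero (ha i hi)
  have h2 : X.card ≠ 0 := by
    intro h0
    rw [Finset.card_eq_zero.1 h0] at h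
    simp at h
  have h3 : X.card = 1 := by omega
  obtain ⟨i, rfl⟩ := Finset.card_eq_one.1 h3
  rw [Finset.sum_singleton] at h
  exact ⟨i, rfl, sq_eq_one_iff.1 h⟩

theorem deg_sq_lt {χ : IrrCharacter G} (h1 : (χ : G → ℂ) ≠ fun _ => 1) :
    charDegree (χ : G → ℂ) * charDegree (χ : G → ℂ) < Nat.card G := by
  classical
  haveI := Fintype.ofFinite G
  have h := sum_degree_sq (G := G)
  have h2 : ∀ η : IrrCharacter G, (η : G → ℂ) 1 ^ 2 = ((charDegree (η : G → ℂ) ^ 2 : ℕ) : ℂ) := fun η => by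
    rw [irr_one_eq η.2, Nat.cast_pow]
  rw [Finset.sum_congr rfl fun η _ => h2 η, ← Nat.cast_sum, Nat.cast_inj] at h
  rw [← sq, ← h]
  refine Finset.single_lt_sum (f := fun η : IrrCharacter G => charDegree (η : G → ℂ) ^ 2) (i := χ) (j := ⟨_, isIrr_one⟩) (fun e => h1 (congrArg Subtype.val e.symm))
    (Finset.mem_univ _) (Finset.mem_univ _) ?_ fun η _ _ => Nat.zero_le _
  exact pow_pos (charDegree_pos isIrr_one) 2

/-- The degree equation for an automizer of order two. -/
theorem two_degrees (hnp : ¬ (Nat.card G).Prime) (D : Exc (G := G) (r := r) 2) :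
    ∃ c f : ℕ, 1 < c ∧ 1 < f ∧ c ∣ Nat.card G ∧ f ∣ Nat.card G ∧ c * c < Nat.card G ∧ (f + 1 = c ∨ f = c + 1) ∧
      (c % r = 1 ∨ (c + 1) % r = 0) ∧ ¬ r ∣ f ∧
      ∀ z : G, orderOf z = 2 → ¬ r ∣ 2 → ∃ n k : ℕ, 0 < k ∧ k ≤ 2 * c ∧
        n * Nat.card (Subgroup.centralizer ({z} : Set G)) ^ 2 * (c * f) = Nat.card G * k ^ 2 := by
  classical
  haveI := Fintype.ofFinite G
  have hrp : r.Prime := hr.out
  have hnorm := D.norm
  have ht : (2 : ℤ) ≤ (D.t : ℤ) := by exact_mod_cast D.one_lt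
  have hS0 : 0 ≤ ∑ χ ∈ D.X, D.a χ ^ 2 := Finset.sum_nonneg fun _ _ => sq_nonneg _
  -- the coefficient of the exceptional character is a sign
  have hkey : ∑ χ ∈ D.X, D.a χ ^ 2 = 1 ∧ ((D.t : ℤ) * D.d - D.δ = 1 ∨ (D.t : ℤ) * D.d - D.δ = -1) ∨
      ∑ χ ∈ D.X, D.a χ ^ 2 = 0 ∧ ((D.t : ℤ) * D.d - D.δ = 2 ∨ (D.t : ℤ) * D.d - D.δ = -2) := by
    push_cast at hnorm
    rcases lt_trichotomy D.d 0 with hd | hd | hd
    · have hd2 : D.d = -1 := by rcases D.sign with e | e <;> rw [e] at hnorm <;> nlinarith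
      rw [hd2] at hnorm ⊢
      rcases D.sign with e | e <;> rw [e] at hnorm ⊢ <;> omega
    · rw [hd] at hnorm ⊢
      rcases D.sign with e | e <;> rw [e] at hnorm ⊢ <;> omega
    · have hd2 : D.d = 1 := by rcases D.sign with e | e <;> rw [e] at hnorm <;> nlinarith
      rw [hd2] at hnorm ⊢
      rcases D.sign with e | e <;> rw [e] at hnorm ⊢ <;> omega
  set f := charDegree (D.μ : G → ℂ) with hf
  set κ := (D.t : ℤ) * D.d - D.δ with hκ
  have hf1 : f ≠ 1 := deg_ne_one hnp D.μ_ne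
  have hf0 : 0 < f := charDegree_pos D.μ.2
  have hreg1 := D.regular 1 (by simp [hrp.ne_one])
  have hκC : ((D.t : ℂ) * D.d - D.δ) = (κ : ℂ) := by rw [hκ]; push_cast; ring
  rw [hκC, irr_one_eq D.μ.2, ← hf] at hreg1
  rcases hkey with ⟨hX, hκ1⟩ | ⟨hX, hκ2⟩
  swap
  · exfalso
    have hXe : D.X = ∅ := by
      by_contra hne
      obtain ⟨χ, hχ⟩ := Finset.nonempty_iff_ne_empty.2 hne
      exact D.a_ne χ hχ (sq_eq_zero_iff.1 ((Finset.sum_eq_zero_iff_of_nonneg fun _ _ => sq_nonneg _).1 hX χ hχ))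
    rw [hXe, Finset.sum_empty, add_zero] at hreg1
    have h3 : κ * (f : ℤ) + 1 = 0 := by exact_mod_cast hreg1
    rcases hκ2 with e | e <;> rw [e] at h3 <;> omega
  obtain ⟨χ, hXs, hs⟩ := eq_singleton_of_sum_sq D.X D.a D.a_ne hX
  have hχX : χ ∈ D.X := by rw [hXs]; exact Finset.mem_singleton_self _
  set c := charDegree (χ : G → ℂ) with hc
  set s := D.a χ with hsdef
  have hc1 : c ≠ 1 := deg_ne_one hnp (D.one_notMem χ hχX)
  have hc0 : 0 < c := charDegree_pos χ.2
  rw [hXs, Finset.sum_singleton, irr_one_eq χ.2, ← hc, ← hsdef] at hreg1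
  have heq : κ * (f : ℤ) + (1 + s * (c : ℤ)) = 0 := by exact_mod_cast hreg1
  refine ⟨c, f, by omega, by omega, degree_dvd_card χ.2, degree_dvd_card D.μ.2, deg_sq_lt (D.one_notMem χ hχX), ?_, ?_, D.not_dvd (by rw [hκC]; rcases hκ1 with e | e <;> simp [e]), ?_⟩
  · rcases hκ1 with e | e <;> rcases hs with e' | e' <;> rw [e, e'] at heq <;> omega
  · obtain ⟨l, hl⟩ := D.congr χ hχX
    rw [← hc, ← hsdef] at hl
    rcases hs with e | e
    · left
      have h4 : (r : ℤ) ∣ (c : ℤ) - 1 := ⟨l, by rw [← e]; exact hl⟩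
      rw [show (c : ℤ) - 1 = ((c - 1 : ℕ) : ℤ) by omega, Int.natCast_dvd_natCast] at h4
      have h5 := (Nat.modEq_iff_dvd' (show 1 ≤ c by omega)).2 h4
      rw [Nat.ModEq, Nat.one_mod_eq_one.2 hrp.ne_one] at h5
      exact h5.symm
    · right
      have h4 : (r : ℤ) ∣ ((c + 1 : ℕ) : ℤ) := ⟨l, by rw [← hl, e]; push_cast; ring⟩
      exact Nat.mod_eq_zero_of_dvd (Int.natCast_dvd_natCast.1 h4)
  intro z hz hr2
  have hzr : ¬ r ∣ orderOf z := by rw [hz]; exact hr2
  obtain ⟨n, hn⟩ := D.count z hzr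
  have hregz := D.regular z hzr
  rw [hκC, hXs, Finset.sum_singleton, ← hsdef] at hregz
  rw [hκC, hXs, Finset.sum_singleton, ← hsdef, irr_one_eq χ.2, irr_one_eq D.μ.2, ← hc, ← hf] at hn
  obtain ⟨A, hA⟩ := CfsgLib.Base.TI3.char_involution_int (isCharacter_of_isIrr χ.2) hz
  rw [hA] at hregz hn
  have hkC : ((κ : ℂ)) ^ 2 = 1 := by rcases hκ1 with e | e <;> simp [e]
  have hsC : ((s : ℂ)) ^ 2 = 1 := by rcases hs with e | e <;> simp [e]
  set N₀ := Nat.card G
  set C₀ := Nat.card (Subgroup.centralizer ({z} : Set G))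
  set B := (D.μ : G → ℂ) z
  have hcC : (c : ℂ) ≠ 0 := Nat.cast_ne_zero.2 hc0.ne'
  have hfC : (f : ℂ) ≠ 0 := Nat.cast_ne_zero.2 hf0.ne'
  field_simp at hn
  have hmain : (n : ℤ) * (C₀ : ℤ) ^ 2 * ((c : ℤ) * f) = N₀ * (-κ * s * ((c : ℤ) - A) ^ 2) := by
    have heqC : (κ : ℂ) * (f : ℂ) + (1 + (s : ℂ) * (c : ℂ)) = 0 := by exact_mod_cast heq
    have hfv : (f : ℂ) = -(κ : ℂ) * (1 + (s : ℂ) * c) := by linear_combination (κ : ℂ) * heqC - (f : ℂ) * hkC
    have hBv : B = -(κ : ℂ) * (1 + (s : ℂ) * A) := by linear_combination (κ : ℂ) * hregz - B * hkC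
    have h5 : (n : ℂ) * (C₀ : ℂ) ^ 2 * ((c : ℂ) * f) = (N₀ : ℂ) * (-κ * s * ((c : ℂ) - A) ^ 2) := by
      rw [hBv, hfv] at hn
      rw [hfv]
      linear_combination hn + (N₀ : ℂ) * ((κ : ℂ) * (c : ℂ) * (1 + (s : ℂ) * (A : ℂ)) ^ 2) * hkC
        + (N₀ : ℂ) * (κ : ℂ) * (c : ℂ) * ((A : ℂ) ^ 2 - (A : ℂ) ^ 2) * hsC
    exact_mod_cast h5
  have hle : A.natAbs ≤ c := by
    have h6 := char_norm_le (isCharacter_of_isIrr χ.2) z
    rw [hA, Complex.norm_intCast, ← hc] at h6
    have h7 : |A| ≤ (c : ℤ) := by exact_mod_cast h6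
    have := abs_le.1 h7
    omega
  refine ⟨n, ((c : ℤ) - A).natAbs, ?_, by omega, ?_⟩
  · rcases eq_or_ne ((c : ℤ) - A) 0 with h0 | h0
    · exfalso
      refine Cfsg.Agent.S0904.scalar_false hnp χ.2 (D.one_notMem χ hχX) (g := z)
        (fun e => by rw [e, orderOf_one] at hz; omega) ?_
      rw [hA, show A = (c : ℤ) by omega, ← hc]
      simp
    · omega
  · have h8 := congrArg Int.natAbs hmain
    simp only [Int.natAbs_mul, Int.natAbs_pow, Int.natAbs_natCast] at h8
    have h9 : (-κ).natAbs = 1 := by rcases hκ1 with e | e <;> simp [e]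
    have h10 : s.natAbs = 1 := by rcases hs with e' | e' <;> simp [e']
    rw [h9, h10, one_mul, one_mul] at h8
    exact h8

end CfsgLib.Perm.SimpleOrderR
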