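import Cfsg.Agent.Perm.SharplyThreeComm
import Cfsg.Agent.Perm.PrimePSLField
import Cfsg.Agent.Inv.Transfer

/-!
Recognition of `PSL(2, 2^f)` and tools for simple groups of given order.
-/

set_option autoImplicit false
set_option linter.style.haveILetI false
set_option linter.unusedSectionVars false

namespace CfsgLib.Perm.SimpleTwo

variable {G : Type*} [Group G] [Finite G] [IsSimpleGroup G]

/-- Burnside's transfer criterion. -/
theorem not_burnside {p : ℕ} [Fact p.Prime] (P : Sylow p G) (h1 : Nat.card (P : Subgroup G) ≠ 1)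
    (h2 : Nat.card (P : Subgroup G) ≠ Nat.card G) :
    ¬ Subgroup.normalizer ((P : Subgroup G) : Set G) ≤ Subgroup.centralizer ((P : Subgroup G) : Set G) := by
  intro hle
  have hc := (MonoidHom.ker_transferSylow_isComplement' P hle).card_mul
  rcases (MonoidHom.normal_ker (MonoidHom.transferSylow P hle)).eq_bot_or_eq_top with hb | hb
  · rw [hb, Subgroup.card_bot, one_mul] at hc; exact h2 hc
  · rw [hb, Subgroup.card_top] at hc
    have := Nat.card_pos (α := G)
    exact h1 (Nat.eq_of_mul_eq_mul_left this (hc.trans (mul_one _).symm))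

/-- An abelian Sylow subgroup has no element centralised by its normaliser. -/
theorem no_central_in_normalizer (hG : ¬ IsMulCommutative G) {p : ℕ} [Fact p.Prime] (P : Sylow p G)
    [IsMulCommutative (P : Subgroup G)] {y : G} (hy : y ∈ (P : Subgroup G))
    (hc : ∀ n ∈ Subgroup.normalizer ((P : Subgroup G) : Set G), n * y = y * n) : y = 1 := by
  classical
  letI : CommGroup (P : Subgroup G) := { (inferInstance : Group (P : Subgroup G)) with mul_comm := mul_comm' }
  haveI : (P : Subgroup G).FiniteIndex := inferInstance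
  have htr := CfsgLib.Inv.transfer_eq_pow_of_ctrl (P : Subgroup G) (MonoidHom.id _) hy fun k g₀ h => by
    have hyk : y ^ k ∈ (P : Subgroup G) := (P : Subgroup G).pow_mem hy k
    obtain ⟨n, hn, hne⟩ := Sylow.conj_eq_normalizer_conj_of_mem P (y ^ k) g₀ hyk h
    refine Subtype.ext ?_
    show g₀⁻¹ * y ^ k * g₀ = y ^ k
    rw [hne, mul_assoc, ← (Commute.pow_right (show Commute n y from hc n hn) k).eq, inv_mul_cancel_left]
  have hker : (MonoidHom.transfer (MonoidHom.id (P : Subgroup G))).ker = ⊤ :=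
    (MonoidHom.normal_ker _).eq_bot_or_eq_top.resolve_left fun hb => hG ⟨⟨fun a b =>
      ((MonoidHom.ker_eq_bot_iff _).1 hb) (by rw [map_mul, map_mul, mul_comm])⟩⟩
  have h1 : MonoidHom.transfer (MonoidHom.id (P : Subgroup G)) y = 1 := MonoidHom.mem_ker.1 (hker ▸ Subgroup.mem_top y)
  rw [htr] at h1
  have h2 : y ^ (P : Subgroup G).index = 1 := congrArg Subtype.val h1
  obtain ⟨k, hk⟩ := IsPGroup.iff_orderOf.1 P.2 ⟨y, hy⟩
  rw [Subgroup.orderOf_mk] at hk
  refine orderOf_eq_one_iff.1 (Nat.eq_one_of_dvd_coprimes ?_ (hk ▸ dvd_refl _ : orderOf y ∣ p ^ k) (orderOf_dvd_of_pow_eq_one h2))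
  exact Nat.Coprime.pow_left _ ((Fact.out : p.Prime).coprime_iff_not_dvd.2 P.not_dvd_index)

/-- A simple group with order not dividing `7!/2` in a suitable way has no subgroup of index at most seven. -/
theorem seven_lt_index (hG : ¬ IsMulCommutative G) (hbig : ¬ Nat.card G ∣ 720)
    (hA : 2520 < Nat.card G * 7) (hne : Nat.card G ≠ 2520) {H : Subgroup G} (hH : H ≠ ⊤) : 7 < H.index := by
  by_contra hle
  push Not at hle
  have hd := SimpleOrder.card_dvd_index_factorial hG hH
  rcases hle.lt_or_eq with h6 | h7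
  · exact hbig (hd.trans (Nat.factorial_dvd_factorial (by omega : H.index ≤ 6)))
  obtain ⟨f, hf⟩ := Cfsg.Agent.S0991.result hG H hH
  haveI : IsSimpleGroup (alternatingGroup (Fin H.index)) :=
    alternatingGroup.isSimpleGroup (by rw [Nat.card_fin]; omega)
  have hc : Nat.card (alternatingGroup (Fin H.index)) = 2520 := by
    have : Nontrivial (Fin H.index) := Fin.nontrivial_iff_two_le.2 (by omega)
    have h2 := two_mul_nat_card_alternatingGroup (α := Fin H.index)
    rw [Nat.card_perm, Nat.card_fin] at h2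
    have h5 : H.index.factorial = 5040 := by rw [h7]; rfl
    omega
  have hi := f.range.card_mul_index
  rw [hc, ← Nat.card_congr (MonoidHom.ofInjective hf).toEquiv] at hi
  have hrt : f.range ≠ ⊤ := fun e => by
    rw [e, Subgroup.index_top, mul_one] at hi; exact hne hi
  have hAc : ¬ IsMulCommutative (alternatingGroup (Fin H.index)) := SimpleOrder.not_comm (by rw [hc]; norm_num)
  have hd2 := SimpleOrder.card_dvd_index_factorial hAc hrt
  rw [hc] at hd2
  have hi6 : f.range.index ≤ 6 := by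
    by_contra h6
    nlinarith
  exact absurd (hd2.trans (Nat.factorial_dvd_factorial hi6)) (by decide)

/-- Recognition of `PSL(2, 2^f)`. -/
theorem iso_psl_char_two {f : ℕ} (hf : 1 ≤ f) (hn : Nat.card (Sylow 2 G) = 2 ^ f + 1)
    (hG : Nat.card G = (2 ^ f + 1) * 2 ^ f * (2 ^ f - 1))
    (hS : ∀ S : Sylow 2 G, Nat.card (S : Subgroup G) = 2 ^ f)
    (hC : ∀ (S : Sylow 2 G), ∀ t ∈ (S : Subgroup G), t ≠ 1 → Subgroup.centralizer ({t} : Set G) = S)
    {F : Type*} [Field F] [Fintype F] (hF : Fintype.card F = 2 ^ f) :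
    Nonempty (G ≃* Matrix.ProjectiveSpecialLinearGroup (Fin 2) F) := by
  classical
  haveI : Fact (Nat.Prime 2) := ⟨Nat.prime_two⟩
  haveI := Fintype.ofFinite (Sylow 2 G)
  have h2f : 2 ≤ 2 ^ f := Nat.le_self_pow (by omega) 2
  have hfix : ∀ (P Q : Sylow 2 G), P ≠ Q → ∀ t ∈ (P : Subgroup G), t • Q = Q → t = 1 := by
    intro P Q hPQ t ht htQ
    by_contra ht1
    obtain ⟨k, hk⟩ := IsPGroup.iff_orderOf.1 P.2 ⟨t, ht⟩
    rw [Subgroup.orderOf_mk] at hk
    have htQ' : t ∈ (Q : Subgroup G) :=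
      CfsgLib.Perm.Fpf.mem_sylow_of_normalizes Q hk (Sylow.smul_eq_iff_mem_normalizer.1 htQ)
    exact hPQ (Sylow.ext ((hC P t ht ht1).symm.trans (hC Q t htQ' ht1)))
  have hfree : ∀ (g : G) (P Q R : Sylow 2 G), P ≠ Q → P ≠ R → Q ≠ R → g • P = P → g • Q = Q → g • R = R → g = 1 := by
    intro g P Q R hPQ hPR hQR gP gQ gR
    have hinj : Function.Injective (fun t : (P : Subgroup G) => (⟨(t : G) • Q, fun e => hPQ (by
        have h1 : (t : G) • P = P := Sylow.smul_eq_iff_mem_normalizer.2 (Subgroup.le_normalizer t.2)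
        exact ((MulAction.injective (t : G)) (e.trans h1.symm)).symm)⟩ : {S : Sylow 2 G // S ≠ P})) := by
      intro t t' e
      have e' : (t : G) • Q = (t' : G) • Q := congrArg Subtype.val e
      have h1 := hfix P Q hPQ _ (mul_mem (inv_mem t'.2) t.2) (by rw [mul_smul, e', inv_smul_smul])
      exact Subtype.ext (inv_mul_eq_one.1 h1).symm
    have hbij := (Nat.bijective_iff_injective_and_card _).2 ⟨hinj, by
      rw [hS, Nat.card_eq_fintype_card, Fintype.card_subtype_compl, Fintype.card_subtype_eq, ← Nat.card_eq_fintype_card, hn]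
      omega⟩
    obtain ⟨x, hx⟩ := hbij.2 ⟨R, hPR.symm⟩
    have hxR : (x : G) • Q = R := congrArg Subtype.val hx
    have hgP := Sylow.smul_eq_iff_mem_normalizer.1 gP
    have hgx : g * x * g⁻¹ ∈ (P : Subgroup G) := (Subgroup.mem_normalizer_iff.1 hgP x).1 x.2
    have h1 : ((x : G)⁻¹ * (g * x * g⁻¹)) • Q = Q := by
      rw [mul_smul, mul_smul, mul_smul, inv_smul_eq_iff.2 gQ.symm, hxR, gR, ← hxR, inv_smul_smul]
    have h2 := inv_mul_eq_one.1 (hfix P Q hPQ _ (mul_mem (inv_mem x.2) hgx) h1)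
    have hx1 : (x : G) ≠ 1 := fun e => hQR (by rw [← hxR, e, one_smul])
    have hgC : g ∈ Subgroup.centralizer ({(x : G)} : Set G) :=
      Subgroup.mem_centralizer_singleton_iff.2 (mul_inv_eq_iff_eq_mul.1 h2.symm)
    rw [hC P x x.2 hx1] at hgC
    exact hfix P Q hPQ g hgC gQ
  have hcardα : Fintype.card (Sylow 2 G) = 2 ^ f + 1 := by rw [← Nat.card_eq_fintype_card, hn]
  have htrans : ∀ a b c a' b' c' : Sylow 2 G, a ≠ b → a ≠ c → b ≠ c → a' ≠ b' → a' ≠ c' → b' ≠ c' →
      ∃ g : G, g • a = a' ∧ g • b = b' ∧ g • c = c' := by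
    intro a b c a' b' c' h1 h2 h3 h4 h5 h6
    let x : Fin 3 ↪ Sylow 2 G := ⟨![a, b, c], SharpThree.vec_injective h1 h2 h3⟩
    have hinj : Function.Injective (fun g : G => g • x) := by
      intro g g' e
      have hh : ∀ i, (g'⁻¹ * g) • x i = x i := fun i => by
        have := congrArg (fun z : Fin 3 ↪ Sylow 2 G => z i) e
        simp only [Function.Embedding.smul_apply] at this
        rw [mul_smul, this, inv_smul_smul]
      exact (inv_mul_eq_one.1 (hfree _ a b c h1 h2 h3 (hh 0) (hh 1) (hh 2))).symm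
    have hbij := (Nat.bijective_iff_injective_and_card _).2 ⟨hinj, by
      rw [hG, Nat.card_eq_fintype_card, Fintype.card_embedding_eq, Fintype.card_fin, hcardα]
      obtain ⟨k, hk⟩ : ∃ k, 2 ^ f = k + 1 := ⟨2 ^ f - 1, by omega⟩
      rw [hk]; simp [Nat.descFactorial]; ring⟩
    obtain ⟨g, hg⟩ := hbij.2 ⟨![a', b', c'], SharpThree.vec_injective h4 h5 h6⟩
    refine ⟨g, ?_, ?_, ?_⟩
    · exact congrArg (fun z : Fin 3 ↪ Sylow 2 G => z 0) hg
    · exact congrArg (fun z : Fin 3 ↪ Sylow 2 G => z 1) hg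
    · exact congrArg (fun z : Fin 3 ↪ Sylow 2 G => z 2) hg
  set ι := MulAction.toPermHom G (Sylow 2 G)
  have hι : Function.Injective ι := by
    rw [injective_iff_map_eq_one]
    intro g hg
    obtain ⟨a, b, c, hab, hac, hbc⟩ := Fintype.two_lt_card_iff.1 (show 2 < Fintype.card (Sylow 2 G) by omega)
    exact hfree g a b c hab hac hbc (congrArg (fun σ : Equiv.Perm (Sylow 2 G) => σ a) hg)
      (congrArg (fun σ : Equiv.Perm (Sylow 2 G) => σ b) hg) (congrArg (fun σ : Equiv.Perm (Sylow 2 G) => σ c) hg)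
  have S : SharpThree.Sharp ι.range :=
    { trans := fun a b c a' b' c' h1 h2 h3 h4 h5 h6 => by
        obtain ⟨g, e1, e2, e3⟩ := htrans a b c a' b' c' h1 h2 h3 h4 h5 h6
        exact ⟨⟨ι g, g, rfl⟩, e1, e2, e3⟩
      free := fun γ a b c h1 h2 h3 ha hb hc => by
        obtain ⟨_, g, rfl⟩ := γ
        refine Subtype.ext ?_
        show ι g = 1
        rw [hfree g a b c h1 h2 h3 ha hb hc, map_one] }
  obtain ⟨a, b, c, hab, hac, hbc⟩ := Fintype.two_lt_card_iff.1 (show 2 < Fintype.card (Sylow 2 G) by omega)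
  have hodd : Odd (Fintype.card (Sylow 2 G)) := by
    rw [hcardα]
    exact Even.add_one (Nat.even_pow.2 ⟨even_two, by omega⟩)
  obtain ⟨F', iF, iFt, hF', ⟨e⟩⟩ := S.iso_PGL hab hac hbc (S.comm_of_odd_degree hodd hab hac hbc)
  have hF'c : Fintype.card F' = 2 ^ f := by omega
  have eG : G ≃* Matrix.ProjGenLinGroup (Fin 2) F' := (MonoidHom.ofInjective hι).trans e
  have hcard : Nat.card (Matrix.ProjectiveSpecialLinearGroup (Fin 2) F') =
      Nat.card (Matrix.ProjGenLinGroup (Fin 2) F') := by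
    rw [← Nat.card_congr eG.toEquiv, hG]
    have h1 := CfsgLib.Lie.ProjLine.card_PSL_two (F := F') hF'c
    have h2 : Nat.gcd 2 (2 ^ f - 1) = 1 := by
      rw [← Nat.coprime_iff_gcd_eq_one, Nat.prime_two.coprime_iff_not_dvd]
      have : 2 ∣ 2 ^ f := dvd_pow_self 2 (by omega)
      omega
    rw [h2, one_mul] at h1
    rw [h1]
    obtain ⟨k, hk⟩ : ∃ k, 2 ^ f = k + 1 := ⟨2 ^ f - 1, by omega⟩
    rw [hk, show (k + 1) ^ 2 - 1 = (k + 1 + 1) * k by
      rw [Nat.sub_eq_iff_eq_add (Nat.one_le_pow _ _ (by omega))]; ring]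
    simp; ring
  haveI : Finite (Matrix.ProjGenLinGroup (Fin 2) F') := Finite.of_equiv G eG.toEquiv
  let eP : Matrix.ProjectiveSpecialLinearGroup (Fin 2) F' ≃* Matrix.ProjGenLinGroup (Fin 2) F' :=
    MulEquiv.ofBijective Matrix.ProjectiveSpecialLinearGroup.toPGL ((Nat.bijective_iff_injective_and_card _).2
      ⟨Matrix.ProjectiveSpecialLinearGroup.toPGL_injective, hcard⟩)
  obtain ⟨i⟩ := PrimePSL.psl_congr (FiniteField.ringEquivOfCardEq (K := F') (K' := F) (by rw [hF'c, hF]))
  exact ⟨(eG.trans eP.symm).trans i⟩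

end CfsgLib.Perm.SimpleTwo
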