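import Mathlib

/-!
Elements of small support in multiply transitive groups.
-/

set_option autoImplicit false
set_option linter.style.haveILetI false

namespace CfsgLib.Perm.SmallSupport

open Equiv Equiv.Perm

variable {α : Type*} [Fintype α] [DecidableEq α] {G : Subgroup (Equiv.Perm α)} {k : ℕ}

/-- Prescribe a group element on at most `k` points. -/
theorem exists_prescribed (hG : MulAction.IsMultiplyPretransitive G α k) (hkn : k ≤ Fintype.card α)
    (P : Finset α) (hP : P.card ≤ k) (σ : Equiv.Perm α) : ∃ h ∈ G, ∀ x ∈ P, h x = σ x := by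
  obtain ⟨Q, hPQ, -, hQ⟩ := Finset.exists_subsuperset_card_eq (Finset.subset_univ P) hP hkn
  let e : Fin k ↪ α := (Q.equivFinOfCardEq hQ).symm.toEmbedding.trans (Function.Embedding.subtype _)
  haveI := hG
  obtain ⟨g, hg⟩ := MulAction.exists_smul_eq G e (e.trans σ.toEmbedding)
  refine ⟨g, g.2, fun x hx => ?_⟩
  have h1 := congrArg (fun f : Fin k ↪ α => f (Q.equivFinOfCardEq hQ ⟨x, hPQ hx⟩)) hg
  simpa [e, Subgroup.smul_def] using h1

theorem conj_congr {t h σ : Equiv.Perm α} (hh : ∀ x ∈ t.support, h x = σ x) : h * t * h⁻¹ = σ * t * σ⁻¹ := by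
  ext y
  obtain ⟨x, rfl⟩ := h.surjective y
  simp only [Perm.mul_apply, Perm.coe_inv, Equiv.symm_apply_apply]
  by_cases hx : x ∈ t.support
  · rw [hh _ (Perm.apply_mem_support.2 hx), hh x hx, Equiv.symm_apply_apply]
  · have hnot : σ.symm (h x) ∉ t.support := fun hm => by
      have h3 := hh _ hm
      rw [Equiv.apply_symm_apply] at h3
      exact hx (h.injective h3 ▸ hm)
    rw [Perm.notMem_support.1 hx, Perm.notMem_support.1 hnot, Equiv.apply_symm_apply]

/-- An element of support at most three puts the alternating group inside. -/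
theorem alternating_le_of_small (hG : MulAction.IsMultiplyPretransitive G α k) (hk : 3 ≤ k)
    (hkn : k ≤ Fintype.card α) {t : Equiv.Perm α} (ht : t ∈ G) (ht1 : t ≠ 1) (hs : t.support.card ≤ 3) :
    alternatingGroup α ≤ G := by
  have hconj : ∀ σ : Equiv.Perm α, σ * t * σ⁻¹ ∈ G := by
    intro σ
    obtain ⟨h, hh, hhx⟩ := exists_prescribed hG hkn t.support (hs.trans hk) σ
    rw [← conj_congr hhx]
    exact G.mul_mem (G.mul_mem hh ht) (G.inv_mem hh)
  have h2 : 2 ≤ t.support.card := Perm.two_le_card_support_of_ne_one ht1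
  rcases Nat.lt_or_ge t.support.card 3 with h | h
  · obtain ⟨a, b, hab, rfl⟩ := Perm.card_support_eq_two.1 (show t.support.card = 2 by omega)
    have htop : (⊤ : Subgroup (Equiv.Perm α)) ≤ G := by
      rw [← Perm.closure_isSwap, Subgroup.closure_le]
      rintro s ⟨x, y, hxy, rfl⟩
      obtain ⟨σ, hσ⟩ := isConj_iff.1 (Perm.isConj_swap hab hxy)
      rw [← hσ]
      exact hconj σ
    exact le_top.trans htop
  · have h3 : t.IsThreeCycle := card_support_eq_three_iff.1 (by omega)
    rw [← Perm.closure_three_cycles_eq_alternating, Subgroup.closure_le]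
    intro s hs'
    obtain ⟨σ, hσ⟩ := isConj_iff.1 (Perm.isConj_iff_cycleType_eq.2
      (h3.cycleType.trans (hs' : s.IsThreeCycle).cycleType.symm))
    rw [← hσ]
    exact hconj σ

/-- The commutator-type element of two agreeing conjugates. -/
theorem card_support_le {g h : Equiv.Perm α} {A P : Finset α} (hA : A ⊆ g.support)
    (hagree : ∀ x ∈ A, (h * g * h⁻¹) x = g x) (hP : P ⊆ g.support) (hPimg : ∀ x ∈ P, h x ∈ g.support) :
    ((h * g * h⁻¹) * g⁻¹).support.card + A.card + P.card ≤ 2 * g.support.card := by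
  set Γ := g.support
  set g' := h * g * h⁻¹ with hg'
  have hsub : (g' * g⁻¹).support ⊆ (Γ ∪ ((Γ \ P).image h)) \ (A.image g) := by
    intro y hy
    rw [Perm.mem_support] at hy
    refine Finset.mem_sdiff.2 ⟨?_, fun hmem => ?_⟩
    · by_contra hn
      rw [Finset.mem_union, not_or] at hn
      have h1 : g⁻¹ y = y := by
        have := Perm.notMem_support.1 hn.1
        conv_lhs => rw [← this]
        simp
      have h2 : h⁻¹ y ∉ Γ := fun hm => by
        by_cases hp : h⁻¹ y ∈ P
        · exact hn.1 (by simpa using hPimg _ hp)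
        · exact hn.2 (Finset.mem_image.2 ⟨h⁻¹ y, Finset.mem_sdiff.2 ⟨hm, hp⟩, by simp⟩)
      apply hy
      rw [Perm.mul_apply, h1, hg', Perm.mul_apply, Perm.mul_apply, Perm.notMem_support.1 h2]
      simp
    · obtain ⟨x, hx, rfl⟩ := Finset.mem_image.1 hmem
      apply hy
      rw [Perm.mul_apply, show g⁻¹ (g x) = x by simp, hagree x hx]
  have hAi : A.image g ⊆ Γ ∪ ((Γ \ P).image h) := fun y hy => by
    obtain ⟨x, hx, rfl⟩ := Finset.mem_image.1 hy
    exact Finset.mem_union_left _ (Perm.apply_mem_support.2 (hA hx))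
  have h1 := Finset.card_le_card hsub
  rw [Finset.card_sdiff_of_subset hAi, Finset.card_image_of_injective A g.injective] at h1
  have h2 := Finset.card_union_le Γ ((Γ \ P).image h)
  rw [Finset.card_image_of_injective _ h.injective, Finset.card_sdiff_of_subset hP] at h2
  have h3 := Finset.card_le_card hP
  have h4 : A.card ≤ (Γ ∪ ((Γ \ P).image h)).card := by
    rw [← Finset.card_image_of_injective A g.injective]; exact Finset.card_le_card hAi
  omega

/-- Maximal invariant sets below a bound. -/
theorem exists_exit (g : Equiv.Perm α) : ∀ s : ℕ, s ≤ g.support.card → ∃ S : Finset α, S ⊆ g.support ∧ S.card = s ∧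
    ((∀ x ∈ S, g x ∈ S) ∨ ∃ x ∈ S, g x ∉ S ∧ ∀ z ∈ S, z ≠ x → g z ∈ S) := by
  intro s
  induction s with
  | zero => exact fun _ => ⟨∅, by simp, rfl, Or.inl (by simp)⟩
  | succ s ih =>
    intro hs
    obtain ⟨S, hS, hc, h⟩ := ih (by omega)
    rcases h with h | ⟨x, hx, hxn, h⟩
    · obtain ⟨y, hy, hyn⟩ := Finset.exists_mem_notMem_of_card_lt_card (show S.card < g.support.card by omega)
      refine ⟨insert y S, Finset.insert_subset hy hS, by rw [Finset.card_insert_of_notMem hyn, hc], ?_⟩
      by_cases hgy : g y ∈ insert y S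
      · exact Or.inl fun z hz => by
          rcases Finset.mem_insert.1 hz with rfl | hz
          · exact hgy
          · exact Finset.mem_insert_of_mem (h z hz)
      · refine Or.inr ⟨y, Finset.mem_insert_self y S, hgy, fun z hz hzy => ?_⟩
        exact Finset.mem_insert_of_mem (h z ((Finset.mem_insert.1 hz).resolve_left hzy))
    · refine ⟨insert (g x) S, Finset.insert_subset (Perm.apply_mem_support.2 (hS hx)) hS,
        by rw [Finset.card_insert_of_notMem hxn, hc], ?_⟩
      by_cases hgy : g (g x) ∈ insert (g x) S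
      · exact Or.inl fun z hz => by
          rcases Finset.mem_insert.1 hz with rfl | hz
          · exact hgy
          · by_cases hzx : z = x
            · subst hzx; exact Finset.mem_insert_self _ _
            · exact Finset.mem_insert_of_mem (h z hz hzx)
      · refine Or.inr ⟨g x, Finset.mem_insert_self _ _, hgy, fun z hz hzy => ?_⟩
        have hz' := (Finset.mem_insert.1 hz).resolve_left hzy
        by_cases hzx : z = x
        · subst hzx; exact Finset.mem_insert_self _ _
        · exact Finset.mem_insert_of_mem (h z hz' hzx)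

theorem exists_smaller (hG : MulAction.IsMultiplyPretransitive G α k) (hk : 3 ≤ k) (hkn : k ≤ Fintype.card α)
    {g : Equiv.Perm α} (hg : g ∈ G) (hg1 : g ≠ 1) (h3 : 3 < g.support.card) (hsupp : g.support.card < 2 * k - 2) :
    ∃ t ∈ G, t ≠ 1 ∧ t.support.card < g.support.card := by
  set Γ := g.support
  set m := Γ.card with hm
  have fin : ∀ h ∈ G, ∀ y, (h * g * h⁻¹) y ≠ g y →
      ((h * g * h⁻¹) * g⁻¹).support.card < m → ∃ t ∈ G, t ≠ 1 ∧ t.support.card < m := fun h hh y hy hc =>
    ⟨_, G.mul_mem (G.mul_mem (G.mul_mem hh hg) (G.inv_mem hh)) (G.inv_mem hg),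
      fun e => hy (by rw [mul_inv_eq_one.1 e]), hc⟩
  have conj_val : ∀ (h : Equiv.Perm α) x, (h * g * h⁻¹) (h x) = h (g x) := fun h x => by simp
  by_cases hmk : m ≤ k
  · by_cases hmn : m = Fintype.card α
    · obtain ⟨a, ha⟩ := Finset.card_pos.1 (show 0 < Γ.card by omega)
      obtain ⟨h, hh, hhx⟩ := exists_prescribed hG hkn Finset.univ (by simp; omega) (Equiv.swap a (g a))
      have e : h = Equiv.swap a (g a) := Equiv.ext fun x => hhx x (Finset.mem_univ x)
      have hne : a ≠ g a := fun e => Perm.mem_support.1 ha e.symm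
      refine ⟨h, hh, fun e1 => ?_, ?_⟩
      · rw [e] at e1; exact hne (by simpa using Equiv.ext_iff.1 e1 (g a))
      · rw [e, Perm.card_support_swap hne]; omega
    obtain ⟨e, -, he⟩ := Finset.exists_mem_notMem_of_card_lt_card
      (show Γ.card < (Finset.univ : Finset α).card by
        have := Finset.card_le_univ Γ
        simp only [Finset.card_univ]; omega)
    obtain ⟨a, ha⟩ := Finset.card_pos.1 (show 0 < Γ.card by omega)
    set d := g a
    have hd : d ∈ Γ := Perm.apply_mem_support.2 ha
    have hde : d ≠ e := fun h => he (h ▸ hd)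
    obtain ⟨h, hh, hhx⟩ := exists_prescribed hG hkn Γ hmk (Equiv.swap d e)
    have had : a ≠ d := fun h => Perm.mem_support.1 ha h.symm
    have hhd : h d = e := by rw [hhx d hd, Equiv.swap_apply_left]
    have hfix : ∀ x ∈ Γ, x ≠ d → h x = x := fun x hx hxd => by
      rw [hhx x hx, Equiv.swap_apply_of_ne_of_ne hxd fun h : x = e => he (h ▸ hx)]
    have hga : (h * g * h⁻¹) a = e := by
      conv_lhs => rw [← hfix a ha had]
      rw [conj_val]; exact hhd
    refine fin h hh a (by rw [hga]; exact hde.symm) ?_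
    have := card_support_le (g := g) (h := h) (A := (Γ.erase d).erase a) (P := Γ.erase d)
      ((Finset.erase_subset _ _).trans (Finset.erase_subset _ _)) (fun x hx => by
        obtain ⟨hxa, hxd, hxΓ⟩ : x ≠ a ∧ x ≠ d ∧ x ∈ Γ := by simpa using hx
        conv_lhs => rw [← hfix x hxΓ hxd]
        rw [conj_val]
        exact hfix _ (Perm.apply_mem_support.2 hxΓ) fun e => hxa (g.injective e))
      (Finset.erase_subset _ _) (fun x hx => by
        obtain ⟨hxd, hxΓ⟩ : x ≠ d ∧ x ∈ Γ := by simpa using hx
        rw [hfix x hxΓ hxd]; exact hxΓ)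
    rw [Finset.card_erase_of_mem (Finset.mem_erase.2 ⟨had, ha⟩), Finset.card_erase_of_mem hd, ← hm] at this
    omega
  push Not at hmk
  -- the general construction
  have main : ∀ (S : Finset α) (x y : α), S ⊆ Γ → x ∈ S → g x ∉ S → (∀ z ∈ S, z ≠ x → g z ∈ S) →
      y ∈ Γ → y ∉ S → y ≠ g x → S.card + 1 ≤ k → m + 2 ≤ k + S.card → ∃ t ∈ G, t ≠ 1 ∧ t.support.card < m := by
    intro S x y hS hx hgx hint hy hyS hyg hc hbound
    have hgxΓ : g x ∈ Γ := Perm.apply_mem_support.2 (hS hx)
    -- enlarge the prescribed set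
    obtain ⟨P, hP0, hPΓ, hPc⟩ := Finset.exists_subsuperset_card_eq (Finset.insert_subset hgxΓ hS)
      (show (insert (g x) S).card ≤ k by rw [Finset.card_insert_of_notMem hgx]; exact hc) (show k ≤ Γ.card by omega)
    obtain ⟨h, hh, hhx⟩ := exists_prescribed hG hkn P hPc.le (Equiv.swap (g x) y)
    have hfix : ∀ z ∈ S, h z = z := fun z hz => by
      rw [hhx z (hP0 (Finset.mem_insert_of_mem hz)),
        Equiv.swap_apply_of_ne_of_ne (fun e : z = g x => hgx (by rw [← e]; exact hz))
          (fun e : z = y => hyS (by rw [← e]; exact hz))]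
    have hgy : h (g x) = y := by rw [hhx _ (hP0 (Finset.mem_insert_self _ _)), Equiv.swap_apply_left]
    refine fin h hh x (by conv_lhs => rw [← hfix x hx]
                          rw [conj_val, hgy]; exact hyg) ?_
    have := card_support_le (g := g) (h := h) (A := S.erase x) (P := P)
      ((Finset.erase_subset _ _).trans hS) (fun z hz => by
        obtain ⟨hzx, hzS⟩ : z ≠ x ∧ z ∈ S := by simpa using hz
        conv_lhs => rw [← hfix z hzS]
        rw [conj_val]
        exact hfix _ (hint z hzS hzx))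
      hPΓ (fun z hz => by
        rw [hhx z hz]
        by_cases h1 : z = g x
        · rw [h1, Equiv.swap_apply_left]; exact hy
        by_cases h2 : z = y
        · rw [h2, Equiv.swap_apply_right]; exact hgxΓ
        rw [Equiv.swap_apply_of_ne_of_ne h1 h2]; exact hPΓ hz)
    rw [Finset.card_erase_of_mem hx, hPc, ← hm] at this
    omega
  have other : ∀ (S : Finset α) (z : α), S.card + 2 ≤ m → ∃ y ∈ Γ, y ∉ S ∧ y ≠ z := fun S z hc => by
    obtain ⟨y, hy, hyn⟩ := Finset.exists_mem_notMem_of_card_lt_card
      (show (insert z S).card < Γ.card by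
        have := Finset.card_insert_le z S; omega)
    exact ⟨y, hy, fun h => hyn (Finset.mem_insert_of_mem h), fun h => hyn (h ▸ Finset.mem_insert_self _ _)⟩
  obtain ⟨S, hS, hc, hinv | ⟨x, hx, hgx, hint⟩⟩ := exists_exit g (k - 1) (show k - 1 ≤ Γ.card by omega)
  swap
  · obtain ⟨y, hy, hyS, hyg⟩ := other S (g x) (by omega)
    exact main S x y hS hx hgx hint hy hyS hyg (by omega) (by omega)
  obtain ⟨x, hx⟩ := Finset.card_pos.1 (show 0 < S.card by omega)
  have hgxne : g x ≠ x := Perm.mem_support.1 (hS hx)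
  by_cases heq : m + 3 = 2 * k
  · -- the complement and one more point
    set T := Γ \ S with hT
    have hTc : T.card = k - 2 := by rw [Finset.card_sdiff_of_subset hS, hc, ← hm]; omega
    have hTinv : ∀ z ∈ T, g z ∈ T := by
      intro z hz
      obtain ⟨hzΓ, hzS⟩ := Finset.mem_sdiff.1 hz
      refine Finset.mem_sdiff.2 ⟨Perm.apply_mem_support.2 hzΓ, fun hgz => hzS ?_⟩
      have himg : S.image g = S := Finset.eq_of_subset_of_card_le
        (fun w hw => by obtain ⟨u, hu, rfl⟩ := Finset.mem_image.1 hw; exact hinv u hu)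
        (by rw [Finset.card_image_of_injective _ g.injective])
      rw [← himg] at hgz
      obtain ⟨u, hu, he⟩ := Finset.mem_image.1 hgz
      exact g.injective he ▸ hu
    have hxT : x ∉ T := fun h => (Finset.mem_sdiff.1 h).2 hx
    obtain ⟨y, hy, hyS, hyg⟩ := other (insert x T) (g x) (by rw [Finset.card_insert_of_notMem hxT]; omega)
    refine main (insert x T) x y (Finset.insert_subset (hS hx) Finset.sdiff_subset) (Finset.mem_insert_self _ _)
      ?_ (fun z hz hzx => Finset.mem_insert_of_mem (hTinv z ((Finset.mem_insert.1 hz).resolve_left hzx)))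
      hy hyS hyg (by rw [Finset.card_insert_of_notMem hxT]; omega) (by rw [Finset.card_insert_of_notMem hxT]; omega)
    intro h
    rcases Finset.mem_insert.1 h with h | h
    · exact hgxne h
    · exact (Finset.mem_sdiff.1 h).2 (hinv x hx)
  · -- drop the image point
    obtain ⟨y, hy, hyS, -⟩ := other S (g x) (by omega)
    refine main (S.erase (g x)) x y ((Finset.erase_subset _ _).trans hS)
      (Finset.mem_erase.2 ⟨hgxne.symm, hx⟩) (Finset.notMem_erase _ _) (fun z hz hzx => ?_) hy
      (fun h => hyS (Finset.mem_of_mem_erase h)) (fun h => hyS (h ▸ hinv x hx))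
      (by rw [Finset.card_erase_of_mem (hinv x hx)]; omega) (by rw [Finset.card_erase_of_mem (hinv x hx)]; omega)
    exact Finset.mem_erase.2 ⟨fun h => hzx (g.injective h), hinv z (Finset.mem_of_mem_erase hz)⟩

theorem exists_small (hG : MulAction.IsMultiplyPretransitive G α k) (hk : 3 ≤ k) (hkn : k ≤ Fintype.card α) :
    ∀ (N : ℕ) (g : Equiv.Perm α), g.support.card ≤ N → g ∈ G → g ≠ 1 → g.support.card < 2 * k - 2 →
      ∃ h : Equiv.Perm α, h ∈ G ∧ h ≠ 1 ∧ h.support.card ≤ 3 := by
  intro N
  induction N with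
  | zero => exact fun g h0 hg hg1 _ => ⟨g, hg, hg1, by omega⟩
  | succ N ih =>
    intro g hN hg hg1 hsupp
    by_cases h3 : g.support.card ≤ 3
    · exact ⟨g, hg, hg1, h3⟩
    obtain ⟨t, ht, ht1, hlt⟩ := exists_smaller hG hk hkn hg hg1 (by omega) hsupp
    exact ih t (by omega) ht ht1 (by omega)

end CfsgLib.Perm.SmallSupport
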