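import Mathlib

/-!
Length of subnormal chains: additivity and elementary bounds.
-/

set_option autoImplicit false

namespace CfsgLib.Perm.SubnormalLength

variable {G Q : Type*} [Group G] [Group Q]

/-- An ascending chain ending at the whole group, each term normal in the next. -/
def IsChain (l : ℕ) (H : ℕ → Subgroup G) : Prop :=
  H l = ⊤ ∧ ∀ i < l, H i ≤ H (i + 1) ∧ ∀ g ∈ H (i + 1), ∀ x ∈ H i, g * x * g⁻¹ ∈ H i

open Classical in
/-- The number of proper steps. -/
noncomputable def strict (l : ℕ) (H : ℕ → Subgroup G) : ℕ :=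
  ((Finset.range l).filter fun i => H i ≠ H (i + 1)).card

/-- All subnormal chains have at most `b` proper steps. -/
def LenLe (G : Type*) [Group G] (b : ℕ) : Prop :=
  ∀ (l : ℕ) (H : ℕ → Subgroup G), IsChain l H → strict l H ≤ b

theorem LenLe.mono {a b : ℕ} (h : LenLe G a) (hab : a ≤ b) : LenLe G b := fun l H hH =>
  (h l H hH).trans hab

theorem LenLe.ext (f : G →* Q) (hf : Function.Surjective f) {a b : ℕ} (ha : LenLe f.ker a)
    (hb : LenLe Q b) : LenLe G (a + b) := by
  classical
  intro l H ⟨hl, hH⟩
  have hA : IsChain l (fun i => (H i).subgroupOf f.ker) := by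
    refine ⟨by simp [hl], fun i hi => ⟨fun x hx => (hH i hi).1 hx, fun g hg x hx => ?_⟩⟩
    exact (hH i hi).2 g hg x hx
  have hB : IsChain l (fun i => (H i).map f) := by
    refine ⟨?_, fun i hi => ⟨Subgroup.map_mono (hH i hi).1, ?_⟩⟩
    · simp only [hl]; exact Subgroup.map_top_of_surjective f hf
    · rintro _ ⟨g, hg, rfl⟩ _ ⟨x, hx, rfl⟩
      exact ⟨g * x * g⁻¹, (hH i hi).2 g hg x hx, by simp⟩
  have hsub : ((Finset.range l).filter fun i => H i ≠ H (i + 1)) ⊆
      ((Finset.range l).filter fun i => (H i).subgroupOf f.ker ≠ (H (i + 1)).subgroupOf f.ker) ∪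
      ((Finset.range l).filter fun i => (H i).map f ≠ (H (i + 1)).map f) := by
    intro i hi
    rw [Finset.mem_filter] at hi
    rw [Finset.mem_union, Finset.mem_filter, Finset.mem_filter]
    by_contra hc
    push Not at hc
    obtain ⟨e1, e2⟩ := hc
    have e1 := e1 hi.1
    have e2 := e2 hi.1
    refine hi.2 (le_antisymm (hH i (Finset.mem_range.1 hi.1)).1 fun x hx => ?_)
    obtain ⟨y, hy, hyx⟩ : f x ∈ (H i).map f := e2 ▸ Subgroup.mem_map_of_mem f hx
    have hker : y⁻¹ * x ∈ f.ker := by simp [MonoidHom.mem_ker, hyx]
    have : (⟨_, hker⟩ : f.ker) ∈ (H i).subgroupOf f.ker := by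
      rw [e1]
      exact mul_mem (inv_mem ((hH i (Finset.mem_range.1 hi.1)).1 hy)) hx
    have := mul_mem hy (show y⁻¹ * x ∈ H i from this)
    rwa [mul_inv_cancel_left] at this
  calc strict l H ≤ _ := Finset.card_le_card hsub
    _ ≤ _ := Finset.card_union_le _ _
    _ ≤ a + b := add_le_add (ha l _ hA) (hb l _ hB)

theorem LenLe.of_surjective (f : G →* Q) (hf : Function.Surjective f) {b : ℕ} (h : LenLe G b) :
    LenLe Q b := by
  classical
  intro l H ⟨hl, hH⟩
  refine le_trans (le_of_eq ?_) (h l (fun i => (H i).comap f) ⟨by simp [hl], fun i hi =>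
    ⟨Subgroup.comap_mono (hH i hi).1, fun g hg x hx => by
      simpa using (hH i hi).2 (f g) hg (f x) hx⟩⟩)
  unfold strict
  congr 1
  refine Finset.filter_congr fun i _ => ?_
  exact (Subgroup.comap_injective hf).ne_iff.symm

theorem LenLe.of_equiv (e : G ≃* Q) {b : ℕ} (h : LenLe G b) : LenLe Q b :=
  h.of_surjective e.toMonoidHom e.surjective

theorem LenLe.quotient_lt (f : G →* Q) (hf : Function.Surjective f) (hk : f.ker ≠ ⊥) {b : ℕ}
    (h : LenLe G b) : 1 ≤ b ∧ LenLe Q (b - 1) := by
  classical
  have key : ∀ (l : ℕ) (H : ℕ → Subgroup Q), IsChain l H → strict l H + 1 ≤ b := by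
    intro l H ⟨hl, hH⟩
    let K : ℕ → Subgroup G := fun i => Nat.casesOn i ⊥ (fun j => (H j).comap f)
    have hK : IsChain (l + 1) K := by
      refine ⟨by simp [K, hl], fun i hi => ?_⟩
      rcases i with _ | j
      · exact ⟨bot_le, fun g _ x hx => by simp [Subgroup.mem_bot.1 hx, K]⟩
      · exact ⟨Subgroup.comap_mono (hH j (by omega)).1, fun g hg x hx => by
          simpa [K] using (hH j (by omega)).2 (f g) hg (f x) hx⟩
    have h0 : K 0 ≠ K 1 := fun e => hk (le_bot_iff.1 fun x hx => by
      change x ∈ K 0
      rw [e]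
      change f x ∈ H 0
      rw [MonoidHom.mem_ker.1 hx]
      exact one_mem _)
    refine le_trans ?_ (h _ K hK)
    unfold strict
    rw [← Finset.card_image_of_injective _ Nat.succ_injective,
      ← Finset.card_insert_of_notMem (a := 0) (by simp)]
    refine Finset.card_le_card fun i hi => ?_
    rcases i with _ | j
    · simp [h0]
    · simp at hi
      simp [K, (Subgroup.comap_injective hf).ne_iff, hi]
  refine ⟨?_, fun l H hH => ?_⟩
  · have := key 0 (fun _ => ⊤) ⟨rfl, fun i hi => absurd hi (Nat.not_lt_zero i)⟩
    omega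
  · have := key l H hH
    omega

theorem lenLe_of_subsingleton [Subsingleton G] (b : ℕ) : LenLe G b := by
  intro l H _
  have h : ∀ A B : Subgroup G, A = B := fun A B => by
    ext x; rw [Subsingleton.elim x 1]; simp
  have e : strict l H = 0 := by
    simp only [strict, Finset.card_eq_zero, Finset.filter_eq_empty_iff, not_not]
    exact fun i _ => h _ _
  omega

theorem lenLe_simple [IsSimpleGroup G] : LenLe G 1 := by
  classical
  intro l
  induction l with
  | zero => intro H _; simp [strict]
  | succ l ih =>
    intro H ⟨hl, hH⟩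
    by_cases he : H l = H (l + 1)
    · have : strict (l + 1) H = strict l H := by
        simp [strict, Finset.range_add_one, Finset.filter_insert, he]
      rw [this]
      exact ih H ⟨he.trans hl, fun i hi => hH i (by omega)⟩
    · have hn : (H l).Normal := ⟨fun x hx g => (hH l (by omega)).2 g (by simp [hl]) x hx⟩
      have hb : H l = ⊥ := (IsSimpleGroup.eq_bot_or_eq_top_of_normal _ hn).resolve_right
        fun e => he (e.trans hl.symm)
      have hlow : ∀ j, j ≤ l → H (l - j) = ⊥ := by
        intro j
        induction j with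
        | zero => intro; simpa using hb
        | succ j ihj =>
          intro hj
          refine le_bot_iff.1 (le_trans ?_ (ihj (by omega)).le)
          have := (hH (l - (j + 1)) (by omega)).1
          rwa [show l - (j + 1) + 1 = l - j by omega] at this
      unfold strict
      refine le_trans (Finset.card_le_card (t := {l}) fun i hi => ?_) (by simp)
      simp only [Finset.mem_filter, Finset.mem_range] at hi
      rw [Finset.mem_singleton]
      by_contra hne
      have e1 := hlow (l - i) (by omega)
      have e2 := hlow (l - (i + 1)) (by omega)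
      rw [show l - (l - i) = i by omega] at e1
      rw [show l - (l - (i + 1)) = i + 1 by omega] at e2
      exact hi.2 (e1.trans e2.symm)

theorem lenLe_pi {T : Type*} [Group T] [IsSimpleGroup T] :
    ∀ k : ℕ, LenLe (Fin k → T) k
  | 0 => lenLe_of_subsingleton 0
  | k + 1 => by
    let f : (Fin (k + 1) → T) →* T := Pi.evalMonoidHom _ 0
    have hf : Function.Surjective f := fun t => ⟨fun _ => t, rfl⟩
    refine LenLe.ext f hf (a := k) ?_ lenLe_simple |>.mono (by omega)
    let e : (Fin k → T) ≃* f.ker :=
      { toFun := fun x => ⟨Fin.cons 1 x, rfl⟩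
        invFun := fun x => Fin.tail x.1
        left_inv := fun x => Fin.tail_cons _ _
        right_inv := fun x => Subtype.ext (by
          have h0 : x.1 0 = 1 := x.2
          conv_rhs => rw [← Fin.cons_self_tail x.1, h0])
        map_mul' := fun x y => Subtype.ext (by
          funext i
          refine Fin.cases ?_ (fun j => ?_) i <;> simp) }
    exact (lenLe_pi k).of_equiv e

/-! ### Bounds from the order -/

open ArithmeticFunction in
theorem lenLe_cardFactors [Finite G] {b : ℕ} (h : cardFactors (Nat.card G) ≤ b) : LenLe G b := by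
  classical
  intro l H ⟨hl, hH⟩
  have key : ∀ j ≤ l, strict j H ≤ cardFactors (Nat.card (H j)) := by
    intro j
    induction j with
    | zero => intro; simp [strict]
    | succ j ih =>
      intro hj
      have hd := Subgroup.card_dvd_of_le (hH j (by omega)).1
      obtain ⟨c, hc⟩ := hd
      have hc0 : c ≠ 0 := fun e => Nat.card_pos.ne' (by rw [hc, e, mul_zero] : Nat.card (H (j+1)) = 0)
      rw [hc, cardFactors_mul Nat.card_pos.ne' hc0]
      have ih := ih (by omega)
      by_cases he : H j = H (j + 1)
      · have : strict (j + 1) H = strict j H := by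
          simp [strict, Finset.range_add_one, Finset.filter_insert, he]
        omega
      · have : strict (j + 1) H = strict j H + 1 := by
          simp [strict, Finset.range_add_one, Finset.filter_insert, he]
        have hc1 : c ≠ 1 := fun e => he (Subgroup.eq_of_le_of_card_ge (hH j (by omega)).1
          (by rw [hc, e, mul_one]))
        have : 0 < cardFactors c := cardFactors_pos_iff_one_lt.2 (by omega)
        omega
  have := key l le_rfl
  rw [hl, Subgroup.card_top] at this
  omega

open ArithmeticFunction in
theorem two_pow_cardFactors_le {m : ℕ} (hm : m ≠ 0) : 2 ^ cardFactors m ≤ m := by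
  have h : ∀ L : List ℕ, (∀ p ∈ L, 2 ≤ p) → 2 ^ L.length ≤ L.prod := by
    intro L
    induction L with
    | nil => simp
    | cons p L ih =>
      intro hL
      rw [List.length_cons, List.prod_cons, pow_succ, mul_comm]
      exact Nat.mul_le_mul (hL p (by simp)) (ih fun q hq => hL q (by simp [hq]))
  rw [cardFactors_apply]
  conv_rhs => rw [← Nat.prod_primeFactorsList hm]
  exact h _ fun p hp => (Nat.prime_of_mem_primeFactorsList hp).two_le

open ArithmeticFunction in
theorem cardFactors_le_log (m : ℕ) : cardFactors m ≤ Nat.log 2 m := by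
  rcases eq_or_ne m 0 with rfl | hm
  · simp
  · exact Nat.le_log_of_pow_le one_lt_two (two_pow_cardFactors_le hm)

end CfsgLib.Perm.SubnormalLength
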