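import Mathlib.GroupTheory.Perm.Basic
import Mathlib.GroupTheory.GroupAction.Quotient
import Mathlib.GroupTheory.Index
import Mathlib.Data.Nat.Prime.Factorial
import Mathlib.Tactic

/-!
Groups generated by few transpositions.
-/

set_option autoImplicit false
set_option linter.style.haveILetI false

namespace CfsgLib.Perm

variable {α : Type*} [DecidableEq α] [Fintype α]

/-- A colouring invariant under all the given transpositions with at least
`card α - length` colours. -/
theorem exists_colouring (l : List (Equiv.Perm α)) (hl : ∀ s ∈ l, s.IsSwap) :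
    ∃ c : α → α, (∀ s ∈ l, ∀ z, c (s z) = c z) ∧
      Fintype.card α ≤ (Finset.univ.image c).card + l.length := by
  induction l with
  | nil =>
    exact ⟨id, fun s hs => absurd hs (List.not_mem_nil), by simp⟩
  | cons s l ih =>
    obtain ⟨c, hc, hcard⟩ := ih fun t ht => hl t (List.mem_cons_of_mem _ ht)
    obtain ⟨a, b, -, rfl⟩ := hl s (List.mem_cons_self ..)
    refine ⟨fun z => if c z = c b then c a else c z, ?_, ?_⟩
    · intro t ht z
      rcases List.mem_cons.1 ht with rfl | ht
      · rcases eq_or_ne z a with rfl | hza
        · simp
        rcases eq_or_ne z b with rfl | hzb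
        · simp
        rw [Equiv.swap_apply_of_ne_of_ne hza hzb]
      · simp only [hc t ht z]
    · have hsub : Finset.univ.image c ⊆
          insert (c b) (Finset.univ.image fun z => if c z = c b then c a else c z) := by
        intro i hi
        obtain ⟨z, -, rfl⟩ := Finset.mem_image.1 hi
        rcases eq_or_ne (c z) (c b) with h | h
        · rw [h]; exact Finset.mem_insert_self _ _
        · exact Finset.mem_insert_of_mem (Finset.mem_image.2 ⟨z, Finset.mem_univ _, if_neg h⟩)
      have h1 := (Finset.card_le_card hsub).trans (Finset.card_insert_le _ _)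
      rw [List.length_cons]
      omega

/-- Every prime dividing the order of a group generated by `m` transpositions is at most `m + 1`. -/
theorem prime_le_of_dvd_card_closure_swaps (l : List (Equiv.Perm α)) (hl : ∀ s ∈ l, s.IsSwap)
    {q : ℕ} (hq : q.Prime) (hdvd : q ∣ Nat.card (Subgroup.closure {s | s ∈ l})) :
    q ≤ l.length + 1 := by
  classical
  obtain ⟨c, hc, hcard⟩ := exists_colouring l hl
  let H : Subgroup (Equiv.Perm α) :=
    { carrier := {σ | ∀ z, c (σ z) = c z}
      one_mem' := fun z => rfl
      mul_mem' := fun {σ τ} h1 h2 z => (h1 (τ z)).trans (h2 z)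
      inv_mem' := fun {σ} h z => by
        conv_rhs => rw [← Equiv.apply_symm_apply σ z]
        rw [h]; rfl }
  have hle : Subgroup.closure {s | s ∈ l} ≤ H := (Subgroup.closure_le H).2 fun s hs => hc s hs
  let f : H →* ((i : α) → Equiv.Perm {x // c x = i}) :=
    { toFun := fun σ i => (σ : Equiv.Perm α).subtypePerm fun x => by rw [σ.2 x]
      map_one' := by funext i; ext x; rfl
      map_mul' := fun σ τ => by funext i; ext x; rfl }
  have hf : Function.Injective f := by
    intro σ τ h
    apply Subtype.ext
    ext z
    have := congrArg Subtype.val (Equiv.congr_fun (congrFun h (c z)) ⟨z, rfl⟩)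
    exact this
  have h1 : q ∣ Nat.card ((i : α) → Equiv.Perm {x // c x = i}) :=
    hdvd.trans ((Subgroup.card_dvd_of_le hle).trans (Subgroup.card_dvd_of_injective f hf))
  rw [Nat.card_pi] at h1
  obtain ⟨i, -, hi⟩ := (hq.prime.dvd_finset_prod_iff _).1 h1
  rw [Nat.card_eq_fintype_card, Fintype.card_perm, Nat.Prime.dvd_factorial hq,
    Fintype.card_subtype] at hi
  refine hi.trans ?_
  -- the image meets all other points
  have h2 : (Finset.univ.image c).card ≤ (Finset.univ.filter fun x => ¬ c x = i).card + 1 := by
    refine (Finset.card_le_card (t := insert i ((Finset.univ.filter fun x => ¬ c x = i).image c))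
      fun j hj => ?_).trans ((Finset.card_insert_le _ _).trans (by
        have := Finset.card_image_le (s := Finset.univ.filter fun x => ¬ c x = i) (f := c)
        omega))
    obtain ⟨z, -, rfl⟩ := Finset.mem_image.1 hj
    rcases eq_or_ne (c z) i with h | h
    · rw [h]; exact Finset.mem_insert_self _ _
    · exact Finset.mem_insert_of_mem (Finset.mem_image.2 ⟨z, by simp [h], rfl⟩)
  have h3 := Finset.card_filter_add_card_filter_not (s := (Finset.univ : Finset α)) (fun x => c x = i)
  rw [Finset.card_univ] at h3
  omega

end CfsgLib.Perm
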