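import Cfsg.Agent.Perm.SylowNumber
import Cfsg.Agent.Solv.CoprimeSylow
import Cfsg.Agent.Solv.MinimalNormal

/-!
Multiplicative formulae for the number of Sylow subgroups.
-/

set_option autoImplicit false
set_option linter.style.haveILetI false

namespace CfsgLib.Perm.SylowNumber

variable {G : Type*} [Group G] [Finite G] {p : ℕ} [Fact p.Prime]

theorem card_sylow_normalizer (P : Sylow p G) :
    Nat.card (Sylow p ↥(Subgroup.normalizer ((P : Subgroup G) : Set G))) = 1 := by
  rw [card_sylow_subgroup P Subgroup.le_normalizer, Subgroup.relIndex_self]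

theorem card_sylow_eq_mul_sup (P : Sylow p G) (K : Subgroup G) [K.Normal] :
    Nat.card (Sylow p G) = Nat.card (Sylow p (G ⧸ K)) * Nat.card (Sylow p ↥((P : Subgroup G) ⊔ K)) := by
  rw [card_sylow_eq_mul P K, sup_comm (P : Subgroup G) K]
  congr 1
  set L := K ⊔ (P : Subgroup G)
  set M := Subgroup.normalizer (L : Set G) with hM
  have hLM : L ≤ M := Subgroup.le_normalizer
  rw [card_sylow_subgroup P (le_sup_right.trans hLM), card_sylow_subgroup P (le_sup_right : (P : Subgroup G) ≤ L)]
  haveI : (L.subgroupOf M).Normal := Subgroup.normal_in_normalizer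
  have hsup : (Subgroup.normalizer ((P : Subgroup G) : Set G)).subgroupOf M ⊔ L.subgroupOf M = ⊤ := by
    have h := Sylow.normalizer_sup_eq_top' (P.subtype (le_sup_right.trans hLM : (P : Subgroup G) ≤ M))
      (N := L.subgroupOf M) (fun x hx => (le_sup_right : (P : Subgroup G) ≤ L) hx)
    rw [Subgroup.subgroupOf_normalizer_eq (le_sup_right.trans hLM)]
    exact h
  have h := CfsgLib.Perm.relIndex_sup_eq_of_normal ((Subgroup.normalizer ((P : Subgroup G) : Set G)).subgroupOf M) (L.subgroupOf M)
  rw [hsup, Subgroup.relIndex_top_right, Subgroup.relIndex_subgroupOf hLM] at h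
  exact h

theorem card_sylow_quotient_of_le (P : Sylow p G) (Q : Subgroup G) [Q.Normal] (hQ : Q ≤ (P : Subgroup G)) :
    Nat.card (Sylow p (G ⧸ Q)) = Nat.card (Sylow p G) := by
  have h := card_sylow_eq_mul P Q
  rw [sup_eq_right.2 hQ, card_sylow_normalizer, mul_one] at h
  exact h.symm

theorem card_sylow_sup (P : Sylow p G) (K : Subgroup G) [K.Normal] (N : Subgroup G)
    (hN : N = ((P : Subgroup G) ⊔ K) ⊓ Subgroup.normalizer (((P : Subgroup G) ⊓ K : Subgroup G) : Set G))
    [(((P : Subgroup G) ⊓ K).subgroupOf N).Normal] :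
    Nat.card (Sylow p ↥((P : Subgroup G) ⊔ K)) =
      Nat.card (Sylow p K) * Nat.card (Sylow p (N ⧸ ((P : Subgroup G) ⊓ K).subgroupOf N)) := by
  set L := (P : Subgroup G) ⊔ K
  set Q := (P : Subgroup G) ⊓ K with hQ
  have hPQ : (P : Subgroup G) ≤ Subgroup.normalizer (Q : Set G) := by
    refine CfsgLib.Solv.le_normalizer_inf_of_le Subgroup.le_normalizer ?_
    rw [Subgroup.normalizer_eq_top_iff.2 inferInstance]; exact le_top
  have hPN : (P : Subgroup G) ≤ N := hN ▸ le_inf le_sup_left hPQ
  have hNL : N ≤ L := hN ▸ inf_le_left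
  have hPp : (P : Subgroup G) ≤ Subgroup.normalizer ((P : Subgroup G) : Set G) := Subgroup.le_normalizer
  have hNPQ : Subgroup.normalizer ((P : Subgroup G) : Set G) ≤ Subgroup.normalizer (Q : Set G) :=
    CfsgLib.Solv.le_normalizer_inf_of_le le_rfl (by rw [Subgroup.normalizer_eq_top_iff.2 (inferInstance : K.Normal)]; exact le_top)
  -- the Sylow subgroup of `K`
  have hQK : Nat.card (Sylow p K) = (Subgroup.normalizer (Q : Set G)).relIndex K := by
    have hp' : IsPGroup p ((P : Subgroup G).subgroupOf K) := P.2.comap_of_injective _ K.subtype_injective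
    have hndvd : ¬ p ∣ ((P : Subgroup G).subgroupOf K).index :=
      fun h => P.not_dvd_index (h.trans (CfsgLib.Solv.relIndex_normal_dvd_index (P : Subgroup G) K))
    rw [(hp'.toSylow hndvd).card_eq_index_normalizer]
    have he : (P : Subgroup G).subgroupOf K = Q.subgroupOf K := (Subgroup.inf_subgroupOf_right _ _).symm
    show (Subgroup.normalizer (((P : Subgroup G).subgroupOf K : Subgroup K) : Set K)).index = _
    rw [he, ← Subgroup.subgroupOf_normalizer_eq (inf_le_right : Q ≤ K)]
    rfl
  rw [card_sylow_quotient_of_le (P.subtype hPN) _ (by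
      rw [Sylow.coe_subtype]; exact fun x hx => (inf_le_left : Q ≤ (P : Subgroup G)) hx),
    card_sylow_subgroup P (le_sup_left : (P : Subgroup G) ≤ L), card_sylow_subgroup P hPN, hQK]
  have hKL : N ⊔ K = L := le_antisymm (sup_le hNL le_sup_right) (sup_le_sup_right hPN K)
  have h1 : N.relIndex L = (Subgroup.normalizer (Q : Set G)).relIndex K := by
    rw [← hKL, CfsgLib.Perm.relIndex_sup_eq_of_normal N K, hN, ← Subgroup.inf_relIndex_right ((L : Subgroup G) ⊓ _) K,
      inf_comm L, inf_assoc, inf_eq_right.2 (le_sup_right : K ≤ L), Subgroup.inf_relIndex_right]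
  have h2 : (Subgroup.normalizer ((P : Subgroup G) : Set G)).relIndex L =
      (Subgroup.normalizer ((P : Subgroup G) : Set G) ⊓ L).relIndex L := (Subgroup.inf_relIndex_right _ _).symm
  have hle : Subgroup.normalizer ((P : Subgroup G) : Set G) ⊓ L ≤ N := by
    rw [hN]; exact le_inf inf_le_right (inf_le_left.trans hNPQ)
  rw [h2, ← Subgroup.relIndex_mul_relIndex _ N L hle hNL, h1, mul_comm]
  congr 1
  rw [← Subgroup.inf_relIndex_right (Subgroup.normalizer ((P : Subgroup G) : Set G) ⊓ L) N, inf_assoc,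
    inf_eq_right.2 hNL, Subgroup.inf_relIndex_right]

/-- In a group with a normal `p'`-subgroup with `p`-group quotient the primary parts of the Sylow
number are congruent to one. -/
theorem factorization_modEq (M : Subgroup G) [M.Normal] (hM : ¬ p ∣ Nat.card M) (hMi : ∃ k, M.index = p ^ k)
    (ℓ : ℕ) (hℓ : ℓ.Prime) : ℓ ^ (Nat.card (Sylow p G)).factorization ℓ ≡ 1 [MOD p] := by
  haveI : Fact ℓ.Prime := ⟨hℓ⟩
  obtain ⟨P⟩ : Nonempty (Sylow p G) := inferInstance
  obtain ⟨k, hk⟩ := hMi
  have hp := (Fact.out : p.Prime)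
  have hcop : (Nat.card (P : Subgroup G)).Coprime (Nat.card M) := by
    rw [P.card_eq_multiplicity]
    exact Nat.Coprime.pow_left _ ((Nat.Prime.coprime_iff_not_dvd hp).2 hM)
  haveI := P.2.isNilpotent
  have hPsol : Group.IsSolvable ↥(P : Subgroup G) := inferInstance
  have hPM : (P : Subgroup G) ≤ Subgroup.normalizer (M : Set G) := by
    rw [Subgroup.normalizer_eq_top_iff.2 inferInstance]; exact le_top
  set C := M ⊓ Subgroup.centralizer ((P : Subgroup G) : Set G) with hC
  -- the normalizer of `P` in `M` is the centralizer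
  have hinf : Subgroup.normalizer ((P : Subgroup G) : Set G) ⊓ M = C := by
    refine le_antisymm (fun x hx => ⟨hx.2, fun y hy => ?_⟩) (le_inf (inf_le_right.trans (Subgroup.centralizer_le_normalizer _)) inf_le_left)
    have h1 : x * y * x⁻¹ * y⁻¹ ∈ (P : Subgroup G) ⊓ M := by
      refine ⟨(P : Subgroup G).mul_mem ((Subgroup.mem_normalizer_iff.1 hx.1 y).1 hy) ((P : Subgroup G).inv_mem hy), ?_⟩
      rw [mul_assoc x y, mul_assoc x]
      exact M.mul_mem hx.2 ((inferInstance : M.Normal).conj_mem _ (M.inv_mem hx.2) y)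
    rw [Subgroup.inf_eq_bot_of_coprime hcop, Subgroup.mem_bot, mul_inv_eq_one, mul_inv_eq_iff_eq_mul] at h1
    exact h1.symm
  have hsup : ∀ L : Subgroup G, (P : Subgroup G) ≤ Subgroup.normalizer (L : Set G) → L ≤ M →
      Nat.card (Sylow p ↥((P : Subgroup G) ⊔ L)) = (Subgroup.centralizer ((P : Subgroup G) : Set G)).relIndex L := by
    intro L hL hLM
    rw [card_sylow_subgroup P le_sup_left]
    haveI : (L.subgroupOf ((P : Subgroup G) ⊔ L)).Normal :=
      Subgroup.normal_subgroupOf_of_le_normalizer (sup_le hL Subgroup.le_normalizer)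
    have h := CfsgLib.Perm.relIndex_sup_eq_of_normal
      ((Subgroup.normalizer ((P : Subgroup G) : Set G)).subgroupOf ((P : Subgroup G) ⊔ L)) (L.subgroupOf ((P : Subgroup G) ⊔ L))
    have htop : (Subgroup.normalizer ((P : Subgroup G) : Set G)).subgroupOf ((P : Subgroup G) ⊔ L) ⊔ L.subgroupOf ((P : Subgroup G) ⊔ L) = ⊤ := by
      rw [eq_top_iff]
      have : (⊤ : Subgroup ↥((P : Subgroup G) ⊔ L)) = (P : Subgroup G).subgroupOf _ ⊔ L.subgroupOf _ := by
        rw [← Subgroup.subgroupOf_sup le_sup_left le_sup_right, Subgroup.subgroupOf_self]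
      rw [this]
      exact sup_le_sup_right (Subgroup.comap_mono Subgroup.le_normalizer) _
    rw [htop, Subgroup.relIndex_top_right, Subgroup.relIndex_subgroupOf le_sup_right] at h
    refine h.trans ?_
    rw [← Subgroup.inf_relIndex_right, ← Subgroup.inf_relIndex_right (Subgroup.centralizer _) L]
    congr 1
    calc Subgroup.normalizer ((P : Subgroup G) : Set G) ⊓ L = Subgroup.normalizer ((P : Subgroup G) : Set G) ⊓ M ⊓ L := by
          rw [inf_assoc, inf_eq_right.2 hLM]
      _ = Subgroup.centralizer ((P : Subgroup G) : Set G) ⊓ L := by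
          rw [hinf, hC, inf_comm M, inf_assoc, inf_eq_right.2 hLM]
  -- the Sylow number
  have hG : Nat.card (Sylow p G) = C.relIndex M := by
    have htop : (P : Subgroup G) ⊔ M = ⊤ := by
      refine Subgroup.eq_top_of_card_eq _ ?_
      have h1 := CfsgLib.Solv.card_sup_mul_card_inf (P : Subgroup G) M
      rw [Subgroup.inf_eq_bot_of_coprime hcop, Subgroup.card_bot, mul_one] at h1
      conv_rhs => rw [← M.card_mul_index, hk]
      rw [h1, P.card_eq_multiplicity, mul_comm, ← M.card_mul_index]
      congr 2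
      rw [hk, Nat.factorization_mul (Nat.card_pos.ne') (pow_ne_zero _ hp.ne_zero), Finsupp.add_apply,
        Nat.factorization_eq_zero_of_not_dvd hM, Nat.factorization_pow, Finsupp.smul_apply, hp.factorization_self]
      simp
    have h := hsup M hPM le_rfl
    rw [hC, inf_comm, Subgroup.inf_relIndex_right, ← h, htop]
    rw [card_sylow_subgroup P le_top, Subgroup.relIndex_top_right, index_normalizer]
  -- an invariant Sylow subgroup of `M`
  obtain ⟨R⟩ : Nonempty (Sylow ℓ C) := inferInstance
  set R' := (R : Subgroup C).map C.subtype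
  have hR'C : R' ≤ C := Subgroup.map_subtype_le _
  obtain ⟨L0, hRL, hL⟩ := CfsgLib.Solv.exists_invariant_sylow_ge (p := ℓ) hPM hcop (Or.inl hPsol)
    (hR'C.trans inf_le_left) (R.2.map _) (fun x hx => by
      rw [Subgroup.mem_normalizer_iff]
      intro y
      have hc : ∀ z ∈ R', x * z * x⁻¹ = z := fun z hz => by
        rw [(hR'C hz).2 x hx, mul_inv_cancel_right]
      constructor
      · intro hy; rw [hc y hy]; exact hy
      · intro hy
        have h2 : x⁻¹ * (x * y * x⁻¹) * x⁻¹⁻¹ = x * y * x⁻¹ := by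
          rw [(hR'C hy).2 _ (inv_mem hx), mul_inv_cancel_right]
        simp only [mul_assoc, inv_mul_cancel_left, inv_inv, inv_mul_cancel, mul_one] at h2
        rw [h2]
        simpa [mul_assoc] using hy)
  set L := (L0 : Subgroup M).map M.subtype
  have hLM : L ≤ M := Subgroup.map_subtype_le _
  have hRe : Subgroup.centralizer ((P : Subgroup G) : Set G) ⊓ L = R' := by
    refine le_antisymm ?_ (le_inf (hR'C.trans inf_le_right) hRL)
    intro x hx
    have h3 : (Subgroup.centralizer ((P : Subgroup G) : Set G) ⊓ L).subgroupOf C = R :=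
      R.3 ((L0.2.map M.subtype).to_le inf_le_right |>.comap_of_injective _ C.subtype_injective)
        fun y hy => ⟨y.2.2, hRL ⟨y, hy, rfl⟩⟩
    exact ⟨⟨x, hLM hx.2, hx.1⟩, h3.le hx, rfl⟩
  have hl : Nat.card (Sylow p ↥((P : Subgroup G) ⊔ L)) * ℓ ^ (Nat.card C).factorization ℓ = ℓ ^ (Nat.card M).factorization ℓ := by
    rw [hsup L hL hLM, ← Subgroup.inf_relIndex_right, hRe, ← R.card_eq_multiplicity, ← L0.card_eq_multiplicity]
    have h4 := CfsgLib.Solv.relIndex_mul_card hRL
    rw [show Nat.card R' = Nat.card R from Subgroup.card_map_of_injective C.subtype_injective,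
      show Nat.card L = Nat.card L0 from Subgroup.card_map_of_injective M.subtype_injective] at h4
    rw [mul_comm]; exact h4
  have hrel : C.relIndex M * Nat.card C = Nat.card M := by
    rw [mul_comm]; exact CfsgLib.Solv.relIndex_mul_card inf_le_left
  have e : ℓ ^ (Nat.card (Sylow p G)).factorization ℓ = Nat.card (Sylow p ↥((P : Subgroup G) ⊔ L)) := by
    rw [hG]
    refine Nat.eq_of_mul_eq_mul_right (pow_pos hℓ.pos ((Nat.card C).factorization ℓ)) ?_
    rw [hl, ← pow_add, ← hrel, Nat.factorization_mul (fun h => by simp [h] at hrel; exact Nat.card_pos.ne' hrel.symm) Nat.card_pos.ne']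
    rfl
  rw [e]
  exact card_sylow_modEq_one p _

/-- In a solvable group the primary parts of the Sylow number are congruent to one. -/
theorem factorization_modEq_solvable (p ℓ : ℕ) [Fact p.Prime] (hℓ : ℓ.Prime) :
    ∀ n : ℕ, ∀ (G : Type*) [Group G] [Finite G] [Group.IsSolvable G], Nat.card G = n →
      ℓ ^ (Nat.card (Sylow p G)).factorization ℓ ≡ 1 [MOD p] := by
  intro n
  induction n using Nat.strong_induction_on with
  | _ n ih =>
    intro G _ _ _ hn
    rcases subsingleton_or_nontrivial G with hs | hs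
    · haveI : Subsingleton (Sylow p G) := ⟨fun a b => Sylow.ext (Subsingleton.elim _ _)⟩
      rw [Nat.card_of_subsingleton (Classical.arbitrary (Sylow p G))]
      simp
      rfl
    obtain ⟨N, hN⟩ := CfsgLib.Solv.exists_isMinimalNormal (G := G)
    haveI := hN.1
    obtain ⟨r, hr, -, hrN⟩ := CfsgLib.Solv.exists_prime_exponent_of_minimal_solvable hN inferInstance
    haveI : Fact r.Prime := ⟨hr⟩
    obtain ⟨P⟩ : Nonempty (Sylow p G) := inferInstance
    have hlt : Nat.card (G ⧸ N) < n := by
      rw [← hn, ← Subgroup.index_eq_card, ← N.card_mul_index]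
      exact lt_mul_left (Nat.pos_of_ne_zero Subgroup.index_ne_zero_of_finite) (by
        rw [Subgroup.one_lt_card_iff_ne_bot]; exact hN.2.1)
    rw [card_sylow_eq_mul_sup P N]
    set b := Nat.card (Sylow p ↥((P : Subgroup G) ⊔ N)) with hb
    obtain ⟨m, hm⟩ := IsPGroup.iff_card.1 (show IsPGroup r N from hrN)
    have hbdvd : b ∣ r ^ m := by
      rw [hb, card_sylow_subgroup P le_sup_left, ← hm]
      refine dvd_trans (Subgroup.relIndex_dvd_of_le_left _ (Subgroup.le_normalizer : (P : Subgroup G) ≤ _)) ?_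
      rw [CfsgLib.Perm.relIndex_sup_eq_of_normal]
      exact Subgroup.relIndex_dvd_card _ _
    obtain ⟨j, -, hj⟩ := (Nat.dvd_prime_pow hr).1 hbdvd
    rw [Nat.factorization_mul Nat.card_pos.ne' (hj ▸ pow_ne_zero _ hr.ne_zero), Finsupp.add_apply, pow_add]
    have h1 := (ih _ hlt (G ⧸ N) rfl).mul (show ℓ ^ b.factorization ℓ ≡ 1 [MOD p] by
      rw [hj, hr.factorization_pow]
      by_cases he : r = ℓ
      · subst he
        rw [Finsupp.single_eq_same, ← hj]
        exact card_sylow_modEq_one p _
      · rw [Finsupp.single_eq_of_ne (Ne.symm he), pow_zero])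
    simpa using h1

end CfsgLib.Perm.SylowNumber
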