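import Mathlib.GroupTheory.Sylow
import Mathlib.GroupTheory.SpecificGroups.Alternating
import Mathlib.Data.Nat.Factorial.DoubleFactorial
import Mathlib.Tactic
import Cfsg.Agent.Solv.CoprimeSylow

/-!
The Sylow 2-subgroups of symmetric groups, and of alternating groups of degree at least 6,
are self-normalizing.
-/

set_option autoImplicit false
set_option linter.style.haveILetI false

namespace CfsgLib.Perm

open Equiv

/-- All Sylow `p`-subgroups are self-normalizing. -/
def SylowSelfNormalizing (p : ℕ) (G : Type*) [Group G] : Prop :=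
  ∀ S : Sylow p G, Subgroup.normalizer ((S : Subgroup G) : Set G) ≤ S

theorem sylowSelfNormalizing_of_one {p : ℕ} [Fact p.Prime] {G : Type*} [Group G] [Finite G]
    (T : Sylow p G) (h : Subgroup.normalizer ((T : Subgroup G) : Set G) ≤ T) :
    SylowSelfNormalizing p G := by
  intro S x hx
  obtain ⟨g, rfl⟩ := MulAction.exists_smul_eq G T S
  have hS : ∀ y : G, y ∈ ((g • T : Sylow p G) : Subgroup G) ↔ g⁻¹ * y * g ∈ (T : Subgroup G) := by
    intro y
    rw [Sylow.coe_subgroup_smul, Subgroup.mem_pointwise_smul_iff_inv_smul_mem, ← map_inv,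
      MulAut.smul_def, MulAut.conj_apply, inv_inv]
  rw [hS]
  apply h
  rw [Subgroup.mem_normalizer_iff] at hx ⊢
  intro z
  have h1 := hx (g * z * g⁻¹)
  rw [hS, hS] at h1
  simpa [mul_assoc] using h1

theorem sylowSelfNormalizing_of_mulEquiv {p : ℕ} [Fact p.Prime] {G H : Type*} [Group G] [Group H]
    [Finite G] (e : G ≃* H) (h : SylowSelfNormalizing p G) : SylowSelfNormalizing p H := by
  intro S x hx
  haveI : Finite H := Finite.of_equiv G e.toEquiv
  set T := S.comapOfInjective e.toMonoidHom e.injective (by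
    rw [MonoidHom.range_eq_top.2 e.surjective]; exact le_top)
  have hT : ∀ y : G, y ∈ (T : Subgroup G) ↔ e y ∈ (S : Subgroup H) := fun y => Iff.rfl
  have h1 : e.symm x ∈ Subgroup.normalizer ((T : Subgroup G) : Set G) := by
    rw [Subgroup.mem_normalizer_iff] at hx ⊢
    intro z
    rw [hT, hT, map_mul, map_mul, map_inv, MulEquiv.apply_symm_apply]
    exact hx (e z)
  have := (hT _).1 (h T h1)
  rwa [MulEquiv.apply_symm_apply] at this

/-- Points: `m` pairs and `r` further points. -/
abbrev Pt (m r : ℕ) := (Fin m × Bool) ⊕ Fin r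

variable {m r : ℕ}

/-- The involution interchanging the two points of each pair. -/
def flip (m r : ℕ) : Perm (Pt m r) :=
  Equiv.sumCongr (Equiv.prodCongr (Equiv.refl _) Equiv.boolNot) (Equiv.refl _)

@[simp] theorem flip_inl (i : Fin m) (b : Bool) : flip m r (.inl (i, b)) = .inl (i, !b) := rfl

@[simp] theorem flip_inr (k : Fin r) : flip m r (.inr k) = .inr k := rfl

/-- The stabiliser of the pairing. -/
def pairStab (m r : ℕ) : Subgroup (Perm (Pt m r)) := Subgroup.centralizer {flip m r}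

theorem mem_pairStab {σ : Perm (Pt m r)} :
    σ ∈ pairStab m r ↔ ∀ a, σ (flip m r a) = flip m r (σ a) := by
  rw [pairStab, Subgroup.mem_centralizer_singleton_iff, Equiv.ext_iff]
  rfl

theorem exists_pairStab_inl {σ : Perm (Pt m r)} (hσ : σ ∈ pairStab m r) (a : Fin m × Bool) :
    ∃ c, σ (.inl a) = .inl c := by
  rcases h : σ (.inl a) with c | k
  · exact ⟨c, rfl⟩
  · exfalso
    obtain ⟨i, b⟩ := a
    have h1 := mem_pairStab.1 hσ (.inl (i, b))
    rw [h, flip_inr, ← h] at h1
    have h2 := σ.injective h1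
    simp at h2

theorem exists_pairStab_inr {σ : Perm (Pt m r)} (hσ : σ ∈ pairStab m r) (k : Fin r) :
    ∃ l, σ (.inr k) = .inr l := by
  rcases h : σ (.inr k) with ⟨i, b⟩ | l
  · exfalso
    have h1 := mem_pairStab.1 hσ (.inr k)
    rw [flip_inr, h, flip_inl] at h1
    simp at h1
  · exact ⟨l, rfl⟩

/-- The pair to which `σ` sends the pair `i`. -/
def pairFun (σ : Perm (Pt m r)) (i : Fin m) : Fin m :=
  Sum.elim Prod.fst (fun _ => i) (σ (.inl (i, false)))

theorem pairFun_spec {σ : Perm (Pt m r)} (hσ : σ ∈ pairStab m r) (i : Fin m) (b : Bool) :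
    ∃ c, σ (.inl (i, b)) = .inl (pairFun σ i, c) := by
  obtain ⟨⟨j, c⟩, hc⟩ := exists_pairStab_inl hσ (i, false)
  have hj : pairFun σ i = j := by rw [pairFun, hc]; rfl
  cases b
  · exact ⟨c, by rw [hj, hc]⟩
  · refine ⟨!c, ?_⟩
    have h1 := mem_pairStab.1 hσ (.inl (i, false))
    rw [flip_inl, Bool.not_false, hc, flip_inl] at h1
    rw [hj, h1]

theorem pairFun_mul {σ ρ : Perm (Pt m r)} (hσ : σ ∈ pairStab m r) (hρ : ρ ∈ pairStab m r)
    (i : Fin m) : pairFun (σ * ρ) i = pairFun σ (pairFun ρ i) := by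
  obtain ⟨c, hc⟩ := pairFun_spec hρ i false
  obtain ⟨d, hd⟩ := pairFun_spec hσ (pairFun ρ i) c
  rw [pairFun, Perm.mul_apply, hc, hd]
  rfl

theorem pairFun_one (i : Fin m) : pairFun (1 : Perm (Pt m r)) i = i := rfl

/-- The action on the pairs. -/
def pairHom (m r : ℕ) : pairStab m r →* Perm (Fin m) where
  toFun σ :=
    { toFun := pairFun (σ : Perm (Pt m r))
      invFun := pairFun ((σ⁻¹ : pairStab m r) : Perm (Pt m r))
      left_inv := fun i => by
        rw [← pairFun_mul (σ⁻¹).2 σ.2, ← Subgroup.coe_mul, inv_mul_cancel]; rfl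
      right_inv := fun i => by
        rw [← pairFun_mul σ.2 (σ⁻¹).2, ← Subgroup.coe_mul, mul_inv_cancel]; rfl }
  map_one' := Equiv.ext fun i => pairFun_one (r := r) i
  map_mul' σ ρ := Equiv.ext fun i => pairFun_mul σ.2 ρ.2 i

theorem pairHom_apply (σ : pairStab m r) (i : Fin m) :
    pairHom m r σ i = pairFun (σ : Perm (Pt m r)) i := rfl

/-- The element of the pair stabiliser given by a permutation of the pairs and a set of flips. -/
def mkPair (ρ : Perm (Fin m)) (f : Fin m → Bool) : Perm (Pt m r) :=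
  Equiv.sumCongr
    ⟨fun x => (ρ x.1, xor x.2 (f x.1)), fun x => (ρ.symm x.1, xor x.2 (f (ρ.symm x.1))),
      fun x => by simp, fun x => by simp⟩
    (Equiv.refl _)

theorem mkPair_inl (ρ : Perm (Fin m)) (f : Fin m → Bool) (i : Fin m) (b : Bool) :
    (mkPair ρ f : Perm (Pt m r)) (.inl (i, b)) = .inl (ρ i, xor b (f i)) := rfl

theorem mkPair_inr (ρ : Perm (Fin m)) (f : Fin m → Bool) (k : Fin r) :
    (mkPair ρ f : Perm (Pt m r)) (.inr k) = .inr k := rfl

theorem mkPair_mem (ρ : Perm (Fin m)) (f : Fin m → Bool) : mkPair ρ f ∈ pairStab m r := by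
  rw [mem_pairStab]
  rintro (⟨i, b⟩ | k)
  · rw [flip_inl, mkPair_inl, mkPair_inl, flip_inl]
    cases b <;> cases f i <;> rfl
  · rw [flip_inr, mkPair_inr, flip_inr]

theorem pairHom_mkPair (ρ : Perm (Fin m)) (f : Fin m → Bool) :
    pairHom m r ⟨mkPair ρ f, mkPair_mem ρ f⟩ = ρ := by
  ext i
  rw [pairHom_apply, pairFun]
  rfl

theorem pairHom_surjective : Function.Surjective (pairHom m r) :=
  fun ρ => ⟨⟨mkPair ρ fun _ => false, mkPair_mem _ _⟩, pairHom_mkPair _ _⟩

/-- For `r ≤ 1` an element of the stabiliser is determined by `pairHom` and the flips. -/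
theorem card_pairStab (hr : r ≤ 1) : Nat.card (pairStab m r) = m.factorial * 2 ^ m := by
  haveI : Subsingleton (Fin r) := Fin.subsingleton_iff_le_one.2 hr
  let f : Perm (Fin m) × (Fin m → Bool) → pairStab m r := fun x => ⟨mkPair x.1 x.2, mkPair_mem _ _⟩
  have hf : Function.Bijective f := by
    constructor
    · rintro ⟨ρ, u⟩ ⟨ρ', u'⟩ h
      have h' : ∀ i, (Sum.inl (ρ i, xor false (u i)) : Pt m r) = Sum.inl (ρ' i, xor false (u' i)) :=
        fun i => Equiv.congr_fun (congrArg Subtype.val h) (.inl (i, false))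
      have hρ : ρ = ρ' := Equiv.ext fun i => congrArg Prod.fst (Sum.inl.inj (h' i))
      have hu : u = u' := funext fun i => by
        simpa using congrArg Prod.snd (Sum.inl.inj (h' i))
      rw [hρ, hu]
    · intro σ
      refine ⟨(pairHom m r σ, fun i => Sum.elim Prod.snd (fun _ => false)
        ((σ : Perm (Pt m r)) (.inl (i, false)))), Subtype.ext (Equiv.ext ?_)⟩
      rintro (⟨i, b⟩ | k)
      · show Sum.inl (pairFun (σ : Perm (Pt m r)) i, xor b (Sum.elim Prod.snd (fun _ => false)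
          ((σ : Perm (Pt m r)) (.inl (i, false))))) = _
        obtain ⟨c, hc⟩ := pairFun_spec σ.2 i false
        rw [hc]
        cases b
        · rw [hc]; simp
        · have h1 := mem_pairStab.1 σ.2 (.inl (i, false))
          rw [flip_inl, Bool.not_false, hc, flip_inl] at h1
          rw [h1]; simp
      · obtain ⟨l, hl⟩ := exists_pairStab_inr σ.2 k
        show Sum.inr k = _
        rw [hl, Subsingleton.elim l k]
  rw [← Nat.card_congr (Equiv.ofBijective f hf), Nat.card_prod, Nat.card_fun, Nat.card_eq_fintype_card, Fintype.card_perm]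
  simp

theorem exists_odd_factorial (m : ℕ) : ∃ o, Odd o ∧ (2 * m).factorial = m.factorial * 2 ^ m * o := by
  induction m with
  | zero => exact ⟨1, odd_one, rfl⟩
  | succ k ih =>
    obtain ⟨o, ho, h⟩ := ih
    refine ⟨o * (2 * k + 1), ho.mul (odd_two_mul_add_one k), ?_⟩
    rw [show 2 * (k + 1) = 2 * k + 1 + 1 by ring, Nat.factorial_succ, Nat.factorial_succ,
      Nat.factorial_succ, h, pow_succ]
    ring

theorem index_pairStab_odd (hr : r ≤ 1) : ¬ 2 ∣ (pairStab m r).index := by
  obtain ⟨o, ho, hfac⟩ := exists_odd_factorial m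
  obtain ⟨o', ho', hfac'⟩ : ∃ o', Odd o' ∧ (m * 2 + r).factorial = m.factorial * 2 ^ m * o' := by
    rw [mul_comm m 2]
    rcases Nat.le_one_iff_eq_zero_or_eq_one.1 hr with rfl | rfl
    · exact ⟨o, ho, hfac⟩
    · refine ⟨(2 * m + 1) * o, (odd_two_mul_add_one m).mul ho, ?_⟩
      rw [Nat.factorial_succ, hfac]; ring
  have h := (pairStab m r).card_mul_index
  rw [card_pairStab hr, Nat.card_eq_fintype_card (α := Perm (Pt m r)), Fintype.card_perm,
    Fintype.card_sum, Fintype.card_prod, Fintype.card_fin, Fintype.card_bool, Fintype.card_fin,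
    hfac'] at h
  rw [Nat.eq_of_mul_eq_mul_left (by positivity) h]
  exact fun h2 => (Nat.not_even_iff_odd.2 ho') (even_iff_two_dvd.2 h2)

theorem pairHom_ker_isPGroup (hr : r ≤ 1) : IsPGroup 2 (pairHom m r).ker := by
  haveI : Subsingleton (Fin r) := Fin.subsingleton_iff_le_one.2 hr
  intro σ
  refine ⟨1, Subtype.ext (Subtype.ext ?_)⟩
  set s : Perm (Pt m r) := ((σ : pairStab m r) : Perm (Pt m r)) with hs
  show s ^ (2 ^ 1) = 1
  rw [pow_one, sq]
  refine Equiv.ext ?_
  rintro (⟨i, b⟩ | k)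
  · obtain ⟨c, hc⟩ := pairFun_spec (σ : pairStab m r).2 i b
    have hi : pairFun s i = i := Equiv.congr_fun (MonoidHom.mem_ker.1 σ.2) i
    rw [← hs, hi] at hc
    show s (s (.inl (i, b))) = .inl (i, b)
    rcases eq_or_ne c b with rfl | hcb
    · rw [hc, hc]
    · have hcb' : c = !b := by cases b <;> cases c <;> simp_all
      subst hcb'
      have h1 := mem_pairStab.1 (σ : pairStab m r).2 (.inl (i, b))
      rw [flip_inl, ← hs, hc, flip_inl, Bool.not_not] at h1
      rw [hc, h1]
  · obtain ⟨l, hl⟩ := exists_pairStab_inr (σ : pairStab m r).2 k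
    obtain rfl := Subsingleton.elim l k
    show s (s (.inr l)) = .inr l
    rw [← hs] at hl
    rw [hl, hl]

/-- The standard transposition of a pair. -/
def pairSwap (i : Fin m) : Perm (Pt m r) := Equiv.swap (.inl (i, false)) (.inl (i, true))

theorem pairSwap_self (i : Fin m) (b : Bool) :
    (pairSwap i : Perm (Pt m r)) (.inl (i, b)) = .inl (i, !b) := by
  cases b
  · exact Equiv.swap_apply_left _ _
  · exact Equiv.swap_apply_right _ _

theorem pairSwap_of_ne {i j : Fin m} (h : j ≠ i) (b : Bool) :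
    (pairSwap i : Perm (Pt m r)) (.inl (j, b)) = .inl (j, b) := by
  refine Equiv.swap_apply_of_ne_of_ne ?_ ?_ <;> simp [h]

theorem pairSwap_inr (i : Fin m) (k : Fin r) : (pairSwap i : Perm (Pt m r)) (.inr k) = .inr k := by
  refine Equiv.swap_apply_of_ne_of_ne ?_ ?_ <;> simp

theorem pairSwap_mem (i : Fin m) : (pairSwap i : Perm (Pt m r)) ∈ pairStab m r := by
  rw [mem_pairStab]
  rintro (⟨j, b⟩ | k)
  · rcases eq_or_ne j i with rfl | h
    · rw [flip_inl, pairSwap_self, pairSwap_self, flip_inl]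
    · rw [flip_inl, pairSwap_of_ne h, pairSwap_of_ne h, flip_inl]
  · rw [flip_inr, pairSwap_inr, flip_inr]

theorem pairHom_pairSwap (i : Fin m) :
    pairHom m r ⟨pairSwap i, pairSwap_mem i⟩ = 1 := by
  ext j
  rw [pairHom_apply, pairFun]
  rcases eq_or_ne j i with rfl | h
  · rw [pairSwap_self]; rfl
  · rw [pairSwap_of_ne h]; rfl

theorem flip_eq_of_swap_mem (hr : r ≤ 1) {a b : Pt m r} (hab : a ≠ b)
    (h : Equiv.swap a b ∈ pairStab m r) : flip m r a = b := by
  haveI : Subsingleton (Fin r) := Fin.subsingleton_iff_le_one.2 hr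
  have h1 := mem_pairStab.1 h a
  rw [Equiv.swap_apply_left] at h1
  by_contra hne
  rcases eq_or_ne (flip m r a) a with ha | ha
  · rw [ha, Equiv.swap_apply_left] at h1
    rcases a with ⟨i, u⟩ | k
    · rw [flip_inl] at ha; simp at ha
    rcases b with ⟨j, v⟩ | l
    · rw [flip_inl] at h1; simp at h1
    exact hab (congrArg Sum.inr (Subsingleton.elim k l))
  · rw [Equiv.swap_apply_of_ne_of_ne ha hne] at h1
    exact hab ((flip m r).injective h1)

theorem mem_pairStab_of_inl (hr : r ≤ 1) {x : Perm (Pt m r)}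
    (h : ∀ i b, x (flip m r (.inl (i, b))) = flip m r (x (.inl (i, b)))) : x ∈ pairStab m r := by
  haveI : Subsingleton (Fin r) := Fin.subsingleton_iff_le_one.2 hr
  rw [mem_pairStab]
  rintro (⟨i, b⟩ | k)
  · exact h i b
  rw [flip_inr]
  by_contra hne
  rcases hxk : x (.inr k) with ⟨j, c⟩ | l
  · obtain ⟨a, ha⟩ := x.surjective (.inl (j, !c))
    rcases a with ⟨i, b⟩ | k'
    · have h1 := h i b
      rw [ha, flip_inl, flip_inl, Bool.not_not, ← hxk] at h1
      have := x.injective h1
      simp at this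
    · rw [Subsingleton.elim k' k, hxk] at ha
      simp at ha
  · rw [hxk, flip_inr] at hne
    exact hne rfl

/-- A Sylow 2-subgroup compatible with the pairs. -/
theorem exists_sylow_pairs (hr : r ≤ 1) (Q : Sylow 2 (Perm (Fin m))) :
    ∃ T : Sylow 2 (Perm (Pt m r)), ∀ σ : Perm (Pt m r),
      σ ∈ (T : Subgroup (Perm (Pt m r))) ↔ ∃ hσ : σ ∈ pairStab m r,
        pairHom m r ⟨σ, hσ⟩ ∈ (Q : Subgroup (Perm (Fin m))) := by
  haveI : Fact (Nat.Prime 2) := ⟨Nat.prime_two⟩
  set U := ((Q : Subgroup (Perm (Fin m))).comap (pairHom m r)).map (pairStab m r).subtype with hU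
  have hUp : IsPGroup 2 U := (Q.2.comap_of_ker_isPGroup _ (pairHom_ker_isPGroup hr)).map _
  have hUi : ¬ 2 ∣ U.index := by
    rw [hU, Subgroup.index_map_subtype, Subgroup.index_comap_of_surjective _ pairHom_surjective]
    intro h
    exact (Nat.prime_two.dvd_mul.1 h).elim Q.not_dvd_index (index_pairStab_odd hr)
  refine ⟨hUp.toSylow hUi, fun σ => ?_⟩
  constructor
  · rintro ⟨⟨u, hu⟩, hmem, rfl⟩
    exact ⟨hu, hmem⟩
  · rintro ⟨hσ, hmem⟩
    exact ⟨⟨σ, hσ⟩, hmem, rfl⟩

theorem normalizer_sylow_pairs (hr : r ≤ 1) (hm : SylowSelfNormalizing 2 (Perm (Fin m)))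
    (Q : Sylow 2 (Perm (Fin m))) (T : Sylow 2 (Perm (Pt m r)))
    (hT : ∀ σ : Perm (Pt m r), σ ∈ (T : Subgroup (Perm (Pt m r))) ↔ ∃ hσ : σ ∈ pairStab m r,
      pairHom m r ⟨σ, hσ⟩ ∈ (Q : Subgroup (Perm (Fin m)))) :
    Subgroup.normalizer ((T : Subgroup (Perm (Pt m r))) : Set (Perm (Pt m r))) ≤ T := by
  intro x hx
  rw [Subgroup.mem_normalizer_iff] at hx
  have hxC : x ∈ pairStab m r := by
    refine mem_pairStab_of_inl hr fun i b => ?_
    have hs : Equiv.swap (Sum.inl (i, b) : Pt m r) (.inl (i, !b)) ∈ (T : Subgroup (Perm (Pt m r))) := by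
      rw [show Equiv.swap (Sum.inl (i, b) : Pt m r) (.inl (i, !b)) = pairSwap i by
        cases b
        · rfl
        · exact Equiv.swap_comm _ _, hT]
      exact ⟨pairSwap_mem i, by rw [pairHom_pairSwap]; exact one_mem _⟩
    have h2 := (hx _).1 hs
    rw [← Equiv.swap_apply_apply, hT] at h2
    rw [flip_inl, flip_eq_of_swap_mem hr (fun h => by simpa using x.injective h) h2.1]
  rw [hT]
  refine ⟨hxC, hm Q ?_⟩
  rw [Subgroup.mem_normalizer_iff]
  intro z
  obtain ⟨⟨σ, hσ⟩, rfl⟩ := pairHom_surjective (r := r) z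
  rw [← map_inv, ← map_mul, ← map_mul]
  constructor
  · intro h
    obtain ⟨_, h2⟩ := (hT _).1 ((hx σ).1 ((hT _).2 ⟨hσ, h⟩))
    exact h2
  · intro h
    obtain ⟨_, h2⟩ := (hT σ).1 ((hx σ).2 ((hT _).2 ⟨_, h⟩))
    exact h2

/-- Sylow 2-subgroups of symmetric groups are self-normalizing. -/
theorem sylowSelfNormalizing_perm_fin (n : ℕ) : SylowSelfNormalizing 2 (Perm (Fin n)) := by
  haveI : Fact (Nat.Prime 2) := ⟨Nat.prime_two⟩
  induction n using Nat.strong_induction_on with
  | _ n ih =>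
    rcases le_or_gt n 1 with hn | hn
    · haveI : Subsingleton (Fin n) := Fin.subsingleton_iff_le_one.2 hn
      intro S x _
      rw [Subsingleton.elim x 1]
      exact one_mem _
    · have hm := ih (n / 2) (Nat.div_lt_self (by omega) one_lt_two)
      have hr : n % 2 ≤ 1 := by omega
      obtain ⟨Q⟩ := (inferInstance : Nonempty (Sylow 2 (Perm (Fin (n / 2)))))
      obtain ⟨T, hT⟩ := exists_sylow_pairs hr Q
      have e : Pt (n / 2) (n % 2) ≃ Fin n := Fintype.equivOfCardEq (by
        simp only [Fintype.card_sum, Fintype.card_prod, Fintype.card_fin, Fintype.card_bool]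
        omega)
      exact sylowSelfNormalizing_of_mulEquiv e.permCongrHom
        (sylowSelfNormalizing_of_one T (normalizer_sylow_pairs hr hm Q T hT))

/-- Sylow 2-subgroups of alternating groups of degree at least 6 are self-normalizing. -/
theorem sylowSelfNormalizing_alternating (n : ℕ) (hn : 6 ≤ n) :
    SylowSelfNormalizing 2 (alternatingGroup (Fin n)) := by
  haveI : Fact (Nat.Prime 2) := ⟨Nat.prime_two⟩
  obtain ⟨m, r, hr, rfl⟩ : ∃ m r, r ≤ 1 ∧ n = m * 2 + r := ⟨n / 2, n % 2, by omega, by omega⟩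
  have hm3 : 3 ≤ m := by omega
  have e : Pt m r ≃ Fin (m * 2 + r) := Fintype.equivOfCardEq (by simp)
  refine sylowSelfNormalizing_of_mulEquiv e.altCongrHom ?_
  obtain ⟨Q⟩ := (inferInstance : Nonempty (Sylow 2 (Perm (Fin m))))
  obtain ⟨T, hT⟩ := exists_sylow_pairs hr Q
  set A := alternatingGroup (Pt m r) with hA
  haveI : A.Normal := inferInstance
  have hi : ¬ 2 ∣ ((T : Subgroup (Perm (Pt m r))).subgroupOf A).index := fun h =>
    T.not_dvd_index (h.trans (CfsgLib.Solv.relIndex_normal_dvd_index _ A))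
  refine sylowSelfNormalizing_of_one ((IsPGroup.comap_subtype T.2).toSylow hi) ?_
  rintro ⟨x, hxA⟩ hx
  rw [Subgroup.mem_normalizer_iff] at hx
  have hx' : ∀ s : Perm (Pt m r), s ∈ A → (s ∈ (T : Subgroup (Perm (Pt m r))) ↔
      x * s * x⁻¹ ∈ (T : Subgroup (Perm (Pt m r)))) := fun s hs => hx ⟨s, hs⟩
  show x ∈ (T : Subgroup (Perm (Pt m r)))
  have hinv : ∀ z, x⁻¹ (x z) = z := x.symm_apply_apply
  -- double transpositions
  have hpair : ∀ j k : Fin m, (pairSwap j * pairSwap k : Perm (Pt m r)) ∈ A ∧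
      (pairSwap j * pairSwap k : Perm (Pt m r)) ∈ (T : Subgroup (Perm (Pt m r))) := by
    intro j k
    refine ⟨?_, mul_mem ?_ ?_⟩
    · rw [hA, Equiv.Perm.mem_alternatingGroup, map_mul, pairSwap, pairSwap, Equiv.Perm.sign_swap (by simp),
        Equiv.Perm.sign_swap (by simp)]
      rfl
    all_goals exact (hT _).2 ⟨pairSwap_mem _, by rw [pairHom_pairSwap]; exact one_mem _⟩
  have hthird : ∀ j i : Fin m, ∃ k, k ≠ j ∧ k ≠ i := by
    intro j i
    have h : (({j, i} : Finset (Fin m))ᶜ).Nonempty := by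
      rw [← Finset.card_pos, Finset.card_compl, Fintype.card_fin]
      have := Finset.card_le_two (a := j) (b := i)
      omega
    obtain ⟨k, hk⟩ := h
    simp at hk
    exact ⟨k, hk.1, hk.2⟩
  haveI : Subsingleton (Fin r) := Fin.subsingleton_iff_le_one.2 hr
  have hxC : x ∈ pairStab m r := by
    refine mem_pairStab_of_inl hr fun i b => ?_
    rw [flip_inl]
    set a : Pt m r := .inl (i, b) with ha
    -- the image of a moved point is moved
    have hback : ∀ j k : Fin m, x⁻¹ * (pairSwap j * pairSwap k) * x ∈ pairStab m r := by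
      intro j k
      have hmemA : x⁻¹ * (pairSwap j * pairSwap k) * x ∈ A :=
        A.mul_mem (A.mul_mem (A.inv_mem hxA) (hpair j k).1) hxA
      exact ((hT _).1 ((hx' _ hmemA).2 (by
        rw [show x * (x⁻¹ * (pairSwap j * pairSwap k) * x) * x⁻¹ = pairSwap j * pairSwap k by group]
        exact (hpair j k).2))).1
    rcases hxa : x a with ⟨j, c⟩ | k
    swap
    · exfalso
      obtain ⟨l, hl, -⟩ := hthird i i
      have hmemA := A.mul_mem (A.mul_mem hxA (hpair i l).1) (A.inv_mem hxA)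
      have hC' := ((hT _).1 ((hx' _ (hpair i l).1).1 (hpair i l).2)).1
      obtain ⟨k', hk'⟩ := exists_pairStab_inr hC' k
      rw [Subsingleton.elim k' k, ← hxa, Perm.mul_apply, Perm.mul_apply, hinv,
        Perm.mul_apply, ha, pairSwap_of_ne hl.symm, pairSwap_self] at hk'
      have := x.injective hk'
      simp at this
    rw [flip_inl]
    -- the image of the partner is fixed by the elements fixing `x a`
    have hfix : ∀ l k, l ≠ j → k ≠ j → (pairSwap l * pairSwap k : Perm (Pt m r)) (x (.inl (i, !b))) =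
        x (.inl (i, !b)) := by
      intro l k hl hk
      have h1 : (x⁻¹ * (pairSwap l * pairSwap k) * x : Perm (Pt m r)) a = a := by
        rw [Perm.mul_apply, Perm.mul_apply, hxa, Perm.mul_apply, pairSwap_of_ne hk.symm,
          pairSwap_of_ne hl.symm, ← hxa, hinv]
      have h2 := mem_pairStab.1 (hback l k) a
      rw [h1, ha, flip_inl, Perm.mul_apply, Perm.mul_apply, Perm.inv_eq_iff_eq] at h2
      exact h2
    rcases hxf : x (.inl (i, !b)) with ⟨j', c'⟩ | k
    · rcases eq_or_ne j' j with rfl | hjj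
      · have hcc : c' ≠ c := by
          rintro rfl
          rw [← hxa] at hxf
          have := x.injective hxf
          rw [ha] at this
          simp at this
        have : c' = !c := by cases c <;> cases c' <;> simp_all
        rw [this]
      · exfalso
        obtain ⟨l, hl1, hl2⟩ := hthird j j'
        have h := hfix j' l hjj hl1
        rw [hxf, Perm.mul_apply, pairSwap_of_ne (Ne.symm hl2), pairSwap_self] at h
        simp at h
    · exfalso
      obtain ⟨l, hl, -⟩ := hthird i i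
      have hC' := ((hT _).1 ((hx' _ (hpair i l).1).1 (hpair i l).2)).1
      obtain ⟨k', hk'⟩ := exists_pairStab_inr hC' k
      rw [Subsingleton.elim k' k, ← hxf, Perm.mul_apply, Perm.mul_apply, hinv,
        Perm.mul_apply, pairSwap_of_ne hl.symm, pairSwap_self] at hk'
      have := x.injective hk'
      simp at this
  -- `x` normalises the whole of `T`
  have hxN : x ∈ Subgroup.normalizer ((T : Subgroup (Perm (Pt m r))) : Set (Perm (Pt m r))) := by
    haveI : Finite (T : Subgroup (Perm (Pt m r))) := inferInstance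
    obtain ⟨i₀⟩ : Nonempty (Fin m) := ⟨⟨0, by omega⟩⟩
    have hsw : (pairSwap i₀ : Perm (Pt m r)) ∈ (T : Subgroup (Perm (Pt m r))) :=
      (hT _).2 ⟨pairSwap_mem _, by rw [pairHom_pairSwap]; exact one_mem _⟩
    have hswx : x * pairSwap i₀ * x⁻¹ ∈ (T : Subgroup (Perm (Pt m r))) := by
      have hmem : x * pairSwap i₀ * x⁻¹ ∈ pairStab m r :=
        mul_mem (mul_mem hxC (pairSwap_mem i₀)) (inv_mem hxC)
      refine (hT _).2 ⟨hmem, ?_⟩
      have h1 : pairHom m r ⟨x * pairSwap i₀ * x⁻¹, hmem⟩ = 1 := by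
        rw [show (⟨x * pairSwap i₀ * x⁻¹, hmem⟩ : pairStab m r) =
          ⟨x, hxC⟩ * ⟨pairSwap i₀, pairSwap_mem i₀⟩ * ⟨x, hxC⟩⁻¹ from rfl, map_mul, map_mul,
          pairHom_pairSwap, mul_one, map_inv, mul_inv_cancel]
      rw [h1]; exact one_mem _
    have hle : ∀ t ∈ (T : Subgroup (Perm (Pt m r))), x * t * x⁻¹ ∈ (T : Subgroup (Perm (Pt m r))) := by
      intro t ht
      by_cases htA : t ∈ A
      · exact (hx' t htA).1 ht
      · have h1 : t * pairSwap i₀ ∈ A := by
          rw [hA, Equiv.Perm.mem_alternatingGroup] at htA ⊢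
          rw [map_mul, pairSwap, Equiv.Perm.sign_swap (by simp)]
          rcases Int.units_eq_one_or (Perm.sign t) with h | h
          · exact absurd h htA
          · rw [h]; rfl
        have h2 := (hx' _ h1).1 (mul_mem ht hsw)
        rw [show x * t * x⁻¹ = x * (t * pairSwap i₀) * x⁻¹ * (x * pairSwap i₀ * x⁻¹)⁻¹ by group]
        exact mul_mem h2 (inv_mem hswx)
    exact CfsgLib.Solv.mem_normalizer_of_conj_smul_eq (Subgroup.eq_of_le_of_card_ge
      (by rintro _ ⟨t, ht, rfl⟩; exact hle t ht) (CfsgLib.Solv.card_conj_smul x _).ge)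
  exact normalizer_sylow_pairs hr (sylowSelfNormalizing_perm_fin m) Q T hT hxN

end CfsgLib.Perm
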