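import Mathlib
import Cfsg.Prelude.Def_OddOrderLocal
import Cfsg.Agent.Solv.Generation
import Cfsg.Agent.Solv.CoprimeSylow
import Cfsg.Agent.Solv.UniqueSub

/-!
Trivial intersection subgroups that are Hall in their normalizers, in π-separable groups.
-/

set_option autoImplicit false
set_option linter.style.haveILetI false
set_option linter.deprecated false
set_option linter.unusedSectionVars false

open scoped Pointwise commutatorElement IsMulCommutative

namespace CfsgLib.Perm.TI

open CfsgLib.Solv

variable {G : Type*} [Group G] [Finite G] {H : Subgroup G}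

/-- The largest normal subgroup of order prime to the order of `H`. -/
def cop (H : Subgroup G) : Subgroup G :=
  sSup {K : Subgroup G | K.Normal ∧ (Nat.card K).Coprime (Nat.card H)}

theorem cop_spec (H : Subgroup G) : (cop H).Normal ∧ (Nat.card (cop H)).Coprime (Nat.card H) :=
  normal_and_prop_sSup (fun K : Subgroup G => (Nat.card K).Coprime (Nat.card H))
    (by rw [Subgroup.card_bot]; exact Nat.coprime_one_left _)
    fun M N _ hN hM hN' => haveI := hN; (hM.mul_left hN').coprime_dvd_left (card_sup_dvd_mul M N)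

theorem le_cop {K : Subgroup G} (hK : K.Normal) (h : (Nat.card K).Coprime (Nat.card H)) : K ≤ cop H :=
  le_sSup ⟨hK, h⟩

/-- An element conjugating a nontrivial element of `H` into `H` normalizes `H`. -/
theorem mem_normalizer_of_conj_mem (hTI : Cfsg.IsTISubset (H : Set G)) {g x : G} (hx : x ∈ H) (hx1 : x ≠ 1)
    (h : g * x * g⁻¹ ∈ H) : g ∈ Subgroup.normalizer (H : Set G) := by
  by_contra hg
  exact hx1 (hTI g hg x hx h)

theorem normalizer_le (hTI : Cfsg.IsTISubset (H : Set G)) {X : Subgroup G} (hX : X ≤ H) (hne : X ≠ ⊥) :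
    Subgroup.normalizer (X : Set G) ≤ Subgroup.normalizer (H : Set G) := by
  intro g hg
  obtain ⟨x, hx, hx1⟩ := X.bot_or_exists_ne_one.resolve_left hne
  exact mem_normalizer_of_conj_mem hTI (hX hx) hx1 (hX ((Subgroup.mem_normalizer_iff.1 hg x).1 hx))

theorem not_coprime {a b p : ℕ} (hp : p.Prime) (h1 : p ∣ a) (h2 : p ∣ b) : ¬ a.Coprime b :=
  Nat.not_coprime_of_dvd_of_dvd hp.one_lt h1 h2

/-- Second isomorphism theorem for indices. -/
theorem relIndex_dvd_of_normal_right {Γ : Type*} [Group Γ] [Finite Γ] (X K : Subgroup Γ) [K.Normal] :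
    X.relIndex K ∣ X.index := by
  have e1 := relIndex_mul_card (le_sup_left : X ≤ X ⊔ K)
  have e2 := relIndex_mul_card (le_sup_right : K ≤ X ⊔ K)
  have e3 := relIndex_mul_card (inf_le_left : X ⊓ K ≤ X)
  have e4 := relIndex_mul_card (inf_le_right : X ⊓ K ≤ K)
  rw [Subgroup.inf_relIndex_right] at e4
  rw [inf_comm, Subgroup.inf_relIndex_right, inf_comm] at e3
  rw [Subgroup.relIndex_sup_right] at e2
  have h : Nat.card X * X.relIndex K = Nat.card X * X.relIndex (X ⊔ K) := by
    rw [e1, ← e2, ← e4, ← e3]; ring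
  rw [Nat.eq_of_mul_eq_mul_left Nat.card_pos h]
  exact Subgroup.relIndex_dvd_index_of_le le_sup_left

/-- The standing hypotheses. -/
structure Data (H : Subgroup G) : Prop where
  ti : Cfsg.IsTISubset (H : Set G)
  nn : ¬ H.Normal
  hall : (Nat.card H).Coprime (H.relIndex (Subgroup.normalizer (H : Set G)))
  sep : ∃ (n : ℕ) (M : Fin (n + 1) → Subgroup G), M 0 = ⊥ ∧ M (Fin.last n) = ⊤ ∧ Monotone M ∧ (∀ i, (M i).Normal) ∧
    ∀ i : Fin n, (∀ q : ℕ, q.Prime → q ∣ (M i.castSucc).relIndex (M i.succ) → q ∣ Nat.card H) ∨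
      ((M i.castSucc).relIndex (M i.succ)).Coprime (Nat.card H)

variable (D : Data H)
include D

theorem coprime_index : (Nat.card H).Coprime H.index := by
  refine Nat.coprime_of_dvd fun p hp hpH hpi => ?_
  haveI := Fact.mk hp
  obtain ⟨P⟩ : Nonempty (Sylow p H) := inferInstance
  set U := (P : Subgroup H).map H.subtype
  have hUH : U ≤ H := Subgroup.map_subtype_le _
  have hUne : U ≠ ⊥ := fun e =>
    P.ne_bot_of_dvd_card hpH ((Subgroup.map_eq_bot_iff_of_injective _ H.subtype_injective).1 e)
  have hni : ¬ p ∣ U.relIndex (Subgroup.normalizer (H : Set G)) := by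
    rw [← Subgroup.relIndex_mul_relIndex U H _ hUH Subgroup.le_normalizer]
    intro hd
    rcases hp.dvd_mul.1 hd with h | h
    · refine P.not_dvd_index ?_
      rwa [Subgroup.relIndex, Subgroup.subgroupOf, Subgroup.comap_map_eq_self_of_injective H.subtype_injective] at h
    · exact (not_coprime hp (hpH) (h) D.hall).elim
  obtain ⟨T, hT⟩ := exists_sylow_eq_of_normalizer (P.2.map H.subtype) (U := U) fun R hR hUR hRN => by
    have hRH : R ≤ Subgroup.normalizer (H : Set G) := hRN.trans (normalizer_le D.ti hUH hUne)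
    by_contra hne
    refine hni ?_
    rw [← Subgroup.relIndex_mul_relIndex U R _ hUR hRH]
    refine Dvd.dvd.mul_right ?_ _
    obtain ⟨k, hk⟩ := IsPGroup.iff_card.1 hR
    obtain ⟨j, -, hj⟩ := (Nat.dvd_prime_pow hp).1 (hk ▸ Subgroup.relIndex_dvd_card U R)
    refine hj ▸ dvd_pow_self p fun h0 => hne ?_
    rw [h0, pow_zero, Subgroup.relIndex_eq_one] at hj
    exact le_antisymm hj hUR
  refine T.not_dvd_index ?_
  rw [hT]
  exact hpi.trans (Subgroup.index_dvd_of_le hUH)

theorem sup_normalizer_eq_top : cop H ⊔ Subgroup.normalizer (H : Set G) = ⊤ := by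
  classical
  obtain ⟨n, M, h0, hn, hmono, hnorm, hfac⟩ := D.sep
  have hHne : Nat.card H ≠ 1 := fun h => D.nn (by rw [Subgroup.card_eq_one.1 h]; infer_instance)
  have hlast : ¬ (Nat.card (M (Fin.last n))).Coprime (Nat.card H) := by
    rw [hn, Subgroup.card_top]
    intro h
    exact hHne (Nat.eq_one_of_dvd_coprimes h H.card_subgroup_dvd_card dvd_rfl)
  obtain ⟨i, hi, hi'⟩ : ∃ i : Fin n, (Nat.card (M i.castSucc)).Coprime (Nat.card H) ∧
      ¬ (Nat.card (M i.succ)).Coprime (Nat.card H) := by
    by_contra hcon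
    push Not at hcon
    refine hlast (Fin.induction (motive := fun j => (Nat.card (M j)).Coprime (Nat.card H))
      (by rw [h0, Subgroup.card_bot]; exact Nat.coprime_one_left _) (fun i hi => hcon i hi) _)
  set A := M i.castSucc
  set K := M i.succ
  haveI : K.Normal := hnorm _
  have hAK : A ≤ K := hmono (Fin.castSucc_le_succ i)
  have hπ : ∀ q : ℕ, q.Prime → q ∣ A.relIndex K → q ∣ Nat.card H := (hfac i).resolve_right fun h => hi' (by
    rw [← relIndex_mul_card hAK]; exact hi.mul_left h)
  have hAO : A ≤ cop H := le_cop (hnorm _) hi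
  set X := H ⊓ K
  have hcop : (Nat.card H).Coprime (X.relIndex K) := by
    refine (coprime_index D).coprime_dvd_right ?_
    rw [Subgroup.inf_relIndex_right]
    exact relIndex_dvd_of_normal_right H K
  have hcardK : Nat.card K = Nat.card A * A.relIndex K := (relIndex_mul_card hAK).symm
  have hcardK' : Nat.card K = Nat.card X * X.relIndex K := (relIndex_mul_card inf_le_right).symm
  have hcXA : (Nat.card X).Coprime (Nat.card A) :=
    hi.symm.coprime_dvd_left (Subgroup.card_dvd_of_le inf_le_left)
  have hrel : A.relIndex K ∣ Nat.card X := by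
    refine Nat.Coprime.dvd_of_dvd_mul_right (n := X.relIndex K) ?_ (hcardK' ▸ hcardK ▸ dvd_mul_left _ _)
    exact Nat.coprime_of_dvd fun q hq h1 h2 => (not_coprime hq (hπ q hq h1) (h2) hcop).elim
  have hKsup : K = A ⊔ X := by
    refine (Subgroup.eq_of_le_of_card_ge (sup_le hAK inf_le_right) ?_).symm
    refine Nat.le_of_dvd Nat.card_pos ?_
    rw [hcardK]
    refine Nat.Coprime.mul_dvd_of_dvd_of_dvd ?_ (Subgroup.card_dvd_of_le le_sup_left)
      (hrel.trans (Subgroup.card_dvd_of_le le_sup_right))
    exact Nat.coprime_of_dvd fun q hq h1 h2 => (not_coprime hq (h1) (hπ q hq h2) hi).elim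
  have hKle : K ≤ cop H ⊔ Subgroup.normalizer (H : Set G) :=
    hKsup.le.trans (sup_le_sup hAO (inf_le_left.trans Subgroup.le_normalizer))
  obtain ⟨p, hp, hpK, hpH⟩ := Nat.Prime.not_coprime_iff_dvd.1 hi'
  haveI := Fact.mk hp
  have hpX : p ∣ Nat.card X := by
    rcases hp.dvd_mul.1 (hcardK' ▸ hpK) with h | h
    · exact h
    · exact (not_coprime hp hpH h hcop).elim
  obtain ⟨S⟩ : Nonempty (Sylow p (X.subgroupOf K)) := inferInstance
  set U := ((S : Subgroup (X.subgroupOf K)).map (X.subgroupOf K).subtype)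
  have hUK : ¬ p ∣ U.index := by
    rw [← Subgroup.relIndex_mul_index (Subgroup.map_subtype_le _ : U ≤ X.subgroupOf K)]
    intro hd
    rcases hp.dvd_mul.1 hd with h | h
    · refine S.not_dvd_index ?_
      have e : U.subgroupOf (X.subgroupOf K) = S :=
        Subgroup.comap_map_eq_self_of_injective (Subgroup.subtype_injective _) _
      rwa [Subgroup.relIndex, e] at h
    · exact (not_coprime hp (hpH) (h) hcop).elim
  let P : Sylow p K := (S.2.map _).toSylow hUK
  have hPX : (P : Subgroup K).map K.subtype ≤ H := by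
    rintro _ ⟨x, hx, rfl⟩
    have hx' : x ∈ X.subgroupOf K := (Subgroup.map_subtype_le _ : U ≤ X.subgroupOf K) hx
    exact hx'.1
  have hPne : (P : Subgroup K).map K.subtype ≠ ⊥ := fun e =>
    P.ne_bot_of_dvd_card hpK ((Subgroup.map_eq_bot_iff_of_injective _ K.subtype_injective).1 e)
  refine top_le_iff.1 ?_
  rw [← Sylow.normalizer_sup_eq_top P]
  exact sup_le ((normalizer_le D.ti hPX hPne).trans le_sup_right) hKle

/-- With abelian Sylow 2-subgroups all Sylow subgroups of `H` are cyclic. -/
theorem isZGroup (h2 : ∀ P : Sylow 2 H, IsMulCommutative (P : Subgroup H)) : IsZGroup H := by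
  refine ⟨fun p hp P => ?_⟩
  haveI := Fact.mk hp
  by_cases huniq : ∀ x y : P, orderOf x = p → orderOf y = p → y ∈ Subgroup.zpowers x
  · rcases pgroup_unique_sub P.2 huniq with h | ⟨hp2, n, ⟨e⟩⟩
    · exact h
    subst hp2
    exfalso
    haveI := h2 P
    set m := 2 ^ (n + 1) with hm
    obtain ⟨u, hu⟩ := e.surjective (QuaternionGroup.a 1)
    obtain ⟨v, hv⟩ := e.surjective (QuaternionGroup.xa 0)
    have hc : e (u * v) = e (v * u) := by rw [mul_comm' u v]
    rw [map_mul, map_mul, hu, hv, QuaternionGroup.a_mul_xa, QuaternionGroup.xa_mul_a,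
      QuaternionGroup.xa.injEq] at hc
    have h2' : ((2 : ℕ) : ZMod (2 * m)) = 0 := by push_cast; linear_combination (-1 : ZMod (2 * m)) * hc
    rw [ZMod.natCast_eq_zero_iff] at h2'
    have h4 : 4 ≤ 2 * m := by
      rw [hm, pow_succ]
      have : 1 ≤ 2 ^ n := Nat.one_le_two_pow
      omega
    have := Nat.le_of_dvd two_pos h2'
    omega
  exfalso
  push Not at huniq
  obtain ⟨x, y, hx, hy, hxy⟩ := huniq
  obtain ⟨A, hA, hAc⟩ : ∃ A : Subgroup P, IsMulCommutative A ∧ ¬ IsCyclic A := by
    by_contra hcon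
    push Not at hcon
    exact hxy (unique_of_abelian_cyclic P.2 hcon x y hx hy)
  obtain ⟨q, hq, hqA, u, v, hu, hv, hv1, huv⟩ := exists_pair_of_not_isCyclic (A := A) (by exact hAc)
  obtain ⟨k, hk⟩ := IsPGroup.iff_card.1 (P.2.to_subgroup A)
  obtain rfl : q = p := (Nat.prime_dvd_prime_iff_eq hq hp).1 (hq.dvd_of_dvd_pow (hk ▸ hqA))
  set ι : A →* G := (H.subtype.comp (P : Subgroup H).subtype).comp A.subtype
  have hι : Function.Injective ι :=
    (H.subtype_injective.comp (Subgroup.subtype_injective _)).comp A.subtype_injective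
  set E := Subgroup.closure ({ι u, ι v} : Set G)
  haveI hEc : IsMulCommutative E := Subgroup.isMulCommutative_closure (by
    rintro a (rfl | rfl) b (rfl | rfl)
    · rfl
    · rw [← map_mul, ← map_mul, mul_comm' u v]
    · rw [← map_mul, ← map_mul, mul_comm' v u]
    · rfl)
  have hEr : E ≤ ι.range := (Subgroup.closure_le _).2 (by rintro a (rfl | rfl) <;> exact ⟨_, rfl⟩)
  have hrH : ι.range ≤ H := by rintro _ ⟨a, rfl⟩; exact ((a : P) : H).2
  obtain ⟨hOn, hOc⟩ := cop_spec (G := G) H
  set O := cop H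
  haveI : O.Normal := hOn
  have hEO : E ≤ Subgroup.normalizer (O : Set G) := by
    rw [Subgroup.normalizer_eq_top_iff.2 hOn]; exact le_top
  have hcopE : (Nat.card E).Coprime (Nat.card O) :=
    hOc.symm.coprime_dvd_left (Subgroup.card_dvd_of_le (hEr.trans hrH))
  have hcent : ∀ a ∈ E, a ≠ 1 → Subgroup.centralizer ({a} : Set G) ≤ Subgroup.normalizer (H : Set G) := by
    intro a ha ha1 g hg
    refine mem_normalizer_of_conj_mem D.ti (hrH (hEr ha)) ha1 ?_
    rw [Subgroup.mem_centralizer_singleton_iff.1 hg, mul_inv_cancel_right]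
    exact hrH (hEr ha)
  have huE : ι u ∈ E := Subgroup.subset_closure (by simp)
  have hvE : ι v ∈ E := Subgroup.subset_closure (by simp)
  have hON : O ≤ Subgroup.normalizer (H : Set G) := by
    refine le_of_forall_invariant_pGroup hEO hcopE (Or.inl (isSolvable_of_isMulCommutative E)) ?_
    intro r R hr hR hRO hER
    haveI := Fact.mk hr
    refine le_of_centralizers_pair (q := q) huE hvE R (by haveI := hR.isNilpotent; infer_instance) hER
      (hcopE.coprime_dvd_right (Subgroup.card_dvd_of_le hRO)) ?_ ?_ ?_ (fun i => ?_) ?_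
    · refine hp.coprime_iff_not_dvd.2 fun hd => ?_
      exact not_coprime hp (hd.trans (Subgroup.card_dvd_of_le hRO))
        (((dvd_of_eq hx.symm).trans (orderOf_dvd_natCard x)).trans (P : Subgroup H).card_subgroup_dvd_card) hOc
    · intro z _; rw [← map_pow, hu, map_one, one_mul, mul_one]
    · intro z _; rw [← map_pow, hv, map_one, one_mul, mul_one]
    · refine inf_le_right.trans (hcent _ (E.mul_mem huE (E.pow_mem hvE i)) fun e => huv ?_)
      rw [← map_pow, ← map_mul] at e
      rw [eq_inv_of_mul_eq_one_left (hι (e.trans (map_one ι).symm))]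
      exact Subgroup.inv_mem _ (Subgroup.pow_mem _ (Subgroup.mem_zpowers v) i)
    · exact inf_le_right.trans (hcent _ hvE fun e => hv1 (hι (e.trans (map_one ι).symm)))
  have htop := sup_normalizer_eq_top D
  rw [sup_eq_right.2 hON] at htop
  exact D.nn (Subgroup.normalizer_eq_top_iff.1 htop)

/-- The fixed points of a complement form a Hall subgroup with a normal complement. -/
theorem hall_centralizer (h2 : ∀ P : Sylow 2 H, IsMulCommutative (P : Subgroup H)) (Q : Subgroup G)
    (hQ : Q ≤ Subgroup.normalizer (H : Set G)) (hQH : Q ⊓ H = ⊥)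
    (hQH' : Q ⊔ H = Subgroup.normalizer (H : Set G)) :
    (Nat.card ↥(H ⊓ Subgroup.centralizer (Q : Set G))).Coprime (H ⊓ Subgroup.centralizer (Q : Set G)).index ∧
    ∃ N : Subgroup G, N.Normal ∧ N.IsComplement' (H ⊓ Subgroup.centralizer (Q : Set G)) := by
  classical
  haveI hZ := isZGroup D h2
  haveI hHs : Group.IsSolvable H := inferInstance
  set C := H ⊓ Subgroup.centralizer (Q : Set G)
  set L := ⁅H, Q⁆
  have hLH : L ≤ H := commutator_le_of_le_normalizer hQ
  have hHL : H ≤ Subgroup.normalizer (L : Set G) := left_le_normalizer_commutator H Q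
  have hQL : Q ≤ Subgroup.normalizer (L : Set G) := right_le_normalizer_commutator H Q
  have hcardQ : (Nat.card Q).Coprime (Nat.card H) := by
    refine D.hall.symm.coprime_dvd_left ?_
    haveI : (H.subgroupOf (Subgroup.normalizer (H : Set G))).Normal := Subgroup.normal_in_normalizer
    refine dvd_trans ?_ (Subgroup.relIndex_dvd_index_of_normal (H.subgroupOf (Subgroup.normalizer (H : Set G)))
      (Q.subgroupOf (Subgroup.normalizer (H : Set G))))
    rw [Subgroup.relIndex_subgroupOf hQ, ← Subgroup.inf_relIndex_right, inf_comm, hQH, Subgroup.relIndex_bot_left]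
  haveI hLs : Group.IsSolvable L := isSolvable_of_le hLH
  haveI : IsZGroup L := IsZGroup.of_injective (f := Subgroup.inclusion hLH) (Subgroup.inclusion_injective hLH)
  have hLL : ⁅L, Q⁆ = L := commutator_commutator_right hQ hcardQ (Or.inr hHs)
  have hkey : ∀ p : ℕ, p.Prime → p ∣ Nat.card C → ¬ p ∣ Nat.card L := by
    intro p hp hpC hpL
    haveI := Fact.mk hp
    obtain ⟨c, hc⟩ := exists_prime_orderOf_dvd_card' p hpC
    have hcp : IsPGroup p (Subgroup.zpowers (c : G)) := IsPGroup.of_card (n := 1)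
      (by rw [Nat.card_zpowers, Subgroup.orderOf_coe, hc, pow_one])
    obtain ⟨S, hcS, hSQ⟩ := exists_invariant_sylow_ge hQ hcardQ (Or.inr hHs)
      (Subgroup.zpowers_le.2 c.2.1) hcp (fun q hq => by
        rw [Subgroup.mem_normalizer_iff]
        intro x
        have hcq : ∀ x ∈ Subgroup.zpowers (c : G), q * x * q⁻¹ = x := by
          intro x hx
          obtain ⟨j, rfl⟩ := Subgroup.mem_zpowers_iff.1 hx
          rw [Subgroup.mem_centralizer_iff.1 (Subgroup.zpow_mem _ c.2.2 j) q hq, mul_inv_cancel_right]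
        refine ⟨fun hx => by rwa [hcq x hx], fun hx => ?_⟩
        have h' := hcq _ hx
        have : q * x * q⁻¹ = x := mul_left_cancel (mul_right_cancel h')
        rwa [this] at hx)
    set U := (S : Subgroup H).map H.subtype
    haveI : IsCyclic U :=
      isCyclic_of_surjective _ ((S : Subgroup H).equivMapOfInjective H.subtype H.subtype_injective).surjective
    have hUQ : Q ≤ Subgroup.centralizer (U : Set G) := by
      have hcopU : (Nat.card U).Coprime (Nat.card Q) :=
        hcardQ.symm.coprime_dvd_left (Subgroup.card_dvd_of_le (Subgroup.map_subtype_le _))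
      rcases (S.2.map H.subtype).commutator_eq_bot_or_commutator_eq_self hSQ hcopU with h | h
      · exact Subgroup.commutator_eq_bot_iff_le_centralizer.1 h
      · exfalso
        have hfix := abelian_fixed_inf_commutator (A := Q) (V := U) IsCyclic.isMulCommutative hSQ hcopU.symm
        have hmem : (c : G) ∈ (U ⊓ Subgroup.centralizer (Q : Set G)) ⊓ ⁅U, Q⁆ := by
          rw [Subgroup.commutator_comm, h]
          exact ⟨⟨hcS (Subgroup.mem_zpowers _), c.2.2⟩, hcS (Subgroup.mem_zpowers _)⟩
        rw [hfix, Subgroup.mem_bot] at hmem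
        rw [← Subgroup.orderOf_coe, hmem, orderOf_one] at hc
        exact hp.ne_one hc.symm
    haveI : (L.subgroupOf H).Normal := Subgroup.normal_subgroupOf_of_le_normalizer hHL
    -- the Sylow subgroup of L
    set R₀ := U.subgroupOf L
    have hR₀p : IsPGroup p R₀ := (S.2.map H.subtype).comap_of_injective L.subtype L.subtype_injective
    have hR₀i : ¬ p ∣ R₀.index := by
      intro hd
      refine S.not_dvd_index (hd.trans ?_)
      show U.relIndex L ∣ _
      rw [show (S : Subgroup H).index = U.relIndex H by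
        rw [Subgroup.relIndex, Subgroup.subgroupOf, Subgroup.comap_map_eq_self_of_injective H.subtype_injective]]
      rw [← Subgroup.relIndex_subgroupOf hLH, show U.relIndex H = (U.subgroupOf H).index from rfl]
      exact relIndex_dvd_of_normal_right _ _
    let R : Sylow p L := hR₀p.toSylow hR₀i
    haveI : IsCyclic R := inferInstance
    have hRfix : ∀ x : L, x ∈ (R : Subgroup L) → ∀ q ∈ Q, q * (x : G) * q⁻¹ = x := fun x hx q hq => by
      rw [← Subgroup.mem_centralizer_iff.1 (hUQ hq) x hx, mul_inv_cancel_right]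
    have hconj : ∀ q ∈ Q, ∀ l : G, l ∈ L → q * l * q⁻¹ ∈ L := fun q hq l hl =>
      (Subgroup.mem_normalizer_iff.1 (hQL hq) l).1 hl
    -- central in its normalizer
    have hRN : Subgroup.normalizer ((R : Subgroup L) : Set L) ≤ Subgroup.centralizer ((R : Subgroup L) : Set L) := by
      rcases Sylow.normalizer_le_centralizer_or_le_commutator R with h | h
      · exact h
      haveI : IsCyclic (commutator L) := IsZGroup.isCyclic_commutator L
      haveI : IsMulCommutative (commutator L) := IsCyclic.isMulCommutative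
      haveI : (R : Subgroup L).Normal := by
        haveI : ((R : Subgroup L).subgroupOf (commutator L)).Characteristic := by
          have hR' := R.subtype h
          rw [← Sylow.coe_subtype R h]
          exact Sylow.characteristic_of_normal _ inferInstance
        rw [← Subgroup.map_subgroupOf_eq_of_le h]
        exact ConjAct.normal_of_characteristic_of_normal
      refine le_top.trans ?_
      have hle : L ≤ (Subgroup.centralizer ((R : Subgroup L) : Set L)).map L.subtype := by
        conv_lhs => rw [← hLL]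
        rw [Subgroup.commutator_le]
        intro l hl q hq
        have hm : l * (q * l⁻¹ * q⁻¹) ∈ L := L.mul_mem hl (hconj q hq _ (L.inv_mem hl))
        refine ⟨⟨_, hm⟩, ?_, by simp [commutatorElement_def, mul_assoc]⟩
        rw [SetLike.mem_coe, Subgroup.mem_centralizer_iff]
        intro x hx
        refine Subtype.ext ?_
        have hx' : (⟨l, hl⟩ : L)⁻¹ * x * ⟨l, hl⟩ ∈ (R : Subgroup L) := by
          have := Subgroup.Normal.conj_mem inferInstance x hx (⟨l, hl⟩ : L)⁻¹
          rwa [inv_inv] at this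
        have e1 := hRfix x hx q⁻¹ (Q.inv_mem hq)
        have e2 := hRfix _ hx' q hq
        rw [inv_inv] at e1
        push_cast at e2 ⊢
        have e3 : q * l⁻¹ * q⁻¹ * (x : G) = l⁻¹ * x * l * (q * l⁻¹ * q⁻¹) := by
          calc q * l⁻¹ * q⁻¹ * (x : G) = q * (l⁻¹ * (q⁻¹ * x * q) * l) * q⁻¹ * (q * l⁻¹ * q⁻¹) := by group
            _ = l⁻¹ * x * l * (q * l⁻¹ * q⁻¹) := by rw [e1, e2]
        calc (x : G) * (l * (q * l⁻¹ * q⁻¹)) = l * (l⁻¹ * x * l * (q * l⁻¹ * q⁻¹)) := by group
          _ = l * (q * l⁻¹ * q⁻¹) * x := by rw [← e3]; group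
      intro x _
      obtain ⟨z, hz, he⟩ := hle x.2
      rwa [← Subtype.ext (show (x : G) = z from he.symm)] at hz
    set T := (MonoidHom.transferSylow R hRN).ker
    have hTR := MonoidHom.ker_transferSylow_isComplement' R hRN
    have hTcard : ¬ p ∣ Nat.card T := by rw [← hTR.index_eq_card]; exact R.not_dvd_index
    have hTmem : ∀ x : L, x ∈ T ↔ (orderOf x).Coprime p := by
      intro x
      refine ⟨fun hx => ((hp.coprime_iff_not_dvd.2 fun hd => hTcard (hd.trans (Subgroup.orderOf_dvd_natCard _ hx)))).symm, fun hx => ?_⟩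
      obtain ⟨k, hk⟩ := IsPGroup.iff_orderOf.1 R.2 (MonoidHom.transferSylow R hRN x)
      rw [MonoidHom.mem_ker, ← orderOf_eq_one_iff]
      exact Nat.eq_one_of_dvd_coprimes (hx.pow_right k) (orderOf_map_dvd _ x) (dvd_of_eq hk)
    have hle : L ≤ T.map L.subtype := by
      conv_lhs => rw [← hLL]
      rw [Subgroup.commutator_le]
      intro l hl q hq
      have hcov : (⟨l, hl⟩ : L) ∈ (T ⊔ (R : Subgroup L)) := by rw [hTR.sup_eq_top]; exact Subgroup.mem_top _
      rw [← SetLike.mem_coe, Subgroup.normal_mul] at hcov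
      obtain ⟨k, hk, x, hx, he⟩ := hcov
      have hk' : (⟨q * ((k⁻¹ : L) : G) * q⁻¹, hconj q hq _ (k⁻¹).2⟩ : L) ∈ T := by
        rw [hTmem, Subgroup.orderOf_mk, show q * ((k⁻¹ : L) : G) * q⁻¹ = MulAut.conj q ((k⁻¹ : L) : G) from rfl,
          MulEquiv.orderOf_eq, Subgroup.orderOf_coe, orderOf_inv]
        exact (hTmem k).1 hk
      refine ⟨_, T.mul_mem hk hk', ?_⟩
      have hlk : l = (k : G) * (x : G) := congrArg Subtype.val he.symm
      have e2 : q * (x : G)⁻¹ * q⁻¹ = (x : G)⁻¹ := by
        rw [← conj_inv, hRfix x hx q hq]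
      rw [commutatorElement_def, hlk]
      show (k : G) * (q * ((k : L) : G)⁻¹ * q⁻¹) = _
      calc (k : G) * (q * (k : G)⁻¹ * q⁻¹) = (k : G) * (x : G) * ((x : G)⁻¹) * (q * (k : G)⁻¹ * q⁻¹) := by group
        _ = (k : G) * (x : G) * (q * (x : G)⁻¹ * q⁻¹) * (q * (k : G)⁻¹ * q⁻¹) := by rw [e2]
        _ = _ := by group
    exact hTcard (hpL.trans (by
      rw [← Subgroup.card_map_of_injective L.subtype_injective (K := T)]
      exact Subgroup.card_dvd_of_le hle))
  have hcopLC : (Nat.card C).Coprime (Nat.card L) := Nat.coprime_of_dvd hkey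
  have hHle : H ≤ L ⊔ C := fun h hh => by
    obtain ⟨x, hx, c, hc, rfl⟩ := commutator_sup_inf_centralizer hQ hcardQ (Or.inr hHs) h hh
    exact Subgroup.mul_mem_sup hx hc
  obtain ⟨hOn, hOc⟩ := cop_spec (G := G) H
  set O := cop H
  set LQ := Q ⊔ L
  have hCQ : C ≤ Subgroup.normalizer (Q : Set G) := inf_le_right.trans (Subgroup.centralizer_le_normalizer _)
  have hNLQ : Subgroup.normalizer (H : Set G) ≤ Subgroup.normalizer (LQ : Set G) := by
    rw [← hQH']
    refine sup_le (le_sup_left.trans Subgroup.le_normalizer) (hHle.trans (sup_le (le_sup_right.trans Subgroup.le_normalizer) ?_))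
    rw [le_normalizer_iff_forall_conj_mem]
    intro c hc y hy
    have h1 : (LQ).map (MulAut.conj c).toMonoidHom ≤ LQ := by
      rw [Subgroup.map_sup]
      refine sup_le_sup ?_ ?_
      · rintro _ ⟨x, hx, rfl⟩
        exact (Subgroup.mem_normalizer_iff.1 (hCQ hc) x).1 hx
      · rintro _ ⟨x, hx, rfl⟩
        exact (Subgroup.mem_normalizer_iff.1 (hHL hc.1) x).1 hx
    exact h1 ⟨y, hy, rfl⟩
  set W := O ⊔ LQ
  haveI : O.Normal := hOn
  haveI hWn : W.Normal := by
    rw [← Subgroup.normalizer_eq_top_iff, eq_top_iff, ← sup_normalizer_eq_top D]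
    refine sup_le (le_sup_left.trans Subgroup.le_normalizer) ?_
    intro g hg
    rw [Subgroup.mem_normalizer_iff_map_conj_eq]
    show (O ⊔ LQ).map _ = O ⊔ LQ
    rw [Subgroup.map_sup]
    congr 1
    · exact Subgroup.mem_normalizer_iff_map_conj_eq.1 (by rw [Subgroup.normalizer_eq_top_iff.2 hOn]; exact Subgroup.mem_top g)
    · exact Subgroup.mem_normalizer_iff_map_conj_eq.1 (hNLQ hg)
  have hWC : W ⊔ C = ⊤ := by
    rw [eq_top_iff, ← sup_normalizer_eq_top D, ← hQH']
    refine sup_le (le_sup_left.trans le_sup_left) (sup_le ((le_sup_left.trans le_sup_right).trans le_sup_left) ?_)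
    exact hHle.trans (sup_le_sup_right (le_sup_right.trans le_sup_right) C)
  have hcopW : (Nat.card W).Coprime (Nat.card C) := by
    have h1 : (Nat.card O).Coprime (Nat.card C) := hOc.coprime_dvd_right (Subgroup.card_dvd_of_le inf_le_left)
    have h2' : (Nat.card LQ).Coprime (Nat.card C) := by
      rw [card_sup_of_le_normalizer hQL (hcardQ.coprime_dvd_right (Subgroup.card_dvd_of_le hLH))]
      exact (hcardQ.coprime_dvd_right (Subgroup.card_dvd_of_le inf_le_left)).mul_left hcopLC.symm
    refine (h2'.mul_left h1).coprime_dvd_left ?_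
    rw [show W = LQ ⊔ O from sup_comm _ _]
    exact card_sup_dvd_mul LQ O
  have hdis : Disjoint W C := by
    rw [disjoint_iff]
    exact Subgroup.inf_eq_bot_of_coprime hcopW
  have hcomp : Subgroup.IsComplement' W C := by
    refine Subgroup.isComplement'_of_disjoint_and_mul_eq_univ hdis ?_
    rw [← Subgroup.normal_mul, hWC, Subgroup.coe_top]
  exact ⟨hcomp.index_eq_card ▸ hcopW.symm, W, hWn, hcomp⟩

end CfsgLib.Perm.TI
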