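import Cfsg.Prelude.Def_Transfer
import Cfsg.Agent.Solv.FixedPointFree
import Cfsg.Agent.Char.Burnside
import Mathlib.RingTheory.Polynomial.Cyclotomic.Factorization
import Mathlib.FieldTheory.Finite.Basic
import Mathlib.RingTheory.Adjoin.Basic
import Mathlib.LinearAlgebra.Basis.VectorSpace
import Mathlib.GroupTheory.SemidirectProduct
import Mathlib.Tactic

/-!
Finite groups on which the automorphism group has exactly three orbits.
-/

set_option autoImplicit false
set_option linter.style.haveILetI false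
set_option linter.unusedSectionVars false

namespace CfsgLib.Perm.ThreeOrbits

open Polynomial
open scoped commutatorElement

/-- A linear automorphism exchanging prescribed non-zero vectors. -/
theorem exists_linearEquiv {K M : Type*} [Field K] [AddCommGroup M] [Module K M] {v w : M}
    (hv : v ≠ 0) (hw : w ≠ 0) : ∃ e : M ≃ₗ[K] M, e v = w := by
  classical
  have h1 : LinearIndepOn K id ({v} : Set M) := (linearIndepOn_singleton_iff K).2 hv
  have h2 : LinearIndepOn K id ({w} : Set M) := (linearIndepOn_singleton_iff K).2 hw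
  let b := Module.Basis.extend h1
  let b' := Module.Basis.extend h2
  let i : h1.extend (Set.subset_univ _) := ⟨v, h1.subset_extend _ rfl⟩
  let j : h2.extend (Set.subset_univ _) := ⟨w, h2.subset_extend _ rfl⟩
  refine ⟨b.equiv b' ((b.indexEquiv b').trans (Equiv.swap (b.indexEquiv b' i) j)), ?_⟩
  have hi : b i = v := Module.Basis.extend_apply_self h1 i
  have hj : b' j = w := Module.Basis.extend_apply_self h2 j
  exact (congrArg _ hi.symm).trans (by
    rw [Module.Basis.equiv_apply, Equiv.trans_apply, Equiv.swap_apply_left, hj])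

/-- A map semilinear for an automorphism of the scalar field. -/
theorem exists_semilinearEquiv {K M : Type*} [Field K] [AddCommGroup M] [Module K M] (σ : K ≃+* K) :
    ∃ e : M ≃+ M, ∀ (c : K) (m : M), e (c • m) = σ c • e m := by
  let b := Module.Free.chooseBasis K M
  let f : (Module.Free.ChooseBasisIndex K M →₀ K) ≃+ (Module.Free.ChooseBasisIndex K M →₀ K) :=
    Finsupp.mapRange.addEquiv σ.toAddEquiv
  refine ⟨(b.repr.toAddEquiv.trans f).trans b.repr.symm.toAddEquiv, fun c m => ?_⟩
  show b.repr.symm (f (b.repr (c • m))) = σ c • b.repr.symm (f (b.repr m))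
  rw [← map_smul, map_smul b.repr]
  refine congrArg b.repr.symm (Finsupp.ext fun k => ?_)
  simp [f]

/-- An invariant subgroup is invariant under the algebra generated by the operator. -/
theorem mem_of_mem_adjoin {n : ℕ} [NeZero n] {V : Type*} [AddCommGroup V] [Module (ZMod n) V]
    {T : Module.End (ZMod n) V} {U : AddSubgroup V} (hU : ∀ u ∈ U, T u ∈ U)
    {r : Module.End (ZMod n) V} (hr : r ∈ Algebra.adjoin (ZMod n) ({T} : Set _)) :
    ∀ u ∈ U, r u ∈ U := by
  induction hr using Algebra.adjoin_induction with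
  | mem y hy => rw [Set.mem_singleton_iff.1 hy]; exact hU
  | algebraMap c =>
    intro u hu
    rw [Module.algebraMap_end_apply, ← ZMod.natCast_zmod_val c, Nat.cast_smul_eq_nsmul]
    exact U.nsmul_mem hu _
  | add y z _ _ hy hz => intro u hu; exact U.add_mem (hy u hu) (hz u hu)
  | mul y z _ _ hy hz => intro u hu; exact hy _ (hz u hu)

/-- If every vector lies in a minimal invariant subgroup in a suitably uniform way, every operator in
the generated algebra is zero or injective. -/
theorem eq_zero_of_apply_eq_zero {n : ℕ} [NeZero n] {V : Type*} [AddCommGroup V] [Module (ZMod n) V]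
    {T : Module.End (ZMod n) V}
    (hmin : ∀ w : V, w ≠ 0 → ∃ W : AddSubgroup V, w ∈ W ∧ (∀ u ∈ W, T u ∈ W) ∧
      ∀ W' : AddSubgroup V, (∀ u ∈ W', T u ∈ W') → W' ≤ W → W' ≠ ⊥ → W' = W)
    {r : Module.End (ZMod n) V} (hr : r ∈ Algebra.adjoin (ZMod n) ({T} : Set _))
    {v : V} (hv : r v = 0) (hv0 : v ≠ 0) : r = 0 := by
  have hrT : ∀ d, r (T d) = T (r d) := by
    have h : Commute r T := by
      clear hv hv0
      induction hr using Algebra.adjoin_induction with
      | mem y hy => rw [Set.mem_singleton_iff.1 hy]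
      | algebraMap c => exact Algebra.commute_algebraMap_left c T
      | add y z _ _ hy hz => exact hy.add_left hz
      | mul y z _ _ hy hz => exact hy.mul_left hz
    exact fun d => congrArg (fun f : Module.End (ZMod n) V => f d) h.eq
  obtain ⟨W, hvW, hWi, hWm⟩ := hmin v hv0
  have hkW : ∀ u ∈ W, r u = 0 := by
    have hK : W ⊓ r.toAddMonoidHom.ker = W := hWm _ (fun u hu => ⟨hWi u hu.1, by
        show r (T u) = 0
        rw [hrT, show r u = 0 from hu.2, map_zero]⟩) inf_le_left fun h =>
      hv0 (AddSubgroup.mem_bot.1 (h.le ⟨hvW, hv⟩))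
    exact fun u hu => (hK.ge hu).2
  refine LinearMap.ext fun u => ?_
  by_cases huW : u ∈ W
  · exact hkW u huW
  have hu0 : u ≠ 0 := fun e => huW (e ▸ W.zero_mem)
  have hs0 : v + u ≠ 0 := fun e => huW (by
    rw [eq_neg_of_add_eq_zero_right e]; exact W.neg_mem hvW)
  obtain ⟨W', huW', hW'i, hW'm⟩ := hmin u hu0
  obtain ⟨S, hsS, hSi, hSm⟩ := hmin (v + u) hs0
  show r u = 0
  by_contra hru
  have h1 : r u ∈ W' := mem_of_mem_adjoin hW'i hr u huW'
  have h2 : r u ∈ S := by
    have := mem_of_mem_adjoin hSi hr _ hsS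
    rwa [map_add, hkW v hvW, zero_add] at this
  have hKi : ∀ z ∈ W' ⊓ S, T z ∈ W' ⊓ S := fun z hz => ⟨hW'i z hz.1, hSi z hz.2⟩
  have hKne : W' ⊓ S ≠ ⊥ := fun h => hru (AddSubgroup.mem_bot.1 (h.le ⟨h1, h2⟩))
  have e1 : W' ⊓ S = W' := hW'm _ hKi inf_le_left hKne
  have e2 : W' ⊓ S = S := hSm _ hKi inf_le_right hKne
  have hvW' : v ∈ W' := by
    have h3 : v + u ∈ W' := e1.le (e2.ge hsS)
    simpa using W'.sub_mem h3 huW'
  have hne : W ⊓ W' ≠ ⊥ := fun h => hv0 (AddSubgroup.mem_bot.1 (h.le ⟨hvW, hvW'⟩))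
  have e3 : W ⊓ W' = W := hWm _ (fun z hz => ⟨hWi z hz.1, hW'i z hz.2⟩) inf_le_left hne
  have e4 : W ⊓ W' = W' := hW'm _ (fun z hz => ⟨hWi z hz.1, hW'i z hz.2⟩) inf_le_right hne
  exact huW ((e3.symm.trans e4) ▸ huW')

section Group

variable {G : Type*} [Group G] [Finite G]

/-- An automorphism with prescribed effect on a normal subgroup and a complementing element. -/
theorem exists_aut {q : ℕ} [NeZero q] (P : Subgroup G) [P.Normal] (x y : G) (hx : x ^ q = 1)
    (hy : y ^ q = 1) (hcard : Nat.card P * q = Nat.card G)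
    (hxP : ∀ j : ℕ, x ^ j ∈ P → q ∣ j) (hyP : ∀ j : ℕ, y ^ j ∈ P → q ∣ j)
    (α : P ≃* P)
    (hα : ∀ a : P, (α (MulAut.conjNormal x a) : G) = y * (α a : G) * y⁻¹) :
    ∃ Φ : MulAut G, (∀ a : P, Φ (a : G) = α a) ∧ Φ x = y := by
  let hom : ∀ z : G, z ^ q = 1 → (Multiplicative (ZMod q) →* G) := fun z hz =>
    { toFun := fun t => z ^ t.toAdd.val
      map_one' := by simp
      map_mul' := fun s t => by
        rw [← pow_add, toAdd_mul, ZMod.val_add, ← pow_eq_pow_mod _ hz] }
  let ψ : Multiplicative (ZMod q) →* MulAut P := (MulAut.conjNormal).comp (hom x hx)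
  let f : P ⋊[ψ] Multiplicative (ZMod q) →* G :=
    SemidirectProduct.lift P.subtype (hom x hx) fun s => MonoidHom.ext fun a => by
      simp [ψ]
  have hconj : ∀ (j : ℕ) (a : P), (α (MulAut.conjNormal (x ^ j) a) : G) = y ^ j * α a * (y ^ j)⁻¹ := by
    intro j
    induction j with
    | zero => intro a; simp
    | succ j ih =>
      intro a
      rw [pow_succ, map_mul, MulAut.mul_apply, ih, hα, pow_succ, mul_inv_rev]
      simp only [mul_assoc]
  let f' : P ⋊[ψ] Multiplicative (ZMod q) →* G :=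
    SemidirectProduct.lift (P.subtype.comp α.toMonoidHom) (hom y hy) fun s => MonoidHom.ext fun a => by
      show (α (MulAut.conjNormal (x ^ s.toAdd.val) a) : G) =
        MulAut.conj (y ^ s.toAdd.val) (α a : G)
      rw [hconj, MulAut.conj_apply]
  have hbij : ∀ (z : G) (hz : z ^ q = 1) (hzP : ∀ j : ℕ, z ^ j ∈ P → q ∣ j)
      (β : P ≃* P) (F : P ⋊[ψ] Multiplicative (ZMod q) →* G)
      (hF : ∀ u, F u = (β u.left : G) * hom z hz u.right), Function.Bijective F := by
    intro z hz hzP β F hF
    refine (Nat.bijective_iff_injective_and_card F).2 ⟨?_, ?_⟩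
    · rw [← MonoidHom.ker_eq_bot_iff, eq_bot_iff]
      intro u hu
      rw [MonoidHom.mem_ker, hF] at hu
      have h1 : z ^ u.right.toAdd.val ∈ P := by
        rw [show z ^ u.right.toAdd.val = (β u.left : G)⁻¹ from eq_inv_of_mul_eq_one_right hu]
        exact P.inv_mem (β u.left).2
      have h2 : u.right.toAdd.val = 0 := Nat.eq_zero_of_dvd_of_lt (hzP _ h1) (ZMod.val_lt _)
      have h3 : u.right = 1 := toAdd_eq_zero.1 ((ZMod.val_eq_zero _).1 h2)
      have h4 : u.left = 1 := by
        rw [h3, map_one, mul_one] at hu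
        exact β.map_eq_one_iff.1 (Subtype.ext hu)
      exact Subgroup.mem_bot.2 (SemidirectProduct.ext h4 h3)
    · rw [Nat.card_congr SemidirectProduct.equivProd, Nat.card_prod,
        Nat.card_congr (Multiplicative.toAdd), Nat.card_zmod, hcard]
  let e := MulEquiv.ofBijective f (hbij x hx hxP (MulEquiv.refl P) f fun u => rfl)
  let e' := MulEquiv.ofBijective f' (hbij y hy hyP α f' fun u => rfl)
  refine ⟨e.symm.trans e', fun a => ?_, ?_⟩
  · have h1 : e (SemidirectProduct.inl a) = (a : G) := by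
      show f (SemidirectProduct.inl a) = (a : G)
      simp [f]
    show e' (e.symm (a : G)) = _
    rw [← h1, MulEquiv.symm_apply_apply]
    show f' (SemidirectProduct.inl a) = _
    simp [f']
  · have hv : ∀ (z : G) (hz : z ^ q = 1), hom z hz (Multiplicative.ofAdd (1 : ZMod q)) = z := by
      intro z hz
      show z ^ (1 : ZMod q).val = z
      rw [ZMod.val_one_eq_one_mod, ← pow_eq_pow_mod _ hz, pow_one]
    have h1 : e (SemidirectProduct.inr (Multiplicative.ofAdd (1 : ZMod q))) = x :=
      (show f (SemidirectProduct.inr (Multiplicative.ofAdd (1 : ZMod q))) = _ by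
        simp only [f, SemidirectProduct.lift_inr]).trans (hv x hx)
    show e' (e.symm x) = _
    rw [← h1, MulEquiv.symm_apply_apply]
    exact (show f' (SemidirectProduct.inr (Multiplicative.ofAdd (1 : ZMod q))) = _ by
      simp only [f', SemidirectProduct.lift_inr]).trans (hv y hy)

variable {p q : ℕ} [Fact p.Prime] [Fact q.Prime]

/-- The hypotheses on a group of order `p ^ n * q` giving three orbits. -/
theorem three_orbits_transitive {n : ℕ} (hpq : p ≠ q)
    (hG : Nat.card G = p ^ n * q) (P : Sylow p G) [(P : Subgroup G).Normal]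
    (hel : Cfsg.IsElementaryAbelian p (P : Subgroup G))
    (hord : orderOf (p : ZMod q) = q - 1)
    (hfpf : ∀ x y : G, orderOf x = q → orderOf y = p → x * y * x⁻¹ ≠ y) :
    (∀ g : G, g = 1 ∨ orderOf g = p ∨ orderOf g = q) ∧
      (∀ a b : G, orderOf a = orderOf b → ∃ Φ : MulAut G, Φ a = b) := by
  classical
  haveI := Fintype.ofFinite G
  have hp := (Fact.out : p.Prime)
  have hq := (Fact.out : q.Prime)
  have hP : Nat.card (P : Subgroup G) = p ^ n := by
    rw [P.card_eq_multiplicity, hG, Nat.factorization_mul (pow_ne_zero _ hp.ne_zero) hq.ne_zero,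
      Finsupp.add_apply, hp.factorization_pow, hq.factorization, Finsupp.single_eq_same,
      Finsupp.single_eq_of_ne hpq, add_zero]
  have hPp : ∀ a ∈ (P : Subgroup G), a ≠ 1 → orderOf a = p := fun a ha h1 =>
    orderOf_eq_prime (hel.2 a ha) h1
  have hpow : ∀ g : G, g ^ q ∈ (P : Subgroup G) := by
    intro g
    have h1 : (P : Subgroup G).index = q := by
      have h2 := (P : Subgroup G).card_mul_index
      rw [hP, hG] at h2
      exact Nat.eq_of_mul_eq_mul_left (pow_pos hp.pos n) h2
    exact h1 ▸ Subgroup.pow_index_mem _ g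
  have hmemP : ∀ g : G, orderOf g = p → g ∈ (P : Subgroup G) := by
    intro g hg
    have h1 : Nat.Coprime q (orderOf g) := by rw [hg]; exact (Nat.coprime_primes hq hp).2 hpq.symm
    obtain ⟨j, hj⟩ := exists_pow_eq_self_of_coprime h1
    exact hj ▸ Subgroup.pow_mem _ (hpow g) j
  obtain ⟨x, hx⟩ := exists_prime_orderOf_dvd_card' (G := G) q (hG ▸ dvd_mul_left q _)
  have hxnP : ∀ y : G, orderOf y = q → ∀ j : ℕ, y ^ j ∈ (P : Subgroup G) → q ∣ j := by
    intro y hy j hj
    by_contra hqj
    have h1 : orderOf (y ^ j) = q := by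
      rw [Nat.Coprime.orderOf_pow]
      · exact hy
      · rw [hy]; exact hq.coprime_iff_not_dvd.2 hqj
    rcases eq_or_ne (y ^ j) 1 with h2 | h2
    · exact hq.ne_one (by rw [← h1, h2, orderOf_one])
    · exact hpq (by rw [← hPp _ hj h2, h1])
  -- every element is `a * x ^ j`
  have hgen : ∀ g : G, ∃ a ∈ (P : Subgroup G), ∃ j : ℕ, j < q ∧ g = a * x ^ j := by
    intro g
    let F : ↥(P : Subgroup G) × Fin q → G := fun u => (u.1 : G) * x ^ (u.2 : ℕ)
    have hF : Function.Bijective F := by
      refine (Nat.bijective_iff_injective_and_card F).2 ⟨?_, ?_⟩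
      · rintro ⟨a, i⟩ ⟨b, j⟩ h
        wlog hij : (i : ℕ) ≤ j generalizing a b i j
        · exact (this _ _ _ _ h.symm (le_of_not_ge hij)).symm
        have h1 : x ^ ((j : ℕ) - i) ∈ (P : Subgroup G) := by
          have h2 : x ^ (j : ℕ) * (x ^ (i : ℕ))⁻¹ = (b : G)⁻¹ * a := by
            simp only [F] at h
            rw [eq_inv_mul_iff_mul_eq, ← mul_assoc, ← h, mul_inv_cancel_right]
          rw [← pow_sub x hij] at h2
          exact h2 ▸ mul_mem (inv_mem b.2) a.2
        have h3 : (i : ℕ) = j := by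
          have h4 := Nat.eq_zero_of_dvd_of_lt (hxnP x hx _ h1)
            (lt_of_le_of_lt (Nat.sub_le _ _) j.2)
          omega
        have h5 : i = j := Fin.ext h3
        subst h5
        exact Prod.ext (Subtype.ext (mul_right_cancel h)) rfl
      · rw [Nat.card_prod, Nat.card_fin, hP, hG]
    obtain ⟨⟨a, i⟩, rfl⟩ := hF.2 g
    exact ⟨a, a.2, i, i.2, rfl⟩
  -- `P` as a vector space with the operator `x`
  letI : AddCommGroup (Additive (P : Subgroup G)) :=
    { (inferInstance : AddGroup (Additive (P : Subgroup G))) with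
      add_comm := fun a b => hel.1.is_comm.comm a.toMul b.toMul }
  haveI : Module (ZMod p) (Additive (P : Subgroup G)) := AddCommGroup.zmodModule (n := p) fun a =>
    congrArg Additive.ofMul (Subtype.ext (by simpa using hel.2 _ a.toMul.2) : a.toMul ^ p = 1)
  let T : Additive (P : Subgroup G) →+ Additive (P : Subgroup G) :=
    MonoidHom.toAdditive (MulAut.conjNormal x).toMonoidHom
  let T' : Module.End (ZMod p) (Additive (P : Subgroup G)) := T.toZModLinearMap p
  have hTpow : ∀ (j : ℕ) (v : Additive (P : Subgroup G)),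
      (T' ^ j) v = Additive.ofMul (MulAut.conjNormal (x ^ j) v.toMul) := by
    intro j
    induction j with
    | zero => intro v; simp
    | succ j ih =>
      intro v
      rw [pow_succ', Module.End.mul_apply, ih, pow_succ', map_mul, MulAut.mul_apply]
      rfl
  set Φ := cyclotomic q (ZMod p) with hΦ
  have hfix : ∀ v : Additive (P : Subgroup G), T' v = v → v = 0 := by
    intro v hv
    by_contra h0
    have h1 : ((v.toMul : (P : Subgroup G)) : G) ≠ 1 := fun e => h0 (Subtype.ext e)
    refine hfpf x _ hx (hPp _ v.toMul.2 h1) ?_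
    have h2 := congrArg (fun w : Additive (P : Subgroup G) => (w.toMul : G)) hv
    simpa [T', T] using h2
  have hΦT : Polynomial.aeval T' Φ = 0 := by
    rw [hΦ, cyclotomic_prime, map_sum]
    simp only [map_pow, aeval_X]
    refine LinearMap.ext fun v => hfix _ ?_
    have hTq : T' ^ q = 1 := LinearMap.ext fun w => by
      rw [hTpow, ← hx, pow_orderOf_eq_one, map_one]
      rfl
    rw [← Module.End.mul_apply, Finset.mul_sum]
    congr 1
    simp only [← pow_succ']
    have h := Finset.sum_range_succ' (fun i => T' ^ i) q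
    rw [Finset.sum_range_succ, hTq, pow_zero] at h
    exact (add_right_cancel h).symm
  have hirr : Irreducible Φ := by
    have hpn : ¬ p ∣ q := fun h => hpq ((Nat.prime_dvd_prime_iff_eq hp hq).1 h)
    refine ZMod.irreducible_of_dvd_cyclotomic_of_natDegree hpn dvd_rfl ?_
    rw [hΦ, natDegree_cyclotomic, Nat.totient_prime hq, ← hord, ← orderOf_units]
    rfl
  haveI : Fact (Irreducible Φ) := ⟨hirr⟩
  let K := AdjoinRoot Φ
  let ev : K →+* Module.End (ZMod p) (Additive (P : Subgroup G)) :=
    Ideal.Quotient.lift (Ideal.span {Φ})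
      (Polynomial.aeval T' : (ZMod p)[X] →ₐ[ZMod p] _).toRingHom fun a ha => by
        obtain ⟨c, rfl⟩ := Ideal.mem_span_singleton.1 ha
        show Polynomial.aeval T' (Φ * c) = 0
        rw [map_mul, hΦT, zero_mul]
  letI : Module K (Additive (P : Subgroup G)) := Module.compHom (Additive (P : Subgroup G)) ev
  set ζ : K := AdjoinRoot.root Φ with hζ
  have hsmul : ∀ (j : ℕ) (v : Additive (P : Subgroup G)),
      ζ ^ j • v = Additive.ofMul (MulAut.conjNormal (x ^ j) v.toMul) := by
    intro j v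
    rw [← hTpow]
    show ev (ζ ^ j) v = _
    rw [map_pow]
    congr 2
    exact Polynomial.aeval_X T'
  have hclass : ∀ g : G, g = 1 ∨ orderOf g = p ∨ orderOf g = q := by
    intro g
    by_cases hgP : g ∈ (P : Subgroup G)
    · by_cases h1 : g = 1
      · exact Or.inl h1
      · exact Or.inr (Or.inl (hPp g hgP h1))
    · refine Or.inr (Or.inr (orderOf_eq_prime ?_ fun h => hgP (h ▸ one_mem _)))
      by_contra hne
      obtain ⟨a, ha, j, hj, rfl⟩ := hgen g
      have hj0 : j ≠ 0 := fun e => hgP (by rw [e, pow_zero, mul_one]; exact ha)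
      set b := (a * x ^ j) ^ q
      have hb : b ∈ (P : Subgroup G) := hpow _
      have hcomm : (a * x ^ j) * b * (a * x ^ j)⁻¹ = b := by
        rw [(Commute.self_pow (a * x ^ j) q).eq, mul_inv_cancel_right]
      have hab : a * b = b * a := congrArg Subtype.val (hel.1.is_comm.comm ⟨a, ha⟩ ⟨b, hb⟩)
      refine hfpf (x ^ j) b ?_ (hPp b hb hne) ?_
      · rw [Nat.Coprime.orderOf_pow]
        · exact hx
        · rw [hx]
          exact hq.coprime_iff_not_dvd.2 fun h => hj0 (Nat.eq_zero_of_dvd_of_lt h hj)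
      · have h1 : a * b * a⁻¹ = b := by rw [hab, mul_inv_cancel_right]
        have h2 : a * (x ^ j * b * (x ^ j)⁻¹) * a⁻¹ = a * b * a⁻¹ := by
          rw [h1]; conv_rhs => rw [← hcomm]
          group
        exact mul_left_cancel (mul_right_cancel h2)
  refine ⟨hclass, ?_⟩
  -- automorphisms moving the elements of order `q`
  have hq1 : x ^ q = 1 := by rw [← hx, pow_orderOf_eq_one]
  have hcard : Nat.card (P : Subgroup G) * q = Nat.card G := by rw [hP, hG]
  have key : ∀ y : G, orderOf y = q → ∃ Φ' : MulAut G, Φ' x = y := by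
    intro y hy
    obtain ⟨a, ha, j, hj, rfl⟩ := hgen y
    have hj0 : ¬ q ∣ j := by
      intro h
      rw [Nat.eq_zero_of_dvd_of_lt h hj, pow_zero, mul_one] at hy
      exact hpq ((hPp a ha fun e => hq.ne_one (by rw [← hy, e, orderOf_one])).symm.trans hy)
    -- a field automorphism with `ζ ↦ ζ ^ j`
    have hfr : ∃ σ : K ≃+* K, σ ζ = ζ ^ j := by
      haveI hmo : Φ.Monic := cyclotomic.monic q (ZMod p)
      haveI : Module.Finite (ZMod p) K := hmo.finite_adjoinRoot
      haveI : Finite K := Module.finite_of_finite (ZMod p)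
      haveI : CharP K p := charP_of_injective_algebraMap (algebraMap (ZMod p) K).injective p
      have hζq : ζ ^ q = 1 := by
        have h1 : Φ ∣ X ^ q - 1 := hΦ ▸ cyclotomic.dvd_X_pow_sub_one q (ZMod p)
        have h2 := map_dvd (AdjoinRoot.mk Φ) h1
        rw [AdjoinRoot.mk_self, zero_dvd_iff, map_sub, map_pow, AdjoinRoot.mk_X, map_one,
          sub_eq_zero] at h2
        exact h2
      obtain ⟨k, hk⟩ : ∃ k : ℕ, ((p : ZMod q)) ^ k = (j : ZMod q) := by
        have hp0 : (p : ZMod q) ≠ 0 := fun h => hpq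
          ((Nat.prime_dvd_prime_iff_eq hq hp).1 ((ZMod.natCast_eq_zero_iff p q).1 h)).symm
        have hj0' : (j : ZMod q) ≠ 0 := fun h => hj0 ((ZMod.natCast_eq_zero_iff j q).1 h)
        let u : (ZMod q)ˣ := Units.mk0 _ hp0
        have htop : Subgroup.zpowers u = ⊤ := by
          apply Subgroup.eq_top_of_card_eq
          rw [Nat.card_zpowers, ← orderOf_units, Units.val_mk0, hord, Nat.card_eq_fintype_card,
            ZMod.card_units]
        obtain ⟨k, hk⟩ := mem_powers_iff_mem_zpowers.2 (htop.ge (Subgroup.mem_top (Units.mk0 _ hj0')))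
        exact ⟨k, by simpa [u] using congrArg Units.val hk⟩
      refine ⟨(frobeniusEquiv K p) ^ k, ?_⟩
      have h1 : ∀ (k : ℕ) (z : K), ((frobeniusEquiv K p) ^ k) z = z ^ p ^ k := by
        intro k
        induction k with
        | zero => intro z; simp
        | succ k ih => intro z; rw [pow_succ', RingAut.mul_apply, ih, frobeniusEquiv_apply,
            frobenius_def, ← pow_mul, pow_succ]
      rw [h1]
      have h2 : p ^ k % q = j % q := (ZMod.natCast_eq_natCast_iff' _ _ _).1 (by push_cast; exact hk)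
      rw [pow_eq_pow_mod _ hζq, h2, ← pow_eq_pow_mod _ hζq]
    obtain ⟨σ, hσ⟩ := hfr
    obtain ⟨e, he⟩ := exists_semilinearEquiv (M := Additive (P : Subgroup G)) σ
    let α : (P : Subgroup G) ≃* (P : Subgroup G) := AddEquiv.toMultiplicative e
    have hα : ∀ b : (P : Subgroup G),
        (α (MulAut.conjNormal x b) : G) = a * x ^ j * (α b : G) * (a * x ^ j)⁻¹ := by
      intro b
      have h1 := he ζ (Additive.ofMul b)
      rw [hσ, hsmul, ← pow_one ζ, hsmul, pow_one] at h1
      have h2 : α (MulAut.conjNormal x b) = MulAut.conjNormal (x ^ j) (α b) :=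
        congrArg Additive.toMul h1
      rw [h2, MulAut.conjNormal_apply]
      have h3 : a * (x ^ j * α b * (x ^ j)⁻¹) = (x ^ j * α b * (x ^ j)⁻¹) * a :=
        congrArg Subtype.val (hel.1.is_comm.comm ⟨a, ha⟩
          ⟨_, (inferInstance : (P : Subgroup G).Normal).conj_mem _ (α b).2 (x ^ j)⟩)
      rw [mul_inv_rev, show a * x ^ j * (α b : G) * ((x ^ j)⁻¹ * a⁻¹) =
        a * (x ^ j * α b * (x ^ j)⁻¹) * a⁻¹ by group, h3, mul_inv_cancel_right]
    obtain ⟨Φ', -, h'⟩ := exists_aut (q := q) (P : Subgroup G) x (a * x ^ j) hq1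
      (by rw [← hy, pow_orderOf_eq_one]) hcard (hxnP x hx) (hxnP _ hy) α hα
    exact ⟨Φ', h'⟩
  intro a b hab
  rcases hclass a with ha | ha | ha
  · subst ha
    rw [orderOf_one, eq_comm, orderOf_eq_one_iff] at hab
    exact ⟨1, by rw [hab]; rfl⟩
  · have haP := hmemP a ha
    have hbP := hmemP b (hab ▸ ha)
    have hne : ∀ (g : G) (hg : g ∈ (P : Subgroup G)), orderOf g = p →
        (Additive.ofMul (⟨g, hg⟩ : (P : Subgroup G))) ≠ 0 := fun g hg hgp e => hp.ne_one (by
      rw [← hgp, orderOf_eq_one_iff]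
      exact congrArg Subtype.val (congrArg Additive.toMul e))
    obtain ⟨e, he⟩ := exists_linearEquiv (K := K) (hne a haP ha) (hne b hbP (hab ▸ ha))
    let α : (P : Subgroup G) ≃* (P : Subgroup G) := AddEquiv.toMultiplicative e.toAddEquiv
    have hα : ∀ c : (P : Subgroup G),
        (α (MulAut.conjNormal x c) : G) = x * (α c : G) * x⁻¹ := by
      intro c
      have h1 := map_smul e (ζ ^ 1) (Additive.ofMul c)
      rw [hsmul, hsmul, pow_one] at h1
      have h2 : α (MulAut.conjNormal x c) = MulAut.conjNormal x (α c) :=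
        congrArg Additive.toMul h1
      rw [h2, MulAut.conjNormal_apply]
    obtain ⟨Φ', h', -⟩ := exists_aut (q := q) (P : Subgroup G) x x hq1 hq1 hcard
      (hxnP x hx) (hxnP x hx) α hα
    exact ⟨Φ', (h' ⟨a, haP⟩).trans (congrArg Subtype.val (congrArg Additive.toMul he))⟩
  · obtain ⟨Φ₁, h₁⟩ := key a ha
    obtain ⟨Φ₂, h₂⟩ := key b (hab ▸ ha)
    exact ⟨Φ₂ * Φ₁⁻¹, by rw [MulAut.mul_apply, ← h₁, MulAut.inv_apply_self, h₂]⟩

/-- Transitivity forces `p` to generate the units modulo `q`. -/
theorem orderOf_eq_sub_one (hpq : p ≠ q) (D : Subgroup G) [D.Characteristic]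
    (hel : Cfsg.IsElementaryAbelian p D) (hDne : D ≠ ⊥)
    (hab : ∀ g, g ∈ D → g = 1 ∨ orderOf g = p) (x : G) (hx : orderOf x = q) (hxD : x ∉ D)
    (hindex : D.index = q)
    (hfpf : ∀ x y : G, orderOf x = q → orderOf y = p → x * y * x⁻¹ ≠ y)
    (htr : ∀ a b : G, orderOf a = orderOf b → ∃ Φ : MulAut G, Φ a = b) :
    orderOf (p : ZMod q) = q - 1 := by
  classical
  have hp := (Fact.out : p.Prime)
  have hq := (Fact.out : q.Prime)
  letI : AddCommGroup (Additive D) :=
    { (inferInstance : AddGroup (Additive D)) with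
      add_comm := fun a b => hel.1.is_comm.comm a.toMul b.toMul }
  haveI : Module (ZMod p) (Additive D) := AddCommGroup.zmodModule (n := p) fun a =>
    congrArg Additive.ofMul (Subtype.ext (by simpa using hel.2 _ a.toMul.2) : a.toMul ^ p = 1)
  let T : Module.End (ZMod p) (Additive D) :=
    (MonoidHom.toAdditive (MulAut.conjNormal x : MulAut D).toMonoidHom).toZModLinearMap p
  have hTpow : ∀ (j : ℕ) (v : Additive D),
      (((T ^ j) v).toMul : G) = x ^ j * (v.toMul : G) * (x ^ j)⁻¹ := by
    intro j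
    induction j with
    | zero => intro v; simp
    | succ j ih =>
      intro v
      rw [pow_succ', Module.End.mul_apply]
      show x * (((T ^ j) v).toMul : G) * x⁻¹ = _
      rw [ih, pow_succ', mul_inv_rev]
      simp only [mul_assoc]
  have hmap : ∀ (Φ : MulAut G) (d : D), Φ (d : G) ∈ D := fun Φ d =>
    (Subgroup.characteristic_iff_map_eq.1 inferInstance Φ : D.map Φ.toMonoidHom = D).le
      ⟨d, d.2, rfl⟩
  let act : MulAut G → (Additive D →+ Additive D) := fun Φ =>
    MonoidHom.toAdditive ((Φ.toMonoidHom.comp D.subtype).codRestrict D (hmap Φ))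
  have hact : ∀ (Φ : MulAut G) (d : Additive D), ((act Φ d).toMul : G) = Φ (d.toMul : G) :=
    fun Φ d => rfl
  have hext : ∀ a b : Additive D, (a.toMul : G) = (b.toMul : G) → a = b := fun a b h => Subtype.ext h
  have hinv : ∀ (Φ : MulAut G) (d : Additive D), act Φ⁻¹ (act Φ d) = d := fun Φ d =>
    hext _ _ (by rw [hact, hact, MulAut.inv_apply_self])
  have hinv' : ∀ (Φ : MulAut G) (d : Additive D), act Φ (act Φ⁻¹ d) = d := fun Φ d =>
    hext _ _ (by rw [hact, hact, MulAut.apply_inv_self])
  have hcoset : ∀ z : G, ∃ i : ℕ, z * (x ^ i)⁻¹ ∈ D := by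
    intro z
    have h1 : orderOf ((x : G ⧸ D)) = q := by
      rcases (Nat.dvd_prime hq).1 (hx ▸ orderOf_map_dvd (QuotientGroup.mk' D) x) with h | h
      · exact absurd ((QuotientGroup.eq_one_iff x).1 (orderOf_eq_one_iff.1 h)) hxD
      · exact h
    have h2 : (z : G ⧸ D) ∈ Subgroup.zpowers (x : G ⧸ D) := by
      rw [Subgroup.eq_top_of_card_eq (Subgroup.zpowers (x : G ⧸ D))
        (by rw [Nat.card_zpowers, h1, ← Subgroup.index_eq_card, hindex])]
      trivial
    obtain ⟨i, hi⟩ := mem_powers_iff_mem_zpowers.2 h2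
    refine ⟨i, (QuotientGroup.eq_one_iff _).1 ?_⟩
    rw [QuotientGroup.mk_mul, QuotientGroup.mk_inv, QuotientGroup.mk_pow]
    exact mul_inv_eq_one.2 hi.symm
  have hsemi : ∀ Φ : MulAut G, ∃ i : ℕ, ∀ d, act Φ (T d) = (T ^ i) (act Φ d) := by
    intro Φ
    obtain ⟨i, hi⟩ := hcoset (Φ x)
    refine ⟨i, fun d => hext _ _ ?_⟩
    rw [hact, hTpow, hact]
    show Φ (x * (d.toMul : G) * x⁻¹) = _
    have hc := congrArg Subtype.val (hel.1.is_comm.comm (⟨_, hi⟩ : D)
      ⟨_, (inferInstance : D.Normal).conj_mem _ (hmap Φ d.toMul) (x ^ i)⟩)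
    simp only [Subgroup.coe_mul] at hc
    rw [map_mul, map_mul, map_inv, eq_comm, ← mul_inv_eq_iff_eq_mul.2 hc]
    group
  let R := Algebra.adjoin (ZMod p) ({T} : Set (Module.End (ZMod p) (Additive D)))
  have hTR : T ∈ R := Algebra.subset_adjoin rfl
  obtain ⟨U, hUmin⟩ := (Set.toFinite
      {U : AddSubgroup (Additive D) | U ≠ ⊥ ∧ ∀ u ∈ U, T u ∈ U}).exists_minimal
    ⟨⊤, (by
      intro h
      refine hDne ((Subgroup.eq_bot_iff_forall D).2 fun d hd => ?_)
      exact congrArg Subtype.val (congrArg Additive.toMul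
        (AddSubgroup.mem_bot.1 (h.le (AddSubgroup.mem_top (Additive.ofMul (⟨d, hd⟩ : D))))))),
      fun u _ => AddSubgroup.mem_top _⟩
  obtain ⟨v₀, hv₀, hv₀0⟩ : ∃ v ∈ U, v ≠ 0 := by
    by_contra h
    push Not at h
    exact hUmin.1.1 ((AddSubgroup.eq_bot_iff_forall _).2 h)
  have hord : ∀ u : Additive D, u ≠ 0 → orderOf (u.toMul : G) = p := fun u hu =>
    (hab _ u.toMul.2).resolve_left fun e => hu (hext _ _ e)
  -- every non-zero vector lies in a minimal invariant subgroup
  have hmin : ∀ w : Additive D, w ≠ 0 → ∃ W : AddSubgroup (Additive D), w ∈ W ∧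
      (∀ u ∈ W, T u ∈ W) ∧ ∀ W' : AddSubgroup (Additive D), (∀ u ∈ W', T u ∈ W') → W' ≤ W →
        W' ≠ ⊥ → W' = W := by
    intro w hw
    obtain ⟨Φ, hΦ⟩ := htr _ _ ((hord v₀ hv₀0).trans (hord w hw).symm)
    refine ⟨U.map (act Φ), ⟨v₀, hv₀, hext _ _ hΦ⟩, ?_, ?_⟩
    · rintro _ ⟨u, hu, rfl⟩
      obtain ⟨i, hi⟩ := hsemi Φ⁻¹
      refine ⟨(T ^ i) u, mem_of_mem_adjoin hUmin.1.2 (pow_mem hTR i) u hu, ?_⟩
      conv_rhs => rw [← hinv' Φ (T (act Φ u)), hi, hinv]
    · intro W' hW' hle hne
      have h1 : W'.comap (act Φ) ≤ U := fun u hu => by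
        obtain ⟨u', hu', h⟩ := hle hu
        rw [← hinv Φ u, ← h, hinv]
        exact hu'
      have hi' : ∀ u ∈ W'.comap (act Φ), T u ∈ W'.comap (act Φ) := by
        intro u hu
        obtain ⟨i, hi⟩ := hsemi Φ
        show act Φ (T u) ∈ W'
        rw [hi]
        exact mem_of_mem_adjoin hW' (pow_mem hTR i) _ hu
      have h2 : W'.comap (act Φ) ≠ ⊥ := fun h => hne ((AddSubgroup.eq_bot_iff_forall _).2
        fun w' hw' => by
          rw [← hinv' Φ w'] at hw' ⊢
          rw [AddSubgroup.mem_bot.1 (h.le hw'), map_zero])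
      exact le_antisymm hle (by rintro _ ⟨u, hu, rfl⟩; exact hUmin.2 ⟨h2, hi'⟩ h1 hu)
  letI : CommRing R := Algebra.adjoinCommRingOfComm (ZMod p) fun a ha b hb => by
    rw [Set.mem_singleton_iff.1 ha, Set.mem_singleton_iff.1 hb]
  haveI : Nontrivial R := ⟨⟨0, 1, fun e => hv₀0 (by
    have := congrArg (fun r : R => (r : Module.End (ZMod p) (Additive D)) v₀) e
    simpa using this.symm)⟩⟩
  haveI : NoZeroDivisors R := ⟨fun {a b} h => by
    by_contra hne
    push Not at hne
    obtain ⟨v, hv⟩ : ∃ v, (b : Module.End (ZMod p) (Additive D)) v ≠ 0 := by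
      by_contra h'
      push Not at h'
      exact hne.2 (Subtype.ext (LinearMap.ext h'))
    exact hne.1 (Subtype.ext (eq_zero_of_apply_eq_zero hmin a.2 (congrArg
      (fun r : R => (r : Module.End (ZMod p) (Additive D)) v) h) hv))⟩
  haveI : IsDomain R := NoZeroDivisors.to_isDomain R
  haveI : Finite (Module.End (ZMod p) (Additive D)) :=
    Finite.of_injective (fun f v => f v) fun f g h => LinearMap.ext (congrFun h)
  haveI := Fintype.ofFinite R
  letI : Field R := Fintype.fieldOfDomain R
  let τ : R := ⟨T, hTR⟩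
  have hτ : orderOf τ = q := by
    have hTq : T ^ q = 1 := LinearMap.ext fun w => hext _ _ (by
      rw [hTpow, ← hx, pow_orderOf_eq_one]
      simp)
    refine orderOf_eq_prime (Subtype.ext (by simpa [τ] using hTq)) fun h => ?_
    have h1 : T = 1 := congrArg Subtype.val h
    exact hfpf x _ hx (hord v₀ hv₀0) (congrArg (fun z : Additive D => (z.toMul : G))
      (congrArg (fun f : Module.End (ZMod p) (Additive D) => f v₀) h1))
  have hroots : ∀ i : ℕ, ¬ q ∣ i → ∃ k : ℕ, (p : ZMod q) ^ k = (i : ZMod q) := by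
    intro i hi
    obtain ⟨Φ, hΦ⟩ := htr x (x ^ i) (by
      rw [Nat.Coprime.orderOf_pow (by rw [hx]; exact hq.coprime_iff_not_dvd.2 hi)])
    let E : Additive D ≃ₗ[ZMod p] Additive D :=
      LinearEquiv.ofLinear ((act Φ).toZModLinearMap p) ((act Φ⁻¹).toZModLinearMap p)
        (LinearMap.ext fun d => hinv' Φ d) (LinearMap.ext fun d => hinv Φ d)
    let C := E.conjAlgEquiv (ZMod p)
    have hCT : C T = T ^ i := by
      refine LinearMap.ext fun d => hext _ _ ?_
      rw [hTpow]
      show Φ (x * Φ⁻¹ (d.toMul : G) * x⁻¹) = _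
      rw [map_mul, map_mul, map_inv, hΦ, MulAut.apply_inv_self]
    have hCR : ∀ r : R, C r ∈ R := by
      rintro ⟨r, hr⟩
      induction hr using Algebra.adjoin_induction with
      | mem y hy =>
        show C y ∈ R
        rw [Set.mem_singleton_iff.1 hy, hCT]
        exact pow_mem hTR i
      | algebraMap c => show C (algebraMap _ _ c) ∈ R; rw [AlgEquiv.commutes]; exact R.algebraMap_mem c
      | add y z _ _ hy hz => show C (y + z) ∈ R; rw [map_add]; exact add_mem hy hz
      | mul y z _ _ hy hz => show C (y * z) ∈ R; rw [map_mul]; exact mul_mem hy hz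
    let σ : R →ₐ[ZMod p] R := (C.toAlgHom.comp R.val).codRestrict R hCR
    obtain ⟨k, hk⟩ := (FiniteField.bijective_frobeniusAlgHom_pow (ZMod p) R).2 σ
    have h1 : τ ^ p ^ (k : ℕ) = τ ^ i := by
      have h2 := congrArg (fun f : R →ₐ[ZMod p] R => f τ) hk
      simp only [AlgHom.coe_pow, FiniteField.coe_frobeniusAlgHom, pow_iterate, ZMod.card] at h2
      refine h2.trans (Subtype.ext ?_)
      show C T = _
      rw [hCT]
      simp [τ]
    refine ⟨k, ?_⟩
    have h2 := (IsOfFinOrder.pow_eq_pow_iff_modEq (orderOf_pos_iff.1 (hτ.symm ▸ hq.pos))).1 h1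
    rw [hτ, ← ZMod.natCast_eq_natCast_iff] at h2
    simpa using h2
  have hp0 : (p : ZMod q) ≠ 0 := fun h =>
    hpq ((Nat.prime_dvd_prime_iff_eq hq hp).1 ((ZMod.natCast_eq_zero_iff p q).1 h)).symm
  let u : (ZMod q)ˣ := Units.mk0 _ hp0
  have htop : Subgroup.zpowers u = ⊤ := by
    rw [eq_top_iff]
    intro w _
    obtain ⟨k, hk⟩ := hroots (w : ZMod q).val (fun h => w.ne_zero (by
      rw [← ZMod.natCast_zmod_val (w : ZMod q)]; exact (ZMod.natCast_eq_zero_iff _ q).2 h))
    rw [ZMod.natCast_zmod_val] at hk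
    exact ⟨k, Units.ext (by simpa [u] using hk)⟩
  have h := Nat.card_zpowers u
  rw [htop, Subgroup.card_top, Nat.card_eq_fintype_card, ZMod.card_units, ← orderOf_units,
    Units.val_mk0] at h
  exact h.symm

/-- If the automorphism group has transitive action on the elements of each order and there are
only elements of orders `1`, `p` and `q`, the structure follows. -/
theorem structure_of_three_orbits (hpq : p ≠ q) (hpG : p ∣ Nat.card G) (hqG : q ∣ Nat.card G)
    (hclass : ∀ g : G, g = 1 ∨ orderOf g = p ∨ orderOf g = q)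
    (htr : ∀ a b : G, orderOf a = orderOf b → ∃ Φ : MulAut G, Φ a = b)
    (hchar : ∀ g : G, orderOf g = p → g ∈ commutator G)
    (hab : ∀ g ∈ commutator G, g = 1 ∨ orderOf g = p) :
    ∃ n : ℕ, 1 ≤ n ∧ Nat.card G = p ^ n * q ∧
      (∀ P : Sylow p G, (P : Subgroup G).Normal ∧ Cfsg.IsElementaryAbelian p (P : Subgroup G)) ∧
      orderOf (p : ZMod q) = q - 1 ∧
      ∀ x y : G, orderOf x = q → orderOf y = p → x * y * x⁻¹ ≠ y := by
  classical
  haveI := Fintype.ofFinite G
  have hp := (Fact.out : p.Prime)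
  have hq := (Fact.out : q.Prime)
  have hfpf : ∀ x y : G, orderOf x = q → orderOf y = p → x * y * x⁻¹ ≠ y := by
    intro x y hx hy h
    have hc : Commute x y := mul_inv_eq_iff_eq_mul.1 h
    have h1 := hc.orderOf_mul_eq_mul_orderOf_of_coprime
      (by rw [hx, hy]; exact (Nat.coprime_primes hq hp).2 hpq.symm)
    rw [hx, hy] at h1
    rcases hclass (x * y) with h2 | h2 | h2
    · rw [h2, orderOf_one] at h1
      exact hq.ne_one (Nat.eq_one_of_mul_eq_one_right h1.symm)
    · rw [h2] at h1
      exact hq.ne_one ((Nat.mul_eq_right hp.ne_zero).1 h1.symm)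
    · rw [h2] at h1
      exact hp.ne_one ((Nat.mul_eq_left hq.ne_zero).1 h1.symm)
  set D := commutator G with hD
  have hDp : IsPGroup p D := fun d => ⟨1, Subtype.ext (by
    rcases hab d d.2 with h | h
    · simp [h]
    · rw [pow_one, SubmonoidClass.coe_pow, ← h, pow_orderOf_eq_one]; rfl)⟩
  obtain ⟨a₀, ha₀⟩ := exists_prime_orderOf_dvd_card' (G := G) p hpG
  -- `D` is a Sylow subgroup
  have hpd : ¬ p ∣ D.index := by
    intro h
    rw [Subgroup.index_eq_card] at h
    obtain ⟨b, hb⟩ := exists_prime_orderOf_dvd_card' (G := G ⧸ D) p h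
    obtain ⟨g, rfl⟩ := QuotientGroup.mk_surjective b
    have h1 : p ∣ orderOf g := hb ▸ orderOf_map_dvd (QuotientGroup.mk' D) g
    rcases hclass g with h2 | h2 | h2
    · rw [h2, orderOf_one] at h1; exact hp.not_dvd_one h1
    · rw [(QuotientGroup.eq_one_iff g).2 (hchar g h2), orderOf_one] at hb; exact hp.ne_one hb.symm
    · rw [h2] at h1; exact hpq ((Nat.prime_dvd_prime_iff_eq hp hq).1 h1)
  have hsyl : ∀ P : Sylow p G, (P : Subgroup G) = D := fun P => by
    refine le_antisymm (fun g hg => ?_) (hDp.le_sylow_of_normal P)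
    rcases eq_or_ne g 1 with h | h
    · rw [h]; exact one_mem _
    rcases hclass g with h1 | h1 | h1
    · exact absurd h1 h
    · exact hchar g h1
    · obtain ⟨k, hk⟩ := P.2 ⟨g, hg⟩
      have h2 : q ∣ p ^ k := h1 ▸ orderOf_dvd_of_pow_eq_one (congrArg Subtype.val hk)
      exact absurd ((Nat.prime_dvd_prime_iff_eq hq hp).1 (hq.dvd_of_dvd_pow h2)).symm hpq
  have hDne : D ≠ ⊥ := fun h => hp.ne_one (by
    rw [← ha₀, orderOf_eq_one_iff]; exact Subgroup.mem_bot.1 (h.le (hchar a₀ ha₀)))
  -- the centre of `D` is all of `D`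
  haveI hDc : IsMulCommutative D := by
    haveI : Nontrivial D := (Subgroup.nontrivial_iff_ne_bot D).2 hDne
    haveI := hDp.center_nontrivial
    obtain ⟨z, hz⟩ := exists_ne (1 : Subgroup.center D)
    have hz1 : ((z : D) : G) ≠ 1 := fun e => hz (Subtype.ext (Subtype.ext e))
    have hzp : orderOf ((z : D) : G) = p := (hab _ (z : D).2).resolve_left hz1
    refine ⟨⟨fun a b => ?_⟩⟩
    rcases hab _ a.2 with ha | ha
    · rw [show a = 1 from Subtype.ext ha, one_mul, mul_one]
    obtain ⟨Φ, hΦ⟩ := htr _ _ (hzp.trans ha.symm)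
    have hmap : D.map Φ.toMonoidHom = D :=
      Subgroup.characteristic_iff_map_eq.1 inferInstance Φ
    obtain ⟨b', hb', hbb⟩ := hmap.ge b.2
    have h1 : ((z : D) : G) * b' = b' * ((z : D) : G) :=
      (congrArg Subtype.val (Subgroup.mem_center_iff.1 z.2 ⟨b', hb'⟩)).symm
    have h2 := congrArg Φ h1
    rw [map_mul, map_mul, hΦ] at h2
    refine Subtype.ext ?_
    show (a : G) * (b : G) = (b : G) * (a : G)
    rw [← show Φ b' = b from hbb]
    exact h2
  have hel : Cfsg.IsElementaryAbelian p D := ⟨hDc, fun a ha => by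
    rcases hab a ha with h | h
    · rw [h, one_pow]
    · rw [← h, pow_orderOf_eq_one]⟩
  -- the index
  obtain ⟨x, hx⟩ := exists_prime_orderOf_dvd_card' (G := G) q hqG
  have hxD : x ∉ D := fun h => by
    rcases hab x h with h1 | h1
    · exact hq.ne_one (by rw [← hx, h1, orderOf_one])
    · exact hpq (h1.symm.trans hx)
  have hindex : D.index = q := by
    obtain ⟨Q⟩ := (inferInstance : Nonempty (Sylow q G))
    have hQord : ∀ u ∈ (Q : Subgroup G), u ≠ 1 → orderOf u = q := by
      intro u hu h1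
      obtain ⟨k, hk⟩ := Q.2 ⟨u, hu⟩
      refine ((hclass u).resolve_left h1).resolve_left fun h => hpq ?_
      have h2 : p ∣ q ^ k := h ▸ orderOf_dvd_of_pow_eq_one (congrArg Subtype.val hk)
      exact (Nat.prime_dvd_prime_iff_eq hp hq).1 (hp.dvd_of_dvd_pow h2)
    have hQD : ∀ u ∈ (Q : Subgroup G), u ∈ D → u = 1 := fun u hu hd => by
      by_contra h1
      exact hpq (((hab u hd).resolve_left h1).symm.trans (hQord u hu h1))
    haveI : IsMulCommutative (Q : Subgroup G) := ⟨⟨fun u v => Subtype.ext (by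
      have h1 := hQD ⁅(u : G), (v : G)⁆
        (by rw [commutatorElement_def]
            exact mul_mem (mul_mem (mul_mem u.2 v.2) (inv_mem u.2)) (inv_mem v.2))
        (Subgroup.commutator_mem_commutator (Subgroup.mem_top _) (Subgroup.mem_top _))
      exact (commutatorElement_eq_one_iff_mul_comm.1 h1 :))⟩⟩
    haveI := CfsgLib.Solv.isCyclic_of_fpf_abelian (A := (Q : Subgroup G)) hDne
      (le_top.trans (Subgroup.normalizer_eq_top_iff.2 inferInstance).ge) fun u hu h1 => by
        rw [eq_bot_iff]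
        intro v hv
        rw [Subgroup.mem_bot]
        by_contra hv1
        refine hfpf u v (hQord u hu h1) ((hab v hv.1).resolve_left hv1) ?_
        rw [← Subgroup.mem_centralizer_singleton_iff.1 hv.2, mul_inv_cancel_right]
    have hQc : Nat.card (Q : Subgroup G) = q := by
      obtain ⟨u, hu⟩ := IsCyclic.exists_generator (α := (Q : Subgroup G))
      rw [← orderOf_eq_card_of_forall_mem_zpowers hu, ← Subgroup.orderOf_coe]
      refine hQord u u.2 fun h1 => ?_
      have hu1 : u = 1 := Subtype.ext h1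
      obtain ⟨y, hy⟩ := exists_prime_orderOf_dvd_card' (G := (Q : Subgroup G)) q
        (Q.dvd_card_of_dvd_card hqG)
      have := hu y
      rw [hu1, Subgroup.zpowers_one_eq_bot, Subgroup.mem_bot] at this
      exact hq.ne_one (by rw [← hy, this, orderOf_one])
    have h1 : (Nat.card G).factorization q = 1 := by
      have h3 := Q.card_eq_multiplicity
      rw [hQc] at h3
      exact (Nat.pow_right_injective hq.two_le (a₁ := 1) (by simpa using h3)).symm
    refine Nat.eq_of_factorization_eq Subgroup.index_ne_zero_of_finite hq.ne_zero fun r => ?_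
    rw [hq.factorization, Finsupp.single_apply]
    split_ifs with hrq
    · subst hrq
      have h2 := D.card_mul_index
      have h4 : (Nat.card D).factorization q = 0 := by
        obtain ⟨k, hk⟩ := IsPGroup.iff_card.1 hDp
        rw [hk, hp.factorization_pow, Finsupp.single_eq_of_ne hpq.symm]
      rw [← h2, Nat.factorization_mul Nat.card_pos.ne' Subgroup.index_ne_zero_of_finite,
        Finsupp.add_apply, h4, zero_add] at h1
      exact h1
    · rw [Nat.factorization_eq_zero_iff]
      by_cases hr : r.Prime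
      · refine Or.inr (Or.inl fun hd => ?_)
        haveI := Fact.mk hr
        obtain ⟨g, hg⟩ := exists_prime_orderOf_dvd_card' (G := G) r
          (hd.trans (Subgroup.index_dvd_card D))
        rcases hclass g with h2 | h2 | h2
        · rw [h2, orderOf_one] at hg; exact hr.ne_one hg.symm
        · exact hpd (by rw [← h2, hg]; exact hd)
        · exact hrq (h2.symm.trans hg)
      · exact Or.inl hr
  obtain ⟨n, hn⟩ := IsPGroup.iff_card.1 hDp
  have hn1 : 1 ≤ n := by
    rcases Nat.eq_zero_or_pos n with h | h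
    · exact absurd (Subgroup.card_eq_one.1 (by rw [hn, h, pow_zero])) hDne
    · exact h
  refine ⟨n, hn1, by rw [← D.card_mul_index, hn, hindex], fun P => ?_, ?_, hfpf⟩
  · rw [hsyl P]
    exact ⟨inferInstance, hel⟩
  exact orderOf_eq_sub_one hpq D hel hDne hab x hx hxD hindex hfpf htr

end Group

end CfsgLib.Perm.ThreeOrbits
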