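import Cfsg.Agent.S2792
import Cfsg.Agent.Fus.HyperfocalGroup
import Cfsg.Prelude.Def_BaumannBlocks

/-!
From equality of derived parts to equality of residuals.
-/

set_option autoImplicit false
set_option linter.style.haveILetI false
set_option linter.deprecated false

open Cfsg Cfsg.FusionSystem
open CfsgLib.Fus

namespace CfsgLib.Perm.TransferRes

variable {G : Type*} [Group G] [Finite G] {p : ℕ} [hp : Fact p.Prime]

/-- The hyperfocal subgroup of the system of a subgroup lies in its residual. -/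
theorem hyperfocal_le_residual (S : Subgroup G) {M : Subgroup G} (hSM : S ≤ M) :
    (Cfsg.fusionSystemOfSubgroup M S hSM).hyperfocalSubgroup p ≤ (Cfsg.pResidual p M).map M.subtype := by
  haveI := CfsgLib.Inv.pResidual_normal p M
  set E := Cfsg.fusionSystemOfSubgroup M S hSM
  refine hyperfocal_le_iff.2 fun P hP α hα hc x hx => ?_
  let K : Subgroup (MulAut P) :=
    { carrier := {β | ∃ g : M, ∀ y : P, ((β y : P) : G) = (g : G) * y * (g : G)⁻¹}
      one_mem' := ⟨1, fun y => by simp⟩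
      mul_mem' := fun {a b} ⟨g, hg⟩ ⟨h, hh⟩ => ⟨g * h, fun y => by
        rw [MulAut.mul_apply, hg, hh, Subgroup.coe_mul]; group⟩
      inv_mem' := fun {a} ⟨g, hg⟩ => ⟨g⁻¹, fun y => by
        have := hg (a⁻¹ y)
        rw [MulAut.apply_inv_self] at this
        rw [Subgroup.coe_inv, this]; group⟩ }
  obtain ⟨g, hg⟩ : α ∈ K := by
    refine (Subgroup.closure_le K).2 ?_ hα
    rintro β ⟨-, -, g, hg, hβ⟩
    exact ⟨⟨g, hg⟩, fun y => hβ y⟩
  obtain ⟨a, b, hb, hn⟩ := Nat.exists_eq_pow_mul_and_not_dvd (orderOf_pos g).ne' p hp.out.ne_one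
  have hk : g ^ p ^ a ∈ Cfsg.pResidual p M := CfsgLib.Inv.mem_pResidual (by
    rw [orderOf_pow' _ (pow_ne_zero _ hp.out.pos.ne'), hn, Nat.gcd_eq_right (dvd_mul_right _ _),
      Nat.mul_div_cancel_left _ (pow_pos hp.out.pos a)]
    exact (hp.out.coprime_iff_not_dvd.2 hb).symm)
  obtain ⟨j, hj⟩ := exists_pow_eq_self_of_coprime (x := α) (n := p ^ a) (hc.pow_right a).symm
  have hpow : ∀ (n : ℕ) (y : P), (((α ^ n) y : P) : G) = ((g ^ n : M) : G) * y * ((g ^ n : M) : G)⁻¹ := by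
    intro n
    induction n with
    | zero => intro y; simp
    | succ n ih =>
      intro y
      rw [pow_succ, MulAut.mul_apply, ih, hg, pow_succ, Subgroup.coe_mul]
      group
  have h1 := hpow (p ^ a * j) ⟨x, hx⟩
  rw [pow_mul α, hj, pow_mul g] at h1
  rw [autFun_of_mem α hx, h1]
  set u := (g ^ p ^ a) ^ j
  have hu : u ∈ Cfsg.pResidual p M := Subgroup.pow_mem _ hk j
  refine ⟨(⟨x, hSM (hP hx)⟩ : M)⁻¹ * u * (⟨x, hSM (hP hx)⟩ : M)⁻¹⁻¹ * u⁻¹,
    Subgroup.mul_mem _ (‹(Cfsg.pResidual p M).Normal›.conj_mem _ hu _) (Subgroup.inv_mem _ hu), ?_⟩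
  show (((⟨x, hSM (hP hx)⟩ : M)⁻¹ * u * (⟨x, hSM (hP hx)⟩ : M)⁻¹⁻¹ * u⁻¹ : M) : G) = _
  push_cast
  group

/-- Tate: equality of the derived parts gives equality of the residual parts. -/
theorem inf_residual_eq (S : Sylow p G) {M : Subgroup G} (hSM : (S : Subgroup G) ≤ M)
    (h : (S : Subgroup G) ⊓ commutator G = (S : Subgroup G) ⊓ ⁅M, M⁆) :
    (S : Subgroup G) ⊓ Cfsg.pResidual p G ≤ (Cfsg.pResidual p M).map M.subtype := by
  set F := Cfsg.groupFusionSystem (S : Subgroup G)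
  set E := Cfsg.fusionSystemOfSubgroup M (S : Subgroup G) hSM
  have hEF : E.IsSubsystemOf F := fun P φ hφ => by
    obtain ⟨hP, hS, g, -, hg⟩ := hφ
    exact ⟨hP, hS, g, hg⟩
  have hsat : E.IsSaturated p := subgroupSystem_saturated hSM ⟨S.subtype hSM, rfl⟩
  have hFle : F.focalSubgroup ≤ (S : Subgroup G) ⊓ commutator G := by
    rw [Cfsg.FusionSystem.focalSubgroup, Subgroup.closure_le]
    rintro _ ⟨P, φ, x, ⟨hP, hφS, g, hg⟩, rfl⟩
    refine Subgroup.mem_inf.2 ⟨Subgroup.mul_mem _ (Subgroup.inv_mem _ (hP x.2)) (hφS x), ?_⟩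
    have := Subgroup.commutator_mem_commutator (Subgroup.mem_top (x : G)⁻¹) (Subgroup.mem_top g)
    rw [← commutator_def, commutatorElement_def, inv_inv] at this
    rw [hg]
    simpa [mul_assoc] using this
  have hEF' : E.focalSubgroup ≤ F.focalSubgroup := by
    rw [Cfsg.FusionSystem.focalSubgroup, Subgroup.closure_le]
    rintro _ ⟨P, φ, x, hφ, rfl⟩
    exact Subgroup.subset_closure ⟨P, φ, x, hEF P hφ, rfl⟩
  have hFE : F.focalSubgroup ≤ E.focalSubgroup := fun x hx => by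
    have h1 := hFle hx
    rw [h] at h1
    exact Cfsg.Agent.S2792.focal_ge S hSM h1.1 h1.2
  have he := (Cfsg.Agent.S5224.result p S.isPGroup' F (group_saturated S) E hsat hEF).2.1
    (le_antisymm hFE hEF')
  rw [← group_hyperfocal p S, he]
  exact hyperfocal_le_residual _ hSM

/-- A subgroup above a Sylow subgroup inherits the residual. -/
theorem residual_eq_inf (S : Sylow p G) {M : Subgroup G} (hSM : (S : Subgroup G) ≤ M)
    (h : (S : Subgroup G) ⊓ Cfsg.pResidual p G ≤ (Cfsg.pResidual p M).map M.subtype) :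
    Cfsg.pResidualOf p M = Cfsg.pResidual p G ⊓ M := by
  haveI := CfsgLib.Inv.pResidual_normal p G
  haveI := CfsgLib.Inv.pResidual_normal p M
  refine le_antisymm (le_inf (CfsgLib.Solv.pResidual_subgroup_le M) (Subgroup.map_subtype_le _)) ?_
  rintro x ⟨hxG, hxM⟩
  let R := Cfsg.pResidual p M
  let W := (Cfsg.pResidual p G).subgroupOf M
  have hRW : R ≤ W := fun y hy => CfsgLib.Solv.pResidual_subgroup_le M (Subgroup.mem_map_of_mem _ hy)
  obtain ⟨a, ha⟩ := CfsgLib.Solv.exists_index_pResidual (G := M) (p := p)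
  obtain ⟨b, -, hb⟩ := (Nat.dvd_prime_pow hp.out).1 (ha ▸ Subgroup.relIndex_dvd_index_of_normal R W)
  let T := ((S : Subgroup G).subgroupOf M ⊓ W)
  have hTR : T ≤ R := fun y hy => by
    obtain ⟨z, hz, hzy⟩ := h (Subgroup.mem_inf.2 ⟨hy.1, hy.2⟩ : (y : G) ∈ (S : Subgroup G) ⊓ Cfsg.pResidual p G)
    rwa [← show z = y from Subtype.ext hzy]
  have hT : ¬ p ∣ T.relIndex W := by
    obtain ⟨Q, hQ⟩ := sylow_inf_normal_system (S.subtype hSM) W
    show ¬ p ∣ (T.subgroupOf W).index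
    rw [show T.subgroupOf W = (Q : Subgroup W) from hQ.symm]
    exact Q.not_dvd_index
  have hb0 : b = 0 := by
    by_contra h0
    refine hT ((dvd_pow_self p h0).trans (hb ▸ ?_))
    exact Subgroup.relIndex_dvd_of_le_left W hTR
  rw [hb0, pow_zero, Subgroup.relIndex_eq_one] at hb
  exact ⟨⟨x, hxM⟩, hb hxG, rfl⟩

end CfsgLib.Perm.TransferRes
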