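import Mathlib

/-!
Doubly transitive groups and automorphisms of odd order: the image of a point stabiliser with an
orbit of length prime to the degree fixes a point.
-/

set_option autoImplicit false
set_option linter.style.haveILetI false
set_option linter.unusedSectionVars false

namespace CfsgLib.Perm.TwistedOrbit

open Matrix

variable {Ω : Type*} [Fintype Ω] [DecidableEq Ω] (G : Subgroup (Equiv.Perm Ω))

/-- A matrix invariant under a doubly transitive group has constant diagonal and off-diagonal. -/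
theorem invariant_form (h2 : MulAction.IsMultiplyPretransitive G Ω 2) {x₀ y₀ : Ω} (hne : x₀ ≠ y₀)
    (M : Matrix Ω Ω ℤ) (hM : ∀ (g : G) x y, M (g • x) (g • y) = M x y) :
    M = (M x₀ x₀ - M x₀ y₀) • (1 : Matrix Ω Ω ℤ) + M x₀ y₀ • (of fun _ _ => (1 : ℤ)) := by
  ext x y
  rcases eq_or_ne x y with rfl | hxy
  · by_cases hx : x = x₀
    · subst hx
      simp only [Matrix.add_apply, Matrix.smul_apply, Matrix.one_apply_eq, of_apply, smul_eq_mul]
      ring
    · obtain ⟨g, hg, -⟩ := MulAction.is_two_pretransitive_iff.1 h2 hne hx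
      have h1 := hM g x₀ x₀
      rw [hg] at h1
      simp only [Matrix.add_apply, Matrix.smul_apply, Matrix.one_apply_eq, of_apply, smul_eq_mul, h1]
      ring
  · obtain ⟨g, hg, hg'⟩ := MulAction.is_two_pretransitive_iff.1 h2 hne hxy
    have h1 := hM g x₀ y₀
    rw [hg, hg'] at h1
    simp only [Matrix.add_apply, Matrix.smul_apply, Matrix.one_apply_ne hxy, of_apply, smul_eq_mul, h1]
    ring

set_option maxHeartbeats 2000000 in
theorem exists_fixed_image (h2 : MulAction.IsMultiplyPretransitive G Ω 2) (o ω : Ω) (α : MulAut G)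
    (hα : Odd (orderOf α))
    (hk : (Nat.card (MulAction.orbit ((MulAction.stabilizer G o).map α.toMonoidHom) ω)).Coprime (Fintype.card Ω)) :
    (∃ σ : Equiv.Perm Ω, σ ∈ Subgroup.normalizer (G : Set (Equiv.Perm Ω)) ∧
        ∀ g : G, ((α g : G) : Equiv.Perm Ω) = σ * (g : Equiv.Perm Ω) * σ⁻¹) ∧
      (Nat.card (MulAction.orbit ((MulAction.stabilizer G o).map α.toMonoidHom) ω) = 1 ∨
       Nat.card (MulAction.orbit ((MulAction.stabilizer G o).map α.toMonoidHom) ω) = Fintype.card Ω - 1) := by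
  classical
  set H' := (MulAction.stabilizer G o).map α.toMonoidHom with hH'
  set O := MulAction.orbit H' ω with hO
  set k := Nat.card O with hkdef
  set n := Fintype.card Ω with hn
  haveI htrans : MulAction.IsPretransitive G Ω :=
    MulAction.isPretransitive_of_is_two_pretransitive (h2 := h2)
  have hOinv : ∀ h ∈ H', ∀ y, h • y ∈ O ↔ y ∈ O := fun h hh y => by
    rw [hO, ← MulAction.orbit_eq_iff, ← MulAction.orbit_eq_iff,
      show h • y = (⟨h, hh⟩ : H') • y from rfl, MulAction.orbit_smul]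
  -- from a fixed point to the automorphism
  suffices hfix : (∃ ω₀ : Ω, ∀ h ∈ H', h • ω₀ = ω₀) ∧ (k = 1 ∨ k = n - 1) by
    obtain ⟨⟨ω₀, hω₀⟩, hk'⟩ := hfix
    refine ⟨?_, hk'⟩
    have hle : H' ≤ MulAction.stabilizer G ω₀ := hω₀
    have heq : H' = MulAction.stabilizer G ω₀ := by
      refine Subgroup.eq_of_le_of_card_ge hle (le_of_eq ?_)
      have h1 := (MulAction.stabilizer G o).card_mul_index
      have h3 := (MulAction.stabilizer G ω₀).card_mul_index
      rw [MulAction.index_stabilizer_of_transitive] at h1 h3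
      haveI : Nonempty Ω := ⟨o⟩
      rw [hH', Nat.card_congr ((MulAction.stabilizer G o).equivMapOfInjective α.toMonoidHom α.injective).toEquiv.symm]
      exact Nat.eq_of_mul_eq_mul_right Nat.card_pos (h3.trans h1.symm)
    choose g hg using fun x => MulAction.exists_smul_eq G o x
    have hwd : ∀ a b : G, a • o = b • o → α a • ω₀ = α b • ω₀ := by
      intro a b hab
      have h1 : b⁻¹ * a ∈ MulAction.stabilizer G o := by
        rw [MulAction.mem_stabilizer_iff, mul_smul, hab, inv_smul_smul]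
      have h3 : α (b⁻¹ * a) • ω₀ = ω₀ := hω₀ _ ⟨_, h1, rfl⟩
      rw [map_mul, map_inv, mul_smul, inv_smul_eq_iff] at h3
      exact h3
    let f : Ω → Ω := fun x => α (g x) • ω₀
    have hf : ∀ (a : G) x, f (a • x) = α a • f x := fun a x => by
      show α (g (a • x)) • ω₀ = α a • α (g x) • ω₀
      rw [← mul_smul, ← map_mul]
      exact hwd _ _ (by rw [hg, mul_smul, hg])
    have hfs : Function.Surjective f := fun y => by
      obtain ⟨a, ha⟩ := MulAction.exists_smul_eq G ω₀ y
      refine ⟨α.symm a • o, ?_⟩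
      show α (g _) • ω₀ = y
      rw [hwd (g (α.symm a • o)) (α.symm a) (hg _), MulEquiv.apply_symm_apply, ha]
    let σ : Equiv.Perm Ω := Equiv.ofBijective f ⟨Finite.injective_iff_surjective.2 hfs, hfs⟩
    have hσ : ∀ a : G, ((α a : G) : Equiv.Perm Ω) = σ * (a : Equiv.Perm Ω) * σ⁻¹ := fun a => by
      rw [eq_mul_inv_iff_mul_eq]
      exact Equiv.ext fun x => (hf a x).symm
    refine ⟨σ, ?_, hσ⟩
    refine Subgroup.mem_normalizer_fintype fun a ha => ?_
    rw [← hσ ⟨a, ha⟩]
    exact (α ⟨a, ha⟩).2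
  have hωO : ω ∈ O := MulAction.mem_orbit_self ω
  have hkpos : 0 < k := by
    haveI : Nonempty O := ⟨⟨ω, hωO⟩⟩
    exact Nat.card_pos
  have hkn : k ≤ n := by
    rw [hkdef, hn, ← Nat.card_eq_fintype_card]
    exact Nat.card_le_card_of_injective Subtype.val Subtype.val_injective
  -- the small cases
  have hsmall : k = 1 → (∃ ω₀ : Ω, ∀ h ∈ H', h • ω₀ = ω₀) ∧ (k = 1 ∨ k = n - 1) := fun h1 => by
    refine ⟨⟨ω, fun h hh => ?_⟩, Or.inl h1⟩
    haveI : Subsingleton O := (Nat.card_eq_one_iff_unique.1 h1).1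
    exact congrArg Subtype.val (Subsingleton.elim (⟨h • ω, (hOinv h hh ω).2 hωO⟩ : O) ⟨ω, hωO⟩)
  have hbig : k + 1 = n → (∃ ω₀ : Ω, ∀ h ∈ H', h • ω₀ = ω₀) ∧ (k = 1 ∨ k = n - 1) := fun h1 => by
    have h3 : (Oᶜ : Set Ω).ncard = 1 := by
      rw [Set.ncard_compl, ← Nat.card_coe_set_eq, Nat.card_eq_fintype_card, ← hn, ← hkdef]
      omega
    obtain ⟨ω₀, hω₀⟩ := Set.ncard_eq_one.1 h3
    refine ⟨⟨ω₀, fun h hh => ?_⟩, Or.inr (by omega)⟩
    have h4 : h • ω₀ ∈ (Oᶜ : Set Ω) := fun hc => by
      have : ω₀ ∈ (Oᶜ : Set Ω) := by rw [hω₀]; rfl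
      exact this ((hOinv h hh ω₀).1 hc)
    rw [hω₀] at h4
    exact h4
  rcases eq_or_ne k n with hkn' | hkn'
  · exact hsmall (by have := hk; rw [hkn'] at this; exact hkn'.trans ((Nat.coprime_self _).1 this))
  obtain ⟨x₀, y₀, hne⟩ : ∃ x y : Ω, x ≠ y := by
    haveI : Nontrivial Ω := Fintype.one_lt_card_iff_nontrivial.1 (by omega)
    exact exists_pair_ne Ω
  choose g hg using fun x => MulAction.exists_smul_eq G o x
  let A : Matrix Ω Ω ℤ := of fun x y => if (α (g x))⁻¹ • y ∈ O then 1 else 0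
  have hAeq : ∀ (a : G) x y, A (a • x) (α a • y) = A x y := by
    intro a x y
    have h1 : (g (a • x))⁻¹ * (a * g x) ∈ MulAction.stabilizer G o := by
      rw [MulAction.mem_stabilizer_iff, mul_smul, mul_smul, hg, inv_smul_eq_iff, hg]
    have h3 := hOinv _ ⟨_, h1, rfl⟩ ((α (g x))⁻¹ • y)
    rw [← mul_smul] at h3
    have e : α ((g (a • x))⁻¹ * (a * g x)) * (α (g x))⁻¹ = (α (g (a • x)))⁻¹ * α a := by
      rw [map_mul, map_mul, map_inv]; group
    rw [MulEquiv.coe_toMonoidHom, e, mul_smul] at h3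
    simp only [A, of_apply, h3]
  set J : Matrix Ω Ω ℤ := of fun _ _ => (1 : ℤ) with hJ
  have hJJ : J * J = (n : ℤ) • J := by
    ext x y; simp [J, Matrix.mul_apply, hn]
  have hrow : A * J = (k : ℤ) • J := by
    ext x y
    simp only [J, A, Matrix.mul_apply, of_apply, mul_one, Matrix.smul_apply, smul_eq_mul,
      Finset.sum_boole, Nat.cast_inj]
    rw [← Fintype.card_subtype, ← Nat.card_eq_fintype_card, hkdef]
    exact Nat.card_congr ((MulAction.toPerm (α (g x))⁻¹).subtypeEquiv fun y => Iff.rfl)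
  have hrowT : J * Aᵀ = (k : ℤ) • J := by
    have := congrArg Matrix.transpose hrow
    rw [Matrix.transpose_mul, Matrix.transpose_smul] at this
    simpa [J, Matrix.transpose] using this
  set S := A * Aᵀ with hS
  have hSinv : ∀ (a : G) x y, S (a • x) (a • y) = S x y := by
    intro a x y
    simp only [hS, Matrix.mul_apply, Matrix.transpose_apply]
    refine (Fintype.sum_equiv (MulAction.toPerm (α a)) _ _ fun z => ?_).symm
    simp only [MulAction.toPerm_apply, hAeq]
  set b := S x₀ y₀
  set a := S x₀ x₀ - b with hadef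
  have hSeq : S = a • (1 : Matrix Ω Ω ℤ) + b • J := invariant_form G h2 hne S hSinv
  have hsq : (k : ℤ) * k = a + b * n := by
    have h1 : S * J = ((k : ℤ) * k) • J := by
      have h3 : (J * A) = (k : ℤ) • J := by
        ext x y
        simp only [J, A, Matrix.mul_apply, of_apply, one_mul, Matrix.smul_apply, smul_eq_mul, mul_one]
        have hcol : ∀ y y' : Ω, ∑ z, (if (α (g z))⁻¹ • y ∈ O then (1 : ℤ) else 0) =
            ∑ z, (if (α (g z))⁻¹ • y' ∈ O then (1 : ℤ) else 0) := by
          intro y y'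
          obtain ⟨c, rfl⟩ := MulAction.exists_smul_eq G y y'
          refine Fintype.sum_equiv (MulAction.toPerm (α.symm c)) _ _ fun z => ?_
          have h4 := hAeq (α.symm c) z y
          simp only [A, of_apply, MulEquiv.apply_symm_apply] at h4
          simp only [MulAction.toPerm_apply, h4]
        have htot : ∑ z, ∑ w, (if (α (g z))⁻¹ • w ∈ O then (1 : ℤ) else 0) = (n : ℤ) * k := by
          have h5 : ∀ z, ∑ w, (if (α (g z))⁻¹ • w ∈ O then (1 : ℤ) else 0) = k := fun z => by
            have := congrFun (congrFun hrow z) x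
            simpa [J, A, Matrix.mul_apply] using this
          simp only [h5, Finset.sum_const, Finset.card_univ, nsmul_eq_mul, hn]
        rw [Finset.sum_comm] at htot
        simp only [fun w => hcol w y, Finset.sum_const, Finset.card_univ, nsmul_eq_mul, ← hn] at htot
        exact mul_left_cancel₀ (by exact_mod_cast (show n ≠ 0 by omega)) htot
      have h6 : Aᵀ * J = (k : ℤ) • J := by
        have := congrArg Matrix.transpose h3
        rw [Matrix.transpose_mul, Matrix.transpose_smul] at this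
        simpa [J, Matrix.transpose] using this
      rw [hS, Matrix.mul_assoc, h6, Matrix.mul_smul, hrow, smul_smul]
    rw [hSeq, Matrix.add_mul, Matrix.smul_mul, Matrix.smul_mul, Matrix.one_mul, hJJ, smul_smul] at h1
    have := congrFun (congrFun h1 x₀) x₀
    simp only [Matrix.add_apply, Matrix.smul_apply, J, of_apply, smul_eq_mul] at this
    linear_combination (-1 : ℤ) * this
  have hdiag : a + b = k := by
    have h1 : S x₀ x₀ = k := by
      have h3 := congrFun (congrFun hrow x₀) x₀
      simp only [J, Matrix.mul_apply, of_apply, mul_one, Matrix.smul_apply, smul_eq_mul] at h3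
      rw [← h3]
      simp only [hS, Matrix.mul_apply, Matrix.transpose_apply, A, of_apply]
      refine Finset.sum_congr rfl fun z _ => ?_
      split_ifs <;> simp
    rw [hadef, h1]; ring
  have hb0 : 0 ≤ b := by
    simp only [b, hS, Matrix.mul_apply, Matrix.transpose_apply, A, of_apply]
    exact Finset.sum_nonneg fun z _ => by split_ifs <;> simp
  have hkn2 : k < n := lt_of_le_of_ne hkn hkn'
  -- k(n - k) = a (n - 1)
  have hrel : (k : ℤ) * (n - k) = a * (n - 1) := by
    linear_combination (-1 : ℤ) * hsq + (-(n : ℤ)) * hdiag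
  have hapos : 0 < a := by
    have h1 : (0 : ℤ) < (k : ℤ) * (n - k) := mul_pos (by exact_mod_cast hkpos) (by
      have : (k : ℤ) < n := by exact_mod_cast hkn2
      linarith)
    rw [hrel] at h1
    exact pos_of_mul_pos_left h1 (by have : (1 : ℤ) ≤ n := by exact_mod_cast (show 1 ≤ n by omega)
                                     linarith)
  -- powers
  have hpowinv : ∀ (j : ℕ) (c : G) x y, (A ^ j) (c • x) ((α ^ j) c • y) = (A ^ j) x y := by
    intro j
    induction j with
    | zero =>
      intro c x y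
      simp [Matrix.one_apply]
    | succ j ih =>
      intro c x y
      rw [pow_succ, pow_succ', Matrix.mul_apply, Matrix.mul_apply, MulAut.mul_apply]
      refine (Fintype.sum_equiv (MulAction.toPerm ((α ^ j) c)) _ _ fun z => ?_).symm
      simp only [MulAction.toPerm_apply, ih, hAeq]
  have hAJ : ∀ j : ℕ, A ^ j * J = ((k : ℤ) ^ j) • J := by
    intro j
    induction j with
    | zero => simp
    | succ j ih => rw [pow_succ, Matrix.mul_assoc, hrow, Matrix.mul_smul, ih, smul_smul, ← pow_succ']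
  have hAAT : ∀ j : ℕ, ∃ e : ℤ, A ^ j * (A ^ j)ᵀ = (a ^ j) • (1 : Matrix Ω Ω ℤ) + e • J := by
    intro j
    induction j with
    | zero => exact ⟨0, by simp⟩
    | succ j ih =>
      obtain ⟨e, he⟩ := ih
      refine ⟨a ^ j * b + e * ((k : ℤ) * k), ?_⟩
      rw [pow_succ' A, Matrix.transpose_mul, ← Matrix.mul_assoc, Matrix.mul_assoc A (A ^ j), he, Matrix.mul_add,
        Matrix.mul_smul, Matrix.mul_one, Matrix.mul_smul, hrow, Matrix.add_mul, Matrix.smul_mul, ← hS, hSeq,
        smul_smul, Matrix.smul_mul, hrowT, smul_add, smul_smul, smul_smul, smul_smul, pow_succ, add_assoc, ← add_smul]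
      ring_nf
  obtain ⟨t, ht⟩ := hα
  set r := orderOf α with hr
  have hMinv : ∀ (c : G) x y, (A ^ r) (c • x) (c • y) = (A ^ r) x y := by
    intro c x y
    have := hpowinv r c x y
    rwa [pow_orderOf_eq_one] at this
  set d := (A ^ r) x₀ y₀
  set c := (A ^ r) x₀ x₀ - d
  have hMeq : A ^ r = c • (1 : Matrix Ω Ω ℤ) + d • J := invariant_form G h2 hne _ hMinv
  have hc2 : c ^ 2 = a ^ r := by
    obtain ⟨e, he⟩ := hAAT r
    have hJT : Jᵀ = J := by ext; simp [J]
    rw [hMeq, Matrix.transpose_add, Matrix.transpose_smul, Matrix.transpose_smul, Matrix.transpose_one, hJT] at he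
    simp only [Matrix.add_mul, Matrix.mul_add, Matrix.smul_mul, Matrix.mul_smul, Matrix.one_mul, Matrix.mul_one,
      hJJ, smul_smul] at he
    have h1 := congrFun (congrFun he x₀) x₀
    have h3 := congrFun (congrFun he x₀) y₀
    simp only [Matrix.add_apply, Matrix.smul_apply, Matrix.one_apply_eq, Matrix.one_apply_ne hne, J, of_apply,
      smul_eq_mul] at h1 h3
    linear_combination h1 - h3
  have hcsum : c + d * n = (k : ℤ) ^ r := by
    have h1 := hAJ r
    rw [hMeq, Matrix.add_mul, Matrix.smul_mul, Matrix.smul_mul, Matrix.one_mul, hJJ, smul_smul] at h1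
    have := congrFun (congrFun h1 x₀) x₀
    simp only [Matrix.add_apply, Matrix.smul_apply, J, of_apply, smul_eq_mul] at this
    linear_combination this
  obtain ⟨s, hs⟩ : a ^ t ∣ c := by
    refine (Int.pow_dvd_pow_iff two_ne_zero).1 ⟨a, ?_⟩
    rw [hc2, ht]; ring
  have hs2 : s ^ 2 = a := by
    have h1 : (a ^ t) ^ 2 * s ^ 2 = (a ^ t) ^ 2 * a := by rw [← mul_pow, ← hs, hc2, ht]; ring
    exact mul_left_cancel₀ (pow_ne_zero 2 (pow_ne_zero t hapos.ne')) h1
  have hco : IsCoprime (k : ℤ) (n : ℤ) := Nat.Coprime.isCoprime hk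
  have hdvd : (n : ℤ) ∣ (k : ℤ) - s := by
    have h1 : (n : ℤ) ∣ (k : ℤ) * k - a := ⟨b, by rw [hsq]; ring⟩
    have h3 : (n : ℤ) ∣ ((k : ℤ) * k) ^ t - a ^ t := h1.trans (sub_dvd_pow_sub_pow _ _ t)
    have h4 : (n : ℤ) ∣ a ^ t * ((k : ℤ) - s) := by
      have h5 : (k : ℤ) ^ r = (k : ℤ) * ((k : ℤ) * k) ^ t := by rw [ht]; ring
      have h6 : a ^ t * ((k : ℤ) - s) = d * n - (k : ℤ) * (((k : ℤ) * k) ^ t - a ^ t) := by
        have h7 := hcsum
        rw [h5, hs] at h7
        linear_combination (-1 : ℤ) * h7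
      rw [h6]
      exact dvd_sub (dvd_mul_left _ _) (Dvd.dvd.mul_left h3 _)
    refine (IsCoprime.pow_right (n := t) ?_).dvd_of_dvd_mul_left h4
    have : IsCoprime ((n : ℤ)) ((k : ℤ) * k + (n : ℤ) * (-b)) :=
      (hco.symm.mul_right hco.symm).add_mul_left_right (-b)
    rwa [show (k : ℤ) * k + (n : ℤ) * (-b) = a by rw [hsq]; ring] at this
  have hsk : s ^ 2 ≤ (k : ℤ) := by rw [hs2]; linarith
  obtain ⟨m, hm⟩ := hdvd
  have hk1 : (1 : ℤ) ≤ k := by exact_mod_cast hkpos
  have hkz : (k : ℤ) < n := by exact_mod_cast hkn2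
  have hm0 : m = 0 ∨ m = 1 := by
    have h1 : s ≤ k := by nlinarith
    have h3 : -(k : ℤ) ≤ s := by nlinarith
    have h4 : 0 ≤ (n : ℤ) * m := by rw [← hm]; linarith
    have h5 : (n : ℤ) * m < n * 2 := by rw [← hm]; linarith
    have h6 : 0 ≤ m := nonneg_of_mul_nonneg_right h4 (by linarith)
    have h7 : m < 2 := lt_of_mul_lt_mul_left h5 (by linarith)
    omega
  rcases hm0 with rfl | rfl
  · refine hsmall ?_
    have h1 : s = k := by linarith
    rw [h1] at hsk
    have : (k : ℤ) ≤ 1 := by nlinarith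
    omega
  · refine hbig ?_
    have h1 : s = (k : ℤ) - n := by linarith
    have h3 : a = ((n : ℤ) - k) ^ 2 := by rw [← hs2, h1]; ring
    rw [h3] at hrel
    have h4 : (k : ℤ) = ((n : ℤ) - k) * ((n : ℤ) - 1) := by
      refine mul_right_cancel₀ (b := (n : ℤ) - k) (by linarith) ?_
      linear_combination hrel
    have : (n : ℤ) - k = 1 := by nlinarith
    omega

end CfsgLib.Perm.TwistedOrbit
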