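import Cfsg.Agent.Perm.ZassenhausEight

/-!
A perfect group with a fixed-point-free representation has order 120 (Zassenhaus).
-/

set_option autoImplicit false
set_option linter.style.haveILetI false

namespace CfsgLib.Perm.Fpf

open Subgroup

universe u

variable {G : Type u} [Group G] [Finite G]

/-- The working hypothesis. -/
structure Minimal (G : Type u) [Group G] : Prop where
  fpf : HasFpf G
  perfect : commutator G = ⊤
  small : SmallPerfect G
  nontrivial : Nontrivial G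

theorem q8_inverts : ∀ p q : QuaternionGroup 2, q * p ≠ p * q → q * p * q⁻¹ = p⁻¹ := by decide

theorem q8_noncentral : ∀ p : QuaternionGroup 2, p * p ≠ 1 → ∃ q : QuaternionGroup 2, q * p ≠ p * q := by decide

theorem q8_pow_four : ∀ p : QuaternionGroup 2, p ^ 4 = 1 := by decide

theorem Minimal.even (h : Minimal G) : 2 ∣ Nat.card G :=
  haveI := h.nontrivial
  even_of_perfect h.fpf h.perfect

theorem Minimal.exists_invol (h : Minimal G) : ∃ z : G, orderOf z = 2 :=
  haveI := Fact.mk Nat.prime_two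
  exists_prime_orderOf_dvd_card' 2 h.even

theorem Minimal.card_sylow (h : Minimal G) (S : Sylow 2 G) : Nat.card (S : Subgroup G) = 8 := by
  haveI := h.nontrivial
  obtain ⟨e⟩ := sylow_card_eight h.fpf h.perfect h.small S
  rw [Nat.card_congr e.toEquiv, Nat.card_eq_fintype_card, QuaternionGroup.card]

theorem Minimal.card_le_eight (h : Minimal G) {T : Subgroup G} (hT : IsPGroup 2 T) :
    Nat.card T ∣ 8 := by
  obtain ⟨S, hS⟩ := hT.exists_le_sylow
  rw [← h.card_sylow S]
  exact Subgroup.card_dvd_of_le hS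

theorem Minimal.two_element (h : Minimal G) {z : G} (hz : orderOf z = 2) {g : G} {k : ℕ}
    (hg : orderOf g = 2 ^ k) : g = 1 ∨ g = z ∨ orderOf g = 4 := by
  haveI := h.nontrivial
  obtain ⟨S, hS⟩ := (show IsPGroup 2 (Subgroup.zpowers g) from
    IsPGroup.of_card (n := k) (by rw [Nat.card_zpowers, hg])).exists_le_sylow
  obtain ⟨e⟩ := sylow_card_eight h.fpf h.perfect h.small S
  have h4 : g ^ 4 = 1 := by
    have := q8_pow_four (e ⟨g, hS (Subgroup.mem_zpowers g)⟩)
    rw [← map_pow, EmbeddingLike.map_eq_one_iff] at this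
    simpa using congrArg Subtype.val this
  by_cases h2 : g ^ 2 = 1
  · by_cases h1 : g = 1
    · exact Or.inl h1
    · haveI := Fact.mk Nat.prime_two
      exact Or.inr (Or.inl (invol_unique h.fpf (orderOf_eq_prime h2 h1) hz))
  · haveI := Fact.mk Nat.prime_two
    exact Or.inr (Or.inr (orderOf_eq_prime_pow (p := 2) (n := 1) (by simpa using h2) (by simpa using h4)))

theorem Minimal.exists_inverter_four (h : Minimal G) {y : G} (hy : orderOf y = 4) :
    ∃ s : G, s * y * s⁻¹ = y⁻¹ ∧ s * y ≠ y * s := by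
  haveI := h.nontrivial
  obtain ⟨S, hS⟩ := (show IsPGroup 2 (Subgroup.zpowers y) from
    IsPGroup.of_card (n := 2) (by rw [Nat.card_zpowers, hy]; norm_num)).exists_le_sylow
  obtain ⟨e⟩ := sylow_card_eight h.fpf h.perfect h.small S
  have hyS := hS (Subgroup.mem_zpowers y)
  have hne : e ⟨y, hyS⟩ * e ⟨y, hyS⟩ ≠ 1 := by
    intro e1
    rw [← map_mul, EmbeddingLike.map_eq_one_iff] at e1
    have := orderOf_dvd_of_pow_eq_one (n := 2) (show y ^ 2 = 1 by rw [pow_two]; exact congrArg Subtype.val e1)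
    rw [hy] at this; norm_num at this
  obtain ⟨q, hq⟩ := q8_noncentral _ hne
  obtain ⟨s, rfl⟩ := e.surjective q
  have h2 := q8_inverts _ _ hq
  rw [← map_inv, ← map_inv, ← map_mul, ← map_mul, e.injective.eq_iff] at h2
  exact ⟨s, congrArg Subtype.val h2, fun e1 => hq (by rw [← map_mul, ← map_mul]; exact congrArg e (Subtype.ext e1))⟩

theorem mem_zpowers_cases {y w : G} (hy : orderOf y = 4) (hw : orderOf w = 4) (hm : w ∈ Subgroup.zpowers y) :
    w = y ∨ w = y⁻¹ := by
  obtain ⟨l, hl⟩ := mem_powers_iff_mem_zpowers.2 hm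
  change y ^ l = w at hl
  have hl' := pow_mod_orderOf y l
  rw [hy, hl] at hl'
  have : l % 4 < 4 := Nat.mod_lt _ (by norm_num)
  generalize l % 4 = q at this hl'
  interval_cases q <;> subst hl'
  · rw [pow_zero, orderOf_one] at hw; omega
  · exact Or.inl (pow_one y)
  · rw [orderOf_pow, hy] at hw; norm_num at hw
  · refine Or.inr (eq_inv_of_mul_eq_one_left ?_)
    rw [← pow_succ]
    simpa [hy] using pow_orderOf_eq_one y

/-- All elements of order four are conjugate. -/
theorem Minimal.conj_four (h : Minimal G) {x y : G} (hx : orderOf x = 4) (hy : orderOf y = 4) :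
    ∃ g : G, g * x * g⁻¹ = y := by
  haveI := Fact.mk Nat.prime_two
  obtain ⟨z, hz⟩ := h.exists_invol
  have hsq : ∀ {w : G}, orderOf w = 4 → w * w = z := fun {w} hw => by
    refine invol_unique h.fpf ?_ hz
    rw [← pow_two, orderOf_pow, hw]; norm_num
  obtain ⟨S, hS⟩ := (show IsPGroup 2 (Subgroup.zpowers y) from
    IsPGroup.of_card (n := 2) (by rw [Nat.card_zpowers, hy]; norm_num)).exists_le_sylow
  have hrel : (Subgroup.zpowers y).relIndex (S : Subgroup G) = 2 := by
    have h1 := Subgroup.relIndex_mul_relIndex ⊥ (Subgroup.zpowers y) (S : Subgroup G) bot_le hS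
    rw [Subgroup.relIndex_bot_left, Subgroup.relIndex_bot_left, Nat.card_zpowers, hy, h.card_sylow S] at h1
    omega
  obtain ⟨g, hg⟩ := exists_conj_mem h.perfect S hS hrel (hsq hx) (invol_central h.fpf hz)
    (hsq hy ▸ mul_mem (Subgroup.mem_zpowers y) (Subgroup.mem_zpowers y))
  rcases mem_zpowers_cases hy (by rw [← MulAut.conj_apply, MulEquiv.orderOf_eq, hx]) hg with e | e
  · exact ⟨g, e⟩
  · obtain ⟨s, hs, -⟩ := h.exists_inverter_four hy
    refine ⟨s * g, ?_⟩
    rw [show s * g * x * (s * g)⁻¹ = s * (g * x * g⁻¹) * s⁻¹ by group, e,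
      show s * y⁻¹ * s⁻¹ = (s * y * s⁻¹)⁻¹ by group, hs, inv_inv]

/-- A group generated by commuting cyclic subgroups of coprime orders is cyclic. -/
theorem isCyclic_sup {C U T : Subgroup G} {u t : G} (hu : Subgroup.zpowers u = U) (ht : Subgroup.zpowers t = T)
    (hco : Nat.Coprime (Nat.card U) (Nat.card T)) (hc : Nat.card U * Nat.card T = Nat.card C)
    (hUC : U ≤ C) (hTC : T ≤ C) (hcomm : Commute u t) : IsCyclic C := by
  subst hu ht
  rw [Nat.card_zpowers, Nat.card_zpowers] at hco hc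
  refine isCyclic_of_orderOf_eq_card
    (⟨u * t, mul_mem (hUC (Subgroup.mem_zpowers u)) (hTC (Subgroup.mem_zpowers t))⟩ : C) ?_
  rw [Subgroup.orderOf_mk, hcomm.orderOf_mul_eq_mul_orderOf_of_coprime hco, hc]

theorem exists_zpowers_eq {U : Subgroup G} (hU : IsCyclic U) : ∃ u, Subgroup.zpowers u = U := by
  obtain ⟨⟨u, hu⟩, hgen⟩ := hU.exists_generator
  refine ⟨u, le_antisymm (Subgroup.zpowers_le.2 hu) fun x hx => ?_⟩
  obtain ⟨l, hl⟩ := Subgroup.mem_zpowers_iff.1 (hgen ⟨x, hx⟩)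
  exact Subgroup.mem_zpowers_iff.2 ⟨l, by simpa using congrArg Subtype.val hl⟩

theorem coprime_two_group {U T : Subgroup G} (hU : Odd (Nat.card U)) (hT : IsPGroup 2 T) :
    Nat.Coprime (Nat.card U) (Nat.card T) := by
  haveI := Fact.mk Nat.prime_two
  obtain ⟨k, hk⟩ := IsPGroup.iff_card.1 hT
  rw [hk]
  exact Nat.Coprime.pow_right k (Nat.coprime_two_right.2 hU)

theorem mem_zpowers_of_cyclic (h : HasFpf G) {U : Subgroup G} (hU : IsCyclic U) {x y : G} (hx : x ∈ U)
    (hy : y ∈ U) {p : ℕ} (hp : p.Prime) (hxo : orderOf x = p) (hyo : orderOf y = p) : x ∈ Subgroup.zpowers y := by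
  haveI := hU.isMulCommutative
  exact mem_zpowers_of_commute h hp hxo hyo (congrArg Subtype.val (mul_comm' (⟨x, hx⟩ : U) ⟨y, hy⟩))

/-- An element whose square centralises an element of prime order of a normalised subgroup fixes or inverts it. -/
theorem fixes_or_inverts {t w : G} {p : ℕ} (hp : p.Prime) (hw : orderOf w = p)
    (hm : t * w * t⁻¹ ∈ Subgroup.zpowers w) (h2 : Commute (t * t) w) :
    Commute t w ∨ t * w * t⁻¹ = w⁻¹ := by
  set w' := t * w * t⁻¹ with hw'
  by_cases h1 : w * w' = 1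
  · exact Or.inr (eq_inv_of_mul_eq_one_right h1)
  left
  have hfix : t * (w * w') * t⁻¹ = w * w' := by
    obtain ⟨i, hi⟩ := Subgroup.mem_zpowers_iff.1 hm
    have hc : Commute w w' := hi ▸ Commute.zpow_right (Commute.refl w) i
    have e : t * w' * t⁻¹ = w := by
      rw [hw', show t * (t * w * t⁻¹) * t⁻¹ = t * t * w * (t * t)⁻¹ by group, conj_eq_of_comm h2.eq]
    rw [show t * (w * w') * t⁻¹ = w' * (t * w' * t⁻¹) by rw [hw']; group, e, hc.eq]
  obtain ⟨i, hi⟩ : ∃ i : ℤ, w * w' = w ^ i := by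
    obtain ⟨i, hi⟩ := Subgroup.mem_zpowers_iff.1 hm
    exact ⟨1 + i, by rw [zpow_add, zpow_one, hi]⟩
  have hgen : w ∈ Subgroup.zpowers (w * w') := by
    haveI := Fact.mk hp
    have hle : Subgroup.zpowers (w * w') ≤ Subgroup.zpowers w := Subgroup.zpowers_le.2 ⟨i, hi.symm⟩
    have ho : orderOf (w * w') = p := by
      refine orderOf_eq_prime ?_ h1
      rw [hi, ← zpow_natCast, ← zpow_mul, mul_comm, zpow_mul, zpow_natCast, ← hw, pow_orderOf_eq_one, one_zpow]
    rw [Subgroup.eq_of_le_of_card_ge hle (by rw [Nat.card_zpowers, Nat.card_zpowers, hw, ho])]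
    exact Subgroup.mem_zpowers w
  obtain ⟨j, hj⟩ := Subgroup.mem_zpowers_iff.1 hgen
  rw [← hj]
  exact Commute.zpow_right (mul_inv_eq_iff_eq_mul.1 hfix) j

theorem mem_normalizer_zpowers {g x : G} (h : g * x * g⁻¹ ∈ Subgroup.zpowers x) :
    g ∈ Subgroup.normalizer ((Subgroup.zpowers x) : Set G) := by
  rw [Subgroup.mem_normalizer_iff_map_conj_eq, MonoidHom.map_zpowers]
  refine Subgroup.eq_of_le_of_card_ge (Subgroup.zpowers_le.2 h) (le_of_eq ?_)
  rw [Nat.card_zpowers, Nat.card_zpowers]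
  exact (MulEquiv.orderOf_eq (MulAut.conj g) x).symm

/-- The centraliser of an element. -/
abbrev cenOf (x : G) : Subgroup G := Subgroup.centralizer ({x} : Set G)

theorem mem_cenOf {x y : G} : y ∈ cenOf x ↔ y * x = x * y := Subgroup.mem_centralizer_singleton_iff

theorem cenOf_conj (g x : G) {y : G} : y ∈ cenOf (g * x * g⁻¹) ↔ g⁻¹ * y * g ∈ cenOf x := by
  rw [mem_cenOf, mem_cenOf]
  constructor
  · intro e
    calc g⁻¹ * y * g * x = g⁻¹ * (y * (g * x * g⁻¹)) * g := by group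
      _ = g⁻¹ * (g * x * g⁻¹ * y) * g := by rw [e]
      _ = x * (g⁻¹ * y * g) := by group
  · intro e
    calc y * (g * x * g⁻¹) = g * (g⁻¹ * y * g * x) * g⁻¹ := by group
      _ = g * (x * (g⁻¹ * y * g)) * g⁻¹ := by rw [e]
      _ = g * x * g⁻¹ * y := by group

theorem mem_normalizer_cenOf {g x : G} (h : g * x * g⁻¹ ∈ Subgroup.zpowers x) :
    g ∈ Subgroup.normalizer ((cenOf x) : Set G) := by
  rw [Subgroup.mem_normalizer_iff_map_conj_eq]
  symm
  refine Subgroup.eq_of_le_of_card_ge (fun y hy => ?_)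
    (le_of_eq (Subgroup.card_map_of_injective (MulAut.conj g).injective))
  refine ⟨g⁻¹ * y * g, (cenOf_conj g x).1 ?_, by simp [mul_assoc]⟩
  obtain ⟨i, hi⟩ := Subgroup.mem_zpowers_iff.1 h
  rw [mem_cenOf, ← hi]
  exact (Commute.zpow_right (mem_cenOf.1 hy) i).eq

theorem mem_zpowers_of_sylow (h : HasFpf G) {p : ℕ} [Fact p.Prime] (P : Sylow p G) {x y : G}
    (hx : x ∈ (P : Subgroup G)) (hy : y ∈ (P : Subgroup G)) (hxo : orderOf x = p) (hyo : orderOf y = p) :
    y ∈ Subgroup.zpowers x := by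
  have h2 := pGroup_unique h (P : Subgroup G) P.2 ⟨x, hx⟩ ⟨y, hy⟩ (by rw [Subgroup.orderOf_mk, hxo])
    (by rw [Subgroup.orderOf_mk, hyo])
  obtain ⟨i, hi⟩ := Subgroup.mem_zpowers_iff.1 h2
  exact Subgroup.mem_zpowers_iff.2 ⟨i, by simpa using congrArg Subtype.val hi⟩

/-- A two-element moving an element of odd prime order within its subgroup. -/
theorem Minimal.exists_mover (h : Minimal G) {p : ℕ} [hp : Fact p.Prime] (hp2 : p ≠ 2) {x : G}
    (hx : orderOf x = p) :
    ∃ g : G, g * x * g⁻¹ ∈ Subgroup.zpowers x ∧ g * x ≠ x * g ∧ ∃ k, orderOf g = 2 ^ k := by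
  obtain ⟨P, hP⟩ := (show IsPGroup p (Subgroup.zpowers x) from
    IsPGroup.of_card (n := 1) (by rw [Nat.card_zpowers, hx, pow_one])).exists_le_sylow
  have hxP := hP (Subgroup.mem_zpowers x)
  have hx1 : x ≠ 1 := fun e => by rw [e, orderOf_one] at hx; exact hp.out.ne_one hx.symm
  obtain ⟨g, hg, hk, hmove⟩ := exists_two_mover h.fpf h.perfect h.small hp2 (hx ▸ orderOf_dvd_natCard x) P
  exact ⟨g, mem_zpowers_of_sylow h.fpf P hxP ((Subgroup.mem_normalizer_iff.1 hg x).1 hxP) hx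
    (by rw [← MulAut.conj_apply, MulEquiv.orderOf_eq, hx]), hmove x hxP hx1, hk⟩

theorem Minimal.cyclic_cen_four (h : Minimal G) {i : G} (hi : orderOf i = 4) : IsCyclic (cenOf i) := by
  haveI := Fact.mk Nat.prime_two
  obtain ⟨U, hUC, hUc, hUo, -, T, hTC, hTp, hTc, -, hcard⟩ := odd_part h.fpf h.perfect h.small (cenOf i)
    (fun T hT hTp => isCyclic_of_central_four h.fpf hi hTp (fun t ht => mem_cenOf.1 (hT ht)))
  have hIp : IsPGroup 2 (Subgroup.zpowers i) := IsPGroup.of_card (n := 2) (by rw [Nat.card_zpowers, hi]; norm_num)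
  have hiC : Subgroup.zpowers i ≤ cenOf i := Subgroup.zpowers_le.2 (mem_cenOf.2 rfl)
  have hTn : T ≤ Subgroup.normalizer ((Subgroup.zpowers i) : Set G) := fun t ht =>
    mem_normalizer_zpowers (by rw [conj_eq_of_comm (mem_cenOf.1 (hTC ht))]; exact Subgroup.mem_zpowers i)
  have hW : IsPGroup 2 (T ⊔ Subgroup.zpowers i : Subgroup G) := hTp.to_sup_of_normal_right' hIp hTn
  have hWd : Nat.card (T ⊔ Subgroup.zpowers i : Subgroup G) ∣ Nat.card T := by
    have h1 : Nat.card (T ⊔ Subgroup.zpowers i : Subgroup G) ∣ Nat.card U * Nat.card T :=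
      hcard ▸ Subgroup.card_dvd_of_le (sup_le hTC hiC)
    exact (coprime_two_group hUo hW).symm.dvd_of_dvd_mul_left h1
  have hiT : Subgroup.zpowers i ≤ T := by
    rw [Subgroup.eq_of_le_of_card_ge (le_sup_left : T ≤ T ⊔ Subgroup.zpowers i)
      (Nat.le_of_dvd Nat.card_pos hWd)]
    exact le_sup_right
  obtain ⟨t, ht⟩ := exists_zpowers_eq hTc
  have hT4 : Nat.card T ≠ 8 := by
    intro e8
    obtain ⟨S, hS⟩ := hTp.exists_le_sylow
    have hTS : T = S := Subgroup.eq_of_le_of_card_ge hS (by rw [h.card_sylow S, e8])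
    haveI := h.nontrivial
    obtain ⟨e⟩ := sylow_card_eight h.fpf h.perfect h.small S
    haveI : IsCyclic (S : Subgroup G) := hTS ▸ hTc
    have h4 : orderOf t ∣ 4 := orderOf_dvd_of_pow_eq_one (by
      have htS : t ∈ (S : Subgroup G) := hS (ht ▸ Subgroup.mem_zpowers t)
      have := q8_pow_four (e ⟨t, htS⟩)
      rw [← map_pow, EmbeddingLike.map_eq_one_iff] at this
      simpa using congrArg Subtype.val this)
    rw [← ht, Nat.card_zpowers] at e8
    rw [e8] at h4; norm_num at h4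
  have hTi : T = Subgroup.zpowers i := by
    refine (Subgroup.eq_of_le_of_card_ge hiT ?_).symm
    rw [Nat.card_zpowers, hi]
    obtain ⟨j, hj, hj'⟩ := (Nat.dvd_prime_pow Nat.prime_two).1 (show Nat.card T ∣ 2 ^ 3 from h.card_le_eight hTp)
    interval_cases j <;> simp_all
  obtain ⟨u, hu⟩ := exists_zpowers_eq hUc
  exact isCyclic_sup hu hTi.symm (coprime_two_group hUo hTp) hcard hUC hTC
    (mem_cenOf.1 (hUC (hu ▸ Subgroup.mem_zpowers u)))

theorem Minimal.cyclic_cen_odd (h : Minimal G) {p : ℕ} [hp : Fact p.Prime] (hp2 : p ≠ 2) {x : G}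
    (hx : orderOf x = p) : IsCyclic (cenOf x) := by
  classical
  haveI := Fact.mk Nat.prime_two
  haveI := h.nontrivial
  obtain ⟨z, hz⟩ := h.exists_invol
  have hzc := invol_central h.fpf hz
  obtain ⟨U, hUC, hUc, hUo, hU, T, hTC, hTp, hTc, -, hcard⟩ := odd_part h.fpf h.perfect h.small (cenOf x)
    (fun T hT hTp => (cyclic_or_quaternion h.fpf hTp).resolve_right fun ⟨n, ⟨e⟩⟩ => by
      obtain ⟨S, hS⟩ := hTp.exists_le_sylow
      have hTS : T = S := by
        refine Subgroup.eq_of_le_of_card_ge hS ?_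
        rw [h.card_sylow S, Nat.card_congr e.toEquiv, Nat.card_eq_fintype_card]
        haveI : NeZero (2 ^ (n + 1)) := ⟨by positivity⟩
        rw [QuaternionGroup.card]
        have : 2 ≤ 2 ^ (n + 1) := Nat.le_self_pow (by omega) 2
        omega
      exact not_sylow_centralizes h.fpf h.perfect h.small S hp2 hx
        (fun s hs => mem_cenOf.1 (hT (hTS ▸ hs))))
  obtain ⟨u₀, hu₀⟩ := exists_zpowers_eq hUc
  obtain ⟨t, ht⟩ := exists_zpowers_eq hTc
  by_cases hcomm : Commute u₀ t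
  · exact isCyclic_sup hu₀ ht (coprime_two_group hUo hTp) hcard hUC hTC hcomm
  exfalso
  have htT : t ∈ T := ht ▸ Subgroup.mem_zpowers t
  obtain ⟨k, hk⟩ := IsPGroup.iff_orderOf.1 hTp ⟨t, htT⟩
  rw [Subgroup.orderOf_mk] at hk
  have ht4 : orderOf t = 4 := by
    rcases h.two_element hz hk with e | e | e
    · exact absurd (e ▸ Commute.one_right u₀) hcomm
    · exact absurd (e ▸ hzc u₀) hcomm
    · exact e
  have htt : t * t = z := invol_unique h.fpf (by rw [← pow_two, orderOf_pow, ht4]; norm_num) hz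
  have htx : t * x = x * t := mem_cenOf.1 (hTC htT)
  have hconjU : ∀ s : G, s * x * s⁻¹ ∈ Subgroup.zpowers x → ∀ w ∈ U, s * w * s⁻¹ ∈ U := by
    intro s hs w hw
    obtain ⟨hwC, hwo⟩ := (hU w).1 hw
    refine (hU _).2 ⟨(Subgroup.mem_normalizer_iff.1 (mem_normalizer_cenOf hs) w).1 hwC, ?_⟩
    rwa [← MulAut.conj_apply, MulEquiv.orderOf_eq]
  have htU : t ∈ Subgroup.normalizer (U : Set G) := by
    have hx' : t * x * t⁻¹ ∈ Subgroup.zpowers x := by
      rw [conj_eq_of_comm htx]; exact Subgroup.mem_zpowers x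
    rw [Subgroup.mem_normalizer_iff_map_conj_eq]
    refine Subgroup.eq_of_le_of_card_ge ?_ (le_of_eq (Subgroup.card_map_of_injective (MulAut.conj t).injective).symm)
    rintro _ ⟨w, hw, rfl⟩
    exact hconjU t hx' w hw
  -- an element of prime order inverted by `t`
  obtain ⟨q, hq, w, hwU, hwo, htw⟩ : ∃ q : ℕ, q.Prime ∧ ∃ w ∈ U, orderOf w = q ∧ ¬ Commute t w := by
    by_contra hcon
    push Not at hcon
    have htop : (cenOf t).subgroupOf U = ⊤ := by
      refine eq_top_of_primary _ fun r hr R => ?_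
      haveI := Fact.mk hr
      intro v hv
      rw [Subgroup.mem_subgroupOf, mem_cenOf]
      by_cases hv1 : v = 1
      · simp [hv1]
      set R' := (R : Subgroup U).map U.subtype
      have hR'p : IsPGroup r R' := R.2.map _
      obtain ⟨j, hj⟩ := IsPGroup.iff_orderOf.1 R.2 ⟨v, hv⟩
      rw [Subgroup.orderOf_mk] at hj
      have hr2 : r ≠ 2 := by
        rintro rfl
        rcases Nat.eq_zero_or_pos j with rfl | hj0
        · exact hv1 (orderOf_eq_one_iff.1 hj)
        · exact Nat.not_even_iff_odd.2 hUo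
            (even_iff_two_dvd.2 ((hj ▸ dvd_pow_self 2 hj0.ne').trans (orderOf_dvd_natCard v)))
      haveI := hUc
      have hrd : r ∣ orderOf v := hj ▸ dvd_pow_self r (fun e => hv1 (orderOf_eq_one_iff.1 (by rw [hj, e, pow_zero])))
      set v₁ := v ^ (orderOf v / r) with hv₁
      have hv₁o : orderOf v₁ = r := orderOf_pow_orderOf_div (orderOf_pos v).ne' hrd
      haveI := hUc.isMulCommutative
      haveI hRn : (R : Subgroup U).Normal := ⟨fun n hn g => by rwa [mul_comm' g n, mul_inv_cancel_right]⟩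
      have htR : t ∈ Subgroup.normalizer (R' : Set G) := by
        refine Subgroup.mem_normalizer_iff_map_conj_eq.2 (Subgroup.eq_of_le_of_card_ge ?_
          (le_of_eq (Subgroup.card_map_of_injective (MulAut.conj t).injective).symm))
        intro w hw
        have hwU : w ∈ U := by
          obtain ⟨w', hw', rfl⟩ := hw
          exact (Subgroup.mem_normalizer_iff.1 htU w').1 (Subgroup.map_subtype_le _ hw')
        obtain ⟨Q, hQ⟩ := ((hR'p.map (MulAut.conj t).toMonoidHom).comap_subtype (K := U)).exists_le_sylow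
        haveI := Sylow.unique_of_normal R hRn
        rw [Subsingleton.elim Q R] at hQ
        exact ⟨⟨w, hwU⟩, hQ hw, rfl⟩
      exact (centralizes_cyclic hR'p (isCyclic_odd h.fpf hr2 hR'p) htR (e := 4)
        (fun hd => hr2 ((Nat.prime_dvd_prime_iff_eq hr Nat.prime_two).1 (hr.dvd_of_dvd_pow (show r ∣ 2 ^ 2 from hd))))
        (fun y _ => by rw [← ht4, pow_orderOf_eq_one, one_mul, mul_one]) (x₁ := (v₁ : G))
        ⟨v₁, pow_mem hv _, rfl⟩ (fun e => by
          rw [← Subgroup.orderOf_coe, e, orderOf_one] at hv₁o; exact hr.ne_one hv₁o.symm)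
        (hcon r hr v₁ v₁.2 (by rw [Subgroup.orderOf_coe, hv₁o])).eq (v : G) ⟨v, hv, rfl⟩).symm
    have : u₀ ∈ cenOf t := Subgroup.mem_subgroupOf.1
      (show (⟨u₀, hu₀ ▸ Subgroup.mem_zpowers u₀⟩ : U) ∈ _ from htop ▸ Subgroup.mem_top _)
    exact hcomm (mem_cenOf.1 this)
  haveI := Fact.mk hq
  have hwz : ∀ {s : G}, s * x * s⁻¹ ∈ Subgroup.zpowers x → s * w * s⁻¹ ∈ Subgroup.zpowers w := fun {s} hs =>
    mem_zpowers_of_cyclic h.fpf hUc (hconjU s hs w hwU) hwU hq
      (by rw [← MulAut.conj_apply, MulEquiv.orderOf_eq, hwo]) hwo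
  -- an element of the normaliser of `zpowers x` moving `x`
  set N := Subgroup.normalizer ((Subgroup.zpowers x) : Set G) with hN
  obtain ⟨g, hgx, hgne, j, hgj⟩ := h.exists_mover hp2 hx
  have hgN : g ∈ N := mem_normalizer_zpowers hgx
  have htN : t ∈ N := mem_normalizer_zpowers (by rw [conj_eq_of_comm htx]; exact Subgroup.mem_zpowers x)
  obtain ⟨R, hR⟩ := (show IsPGroup 2 (Subgroup.zpowers (⟨t, htN⟩ : N)) from
    IsPGroup.of_card (n := 2) (by rw [Nat.card_zpowers, Subgroup.orderOf_mk, ht4]; norm_num)).exists_le_sylow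
  obtain ⟨R₂, hR₂⟩ := (show IsPGroup 2 (Subgroup.zpowers (⟨g, hgN⟩ : N)) from
    IsPGroup.of_card (n := j) (by rw [Nat.card_zpowers, Subgroup.orderOf_mk, hgj])).exists_le_sylow
  obtain ⟨c, hc⟩ := MulAction.exists_smul_eq N R₂ R
  set u := (c : G) * g * (c : G)⁻¹ with hu
  have huN : u ∈ N := mul_mem (mul_mem c.2 hgN) (inv_mem c.2)
  have huR : (⟨u, huN⟩ : N) ∈ (R : Subgroup N) := by
    have h1 : c * ⟨g, hgN⟩ * c⁻¹ ∈ ((c • R₂ : Sylow 2 N) : Subgroup N) :=
      Subgroup.smul_mem_pointwise_smul _ (MulAut.conj c) _ (hR₂ (Subgroup.mem_zpowers _))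
    rwa [hc] at h1
  have hux : u * x ≠ x * u := by
    intro e
    obtain ⟨i, hi⟩ := Subgroup.mem_zpowers_iff.1
      ((Subgroup.mem_normalizer_iff.1 (inv_mem c.2) x).1 (Subgroup.mem_zpowers x))
    apply hgne
    have h1 : Commute g ((c : G)⁻¹ * x * c) := by
      show g * ((c : G)⁻¹ * x * c) = (c : G)⁻¹ * x * c * g
      calc g * ((c : G)⁻¹ * x * c) = (c : G)⁻¹ * (u * x) * c := by rw [hu]; group
        _ = (c : G)⁻¹ * (x * u) * c := by rw [e]
        _ = _ := by rw [hu]; group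
    have hgen : x ∈ Subgroup.zpowers ((c : G)⁻¹ * x * c) := by
      have e1 : Subgroup.zpowers ((c : G)⁻¹ * x * c) = Subgroup.zpowers x := by
        have := Subgroup.mem_normalizer_iff_map_conj_eq.1 (inv_mem c.2)
        rw [MonoidHom.map_zpowers] at this
        simpa using this
      rw [e1]; exact Subgroup.mem_zpowers x
    obtain ⟨l, hl⟩ := Subgroup.mem_zpowers_iff.1 hgen
    rw [← hl]
    exact (h1.zpow_right l).eq
  have hord : ∀ s : N, s ∈ (R : Subgroup N) → ¬ (s : G) * x = x * s → orderOf (s : G) = 4 := by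
    intro s hs hne
    obtain ⟨l, hl⟩ := IsPGroup.iff_orderOf.1 R.2 ⟨s, hs⟩
    rw [Subgroup.orderOf_mk, ← Subgroup.orderOf_coe] at hl
    rcases h.two_element hz hl with e | e | e
    · exact absurd (by rw [e, one_mul, mul_one]) hne
    · exact absurd (by rw [e]; exact (hzc x).symm) hne
    · exact e
  have hsq : ∀ {s : G}, orderOf s = 4 → Commute (s * s) w := fun {s} hs => by
    rw [invol_unique h.fpf (show orderOf (s * s) = 2 by rw [← pow_two, orderOf_pow, hs]; norm_num) hz]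
    exact (hzc w).symm
  have hu4 := hord ⟨u, huN⟩ huR hux
  have htu : (⟨t, htN⟩ * ⟨u, huN⟩ : N) ∈ (R : Subgroup N) := mul_mem (hR (Subgroup.mem_zpowers _)) huR
  have htux : t * u * x ≠ x * (t * u) := fun e => hux (by
    apply mul_left_cancel (a := t)
    rw [← mul_assoc, e, ← mul_assoc, ← htx, mul_assoc])
  have htu4 := hord _ htu htux
  -- one of them centralises `w`
  obtain ⟨v, hv4, hvx, hvw⟩ : ∃ v, orderOf v = 4 ∧ v * x ≠ x * v ∧ Commute v w := by
    have hux' : u * x * u⁻¹ ∈ Subgroup.zpowers x := (Subgroup.mem_normalizer_iff.1 huN x).1 (Subgroup.mem_zpowers x)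
    rcases fixes_or_inverts hq hwo (hwz hux') (hsq hu4) with e | e
    · exact ⟨u, hu4, hux, e⟩
    refine ⟨t * u, htu4, htux, ?_⟩
    rcases fixes_or_inverts hq hwo (hwz (by rw [conj_eq_of_comm htx]; exact Subgroup.mem_zpowers x)) (hsq ht4)
      with e' | e'
    · exact absurd e' htw
    · refine mul_inv_eq_iff_eq_mul.1 ?_
      rw [show t * u * w * (t * u)⁻¹ = t * (u * w * u⁻¹) * t⁻¹ by group, e,
        show t * w⁻¹ * t⁻¹ = (t * w * t⁻¹)⁻¹ by group, e', inv_inv]
  obtain ⟨d, hd⟩ := h.conj_four hv4 ht4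
  set y := d * w * d⁻¹ with hy
  have hyt : y ∈ cenOf t := by
    rw [← hd, cenOf_conj, hy, mem_cenOf]
    simpa [mul_assoc] using hvw.symm.eq
  haveI := (h.cyclic_cen_four ht4).isMulCommutative
  have hyx : y * x = x * y :=
    congrArg Subtype.val (mul_comm' (⟨y, hyt⟩ : cenOf t) ⟨x, mem_cenOf.2 htx.symm⟩)
  have hyo : orderOf y = q := by rw [hy, ← MulAut.conj_apply, MulEquiv.orderOf_eq, hwo]
  have hqodd : Odd q := hq.odd_of_ne_two fun e => by
    subst e
    have := invol_unique h.fpf hwo hz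
    subst this
    exact htw (hzc t)
  have hyU : y ∈ U := (hU y).2 ⟨mem_cenOf.2 hyx, hyo ▸ hqodd⟩
  obtain ⟨l, hl⟩ := Subgroup.mem_zpowers_iff.1 (mem_zpowers_of_cyclic h.fpf hUc hwU hyU hq hwo hyo)
  exact htw (hl ▸ (Commute.zpow_right (mem_cenOf.1 hyt).symm l))

theorem cenOf_le_pow (x : G) (n : ℕ) : cenOf x ≤ cenOf (x ^ n) :=
  fun _ hy => mem_cenOf.2 (Commute.pow_right (mem_cenOf.1 hy) n).eq

/-- A noncentral element has a noncentral power of order four or of odd prime order. -/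
theorem Minimal.exists_good_pow (h : Minimal G) {z : G} (hz : orderOf z = 2) {x : G} (h1 : x ≠ 1) (h2 : x ≠ z) :
    orderOf x = 4 ∨ ∃ p n : ℕ, p.Prime ∧ p ≠ 2 ∧ orderOf (x ^ n) = p := by
  by_cases hodd : ∃ p : ℕ, p.Prime ∧ p ≠ 2 ∧ p ∣ orderOf x
  · obtain ⟨p, hp, hp2, hd⟩ := hodd
    exact Or.inr ⟨p, _, hp, hp2, orderOf_pow_orderOf_div (orderOf_pos x).ne' hd⟩
  push Not at hodd
  obtain ⟨k, hk⟩ : ∃ k, orderOf x = 2 ^ k :=
    ⟨_, Nat.eq_prime_pow_of_unique_prime_dvd (orderOf_pos x).ne'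
      (fun {d} hd hdd => by_contra fun hne => hodd d hd hne hdd)⟩
  exact Or.inl (((h.two_element hz hk).resolve_left h1).resolve_left h2)

theorem Minimal.cyclic_cen (h : Minimal G) {z : G} (hz : orderOf z = 2) {x : G} (h1 : x ≠ 1) (h2 : x ≠ z) :
    IsCyclic (cenOf x) := by
  rcases h.exists_good_pow hz h1 h2 with e | ⟨p, n, hp, hp2, e⟩
  · exact h.cyclic_cen_four e
  · haveI := Fact.mk hp
    haveI := h.cyclic_cen_odd hp2 e
    exact isCyclic_of_injective (Subgroup.inclusion (cenOf_le_pow x n)) (Subgroup.inclusion_injective _)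

/-- Centralisers of noncentral elements form a trivial intersection partition. -/
theorem Minimal.cen_eq (h : Minimal G) {z : G} (hz : orderOf z = 2) {x y : G} (hx1 : x ≠ 1) (hxz : x ≠ z)
    (hy1 : y ≠ 1) (hyz : y ≠ z) (hm : y ∈ cenOf x) : cenOf y = cenOf x := by
  have key : ∀ {a b : G}, a ≠ 1 → a ≠ z → b ∈ cenOf a → cenOf a ≤ cenOf b := fun {a b} ha1 haz hb c hc => by
    haveI := (h.cyclic_cen hz ha1 haz).isMulCommutative
    exact mem_cenOf.2 (congrArg Subtype.val (mul_comm' (⟨c, hc⟩ : cenOf a) ⟨b, hb⟩))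
  exact le_antisymm (key hy1 hyz (mem_cenOf.2 (mem_cenOf.1 hm).symm)) (key hx1 hxz hm)

/-- A maximal abelian subgroup has index two in its normaliser. -/
theorem Minimal.card_normalizer (h : Minimal G) {z : G} (hz : orderOf z = 2) {x : G} (h1 : x ≠ 1) (h2 : x ≠ z) :
    Nat.card (Subgroup.normalizer ((cenOf x) : Set G)) = 2 * Nat.card (cenOf x) := by
  classical
  haveI := Fact.mk Nat.prime_two
  haveI := h.nontrivial
  set A := cenOf x with hA
  set N := Subgroup.normalizer (A : Set G) with hN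
  have hAc : IsCyclic A := h.cyclic_cen hz h1 h2
  have hzA : z ∈ A := mem_cenOf.2 (invol_central h.fpf hz x).symm
  have hne : ∀ {w : G} {p : ℕ}, p.Prime → p ≠ 2 → orderOf w = p → w ≠ 1 ∧ w ≠ z := fun {w p} hp hp2 hw =>
    ⟨fun e => hp.ne_one (by rw [← hw, e, orderOf_one]), fun e => hp2 (by rw [← hw, e, hz])⟩
  have hne4 : ∀ {w : G}, orderOf w = 4 → w ≠ 1 ∧ w ≠ z := fun {w} hw =>
    ⟨fun e => by rw [e, orderOf_one] at hw; omega, fun e => by rw [e, hz] at hw; omega⟩
  have hcenA : ∀ {w : G}, w ∈ A → w ≠ 1 → w ≠ z → cenOf w = A := fun {w} hw hw1 hwz => h.cen_eq hz h1 h2 hw1 hwz hw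
  have hAN : A ≤ N := Subgroup.le_normalizer
  obtain ⟨d, hd⟩ : Nat.card A ∣ Nat.card N := Subgroup.card_dvd_of_le hAN
  have hd0 : d ≠ 0 := fun e => Nat.card_pos.ne' (by rw [hd, e, mul_zero] : Nat.card N = 0)
  -- two-elements suffice
  have hodd : ∀ y ∈ N, ∀ q k : ℕ, q.Prime → q ≠ 2 → orderOf y = q ^ k → y ∈ A := by
    intro y hy q k hq hq2 hyk
    haveI := Fact.mk hq
    have hconj : ∀ {w : G}, w ∈ A → y * w * y⁻¹ ∈ A := fun {w} hw => (Subgroup.mem_normalizer_iff.1 hy w).1 hw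
    rcases h.exists_good_pow hz h1 h2 with e | ⟨p, n, hp, hp2, e⟩
    · have hc2 : ∀ {a b : G}, orderOf a = 4 → orderOf b = 4 → a ∈ A → b ∈ A → b = a ∨ b = a⁻¹ := by
        intro a b ha hb haA hbA
        haveI := hAc.isMulCommutative
        have hab : Commute a b := congrArg Subtype.val (mul_comm' (⟨a, haA⟩ : A) ⟨b, hbA⟩)
        have hs : ∀ {w : G}, orderOf w = 4 → w * w = z := fun {w} hw =>
          invol_unique h.fpf (show orderOf (w * w) = 2 by rw [← pow_two, orderOf_pow, hw]; norm_num) hz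
        by_cases he : a * b⁻¹ = 1
        · exact Or.inl (mul_inv_eq_one.1 he).symm
        right
        have h2 : (a * b⁻¹) ^ 2 = 1 := by
          rw [(hab.inv_right).mul_pow, inv_pow, pow_two, pow_two, hs ha, hs hb, mul_inv_cancel]
        have hz' := invol_unique h.fpf (orderOf_eq_prime h2 he) hz
        apply eq_inv_of_mul_eq_one_left
        calc b * a = (a * b⁻¹ * (b * b))  := by rw [← hab.eq]; group
          _ = 1 := by rw [hz', hs hb, ← hs ha]; exact (by rw [hs ha, ← hz', ← pow_two]; exact h2)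
      have hxA : x ∈ A := mem_cenOf.2 rfl
      have hsq : Commute (y ^ 2) x := by
        refine mul_inv_eq_iff_eq_mul.1 ?_
        rw [show y ^ 2 * x * (y ^ 2)⁻¹ = y * (y * x * y⁻¹) * y⁻¹ by rw [pow_two]; group]
        rcases hc2 e (by rw [← MulAut.conj_apply, MulEquiv.orderOf_eq, e]) hxA (hconj hxA) with e1 | e1
        · rw [e1, e1]
        · rw [e1, show y * x⁻¹ * y⁻¹ = (y * x * y⁻¹)⁻¹ by group, e1, inv_inv]
      obtain ⟨m, hm⟩ := exists_pow_eq_self_of_coprime (x := y) (n := 2) (by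
        rw [hyk]; exact Nat.Coprime.pow_right k ((Nat.coprime_primes Nat.prime_two hq).2 hq2.symm))
      refine mem_cenOf.2 ?_
      have := hsq.pow_left m
      rwa [hm] at this
    · haveI := Fact.mk hp
      have hw : x ^ n ∈ A := pow_mem (mem_cenOf.2 rfl) n
      have hwC := hcenA hw (hne hp hp2 e).1 (hne hp hp2 e).2
      rw [← hwC, mem_cenOf]
      have hyn : y ∈ Subgroup.normalizer ((Subgroup.zpowers (x ^ n)) : Set G) := mem_normalizer_zpowers
        (mem_zpowers_of_cyclic h.fpf hAc (hconj hw) hw hp (by rw [← MulAut.conj_apply, MulEquiv.orderOf_eq, e]) e)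
      have hR : IsPGroup p (Subgroup.zpowers (x ^ n)) := IsPGroup.of_card (n := 1) (by rw [Nat.card_zpowers, e, pow_one])
      by_cases hpq : p = q
      · subst hpq
        have hY : IsPGroup p (Subgroup.zpowers y) := IsPGroup.of_card (n := k) (by rw [Nat.card_zpowers, hyk])
        have hW := hY.to_sup_of_normal_right' hR (Subgroup.zpowers_le.2 hyn)
        haveI := (isCyclic_odd h.fpf hp2 hW).isMulCommutative
        exact congrArg Subtype.val (mul_comm'
          (⟨y, (le_sup_left : _ ≤ Subgroup.zpowers y ⊔ Subgroup.zpowers (x ^ n)) (Subgroup.mem_zpowers y)⟩ :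
            (Subgroup.zpowers y ⊔ Subgroup.zpowers (x ^ n) : Subgroup G))
          ⟨x ^ n, (le_sup_right : _ ≤ Subgroup.zpowers y ⊔ Subgroup.zpowers (x ^ n)) (Subgroup.mem_zpowers _)⟩)
      · exact centralizes_pgroup h.fpf h.perfect h.small hp2 hq2 hpq hR hyk hyn _ (Subgroup.mem_zpowers _)
  have hd2 : ∀ q : ℕ, q.Prime → q ∣ d → q = 2 := by
    intro q hq hqd
    by_contra hq2
    haveI := Fact.mk hq
    obtain ⟨Q⟩ : Nonempty (Sylow q N) := inferInstance
    have hQA : (Q : Subgroup N).map N.subtype ≤ A := by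
      rintro _ ⟨y, hy, rfl⟩
      obtain ⟨k, hk⟩ := IsPGroup.iff_orderOf.1 Q.2 ⟨y, hy⟩
      rw [Subgroup.orderOf_mk, ← Subgroup.orderOf_coe] at hk
      exact hodd _ y.2 q k hq hq2 hk
    have h3 := Subgroup.card_dvd_of_le hQA
    rw [Subgroup.card_map_of_injective N.subtype_injective, Sylow.card_eq_multiplicity] at h3
    have h4 := (hq.pow_dvd_iff_le_factorization Nat.card_pos.ne').1 h3
    rw [hd, Nat.factorization_mul Nat.card_pos.ne' hd0] at h4
    have := hq.factorization_pos_of_dvd hd0 hqd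
    simp only [Finsupp.coe_add, Pi.add_apply] at h4
    omega
  have hdpow := Nat.eq_prime_pow_of_unique_prime_dvd hd0 (fun {q} hq hqd => hd2 q hq hqd)
  have hA2 : 2 ∣ Nat.card A := hz ▸ Subgroup.orderOf_dvd_natCard A hzA
  have hd4 : d ∣ 4 := by
    obtain ⟨Q⟩ : Nonempty (Sylow 2 N) := inferInstance
    have h8 := h.card_le_eight (Q.2.map N.subtype)
    rw [Subgroup.card_map_of_injective N.subtype_injective] at h8
    obtain ⟨a, ha⟩ := hA2
    have h3 : 2 * d ∣ Nat.card (Q : Subgroup N) := by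
      rw [Sylow.card_eq_multiplicity, hdpow, ← pow_succ']
      apply Nat.pow_dvd_pow
      rw [← Nat.Prime.pow_dvd_iff_le_factorization Nat.prime_two Nat.card_pos.ne', pow_succ', ← hdpow, hd, ha]
      exact ⟨a, by ring⟩
    exact Nat.dvd_of_mul_dvd_mul_left two_pos (h3.trans (by simpa using h8))
  have hd1 : d ≠ 1 := by
    intro e1
    have hNA : N = A := (Subgroup.eq_of_le_of_card_ge hAN (by rw [hd, e1, mul_one])).symm
    rcases h.exists_good_pow hz h1 h2 with e | ⟨p, n, hp, hp2, e⟩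
    · obtain ⟨s, hs, hne'⟩ := h.exists_inverter_four e
      refine hne' (mem_cenOf.1 (show s ∈ A from hNA ▸ ?_))
      exact mem_normalizer_cenOf (hs ▸ inv_mem (Subgroup.mem_zpowers x))
    · haveI := Fact.mk hp
      have hwC := hcenA (pow_mem (mem_cenOf.2 rfl) n) (hne hp hp2 e).1 (hne hp hp2 e).2
      obtain ⟨g, hg, hgne, -⟩ := h.exists_mover hp2 e
      refine hgne (mem_cenOf.1 (show g ∈ cenOf (x ^ n) from hwC.symm ▸ (hNA ▸ ?_)))
      have := mem_normalizer_cenOf hg
      rwa [hwC] at this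
  have hdne4 : d ≠ 4 := by
    intro e4
    obtain ⟨Q⟩ : Nonempty (Sylow 2 N) := inferInstance
    set S := (Q : Subgroup N).map N.subtype with hS
    have hSp : IsPGroup 2 S := Q.2.map _
    have hScard : Nat.card S = 8 := by
      refine Nat.dvd_antisymm (h.card_le_eight hSp) ?_
      rw [hS, Subgroup.card_map_of_injective N.subtype_injective, Sylow.card_eq_multiplicity,
        show (8 : ℕ) = 2 ^ 3 by norm_num]
      apply Nat.pow_dvd_pow
      rw [← Nat.Prime.pow_dvd_iff_le_factorization Nat.prime_two Nat.card_pos.ne', hd, e4]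
      obtain ⟨a, ha⟩ := hA2
      exact ⟨a, by rw [ha]; ring⟩
    obtain ⟨S', hS'⟩ := hSp.exists_le_sylow
    have hSS : S = S' := Subgroup.eq_of_le_of_card_ge hS' (by rw [h.card_sylow S', hScard])
    obtain ⟨eq8⟩ := sylow_card_eight h.fpf h.perfect h.small S'
    have hmem : ∀ q, ((eq8.symm q : (S' : Subgroup G)) : G) ∈ N := fun q => by
      have : ((eq8.symm q : (S' : Subgroup G)) : G) ∈ S := (le_of_eq hSS.symm) (eq8.symm q).2
      exact Subgroup.map_subtype_le _ this
    set u := ((eq8.symm (QuaternionGroup.a 1) : (S' : Subgroup G)) : G) with hu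
    set v := ((eq8.symm (QuaternionGroup.xa 0) : (S' : Subgroup G)) : G) with hv
    have ho4 : ∀ {q : QuaternionGroup 2}, orderOf q = 4 → orderOf ((eq8.symm q : (S' : Subgroup G)) : G) = 4 :=
      fun {q} hq => by rw [Subgroup.orderOf_coe, MulEquiv.orderOf_eq, hq]
    have hu4 : orderOf u = 4 := ho4 (by rw [QuaternionGroup.orderOf_a_one])
    have hv4 : orderOf v = 4 := ho4 (QuaternionGroup.orderOf_xa 0)
    have huv4 : orderOf (u * v) = 4 := by
      rw [hu, hv, ← Subgroup.coe_mul, ← map_mul]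
      exact ho4 (by rw [QuaternionGroup.a_mul_xa, QuaternionGroup.orderOf_xa])
    have hnA : ∀ {s : G}, orderOf s = 4 → s ∉ A := by
      intro s hs hsA
      have h44 : 4 ∣ Nat.card A := hs ▸ Subgroup.orderOf_dvd_natCard A hsA
      have h3 : 2 ^ 4 ∣ Nat.card N := by
        obtain ⟨a, ha⟩ := h44
        exact ⟨a, by rw [hd, e4, ha]; ring⟩
      have h5 := (Nat.prime_two.pow_dvd_iff_le_factorization Nat.card_pos.ne').1 h3
      have h6 : Nat.card (Q : Subgroup N) = 8 := by
        rw [← hScard, hS, Subgroup.card_map_of_injective N.subtype_injective]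
      rw [Sylow.card_eq_multiplicity, show (8 : ℕ) = 2 ^ 3 by norm_num] at h6
      have := Nat.pow_right_injective le_rfl h6
      omega
    rcases h.exists_good_pow hz h1 h2 with e | ⟨p, n, hp, hp2, e⟩
    · exact hnA e (mem_cenOf.2 rfl)
    · haveI := Fact.mk hp
      have hw : x ^ n ∈ A := pow_mem (mem_cenOf.2 rfl) n
      have hwC := hcenA hw (hne hp hp2 e).1 (hne hp hp2 e).2
      have hinv : ∀ {s : G}, orderOf s = 4 → s ∈ N → s * x ^ n * s⁻¹ = (x ^ n)⁻¹ := by
        intro s hs hsN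
        refine (fixes_or_inverts hp e (mem_zpowers_of_cyclic h.fpf hAc ((Subgroup.mem_normalizer_iff.1 hsN _).1 hw)
          hw hp (by rw [← MulAut.conj_apply, MulEquiv.orderOf_eq, e]) e) ?_).resolve_left fun hc => hnA hs ?_
        · rw [invol_unique h.fpf (show orderOf (s * s) = 2 by rw [← pow_two, orderOf_pow, hs]; norm_num) hz]
          exact (invol_central h.fpf hz _).symm
        · rw [← hwC]; exact mem_cenOf.2 hc.eq
      refine hnA huv4 ?_
      rw [← hwC, mem_cenOf]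
      refine mul_inv_eq_iff_eq_mul.1 ?_
      rw [show u * v * x ^ n * (u * v)⁻¹ = u * (v * x ^ n * v⁻¹) * u⁻¹ by group, hinv hv4 (hmem _),
        show u * (x ^ n)⁻¹ * u⁻¹ = (u * x ^ n * u⁻¹)⁻¹ by group, hinv hu4 (hmem _), inv_inv]
  obtain ⟨i, hi, hi'⟩ := (Nat.dvd_prime_pow Nat.prime_two).1 (show d ∣ 2 ^ 2 from hd4)
  interval_cases i
  · exact absurd hi' hd1
  · rw [hd, hi']; ring
  · exact absurd hi' hdne4

/-- Centralisers of equal order are conjugate. -/
theorem Minimal.conj_of_card (h : Minimal G) {z : G} (hz : orderOf z = 2) {x y : G} (hx1 : x ≠ 1) (hxz : x ≠ z)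
    (hy1 : y ≠ 1) (hyz : y ≠ z)
    (hc : Nat.card (cenOf x) = Nat.card (cenOf y) ∨ (4 ∣ Nat.card (cenOf x) ∧ 4 ∣ Nat.card (cenOf y))) :
    ∃ g : G, ∀ w, w ∈ cenOf y ↔ g⁻¹ * w * g ∈ cenOf x := by
  haveI := Fact.mk Nat.prime_two
  by_cases h4 : 4 ∣ Nat.card (cenOf x) ∧ 4 ∣ Nat.card (cenOf y)
  · have key : ∀ {w : G}, w ≠ 1 → w ≠ z → 4 ∣ Nat.card (cenOf w) →
        ∃ i, orderOf i = 4 ∧ cenOf i = cenOf w := by
      intro w hw1 hwz hd
      haveI := h.cyclic_cen hz hw1 hwz
      obtain ⟨⟨g, hg⟩, hgo⟩ := IsCyclic.exists_ofOrder_eq_natCard (α := cenOf w)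
      rw [Subgroup.orderOf_mk] at hgo
      have hio := orderOf_pow_orderOf_div (orderOf_pos g).ne' (hgo.symm ▸ hd)
      exact ⟨_, hio, h.cen_eq hz hw1 hwz (fun e => by rw [e, orderOf_one] at hio; omega)
        (fun e => by rw [e, hz] at hio; omega) (pow_mem hg _)⟩
    obtain ⟨i, hi, hiC⟩ := key hx1 hxz h4.1
    obtain ⟨j, hj, hjC⟩ := key hy1 hyz h4.2
    obtain ⟨g, hg⟩ := h.conj_four hi hj
    exact ⟨g, fun w => by rw [← hjC, ← hiC, ← hg, cenOf_conj]⟩
  have hc' := hc.resolve_right h4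
  obtain ⟨p, hp, hp2, hpd⟩ : ∃ p : ℕ, p.Prime ∧ p ≠ 2 ∧ p ∣ Nat.card (cenOf x) := by
    rcases h.exists_good_pow hz hx1 hxz with e | ⟨p, n, hp, hp2, e⟩
    · have hd := Subgroup.orderOf_dvd_natCard (cenOf x) (mem_cenOf.2 (rfl : x * x = x * x))
      rw [e] at hd
      exact absurd ⟨hd, hc' ▸ hd⟩ h4
    · exact ⟨p, hp, hp2, e ▸ Subgroup.orderOf_dvd_natCard (cenOf x) (pow_mem (mem_cenOf.2 rfl) n)⟩
  haveI := Fact.mk hp
  have key : ∀ {w : G}, w ≠ 1 → w ≠ z → p ∣ Nat.card (cenOf w) →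
      ∃ i, orderOf i = p ∧ cenOf i = cenOf w := by
    intro w hw1 hwz hd
    obtain ⟨⟨g, hg⟩, hgo⟩ := exists_prime_orderOf_dvd_card' (G := cenOf w) p hd
    rw [Subgroup.orderOf_mk] at hgo
    exact ⟨g, hgo, h.cen_eq hz hw1 hwz (fun e => by rw [e, orderOf_one] at hgo; exact hp.ne_one hgo.symm)
      (fun e => by rw [e, hz] at hgo; exact hp2 hgo.symm) hg⟩
  obtain ⟨i, hi, hiC⟩ := key hx1 hxz hpd
  obtain ⟨j, hj, hjC⟩ := key hy1 hyz (hc' ▸ hpd)
  obtain ⟨P, hP⟩ := (show IsPGroup p (Subgroup.zpowers i) from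
    IsPGroup.of_card (n := 1) (by rw [Nat.card_zpowers, hi, pow_one])).exists_le_sylow
  obtain ⟨Q, hQ⟩ := (show IsPGroup p (Subgroup.zpowers j) from
    IsPGroup.of_card (n := 1) (by rw [Nat.card_zpowers, hj, pow_one])).exists_le_sylow
  obtain ⟨g, hg⟩ := MulAction.exists_smul_eq G P Q
  have hgi : g * i * g⁻¹ ∈ (Q : Subgroup G) := by
    rw [← hg]; exact Subgroup.smul_mem_pointwise_smul _ (MulAut.conj g) _ (hP (Subgroup.mem_zpowers i))
  have hgio : orderOf (g * i * g⁻¹) = p := by rw [← MulAut.conj_apply, MulEquiv.orderOf_eq, hi]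
  have hgin : g * i * g⁻¹ ≠ 1 ∧ g * i * g⁻¹ ≠ z :=
    ⟨fun e => by rw [e, orderOf_one] at hgio; exact hp.ne_one hgio.symm,
      fun e => by rw [e, hz] at hgio; exact hp2 hgio.symm⟩
  have hjn : j ≠ 1 ∧ j ≠ z :=
    ⟨fun e => by rw [e, orderOf_one] at hj; exact hp.ne_one hj.symm,
      fun e => by rw [e, hz] at hj; exact hp2 hj.symm⟩
  have hmem : g * i * g⁻¹ ∈ cenOf j := by
    obtain ⟨l, hl⟩ := Subgroup.mem_zpowers_iff.1
      (mem_zpowers_of_sylow h.fpf Q (hQ (Subgroup.mem_zpowers j)) hgi hj hgio)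
    rw [← hl]; exact mem_cenOf.2 (Commute.zpow_left (Commute.refl j) l).eq
  have heq := h.cen_eq hz hjn.1 hjn.2 hgin.1 hgin.2 hmem
  exact ⟨g, fun w => by rw [← hjC, ← heq, cenOf_conj, hiC]⟩

/-- The number of elements with centraliser of a given order. -/
theorem Minimal.count (h : Minimal G) [Fintype G] [DecidableEq G] {z : G} (hz : orderOf z = 2) {x : G}
    (h1 : x ≠ 1) (h2 : x ≠ z) :
    2 * Nat.card (cenOf x) *
        (((Finset.univ : Finset G) \ {1, z}).filter fun y => Nat.card (cenOf y) = Nat.card (cenOf x)).card =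
      Nat.card G * (Nat.card (cenOf x) - 2) ∧ 2 * Nat.card (cenOf x) ≤ Nat.card G := by
  classical
  set A := cenOf x with hA
  set N := Subgroup.normalizer (A : Set G) with hN
  have hNc := h.card_normalizer hz h1 h2
  refine ⟨?_, hNc ▸ Subgroup.card_le_card_group N⟩
  set A' : Finset G := (Finset.univ.filter fun a => a ∈ A) \ {1, z} with hA'
  set F := ((Finset.univ : Finset G) \ {1, z}).filter fun y => Nat.card (cenOf y) = Nat.card A with hF
  set Φ : G × G → G := fun p => p.1 * p.2 * p.1⁻¹ with hΦ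
  have hz1 : z ≠ 1 := fun e => by rw [e, orderOf_one] at hz; omega
  have hzA : z ∈ A := mem_cenOf.2 (invol_central h.fpf hz x).symm
  have hA'card : A'.card = Nat.card A - 2 := by
    rw [hA', Finset.card_sdiff_of_subset, Finset.card_pair hz1.symm]
    · congr 1
      rw [Nat.card_eq_fintype_card, Fintype.card_subtype]
    · intro a ha
      simp only [Finset.mem_insert, Finset.mem_singleton] at ha
      rcases ha with rfl | rfl
      · simp [A.one_mem]
      · simp [hzA]
  have hA'mem : ∀ {a : G}, a ∈ A' ↔ a ∈ A ∧ a ≠ 1 ∧ a ≠ z := fun {a} => by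
    simp [hA']
  have hnc : ∀ (g : G) {a : G}, a ≠ 1 → a ≠ z → g * a * g⁻¹ ≠ 1 ∧ g * a * g⁻¹ ≠ z := fun g {a} ha haz =>
    ⟨fun e => ha (by simpa [mul_assoc] using congrArg (fun t => g⁻¹ * t * g) e),
      fun e => haz (by
        have := congrArg (fun t => g⁻¹ * t * g) e
        simp only [mul_assoc, inv_mul_cancel, mul_one, inv_mul_cancel_left] at this
        rw [this, ← invol_central h.fpf hz, inv_mul_cancel_left])⟩
  have hmaps : ∀ p ∈ (Finset.univ : Finset G) ×ˢ A', Φ p ∈ F := by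
    rintro ⟨g, a⟩ hp
    obtain ⟨haA, ha1, haz⟩ := hA'mem.1 (Finset.mem_product.1 hp).2
    simp only [hF, hΦ, Finset.mem_filter, Finset.mem_sdiff, Finset.mem_univ, true_and, Finset.mem_insert,
      Finset.mem_singleton, not_or]
    refine ⟨hnc g ha1 haz, ?_⟩
    rw [hA, ← h.cen_eq hz h1 h2 ha1 haz haA]
    refine (Nat.card_congr ((MulAut.conj g).toEquiv.subtypeEquiv fun w => ?_)).symm
    show w ∈ cenOf a ↔ g * w * g⁻¹ ∈ cenOf (g * a * g⁻¹)
    rw [cenOf_conj, show g⁻¹ * (g * w * g⁻¹) * g = w by group]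
  have hsum := Finset.card_eq_sum_card_fiberwise (t := F) hmaps
  rw [Finset.card_product, Finset.card_univ, hA'card, Finset.sum_const_nat (m := Nat.card N)] at hsum
  · rw [← Nat.card_eq_fintype_card, hNc] at hsum
    rw [hsum]; ring
  intro y hy
  obtain ⟨⟨hy1, hyz⟩, hyc⟩ : (y ≠ 1 ∧ y ≠ z) ∧ Nat.card (cenOf y) = Nat.card A := by simpa [hF] using hy
  obtain ⟨g, hg⟩ := h.conj_of_card hz h1 h2 hy1 hyz (Or.inl hyc.symm)
  set a := g⁻¹ * y * g with ha
  have hanc : a ≠ 1 ∧ a ≠ z := by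
    have := hnc g⁻¹ hy1 hyz
    rwa [inv_inv] at this
  have haA : a ∈ A := (hg y).1 (mem_cenOf.2 rfl)
  have haC := h.cen_eq hz h1 h2 hanc.1 hanc.2 haA
  rw [Nat.card_eq_fintype_card, Fintype.card_subtype]
  refine (Finset.card_bij' (fun n _ => (g * n, n⁻¹ * a * n)) (fun p _ => g⁻¹ * p.1) ?_ ?_ ?_ ?_).symm
  · intro n hn
    rw [Finset.mem_filter] at hn
    simp only [Finset.mem_filter, Finset.mem_product, Finset.mem_univ, true_and, hΦ, hA'mem]
    have := (Subgroup.mem_normalizer_iff.1 (inv_mem hn.2) a).1 haA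
    rw [inv_inv] at this
    have h3 := hnc n⁻¹ hanc.1 hanc.2
    rw [inv_inv] at h3
    exact ⟨⟨this, h3⟩, by rw [ha]; group⟩
  · rintro ⟨g', a'⟩ hp
    simp only [Finset.mem_filter, Finset.mem_product, Finset.mem_univ, true_and, hΦ, hA'mem] at hp ⊢
    obtain ⟨⟨ha'A, ha'1, ha'z⟩, he⟩ := hp
    have ha'C := h.cen_eq hz h1 h2 ha'1 ha'z ha'A
    have hconj : g⁻¹ * g' * a' * (g⁻¹ * g')⁻¹ = a := by rw [ha, ← he]; group
    rw [hN, Subgroup.mem_normalizer_iff_map_conj_eq]
    refine Subgroup.eq_of_le_of_card_ge ?_ (le_of_eq (Subgroup.card_map_of_injective (MulAut.conj _).injective).symm)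
    rintro _ ⟨w, hw, rfl⟩
    show g⁻¹ * g' * w * (g⁻¹ * g')⁻¹ ∈ A
    rw [hA, ← haC, ← hconj, cenOf_conj, show (g⁻¹ * g')⁻¹ * (g⁻¹ * g' * w * (g⁻¹ * g')⁻¹) * (g⁻¹ * g') = w by group,
      ha'C]
    exact hw
  · intro n _; simp
  · rintro ⟨g', a'⟩ hp
    simp only [Finset.mem_filter, hΦ] at hp
    refine Prod.ext (mul_inv_cancel_left g g') ?_
    show (g⁻¹ * g')⁻¹ * a * (g⁻¹ * g') = a'
    rw [ha, ← hp.2]; group

theorem arith_classes {V : Finset ℕ} {a g : ℕ} (ha : a ∈ V) (ha4 : 4 ∣ a) (hg : 2 * a ≤ g) (ha0 : 0 < a)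
    (hV : ∀ v ∈ V.erase a, 6 ≤ v ∧ v % 4 = 2)
    (heq : ∑ v ∈ V, ((1 : ℚ) / 2 - 1 / v) = 1 - 2 / g) : g = 120 := by
  rw [← Finset.add_sum_erase _ _ ha] at heq
  have hg0 : (0 : ℚ) < g := by exact_mod_cast (by omega : 0 < g)
  have haQ : (4 : ℚ) ≤ a := by exact_mod_cast Nat.le_of_dvd ha0 ha4
  have hga : (2 : ℚ) / g ≤ 1 / a := by
    rw [div_le_div_iff₀ hg0 (by linarith)]; norm_num; exact_mod_cast hg
  have ha' : (1 : ℚ) / a ≤ 1 / 4 := one_div_le_one_div_of_le (by norm_num) haQ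
  have hterm : ∀ v ∈ V.erase a, (1 : ℚ) / 3 ≤ 1 / 2 - 1 / v := fun v hv => by
    have : (1 : ℚ) / v ≤ 1 / 6 := one_div_le_one_div_of_le (by norm_num) (by exact_mod_cast (hV v hv).1)
    linarith
  have hk : (V.erase a).card ≤ 2 := by
    by_contra hk
    have h1 := (V.erase a).card_nsmul_le_sum _ _ hterm
    rw [nsmul_eq_mul] at h1
    have h3 : (3 : ℚ) ≤ (V.erase a).card := by exact_mod_cast (by omega : 3 ≤ (V.erase a).card)
    have : 0 < (2 : ℚ) / g := by positivity
    nlinarith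
  obtain hk | hk | hk : (V.erase a).card = 0 ∨ (V.erase a).card = 1 ∨ (V.erase a).card = 2 := by omega
  · rw [Finset.card_eq_zero.1 hk, Finset.sum_empty] at heq
    have : (0 : ℚ) ≤ 1 / a := by positivity
    linarith
  · obtain ⟨b, hb⟩ := Finset.card_eq_one.1 hk
    rw [hb, Finset.sum_singleton] at heq
    have hb6 : (6 : ℚ) ≤ b := by exact_mod_cast (hV b (by rw [hb]; simp)).1
    have : (0 : ℚ) < 1 / b := by positivity
    linarith
  obtain ⟨b, c, hbc, he⟩ := Finset.card_eq_two.1 hk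
  rw [he, Finset.sum_pair hbc] at heq
  have hb := hV b (by rw [he]; simp)
  have hc := hV c (by rw [he]; simp)
  have hgp : 0 < (2 : ℚ) / g := by positivity
  have main : ∀ b c : ℕ, 6 ≤ b → b % 4 = 2 → c % 4 = 2 → b < c →
      (1 : ℚ) / a + 1 / b + 1 / c = 1 / 2 + 2 / g → g = 120 := by
    intro b c hb6 hb4 hc4 hlt he'
    have hb6' : b = 6 := by
      by_contra hne
      have h1 : (1 : ℚ) / b ≤ 1 / 10 := one_div_le_one_div_of_le (by norm_num) (by exact_mod_cast (by omega : 10 ≤ b))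
      have h2 : (1 : ℚ) / c ≤ 1 / 14 := one_div_le_one_div_of_le (by norm_num) (by exact_mod_cast (by omega : 14 ≤ c))
      linarith
    subst hb6'
    have h2 : (1 : ℚ) / c ≤ 1 / 10 := one_div_le_one_div_of_le (by norm_num) (by exact_mod_cast (by omega : 10 ≤ c))
    push_cast at he'
    have ha4' : a = 4 := by
      by_contra hne
      have h1 : (1 : ℚ) / a ≤ 1 / 8 := one_div_le_one_div_of_le (by norm_num) (by exact_mod_cast (by omega : 8 ≤ a))
      linarith
    subst ha4'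
    push_cast at he'
    have hc10 : c = 10 := by
      by_contra hne
      have h3 : (1 : ℚ) / c ≤ 1 / 14 := one_div_le_one_div_of_le (by norm_num) (by exact_mod_cast (by omega : 14 ≤ c))
      linarith
    subst hc10
    push_cast at he'
    have : (g : ℚ) = 120 := by field_simp at he'; linarith
    exact_mod_cast this
  rcases Nat.lt_or_gt_of_ne hbc with hlt | hlt
  · exact main b c hb.1 hb.2 hc.2 hlt (by linarith)
  · exact main c b hc.1 hc.2 hb.2 hlt (by linarith)

theorem Minimal.card_eq (h : Minimal G) : Nat.card G = 120 := by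
  classical
  haveI := Fact.mk Nat.prime_two
  haveI := h.nontrivial
  letI := Fintype.ofFinite G
  obtain ⟨z, hz⟩ := h.exists_invol
  have hz1 : z ≠ 1 := fun e => by rw [e, orderOf_one] at hz; omega
  set T := (Finset.univ : Finset G) \ {1, z} with hT
  set val : G → ℕ := fun y => Nat.card (cenOf y) with hval
  have hmemT : ∀ {y}, y ∈ T ↔ y ≠ 1 ∧ y ≠ z := fun {y} => by simp [hT]
  obtain ⟨S⟩ : Nonempty (Sylow 2 G) := inferInstance
  obtain ⟨e⟩ := sylow_card_eight h.fpf h.perfect h.small S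
  set i := ((e.symm (QuaternionGroup.xa 0) : (S : Subgroup G)) : G) with hi
  have hio : orderOf i = 4 := by rw [hi, Subgroup.orderOf_coe, MulEquiv.orderOf_eq, QuaternionGroup.orderOf_xa]
  have hiT : i ∈ T := hmemT.2
    ⟨fun e1 => by rw [e1, orderOf_one] at hio; omega, fun e1 => by rw [e1, hz] at hio; omega⟩
  have h4i : 4 ∣ val i := hio ▸ Subgroup.orderOf_dvd_natCard (cenOf i) (mem_cenOf.2 rfl)
  have hge : ∀ y ∈ T, 3 ≤ val y ∧ 2 ∣ val y := by
    intro y hy
    obtain ⟨hy1, hyz⟩ := hmemT.1 hy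
    have hzC : z ∈ cenOf y := mem_cenOf.2 (invol_central h.fpf hz y).symm
    refine ⟨?_, hz ▸ Subgroup.orderOf_dvd_natCard (cenOf y) hzC⟩
    have hsub : ({1, z, y} : Finset G) ⊆ Finset.univ.filter fun a => a ∈ cenOf y := by
      intro a ha
      simp only [Finset.mem_insert, Finset.mem_singleton] at ha
      simp only [Finset.mem_filter, Finset.mem_univ, true_and]
      rcases ha with rfl | rfl | rfl
      · exact one_mem _
      · exact hzC
      · exact mem_cenOf.2 rfl
    have := Finset.card_le_card hsub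
    rw [Finset.card_eq_three.2 ⟨1, z, y, hz1.symm, hy1.symm, hyz.symm, rfl⟩, ← Fintype.card_subtype,
      ← Nat.card_eq_fintype_card] at this
    exact this
  refine arith_classes (V := T.image val) (a := val i) (Finset.mem_image_of_mem _ hiT) h4i
    (h.count hz (hmemT.1 hiT).1 (hmemT.1 hiT).2).2 (by have := (hge i hiT).1; omega) ?_ ?_
  · intro v hv
    obtain ⟨hne, hv⟩ := Finset.mem_erase.1 hv
    obtain ⟨y, hy, rfl⟩ := Finset.mem_image.1 hv
    obtain ⟨h3, h2⟩ := hge y hy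
    have hn4 : ¬ 4 ∣ val y := fun h4 => hne (by
      obtain ⟨g, hg⟩ := h.conj_of_card hz (hmemT.1 hiT).1 (hmemT.1 hiT).2 (hmemT.1 hy).1 (hmemT.1 hy).2
        (Or.inr ⟨h4i, h4⟩)
      refine Nat.card_congr ⟨fun w => ⟨g⁻¹ * (w : G) * g, (hg _).1 w.2⟩, fun w => ⟨g * (w : G) * g⁻¹, ?_⟩, ?_, ?_⟩
      · rw [hg, show g⁻¹ * (g * (w : G) * g⁻¹) * g = w by group]; exact w.2
      · intro w; apply Subtype.ext; group
      · intro w; apply Subtype.ext; group)
    omega
  · have hsum := Finset.card_eq_sum_card_image val T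
    have hTc : T.card = Nat.card G - 2 := by
      rw [hT, Finset.card_sdiff_of_subset (Finset.subset_univ _), Finset.card_univ, Finset.card_pair hz1.symm,
        Nat.card_eq_fintype_card]
    have hG : 2 ≤ Nat.card G := Finite.one_lt_card
    have hGQ : (0 : ℚ) < Nat.card G := by exact_mod_cast (by omega : 0 < Nat.card G)
    have hv : ∀ v ∈ T.image val, ((1 : ℚ) / 2 - 1 / v) =
        ((T.filter fun y => val y = v).card : ℚ) / Nat.card G := by
      intro v hv
      obtain ⟨y, hy, rfl⟩ := Finset.mem_image.1 hv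
      have := (h.count hz (hmemT.1 hy).1 (hmemT.1 hy).2).1
      have h3 := (hge y hy).1
      have hq : (2 : ℚ) * (val y) * ((T.filter fun w => val w = val y).card) = Nat.card G * ((val y : ℚ) - 2) := by
        rw [show ((val y : ℚ) - 2) = ((val y - 2 : ℕ) : ℚ) by rw [Nat.cast_sub (by omega)]; rfl]
        exact_mod_cast this
      have : (0 : ℚ) < val y := by exact_mod_cast (by omega : 0 < val y)
      field_simp
      linarith
    rw [Finset.sum_congr rfl hv, ← Finset.sum_div, ← Nat.cast_sum, ← hsum, hTc, Nat.cast_sub hG, sub_div,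
      div_self hGQ.ne']
    rfl

/-- **Zassenhaus.** A perfect group with a fixed-point-free representation has order 120. -/
theorem card_eq_120 {G : Type u} [Group G] [Finite G] [Nontrivial G] (h : HasFpf G) (hperf : commutator G = ⊤) :
    Nat.card G = 120 := by
  suffices ∀ n, ∀ (G : Type u) [Group G] [Finite G], Nat.card G = n → Nontrivial G → HasFpf G →
      commutator G = ⊤ → Nat.card G = 120 from this _ G rfl inferInstance h hperf
  intro n
  induction n using Nat.strong_induction_on with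
  | _ n ih =>
    intro G _ _ hn hnt h hperf
    refine Minimal.card_eq ⟨h, hperf, fun L hLt hLb hLp => ?_, hnt⟩
    refine ih _ (hn ▸ ?_) L rfl ((Subgroup.nontrivial_iff_ne_bot L).2 hLb)
      (h.of_injective L.subtype L.subtype_injective) (perfect_subtype hLp)
    exact lt_of_le_of_ne (Subgroup.card_le_card_group L) fun e => hLt (Subgroup.eq_top_of_card_eq L e)

end CfsgLib.Perm.Fpf
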