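import Cfsg.Agent.Perm.FpfBasic
import Cfsg.Agent.Solv.FittingBasic
import Cfsg.Agent.Char.Burnside
import Cfsg.Agent.Solv.ConverseHall

/-!
In a group with a fixed-point-free representation, elements of odd order act on Sylow subgroups of
other odd primes trivially (given the statement for proper subgroups).
-/

set_option autoImplicit false
set_option linter.style.haveILetI false

namespace CfsgLib.Perm.Fpf

open Subgroup

variable {G : Type*} [Group G]

theorem conj_eq_of_comm {g x : G} (h : g * x = x * g) : g * x * g⁻¹ = x := by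
  rw [h, mul_inv_cancel_right]

/-- An automorphism of order prime to `p` of a cyclic `p`-group fixing an element of order `p` is
trivial. -/
theorem centralizes_cyclic [Finite G] {p : ℕ} [hp : Fact p.Prime] {R : Subgroup G} (hR : IsPGroup p R)
    (hc : IsCyclic R) {g : G} (hg : g ∈ Subgroup.normalizer (R : Set G)) {e : ℕ} (he : ¬ p ∣ e)
    (hge : ∀ x ∈ R, g ^ e * x = x * g ^ e) {x₁ : G} (hx1 : x₁ ∈ R) (hx1' : x₁ ≠ 1)
    (hfix : g * x₁ = x₁ * g) : ∀ x ∈ R, g * x = x * g := by
  obtain ⟨⟨r, hr⟩, hgen⟩ := hc.exists_generator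
  have hpow : ∀ x ∈ R, ∃ k : ℕ, x = r ^ k := fun x hx => by
    obtain ⟨k, hk⟩ := mem_powers_iff_mem_zpowers.2 (hgen ⟨x, hx⟩)
    exact ⟨k, by have := congrArg Subtype.val hk; simpa using this.symm⟩
  obtain ⟨c, hc'⟩ := hpow _ ((Subgroup.mem_normalizer_iff.1 hg r).1 hr)
  have hiter : ∀ j : ℕ, g ^ j * r * (g ^ j)⁻¹ = r ^ (c ^ j) := by
    intro j
    induction j with
    | zero => simp
    | succ j ih =>
      calc g ^ (j + 1) * r * (g ^ (j + 1))⁻¹ = g * (g ^ j * r * (g ^ j)⁻¹) * g⁻¹ := by
            rw [pow_succ']; group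
        _ = (g * r * g⁻¹) ^ (c ^ j) := by rw [ih, conj_pow]
        _ = _ := by rw [hc', ← pow_mul, pow_succ']
  obtain ⟨m, hm⟩ := IsPGroup.iff_orderOf.1 hR ⟨r, hr⟩
  rw [Subgroup.orderOf_mk] at hm
  have hce : c ^ e ≡ 1 [MOD orderOf r] := by
    rw [← pow_eq_pow_iff_modEq, ← hiter, pow_one, conj_eq_of_comm (hge r hr)]
  obtain ⟨i, hi⟩ := hpow x₁ hx1
  have hcx : r ^ (i * c) = r ^ i := by
    rw [mul_comm, pow_mul, ← hc', conj_pow, ← hi, conj_eq_of_comm hfix]
  rw [pow_eq_pow_iff_modEq] at hcx
  have hni : ¬ orderOf r ∣ i := fun hd => hx1' (by rw [hi]; exact orderOf_dvd_iff_pow_eq_one.1 hd)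
  have hc1p : (c : ZMod p) = 1 := by
    by_contra hne
    have hd : (orderOf r : ℤ) ∣ (i : ℤ) * ((c : ℤ) - 1) := by
      have := (Nat.modEq_iff_dvd.1 hcx.symm)
      rw [Nat.cast_mul] at this
      convert this using 1; ring
    have hcop : IsCoprime (orderOf r : ℤ) ((c : ℤ) - 1) := by
      rw [hm, Nat.cast_pow]
      refine IsCoprime.pow_left ((Nat.prime_iff_prime_int.1 hp.out).coprime_iff_not_dvd.2 fun hd => hne ?_)
      have := (ZMod.intCast_zmod_eq_zero_iff_dvd ((c : ℤ) - 1) p).2 hd
      push_cast at this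
      exact sub_eq_zero.1 this
    exact hni (Int.natCast_dvd_natCast.1 (hcop.dvd_of_dvd_mul_right hd))
  have hc1 : c ≡ 1 [MOD orderOf r] := by
    rw [hm] at hce ⊢
    rw [← ZMod.natCast_eq_natCast_iff] at hce ⊢
    push_cast at hce ⊢
    obtain ⟨b, hb⟩ : ∃ b : ℕ, ((c : ZMod (p ^ m))) ^ (p ^ b) = 1 := by
      rcases Nat.eq_zero_or_pos m with rfl | hm0
      · haveI : Subsingleton (ZMod (p ^ 0)) := by rw [pow_zero]; exact (inferInstance : Subsingleton (Fin 1))
        exact ⟨0, Subsingleton.elim _ _⟩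
      refine ⟨m - 1, ?_⟩
      have hd : (p : ℤ) ∣ (c : ℤ) - 1 := by
        rw [← ZMod.intCast_zmod_eq_zero_iff_dvd]; push_cast; rw [hc1p, sub_self]
      have := dvd_sub_pow_of_dvd_sub hd (m - 1)
      rw [one_pow, show m - 1 + 1 = m by omega, ← Nat.cast_pow,
        ← ZMod.intCast_zmod_eq_zero_iff_dvd] at this
      push_cast at this
      exact sub_eq_zero.1 this
    have hcop : Nat.gcd (p ^ b) e = 1 :=
      Nat.Coprime.pow_left _ ((Nat.Prime.coprime_iff_not_dvd hp.out).2 he)
    rw [← pow_one (c : ZMod (p ^ m)), ← hcop]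
    exact pow_gcd_eq_one.2 ⟨hb, hce⟩
  have hgr : g * r = r * g := by
    apply mul_inv_eq_iff_eq_mul.1
    rw [hc']; conv_rhs => rw [← pow_one r]
    rwa [pow_eq_pow_iff_modEq]
  intro x hx
  obtain ⟨k, rfl⟩ := hpow x hx
  exact Commute.pow_right hgr k

/-- Two elements normalising a cyclic subgroup have commutator centralising it. -/
theorem commutator_centralizes {R : Subgroup G} (hc : IsCyclic R) {a b : G}
    (ha : a ∈ Subgroup.normalizer (R : Set G)) (hb : b ∈ Subgroup.normalizer (R : Set G)) :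
    ∀ x ∈ R, (a * b * a⁻¹ * b⁻¹) * x = x * (a * b * a⁻¹ * b⁻¹) := by
  obtain ⟨⟨r, hr⟩, hgen⟩ := hc.exists_generator
  have hz : ∀ x ∈ R, ∃ k : ℤ, x = r ^ k := fun x hx => by
    obtain ⟨k, hk⟩ := Subgroup.mem_zpowers_iff.1 (hgen ⟨x, hx⟩)
    exact ⟨k, by have := congrArg Subtype.val hk; simpa using this.symm⟩
  obtain ⟨i, hi⟩ := hz _ ((Subgroup.mem_normalizer_iff.1 ha r).1 hr)
  obtain ⟨j, hj⟩ := hz _ ((Subgroup.mem_normalizer_iff.1 hb r).1 hr)
  have e1 : a * b * r * (a * b)⁻¹ = b * a * r * (b * a)⁻¹ := by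
    calc a * b * r * (a * b)⁻¹ = a * (b * r * b⁻¹) * a⁻¹ := by group
      _ = r ^ (i * j) := by rw [hj, ← conj_zpow, hi, zpow_mul]
      _ = b * (a * r * a⁻¹) * b⁻¹ := by rw [hi, ← conj_zpow, hj, ← zpow_mul, mul_comm]
      _ = _ := by group
  have hr' : (a * b * a⁻¹ * b⁻¹) * r = r * (a * b * a⁻¹ * b⁻¹) := by
    calc (a * b * a⁻¹ * b⁻¹) * r
        = a * b * (a⁻¹ * b⁻¹ * r * (b * a)) * (b * a)⁻¹ := by group
      _ = a * b * (a⁻¹ * b⁻¹ * r * (b * a)) * (a * b)⁻¹ * (a * b * a⁻¹ * b⁻¹) := by group
      _ = r * (a * b * a⁻¹ * b⁻¹) := by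
        congr 1
        set u := a⁻¹ * b⁻¹ * r * (b * a) with hu
        obtain ⟨k, hk⟩ := hz u (by
          have : u = (b * a)⁻¹ * r * ((b * a)⁻¹)⁻¹ := by rw [hu]; group
          rw [this]
          exact (Subgroup.mem_normalizer_iff.1 (inv_mem (mul_mem hb ha)) r).1 hr)
        rw [hk, ← conj_zpow, e1, conj_zpow, ← hk, hu]; group
  intro x hx
  obtain ⟨k, rfl⟩ := hz x hx
  exact Commute.zpow_right hr' k

/-- A `p`-element with `p ≥ 7`, or `p` odd and order at least sixteen, acting on a generalised quaternion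
group acts trivially. -/
theorem quaternion_aut_trivial' {n m : ℕ} (hm : m = 2 ^ (n + 1)) (φ : QuaternionGroup m ≃* QuaternionGroup m)
    {p : ℕ} (hp : p.Prime) (hcase : 7 ≤ p ∨ (p ≠ 2 ∧ 1 ≤ n)) {j : ℕ} (hφ : φ ^ (p ^ j) = (1 : MulAut _)) :
    ∀ x, φ x = x := by
  classical
  haveI : Fact p.Prime := ⟨hp⟩
  haveI : NeZero m := ⟨by rw [hm]; positivity⟩
  have hiter : ∀ (i : ℕ) x, (φ ^ i : MulAut (QuaternionGroup m)) x = φ^[i] x := fun i => by
    induction i with
    | zero => intro x; rfl
    | succ i ih => intro x; rw [pow_succ', MulAut.mul_apply, ih, Function.iterate_succ_apply']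
  have hper : ∀ x, φ^[p ^ j] x = x := fun x => by rw [← hiter, hφ]; rfl
  rcases Nat.eq_zero_or_pos n with rfl | hn
  · -- the quaternion group of order eight
    have hp7 : 7 ≤ p := hcase.resolve_right fun h => absurd h.2 (by omega)
    obtain rfl : m = 2 := by simpa using hm
    intro x
    by_contra hne
    have hord : orderOf x = 4 := by
      rcases x with i | i
      · skip
        have key : ∀ i : ZMod (2 * 2), (QuaternionGroup.a i : QuaternionGroup 2) = 1 ∨
            QuaternionGroup.a i = QuaternionGroup.a 2 ∨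
            ((QuaternionGroup.a i : QuaternionGroup 2) ^ 4 = 1 ∧ ¬ (QuaternionGroup.a i : QuaternionGroup 2) ^ 2 = 1) := by
          decide
        rcases key i with e | e | e
        · exact absurd (by rw [e, map_one]) hne
        · exfalso
          refine hne ?_
          rw [e]
          have : ∀ y : QuaternionGroup (2), orderOf y = 2 → y = QuaternionGroup.a 2 := by
            intro y hy
            have hy2 := pow_orderOf_eq_one y
            rw [hy] at hy2
            have : ∀ y : QuaternionGroup (2), y ^ 2 = 1 → y = 1 ∨ y = QuaternionGroup.a 2 := by decide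
            exact (this y hy2).resolve_left fun e1 => by rw [e1, orderOf_one] at hy; omega
          refine this _ ?_
          rw [MulEquiv.orderOf_eq]
          exact orderOf_eq_prime (by decide) (by decide)
        · exact orderOf_eq_prime_pow (p := 2) (n := 1) e.2 e.1
      · exact QuaternionGroup.orderOf_xa i
    -- the orbit of `x` has length a power of `p` and lies among six elements
    let S : Finset (QuaternionGroup 2) := Finset.univ.filter fun y => orderOf y = 4
    have hS : S.card ≤ 6 := by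
      have : ∀ y : QuaternionGroup (2), orderOf y = 4 → y ≠ 1 ∧ y ≠ QuaternionGroup.a 2 := by
        intro y hy
        refine ⟨fun e => ?_, fun e => ?_⟩
        · rw [e, orderOf_one] at hy; omega
        · have h2 : orderOf (QuaternionGroup.a 2 : QuaternionGroup (2)) = 2 :=
            orderOf_eq_prime (by decide) (by decide)
          rw [e, h2] at hy; omega
      refine (Finset.card_le_card (t := (Finset.univ.erase 1).erase (QuaternionGroup.a 2)) fun y hy => ?_).trans ?_
      · simp only [S, Finset.mem_filter] at hy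
        simp [(this y hy.2).1, (this y hy.2).2]
      · rw [Finset.card_erase_of_mem (Finset.mem_erase.2 ⟨by decide, Finset.mem_univ _⟩),
          Finset.card_erase_of_mem (Finset.mem_univ _), Finset.card_univ, QuaternionGroup.card]
    have hmem : ∀ i, φ^[i] x ∈ S := fun i => by
      simp only [S, Finset.mem_filter, Finset.mem_univ, true_and]
      rw [← hiter, MulEquiv.orderOf_eq, hord]
    have hmp : Function.minimalPeriod φ x ∣ p ^ j := Function.IsPeriodicPt.minimalPeriod_dvd (hper x)
    obtain ⟨i, -, hi⟩ := (Nat.dvd_prime_pow hp).1 hmp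
    have hi0 : i ≠ 0 := fun e => hne (Function.minimalPeriod_eq_one_iff_isFixedPt.1 (by rw [hi, e, pow_zero]))
    have hinj : Set.InjOn (fun k => φ^[k] x) (Set.Iio (Function.minimalPeriod φ x)) :=
      Function.iterate_injOn_Iio_minimalPeriod
    have hcard := Finset.card_le_card_of_injOn (s := Finset.range (Function.minimalPeriod φ x)) (t := S)
      (fun k => φ^[k] x) (fun k _ => hmem k) (fun a ha b hb e => hinj (Finset.mem_range.1 ha) (Finset.mem_range.1 hb) e)
    rw [Finset.card_range, hi] at hcard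
    have : p ≤ p ^ i := Nat.le_self_pow hi0 p
    omega
  · have hm4 : 4 < 2 * m := by
      have : 2 ^ 2 ≤ 2 ^ (n + 1) := Nat.pow_le_pow_right two_pos (by omega)
      omega
    obtain ⟨c, hc⟩ : ∃ c, φ (QuaternionGroup.a 1) = QuaternionGroup.a c := by
      rcases e : φ (QuaternionGroup.a 1) with i | i
      · exact ⟨i, rfl⟩
      · exfalso
        have h := MulEquiv.orderOf_eq φ (QuaternionGroup.a 1)
        rw [e, QuaternionGroup.orderOf_xa, QuaternionGroup.orderOf_a_one] at h
        omega
    have hca : ∀ i : ZMod (2 * m), φ (QuaternionGroup.a i) = QuaternionGroup.a (c * i) := fun i => by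
      rw [← ZMod.natCast_zmod_val i, ← QuaternionGroup.a_one_pow, map_pow, hc]
      generalize i.val = k
      induction k with
      | zero => rw [pow_zero, Nat.cast_zero, mul_zero, ← QuaternionGroup.one_def]
      | succ k ih => rw [pow_succ, ih, QuaternionGroup.a_mul_a]; push_cast; ring_nf
    have hit : ∀ k : ℕ, φ^[k] (QuaternionGroup.a 1) = QuaternionGroup.a (c ^ k) := fun k => by
      induction k with
      | zero => simp
      | succ k ih => rw [Function.iterate_succ_apply', ih, hca, pow_succ']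
    have hc1 : c = 1 := by
      have h1 : c ^ (p ^ j) = 1 := by
        have := (hit (p ^ j)).symm.trans (hper _)
        rw [QuaternionGroup.a.injEq] at this
        exact this
      have hu : IsUnit c := IsUnit.of_pow_eq_one h1 (pow_pos hp.pos j).ne'
      obtain ⟨u, rfl⟩ := hu
      have h1' : u ^ (p ^ j) = 1 := Units.ext (by rw [Units.val_pow_eq_pow_val, h1, Units.val_one])
      have hd : orderOf u ∣ Nat.gcd (p ^ j) (2 ^ (n + 1)) := by
        refine Nat.dvd_gcd (orderOf_dvd_of_pow_eq_one h1') ?_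
        have := orderOf_dvd_natCard u
        rw [Nat.card_eq_fintype_card, ZMod.card_units_eq_totient] at this
        have e2 : 2 * m = 2 ^ (n + 2) := by rw [hm, pow_succ' 2 (n + 1)]
        rwa [show (2 * m).totient = 2 ^ (n + 1) by
          rw [e2, Nat.totient_prime_pow_succ Nat.prime_two]; simp] at this
      rw [Nat.Coprime.pow j (n + 1) ((Nat.coprime_primes hp Nat.prime_two).2 (by omega)),
        Nat.dvd_one, orderOf_eq_one_iff] at hd
      rw [hd]; rfl
    subst hc1
    obtain ⟨t, ht⟩ : ∃ t, φ (QuaternionGroup.xa 0) = QuaternionGroup.xa t := by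
      rcases e : φ (QuaternionGroup.xa 0) with i | i
      · exfalso
        have := φ.injective (e.trans (by rw [hca, one_mul]) : φ (QuaternionGroup.xa 0) = φ (QuaternionGroup.a i))
        cases this
      · exact ⟨i, rfl⟩
    have hxa : ∀ i : ZMod (2 * m), φ (QuaternionGroup.xa i) = QuaternionGroup.xa (t + i) := fun i => by
      have e : (QuaternionGroup.xa i : QuaternionGroup m) = QuaternionGroup.xa 0 * QuaternionGroup.a i := by
        rw [QuaternionGroup.xa_mul_a, zero_add]
      rw [e, map_mul, ht, hca, one_mul, QuaternionGroup.xa_mul_a]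
    have hit2 : ∀ k : ℕ, φ^[k] (QuaternionGroup.xa 0) = QuaternionGroup.xa ((k : ZMod (2 * m)) * t) := fun k => by
      induction k with
      | zero => simp
      | succ k ih => rw [Function.iterate_succ_apply', ih, hxa]; push_cast; ring_nf
    have ht0 : t = 0 := by
      have := (hit2 (p ^ j)).symm.trans (hper _)
      simp only [QuaternionGroup.xa.injEq] at this
      have hu : IsUnit ((p ^ j : ℕ) : ZMod (2 * m)) := by
        rw [ZMod.isUnit_iff_coprime, hm, ← pow_succ']
        exact Nat.Coprime.pow _ _ ((Nat.coprime_primes hp Nat.prime_two).2 (by omega))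
      exact hu.mul_right_eq_zero.1 this
    intro x
    rcases x with i | i
    · rw [hca, one_mul]
    · rw [hxa, ht0, zero_add]

/-- A `p`-element with `p ≥ 7` acting on a generalised quaternion group acts trivially. -/
theorem quaternion_aut_trivial {n m : ℕ} (hm : m = 2 ^ (n + 1)) (φ : QuaternionGroup m ≃* QuaternionGroup m)
    {p : ℕ} (hp : p.Prime) (hp7 : 7 ≤ p) {j : ℕ} (hφ : φ ^ (p ^ j) = (1 : MulAut _)) : ∀ x, φ x = x :=
  quaternion_aut_trivial' hm φ hp (Or.inl hp7) hφ

/-- A subgroup containing all elements of prime power order is everything. -/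
theorem eq_top_of_primary [Finite G] (K : Subgroup G)
    (h : ∀ (r : ℕ), r.Prime → ∀ (R : Sylow r G), (R : Subgroup G) ≤ K) : K = ⊤ := by
  refine Subgroup.eq_top_of_card_eq _ (Nat.dvd_antisymm K.card_subgroup_dvd_card ?_)
  refine (Nat.factorization_le_iff_dvd Nat.card_pos.ne' Nat.card_pos.ne').1 fun r => ?_
  by_cases hrp : r.Prime
  swap
  · simp [Nat.factorization_eq_zero_of_not_prime _ hrp]
  haveI := Fact.mk hrp
  obtain ⟨R⟩ : Nonempty (Sylow r G) := inferInstance
  have hd := Subgroup.card_dvd_of_le (h r hrp R)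
  rw [Sylow.card_eq_multiplicity] at hd
  exact (Nat.Prime.pow_dvd_iff_le_factorization hrp Nat.card_pos.ne').1 hd

end CfsgLib.Perm.Fpf
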