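import Cfsg.Agent.Perm.ZassenhausAct

/-!
Integrality obstructions in algebras generated by two binary tetrahedral groups.
-/

set_option autoImplicit false
set_option linter.style.haveILetI false

namespace CfsgLib.Perm.Fpf

variable {R : Type*} [Ring R] [Algebra ℚ R]

/-- The combination `(-1 + a i + b u + c i u) / 2`. -/
def halfSum (i u : R) (a b c : ℤ) : R := (1 / 2 : ℚ) • (-1 + (a • i + b • u + c • (i * u)))

/-- A nonintegral scalar is no polynomial in a root of unity. -/
theorem not_half_of_pow_eq_one [Nontrivial R] {w : R} {m : ℕ} (hm : 0 < m) (hw : w ^ m = 1) {T : R}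
    (hT : T ∈ Algebra.adjoin ℤ ({w} : Set R)) (hT2 : T = (1 / 2 : ℚ) • (1 : R)) : False := by
  have hint : IsIntegral ℤ w := IsIntegral.of_pow hm (hw ▸ isIntegral_one)
  have hfg := hint.fg_adjoin_singleton
  have hTi : IsIntegral ℤ T := IsIntegral.of_mem_of_fg _ hfg T hT
  rw [hT2, ← Algebra.algebraMap_eq_smul_one] at hTi
  have hq : IsIntegral ℤ (1 / 2 : ℚ) :=
    (isIntegral_algHom_iff ((Algebra.ofId ℚ R).restrictScalars ℤ) (algebraMap ℚ R).injective).1 hTi
  obtain ⟨z, hz⟩ := IsIntegrallyClosed.isIntegral_iff.1 hq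
  have h2 : (z : ℚ) * 2 = 1 := by rw [show (algebraMap ℤ ℚ) z = (z : ℚ) from rfl] at hz; rw [hz]; norm_num
  have h3 : z * 2 = 1 := by exact_mod_cast h2
  omega

theorem contradiction_of_sum [Nontrivial R] {w v : R} {m : ℕ} (hm : 0 < m) (hw : w ^ m = 1)
    (hv : w * v = 1) (hvw : v * w = 1) (e : ℤ) (h : (w + v) * (w + v) + e • (w + v) = (1 / 2 : ℚ) • (1 : R)) :
    False := by
  refine not_half_of_pow_eq_one hm hw ?_ h
  have hwm : w ∈ Algebra.adjoin ℤ ({w} : Set R) := Algebra.subset_adjoin rfl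
  have hv' : v = w ^ (m - 1) := by
    calc v = v * w ^ m := by rw [hw, mul_one]
      _ = (v * w) * w ^ (m - 1) := by rw [mul_assoc, ← pow_succ', show m - 1 + 1 = m by omega]
      _ = w ^ (m - 1) := by rw [hvw, one_mul]
  have hvm : v ∈ Algebra.adjoin ℤ ({w} : Set R) := hv' ▸ pow_mem hwm _
  exact add_mem (mul_mem (add_mem hwm hvm) (add_mem hwm hvm)) (zsmul_mem (add_mem hwm hvm) e)

/-- An element of order three inducing the three-cycle on a quaternion pair is a half sum. -/
theorem eq_halfSum {i u y : R} (hi : i * i = -1) (hu : u * u = -1) (hui : u * i = -(i * u))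
    (hy : y * y + y + 1 = 0) {e : ℤ} (he : e = 1 ∨ e = -1) (h1 : y * i = u * y) (h2 : y * u = e • (i * u * y)) :
    y = halfSum i u (-e) (-e) (-1) := by
  have hui' : ∀ x, u * (i * x) = -(i * (u * x)) := fun x => by rw [← mul_assoc, hui, neg_mul, mul_assoc]
  have hii : ∀ x, i * (i * x) = -x := fun x => by rw [← mul_assoc, hi, neg_mul, one_mul]
  have huu : ∀ x, u * (u * x) = -x := fun x => by rw [← mul_assoc, hu, neg_mul, one_mul]
  set Y := halfSum i u (-e) (-e) (-1) with hY
  have hY2 : Y * Y + Y + 1 = 0 := by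
    rcases he with rfl | rfl <;>
    · simp only [hY, halfSum, one_smul, neg_smul, smul_mul_assoc, mul_smul_comm, smul_smul, mul_add, add_mul,
        mul_neg, neg_mul, mul_one, one_mul, mul_assoc, hi, hu, hui, hui', hii, huu, smul_add, smul_neg, neg_neg]
      module
  have hYi : Y * i = u * Y := by
    rcases he with rfl | rfl <;>
    · simp only [hY, halfSum, one_smul, neg_smul, smul_mul_assoc, mul_smul_comm, mul_add, add_mul,
        mul_neg, neg_mul, mul_one, one_mul, mul_assoc, hi, hu, hui, hui', hii, huu, smul_add, smul_neg, neg_neg]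
      module
  have hYu : Y * u = e • (i * u * Y) := by
    rcases he with rfl | rfl <;>
    · simp only [hY, halfSum, one_smul, neg_smul, smul_mul_assoc, mul_smul_comm, mul_add, add_mul,
        mul_neg, neg_mul, mul_one, one_mul, mul_assoc, hi, hu, hui, hui', hii, huu, smul_add, smul_neg, neg_neg]
      module
  set Z := -1 - Y with hZ
  have hYZ : Y * Z = 1 := by
    rw [hZ, mul_sub, mul_neg, mul_one]
    rw [eq_comm, ← sub_eq_zero]
    calc (1 : R) - (-Y - Y * Y) = Y * Y + Y + 1 := by abel
      _ = 0 := hY2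
  have hZY : Z * Y = 1 := by
    rw [hZ, sub_mul, neg_mul, one_mul]
    rw [eq_comm, ← sub_eq_zero]
    calc (1 : R) - (-Y - Y * Y) = Y * Y + Y + 1 := by abel
      _ = 0 := hY2
  set a := Z * y with ha
  clear_value a
  have hya : y = Y * a := by rw [ha, ← mul_assoc, hYZ, one_mul]
  have hai : a * i = i * a := by
    have hZu : Z * u = i * Z := by
      calc Z * u = Z * u * (Y * Z) := by rw [hYZ, mul_one]
        _ = Z * (u * Y) * Z := by noncomm_ring
        _ = Z * (Y * i) * Z := by rw [hYi]
        _ = i * Z := by rw [← mul_assoc Z, hZY, one_mul]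
    rw [ha, mul_assoc, h1, ← mul_assoc, hZu, mul_assoc]
  have hau : a * u = u * a := by
    have hZk : Z * (i * u) = e • (u * Z) := by
      have : e • (e • (i * u * Y)) = i * u * Y := by
        rcases he with rfl | rfl <;> simp
      calc Z * (i * u) = Z * (i * u) * (Y * Z) := by rw [hYZ, mul_one]
        _ = Z * (i * u * Y) * Z := by noncomm_ring
        _ = Z * (e • (Y * u)) * Z := by rw [hYu, this]
        _ = e • (u * Z) := by
          rw [mul_smul_comm, smul_mul_assoc, ← mul_assoc Z, hZY, one_mul]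
    rw [ha, mul_assoc, h2, mul_smul_comm, ← mul_assoc, hZk, smul_mul_assoc, smul_smul, mul_assoc]
    rcases he with rfl | rfl <;> simp
  have haY : a * Y = Y * a := by
    have hak : a * (i * u) = (i * u) * a := by rw [← mul_assoc, hai, mul_assoc, hau, ← mul_assoc]
    simp only [hY, halfSum, mul_smul_comm, smul_mul_assoc, mul_add, add_mul, mul_neg, neg_mul, mul_one,
      one_mul, hai, hau, hak]
  have hX : (1 - a * a) + Y * (a - a * a) = 0 := by
    have : y * y + y + 1 = (1 - a * a) + Y * (a - a * a) + (Y * Y + Y + 1) * (a * a) := by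
      rw [hya, show Y * a * (Y * a) = Y * Y * (a * a) by
        rw [mul_assoc, ← mul_assoc a Y a, haY]; noncomm_ring]
      noncomm_ring
    rw [hy, hY2, zero_mul, add_zero] at this
    exact this.symm
  have hca : Commute i a := hai.symm
  have hc1 : i * (1 - a * a) = (1 - a * a) * i := ((Commute.one_right i).sub_right (hca.mul_right hca)).eq
  have hc2 : i * (a - a * a) = (a - a * a) * i := (hca.sub_right (hca.mul_right hca)).eq
  have hkill : (i * Y - Y * i) * (a - a * a) = 0 := by
    have e1 : i * ((1 - a * a) + Y * (a - a * a)) - ((1 - a * a) + Y * (a - a * a)) * i = 0 := by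
      rw [hX, mul_zero, zero_mul, sub_zero]
    rw [mul_add, add_mul, hc1, mul_assoc Y, ← hc2] at e1
    rw [sub_mul, mul_assoc, mul_assoc, ← e1]
    abel
  have hinv : (i * Y - Y * i) * (i * Y - Y * i) = -2 := by
    rw [hYi]
    rcases he with rfl | rfl <;>
    · simp only [hY, halfSum, one_smul, neg_smul, smul_mul_assoc, mul_smul_comm, smul_smul, mul_add, add_mul,
        mul_sub, sub_mul, mul_neg, neg_mul, mul_one, one_mul, mul_assoc, hi, hu, hui, hui', hii, huu, smul_add,
        smul_sub, smul_neg, neg_neg]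
      rw [show (-2 : R) = -((1 : R) + 1) by norm_num]
      module
  have hz : a - a * a = 0 := by
    have h3 : (-2 : R) * (a - a * a) = 0 := by rw [← hinv, mul_assoc, hkill, mul_zero]
    have h4 : ((-1 / 2 : ℚ)) • ((-2 : R) * (a - a * a)) = a - a * a := by
      rw [show (-2 : R) * (a - a * a) = (-2 : ℚ) • (a - a * a) by
        rw [Algebra.smul_def, map_neg, map_ofNat], smul_smul]
      norm_num
    rw [← h4, h3, smul_zero]
  have h1a : 1 - a * a = 0 := by rwa [hz, mul_zero, add_zero] at hX
  have ha1 : a = 1 := by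
    rw [sub_eq_zero] at hz h1a
    rw [hz, ← h1a]
  rw [hya, ha1, mul_one]

theorem anticomm_expand (i u k i' u' k' : R) (a b c a' b' c' : ℤ) :
    (a • i + b • u + c • k) * (a' • i' + b' • u' + c' • k') + (a' • i' + b' • u' + c' • k') * (a • i + b • u + c • k) =
      (a * a') • (i * i' + i' * i) + (a * b') • (i * u' + u' * i) + (a * c') • (i * k' + k' * i) +
      ((b * a') • (u * i' + i' * u) + (b * b') • (u * u' + u' * u) + (b * c') • (u * k' + k' * u)) +
      ((c * a') • (k * i' + i' * k) + (c * b') • (k * u' + u' * k) + (c * c') • (k * k' + k' * k)) := by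
  simp only [add_mul, mul_add, smul_mul_assoc, mul_smul_comm, smul_smul, smul_add]
  module

/-- Two tetrahedral groups at an angle of forty-five degrees. -/
theorem key_both [Nontrivial R] {i u r : R} (hri : r * r = i) (hi : i * i = -1) (hu : u * u = -1)
    (hur : u * r = -(r * r * r * u)) {a b c a' b' c' : ℤ} (ha : a = 1 ∨ a = -1) (hb : b = 1 ∨ b = -1)
    (hc : c = 1 ∨ c = -1) (ha' : a' = 1 ∨ a' = -1) (hb' : b' = 1 ∨ b' = -1) (hc' : c' = 1 ∨ c' = -1)
    (haa : a * a' = 1)
    {Y Y' : R} (hY : Y = halfSum i u a b c) (hY' : Y' = halfSum i (r * u) a' b' c')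
    (hy : Y * Y + Y + 1 = 0) (hy' : Y' * Y' + Y' + 1 = 0)
    {m : ℕ} (hm : 0 < m) (hw : (Y * Y') ^ m = 1) : False := by
  subst hri
  have hr4 : r * (r * (r * r)) = -1 := by rw [← mul_assoc, hi]
  have hr4' : ∀ x, r * (r * (r * (r * x))) = -x := fun x => by
    rw [← mul_assoc, ← mul_assoc, ← mul_assoc, mul_assoc (r * r), hi, neg_mul, one_mul]
  have hur0 : u * r = -(r * (r * (r * u))) := by rw [hur, mul_assoc, mul_assoc]
  have hur' : ∀ x, u * (r * x) = -(r * (r * (r * (u * x)))) := fun x => by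
    rw [← mul_assoc, hur0, neg_mul, mul_assoc, mul_assoc, mul_assoc]
  have huu : ∀ x, u * (u * x) = -x := fun x => by rw [← mul_assoc, hu, neg_mul, one_mul]
  set Z := -1 - Y with hZ
  set Z' := -1 - Y' with hZ'
  have hYZ : Y * Z = 1 ∧ Z * Y = 1 := by
    constructor <;> rw [hZ, eq_comm, ← sub_eq_zero, ← hy] <;> noncomm_ring
  have hYZ' : Y' * Z' = 1 ∧ Z' * Y' = 1 := by
    constructor <;> rw [hZ', eq_comm, ← sub_eq_zero, ← hy'] <;> noncomm_ring
  refine contradiction_of_sum hm hw (v := Z' * Z) ?_ ?_ 0 ?_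
  · rw [mul_assoc, ← mul_assoc Y', hYZ'.1, one_mul, hYZ.1]
  · rw [mul_assoc, ← mul_assoc Z, hYZ.2, one_mul, hYZ'.2]
  rw [zero_smul, add_zero]
  set N : ℤ := -(b * (b' - c')) - c * (b' + c') with hN
  have hN2 : (N : ℚ) * N = 4 := by
    rcases hb with rfl | rfl <;> rcases hc with rfl | rfl <;> rcases hb' with rfl | rfl <;>
      rcases hc' with rfl | rfl <;> norm_num [hN]
  have hs : Y * Y' + Z' * Z = ((N : ℚ) / 4) • (r - r * (r * r)) := by
    set d := r - r * (r * r) with hd
    have q1 : r * r * (r * r) + r * r * (r * r) = (-2 : ℤ) • (1 : R) := by rw [hi]; module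
    have q2 : r * r * (r * u) + r * u * (r * r) = 0 := by
      simp only [mul_assoc, hr4, hr4', hur0, hur', hu, huu, mul_neg, neg_neg]; abel
    have q3 : r * r * (r * r * (r * u)) + r * r * (r * u) * (r * r) = 0 := by
      simp only [mul_assoc, hr4, hr4', hur0, hur', hu, huu, mul_neg, neg_neg]; abel
    have q4 : u * (r * r) + r * r * u = 0 := by
      simp only [mul_assoc, hr4, hr4', hur0, hur', hu, huu, mul_neg, neg_neg]; abel
    have q5 : r * r * u * (r * r) + r * r * (r * r * u) = 0 := by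
      simp only [mul_assoc, hr4, hr4', hur0, hur', hu, huu, mul_neg, neg_neg]; abel
    have q6 : u * (r * u) + r * u * u = -d := by
      simp only [hd, mul_assoc, hr4, hr4', hur0, hur', hu, huu, mul_neg, neg_neg, mul_one]; abel
    have q7 : u * (r * r * (r * u)) + r * r * (r * u) * u = d := by
      simp only [hd, mul_assoc, hr4, hr4', hur0, hur', hu, huu, mul_neg, neg_neg, mul_one]; abel
    have q8 : r * r * u * (r * u) + r * u * (r * r * u) = -d := by
      simp only [hd, mul_assoc, hr4, hr4', hur0, hur', hu, huu, mul_neg, neg_neg, mul_one]; abel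
    have q9 : r * r * u * (r * r * (r * u)) + r * r * (r * u) * (r * r * u) = -d := by
      simp only [hd, mul_assoc, hr4, hr4', hur0, hur', hu, huu, mul_neg, neg_neg, mul_one]; abel
    have hPP := anticomm_expand (r * r) u (r * r * u) (r * r) (r * u) (r * r * (r * u)) a b c a' b' c'
    rw [q1, q2, q3, q4, q5, q6, q7, q8, q9, haa] at hPP
    have key : ∀ P P' : R, ((1 / 2 : ℚ) • (-1 + P)) * ((1 / 2 : ℚ) • (-1 + P')) +
        (-1 - (1 / 2 : ℚ) • (-1 + P')) * (-1 - (1 / 2 : ℚ) • (-1 + P)) =
        (1 / 4 : ℚ) • ((2 : ℤ) • (1 : R) + (P * P' + P' * P)) := by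
      intro P P'
      simp only [smul_mul_assoc, mul_smul_comm, smul_smul, mul_add, add_mul, mul_sub, sub_mul, mul_neg, neg_mul,
        mul_one, one_mul, smul_add, smul_sub, smul_neg, neg_neg]
      module
    rw [hZ, hZ', hY, hY', halfSum, halfSum, key, hPP, hN]
    push_cast
    module
  rw [hs, smul_mul_smul_comm]
  have hd : (r - r * (r * r)) * (r - r * (r * r)) = (2 : ℚ) • (1 : R) := by
    simp only [mul_sub, sub_mul, mul_assoc, hr4, hr4', mul_neg, mul_one]
    rw [two_smul]; abel
  rw [hd, smul_smul, div_mul_div_comm, hN2]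
  norm_num

/-- A tetrahedral group and an element of order three inverted by its forty-five degree rotation. -/
theorem key_mixed [Nontrivial R] {i u r x : R} (hri : r * r = i) (hi : i * i = -1) (hu : u * u = -1)
    (hur : u * r = -(r * r * r * u)) (hx : x * x + x + 1 = 0) (hxi : x * i = i * x) (hxu : x * u = u * x)
    (hrx : r * x = x * x * r) {a b c : ℤ} (ha : a = 1 ∨ a = -1)
    {Y : R} (hY : Y = halfSum i (r * u) a b c) (hy : Y * Y + Y + 1 = 0)
    {m : ℕ} (hm : 0 < m) (hw : (x * Y) ^ m = 1) : False := by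
  set Z := -1 - Y with hZ
  set x' := -1 - x with hx'
  have hYZ : Y * Z = 1 ∧ Z * Y = 1 := by
    constructor <;> rw [hZ, eq_comm, ← sub_eq_zero, ← hy] <;> noncomm_ring
  have hxx : x * x' = 1 ∧ x' * x = 1 := by
    constructor <;> rw [hx', eq_comm, ← sub_eq_zero, ← hx] <;> noncomm_ring
  refine contradiction_of_sum hm hw (v := Z * x') ?_ ?_ (-1) ?_
  · rw [mul_assoc, ← mul_assoc Y, hYZ.1, one_mul, hxx.1]
  · rw [mul_assoc, ← mul_assoc x', hxx.2, one_mul, hYZ.2]
  set Q := b • (r * u) + c • (i * (r * u)) with hQ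
  have hx2 : x * x = -x - 1 := by
    rw [← sub_eq_zero, ← hx]; abel
  have hQx : x * Q + Q * x = -Q := by
    have h1 : r * u * x = x * x * (r * u) := by
      rw [mul_assoc, ← hxu, ← mul_assoc, hrx, mul_assoc]
    have hxxi : x * x * i = i * (x * x) := by rw [mul_assoc, hxi, ← mul_assoc, hxi, mul_assoc]
    have h2 : Q * x = x * x * Q := by
      rw [hQ, add_mul, mul_add, smul_mul_assoc, smul_mul_assoc, mul_smul_comm, mul_smul_comm, h1,
        mul_assoc i (r * u) x, h1, ← mul_assoc i, ← hxxi]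
      simp only [mul_assoc]
    rw [h2, ← add_mul, hx2, show x + (-x - 1) = (-1 : R) by abel, neg_one_mul]
  have hYQ : Y = (1 / 2 : ℚ) • (-1 + (a • i + Q)) := by rw [hY, halfSum, hQ, add_assoc]
  have hs : x * Y + Z * x' = (1 / 2 : ℚ) • (1 + a • (i + (x * i + i * x))) := by
    have : x * Y + Z * x' = 1 + x + Y + (x * Y + Y * x) := by rw [hZ, hx']; noncomm_ring
    rw [this, hYQ]
    simp only [mul_smul_comm, smul_mul_assoc, mul_add, add_mul, mul_neg, neg_mul, mul_one, one_mul, smul_add, smul_neg]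
    have hQ' : x * Q = -Q - Q * x := by rw [← hQx]; abel
    rw [hQ', smul_sub, smul_neg]
    module
  rw [hs, ← hxi]
  have hii : ∀ z, i * (i * z) = -z := fun z => by rw [← mul_assoc, hi, neg_mul, one_mul]
  have hix : ∀ z, i * (x * z) = x * (i * z) := fun z => by rw [← mul_assoc, ← hxi, mul_assoc]
  have hxx' : ∀ z, x * (x * z) = -(x * z) - z := fun z => by
    rw [← mul_assoc, hx2, sub_mul, neg_mul, one_mul]
  rcases ha with rfl | rfl <;>
  · simp only [one_smul, neg_smul, smul_mul_assoc, mul_smul_comm, smul_smul, mul_add, add_mul, mul_neg, neg_mul,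
      mul_one, one_mul, mul_assoc, hi, hii, hix, hxx', ← hxi, smul_add, smul_sub, smul_neg, neg_neg, mul_sub, hx2]
    module

end CfsgLib.Perm.Fpf
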