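import Cfsg.Agent.Perm.ZassenhausLocal
import Cfsg.Agent.Perm.ZassenhausQuad

/-!
The Sylow two-subgroups of a perfect group with a fixed-point-free representation have order eight.
-/

set_option autoImplicit false
set_option linter.style.haveILetI false

namespace CfsgLib.Perm.Fpf

open Subgroup

variable {G : Type*} [Group G] [Finite G]

/-- Transfer: outside a subgroup of index two in a Sylow two-subgroup everything of order four is fused
into it. -/
theorem exists_conj_mem (hperf : commutator G = ⊤) (P : Sylow 2 G) {Q : Subgroup G} (hQP : Q ≤ (P : Subgroup G))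
    (hQi : Q.relIndex (P : Subgroup G) = 2) {u z : G} (hu : u * u = z) (hz : ∀ x : G, x * z = z * x)
    (hzQ : z ∈ Q) : ∃ g : G, g * u * g⁻¹ ∈ Q := by
  classical
  haveI : Fact (2 : ℕ).Prime := ⟨Nat.prime_two⟩
  by_contra hcon
  letI := Fintype.ofFinite (G ⧸ Q)
  set σ := MulAction.toPermHom G (G ⧸ Q) with hσ
  set φ := Equiv.Perm.sign.comp σ with hφ
  have hfix : Fintype.card (Function.fixedPoints (σ u)) = 0 := by
    rw [Fintype.card_eq_zero_iff]
    refine ⟨fun x => hcon ?_⟩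
    obtain ⟨g, hg⟩ := QuotientGroup.mk_surjective x.1
    have hx : σ u (g : G ⧸ Q) = (g : G ⧸ Q) := hg.symm ▸ x.2
    change (((u * g : G)) : G ⧸ Q) = (g : G ⧸ Q) at hx
    rw [QuotientGroup.eq] at hx
    refine ⟨g⁻¹, ?_⟩
    have := inv_mem hx
    simpa [mul_assoc] using this
  have hsq : σ u ^ 2 = 1 := by
    rw [← map_pow, pow_two, hu]
    refine Equiv.ext fun x => ?_
    obtain ⟨g, rfl⟩ := QuotientGroup.mk_surjective x
    show (((z * g : G)) : G ⧸ Q) = (g : G ⧸ Q)
    rw [← hz, QuotientGroup.mk_mul_of_mem _ hzQ]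
  have hidx : Fintype.card (G ⧸ Q) = 2 * (P : Subgroup G).index := by
    rw [← Nat.card_eq_fintype_card]
    have h1 := Subgroup.relIndex_mul_index hQP
    rw [hQi] at h1
    exact h1.symm
  have hodd : Odd (P : Subgroup G).index := by
    rw [Nat.odd_iff]
    have := P.not_dvd_index
    omega
  have hφu : φ u = -1 := by
    show Equiv.Perm.sign (σ u) = -1
    rw [Equiv.Perm.sign_of_pow_two_eq_one hsq, hfix, hidx, Nat.sub_zero,
      Nat.mul_div_cancel_left _ (by norm_num : 0 < 2), hodd.neg_one_pow]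
  have h1 : φ u = 1 := Abelianization.commutator_subset_ker φ (hperf ▸ Subgroup.mem_top u)
  rw [hφu] at h1
  exact absurd h1 (by decide)

/-- An element permuting three cyclic subgroups of order four of a quaternion pair cyclically yields
either an element of order three doing so, or one centralising the pair. -/
theorem three_cycle {i v z y₀ : G} (hz : ∀ x : G, x * z = z * x) (hzz : z * z = 1) (hz1 : z ≠ 1)
    (hii : i * i = z) (hvv : v * v = z) (hvi : v * i = i * v * z)
    (hy1 : y₀ * i * y₀⁻¹ = v ∨ y₀ * i * y₀⁻¹ = v * z)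
    (hy2 : y₀ * v * y₀⁻¹ = i * v ∨ y₀ * v * y₀⁻¹ = i * v * z) :
    (∃ y u, orderOf y = 3 ∧ (u = v ∨ u = v * z) ∧ y * i * y⁻¹ = u ∧
        (y * u * y⁻¹ = i * u ∨ y * u * y⁻¹ = i * u * z)) ∨
      ∃ x, orderOf x = 3 ∧ x * i = i * x ∧ x * v = v * x := by
  let R : G → G → Prop := fun a b => a = b ∨ a = b * z
  have hzc : ∀ x y : G, x * z * y = x * y * z := fun x y => by rw [mul_assoc, ← hz, ← mul_assoc]
  have hzz' : ∀ x : G, x * z * z = x := fun x => by rw [mul_assoc, hzz, mul_one]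
  have hsymm : ∀ {a b}, R a b → R b a := by
    rintro a b (rfl | rfl)
    · exact Or.inl rfl
    · exact Or.inr (hzz' b).symm
  have htrans : ∀ {a b c}, R a b → R b c → R a c := by
    rintro a b c (rfl | rfl) (rfl | rfl)
    · exact Or.inl rfl
    · exact Or.inr rfl
    · exact Or.inr rfl
    · exact Or.inl (hzz' c)
  have hmap : ∀ (g : G) {a b}, R a b → R (g * a * g⁻¹) (g * b * g⁻¹) := by
    rintro g a b (rfl | rfl)
    · exact Or.inl rfl
    · exact Or.inr (by rw [← mul_assoc g b z, hzc])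
  have hmul : ∀ {a b c d}, R a b → R c d → R (a * c) (b * d) := by
    rintro a b c d (rfl | rfl) (rfl | rfl)
    · exact Or.inl rfl
    · exact Or.inr (by rw [mul_assoc])
    · exact Or.inr (hzc _ _)
    · exact Or.inl (by rw [← mul_assoc, hzc, hzz'])
  have hcm : ∀ (g a b : G), g * (a * b) * g⁻¹ = g * a * g⁻¹ * (g * b * g⁻¹) := fun g a b => by group
  have hy3 : R (y₀ * (i * v) * y₀⁻¹) i := by
    rw [hcm]
    refine htrans (hmul hy1 hy2) (Or.inl ?_)
    calc v * (i * v) = v * i * v := by group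
      _ = i * (v * v) * z := by rw [hvi, hzc, mul_assoc i v v]
      _ = i := by rw [hvv, hzz']
  have hcube : R (y₀ ^ 3 * i * (y₀ ^ 3)⁻¹) i ∧ R (y₀ ^ 3 * v * (y₀ ^ 3)⁻¹) v := by
    have e : ∀ a, y₀ ^ 3 * a * (y₀ ^ 3)⁻¹ = y₀ * (y₀ * (y₀ * a * y₀⁻¹) * y₀⁻¹) * y₀⁻¹ := fun a => by
      simp only [pow_succ, pow_zero, one_mul, mul_inv_rev, mul_assoc]
    constructor
    · rw [e]; exact htrans (hmap y₀ (htrans (hmap y₀ hy1) hy2)) hy3
    · rw [e]; exact htrans (hmap y₀ (htrans (hmap y₀ hy2) hy3)) hy1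
  have hpow : ∀ j : ℕ, ∀ a, R (y₀ ^ 3 * a * (y₀ ^ 3)⁻¹) a → R ((y₀ ^ 3) ^ j * a * ((y₀ ^ 3) ^ j)⁻¹) a := by
    intro j a ha
    induction j with
    | zero => exact Or.inl (by simp)
    | succ j ih =>
      rw [show (y₀ ^ 3) ^ (j + 1) * a * ((y₀ ^ 3) ^ (j + 1))⁻¹ =
        y₀ ^ 3 * ((y₀ ^ 3) ^ j * a * ((y₀ ^ 3) ^ j)⁻¹) * (y₀ ^ 3)⁻¹ by rw [pow_succ' (y₀ ^ 3)]; group]
      exact htrans (hmap _ ih) ha
  obtain ⟨b, c, hc, hbc⟩ := Nat.exists_eq_pow_mul_and_not_dvd (orderOf_pos y₀).ne' 3 (by norm_num)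
  obtain ⟨j, hj⟩ : ∃ j, c * c = 1 + 3 * j := ⟨c * c / 3, by
    have : c % 3 = 1 ∨ c % 3 = 2 := by omega
    have h3 : c * c % 3 = 1 := by rcases this with e | e <;> simp [Nat.mul_mod, e]
    omega⟩
  set y := y₀ ^ (c * c) with hy
  have hy' : ∀ a, y * a * y⁻¹ = y₀ * ((y₀ ^ 3) ^ j * a * ((y₀ ^ 3) ^ j)⁻¹) * y₀⁻¹ := fun a => by
    rw [hy, hj, pow_add, pow_one, pow_mul]; group
  have hyi : R (y * i * y⁻¹) v := by rw [hy']; exact htrans (hmap y₀ (hpow j i hcube.1)) hy1
  have hyv : R (y * v * y⁻¹) (i * v) := by rw [hy']; exact htrans (hmap y₀ (hpow j v hcube.2)) hy2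
  set u := y * i * y⁻¹ with hu
  have hyu : R (y * u * y⁻¹) (i * u) :=
    htrans (hmap y hyi) (htrans hyv (hmul (Or.inl rfl) (hsymm hyi)))
  have hui : u * i = i * u * z := by
    rcases hyi with e | e <;> rw [e]
    · exact hvi
    · rw [hzc, hvi, ← mul_assoc i v z]
  have huu : u * u = z := by
    rw [hu, ← hcm, hii, hz, mul_inv_cancel_right]
  have huiu : u * (i * u) = i := by
    rw [← mul_assoc, hui, hzc, mul_assoc i u u, huu, hzz']
  have h3i : y ^ 3 * i * (y ^ 3)⁻¹ = i := by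
    rw [show y ^ 3 * i * (y ^ 3)⁻¹ = y * (y * (y * i * y⁻¹) * y⁻¹) * y⁻¹ by
      simp only [pow_succ, pow_zero, one_mul, mul_inv_rev, mul_assoc], ← hu]
    rcases hyu with e | e <;> rw [e]
    · rw [hcm, ← hu, e, huiu]
    · rw [← mul_assoc y (i * u) z, hzc, hcm, ← hu, e, ← mul_assoc u (i * u) z, hzc, huiu, hzz']
  have h3u : y ^ 3 * u * (y ^ 3)⁻¹ = u := by
    rw [hu, show y ^ 3 * (y * i * y⁻¹) * (y ^ 3)⁻¹ = y * (y ^ 3 * i * (y ^ 3)⁻¹) * y⁻¹ by group, h3i]
  have hc3i : Commute (y ^ 3) i := mul_inv_eq_iff_eq_mul.1 h3i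
  have hc3v : Commute (y ^ 3) v := by
    have hcz : Commute (y ^ 3) z := hz _
    have h := mul_inv_eq_iff_eq_mul.1 h3u
    rcases hyi with e | e
    · rw [e] at h; exact h
    · rw [e] at h
      have := (show Commute (y ^ 3) (v * z) from h).mul_right hcz
      rwa [hzz'] at this
  have hyo : orderOf y ∣ 3 ^ b := by
    refine orderOf_dvd_of_pow_eq_one ?_
    rw [hy, ← pow_mul, show c * c * 3 ^ b = 3 ^ b * c * c by ring, pow_mul, ← hbc, pow_orderOf_eq_one, one_pow]
  have hyne : y ≠ 1 := by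
    intro e
    have h1 : u = i := by rw [hu, e, one_mul, inv_one, mul_one]
    rw [h1] at hui
    apply hz1
    exact mul_left_cancel (hui.symm.trans (mul_one (i * i)).symm)
  obtain ⟨t, -, ht⟩ := (Nat.dvd_prime_pow Nat.prime_three).1 hyo
  rcases t with _ | _ | t
  · exact absurd (orderOf_eq_one_iff.1 ht) hyne
  · exact Or.inl ⟨y, u, ht, hyi, rfl, hyu⟩
  · refine Or.inr ⟨(y ^ 3) ^ (3 ^ t), ?_, (hc3i.pow_left _).eq, (hc3v.pow_left _).eq⟩
    rw [← pow_mul, orderOf_pow, ht, ← pow_succ',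
      Nat.gcd_eq_right (pow_dvd_pow 3 (Nat.le_succ _)), Nat.pow_div (Nat.le_succ _) (by norm_num)]
    simp

theorem halfSum_smul {R : Type*} [Ring R] [Algebra ℚ R] (i u : R) (a b c d : ℤ) :
    halfSum i (d • u) a b c = halfSum i u a (b * d) (c * d) := by
  simp only [halfSum, mul_smul_comm, smul_smul]

theorem neg_one_sub_halfSum {R : Type*} [Ring R] [Algebra ℚ R] (i u : R) (a b c : ℤ) :
    -1 - halfSum i u a b c = halfSum i u (-a) (-b) (-c) := by
  simp only [halfSum, smul_add, smul_neg, neg_smul]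
  module

theorem sq_add_self {n : ℕ} {θ : G →* Mat n}
    (hθ : ∀ g : G, (orderOf g).Prime → ∑ i ∈ Finset.range (orderOf g), θ g ^ i = 0) {y : G}
    (hy : orderOf y = 3) : θ y * θ y + θ y + 1 = 0 := by
  have := hθ y (hy ▸ Nat.prime_three)
  rw [hy, Finset.sum_range_succ, Finset.sum_range_succ, Finset.sum_range_one, pow_zero, pow_one, pow_two] at this
  rw [← this]; abel

/-- **The Sylow two-subgroups have order eight.** -/
theorem sylow_card_eight (h : HasFpf G) (hperf : commutator G = ⊤) (hIH : SmallPerfect G) [Nontrivial G]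
    (S : Sylow 2 G) : Nonempty ((S : Subgroup G) ≃* QuaternionGroup 2) := by
  classical
  haveI := Fact.mk Nat.prime_two
  obtain ⟨n₀, ⟨e⟩⟩ := sylow_quaternion h hperf S
  rcases n₀ with _ | n
  · exact ⟨e⟩
  exfalso
  obtain ⟨k, m, hk, hm, hkm⟩ : ∃ k m : ℕ, k = 2 ^ n ∧ m = 2 ^ (n + 1 + 1) ∧ m = 4 * k :=
    ⟨2 ^ n, _, rfl, rfl, by ring⟩
  have hk0 : 0 < k := hk ▸ pow_pos two_pos n
  haveI : NeZero m := ⟨by omega⟩
  obtain ⟨f, hf, hfS⟩ : ∃ f : QuaternionGroup m →* G, Function.Injective f ∧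
      ∀ s, s ∈ (S : Subgroup G) ↔ ∃ q, f q = s := by
    subst hm
    refine ⟨(S : Subgroup G).subtype.comp e.symm.toMonoidHom,
      (S : Subgroup G).subtype_injective.comp e.symm.injective,
      fun s => ⟨fun hs => ⟨e ⟨s, hs⟩, ?_⟩, fun ⟨q, hq⟩ => hq ▸ (e.symm q).2⟩⟩
    exact congrArg Subtype.val (e.symm_apply_apply ⟨s, hs⟩)
  let A' : ℕ → G := fun l => f (QuaternionGroup.a l)
  let V : ZMod (2 * m) → G := fun j => f (QuaternionGroup.xa j)
  set a := f (QuaternionGroup.a 1) with ha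
  set r := f (QuaternionGroup.a (k : ZMod (2 * m))) with hr
  set i := f (QuaternionGroup.a ((2 * k : ℕ) : ZMod (2 * m))) with hi
  set z := f (QuaternionGroup.a (m : ZMod (2 * m))) with hz
  have h8 : (8 : ZMod (2 * m)) * k = 0 := by
    rw [show (8 : ZMod (2 * m)) * k = ((2 * m : ℕ) : ZMod (2 * m)) by rw [hkm]; push_cast; ring, ZMod.natCast_self]
  have hmz : (m : ZMod (2 * m)) = 4 * k := by
    have := congrArg (Nat.cast : ℕ → ZMod (2 * m)) hkm
    rw [this]; push_cast; ring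
  have hrr : r * r = i := by
    rw [hr, hi, ← map_mul, QuaternionGroup.a_mul_a]; push_cast; ring_nf
  have hii : i * i = z := by
    rw [hi, hz, ← map_mul, QuaternionGroup.a_mul_a, hmz]; push_cast; ring_nf
  have hzz : z * z = 1 := by
    rw [hz, ← map_mul, QuaternionGroup.a_mul_a, hmz,
      show (4 : ZMod (2 * m)) * k + 4 * k = 0 by linear_combination h8, ← QuaternionGroup.one_def, map_one]
  have hz1 : z ≠ 1 := by
    intro e1
    have h1 : QuaternionGroup.a (m : ZMod (2 * m)) = (1 : QuaternionGroup m) := hf (by rw [map_one]; exact e1)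
    rw [QuaternionGroup.one_def, QuaternionGroup.a.injEq] at h1
    have := Nat.le_of_dvd (by omega) ((ZMod.natCast_eq_zero_iff _ _).1 h1)
    omega
  have hzo : orderOf z = 2 := orderOf_eq_prime (by rw [pow_two, hzz]) hz1
  have hzc : ∀ x : G, x * z = z * x := invol_central h hzo
  have hio : orderOf i = 4 := by
    refine orderOf_eq_prime_pow (p := 2) (n := 1) ?_ ?_
    · rw [show (2 : ℕ) ^ 1 = 2 by norm_num, pow_two, hii]; exact hz1
    · rw [show (2 : ℕ) ^ (1 + 1) = 2 * 2 by norm_num, pow_mul, pow_two i, hii, pow_two, hzz]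
  have hiinv : i⁻¹ = i * z := inv_eq_of_mul_eq_one_right (by rw [← mul_assoc, hii, hzz])
  have hVV : ∀ j, V j * V j = z := fun j => by
    show f _ * f _ = _
    rw [← map_mul, QuaternionGroup.xa_mul_xa, add_sub_cancel_right, hz]
  have hVinv : ∀ j, (V j)⁻¹ = V j * z := fun j => inv_eq_of_mul_eq_one_right (by rw [← mul_assoc, hVV, hzz])
  have hrV : ∀ j, r * V j = V (j - k) := fun j => by
    show f _ * f _ = f _
    rw [← map_mul, QuaternionGroup.a_mul_xa]
  have haV : ∀ j, a * V j = V (j - 1) := fun j => by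
    show f _ * f _ = f _
    rw [← map_mul, QuaternionGroup.a_mul_xa]
  have hVi : ∀ j, V j * i = i * V j * z := fun j => by
    show f _ * f _ = f _ * f _ * f _
    rw [← map_mul, ← map_mul, ← map_mul, QuaternionGroup.xa_mul_a, QuaternionGroup.a_mul_xa,
      QuaternionGroup.xa_mul_a, hmz]
    congr 2; push_cast; ring
  have hVr : ∀ j, V j * r = r * r * r * V j * z := fun j => by
    show f _ * f _ = f _ * f _ * f _ * f _ * f _
    rw [← map_mul, ← map_mul, ← map_mul, ← map_mul, ← map_mul, QuaternionGroup.xa_mul_a, QuaternionGroup.a_mul_a,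
      QuaternionGroup.a_mul_a, QuaternionGroup.a_mul_xa, QuaternionGroup.xa_mul_a, hmz]
    congr 2; push_cast; ring
  have hri : Commute r i := by
    show f _ * f _ = f _ * f _
    rw [← map_mul, ← map_mul, QuaternionGroup.a_mul_a, QuaternionGroup.a_mul_a, add_comm]
  have hai : Commute a i := by
    show f _ * f _ = f _ * f _
    rw [← map_mul, ← map_mul, QuaternionGroup.a_mul_a, QuaternionGroup.a_mul_a, add_comm]
  have hVo : ∀ j, orderOf (V j) = 4 := fun j => by
    rw [show V j = f (QuaternionGroup.xa j) from rfl, orderOf_injective f hf, QuaternionGroup.orderOf_xa]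
  -- elements of order four
  set A := Subgroup.zpowers a with hA
  have hAa : ∀ l : ZMod (2 * m), f (QuaternionGroup.a l) ∈ A := fun l => by
    rw [← ZMod.natCast_zmod_val l, ← QuaternionGroup.a_one_pow, map_pow]
    exact Subgroup.npow_mem_zpowers _ _
  have hA4 : ∀ x ∈ A, orderOf x = 4 → x = i ∨ x = i⁻¹ := by
    intro x hx hxo
    obtain ⟨l, rfl⟩ := mem_powers_iff_mem_zpowers.2 hx
    change orderOf (a ^ l) = 4 at hxo
    show a ^ l = i ∨ a ^ l = i⁻¹
    have h4 : a ^ (l * 4) = 1 := by rw [pow_mul, ← hxo, pow_orderOf_eq_one]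
    have hd := orderOf_dvd_of_pow_eq_one h4
    rw [ha, orderOf_injective f hf, QuaternionGroup.orderOf_a_one, hkm] at hd
    obtain ⟨d, hd⟩ := hd
    have hl : l = 2 * k * d := by nlinarith
    have hai' : a ^ (2 * k) = i := by rw [ha, hi, ← map_pow, QuaternionGroup.a_one_pow]
    have e1 : a ^ l = i ^ d := by rw [hl, pow_mul, hai']
    have h2 : a ^ l ≠ 1 := fun e2 => by rw [e2, orderOf_one] at hxo; omega
    have h2' : (a ^ l) ^ 2 ≠ 1 := fun e2 => by
      have := orderOf_dvd_of_pow_eq_one e2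
      rw [hxo] at this; norm_num at this
    have hd4 := pow_mod_orderOf i d
    rw [hio] at hd4
    rw [e1, ← hd4] at h2 h2' ⊢
    have : d % 4 < 4 := Nat.mod_lt _ (by norm_num)
    generalize d % 4 = q at this h2 h2' ⊢
    interval_cases q
    · exact absurd (pow_zero i) h2
    · exact Or.inl (pow_one i)
    · exact absurd (by rw [← pow_mul, show (2 * 2 : ℕ) = orderOf i by rw [hio], pow_orderOf_eq_one]) h2'
    · refine Or.inr (eq_inv_of_mul_eq_one_left ?_)
      rw [← pow_succ]; simpa [hio] using pow_orderOf_eq_one i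
  have hAS : A ≤ (S : Subgroup G) := Subgroup.zpowers_le.2 ((hfS a).2 ⟨_, rfl⟩)
  have hArel : A.relIndex (S : Subgroup G) = 2 := by
    have h1 := Subgroup.relIndex_mul_relIndex ⊥ A (S : Subgroup G) bot_le hAS
    rw [Subgroup.relIndex_bot_left, Subgroup.relIndex_bot_left, hA, Nat.card_zpowers, ha, orderOf_injective f hf,
      QuaternionGroup.orderOf_a_one] at h1
    have h2 : Nat.card (S : Subgroup G) = 4 * m := by
      rw [Nat.card_congr e.toEquiv, Nat.card_eq_fintype_card, QuaternionGroup.card, hm]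
    rw [h2, show 4 * m = 2 * m * 2 by ring] at h1
    exact Nat.eq_of_mul_eq_mul_left (by omega) h1
  have hVA : ∀ j, V j * i ≠ i * V j := fun j e1 => hz1 (by
    rw [hVi] at e1
    simpa using e1)
  -- every element outside gives a three-cycle
  obtain ⟨nn, θ, hθ⟩ := h
  have hh : HasFpf G := ⟨nn, θ, hθ⟩
  let Good : ZMod (2 * m) → Prop := fun j => ∃ y, ∃ a b c : ℤ, (a = 1 ∨ a = -1) ∧ (b = 1 ∨ b = -1) ∧
    (c = 1 ∨ c = -1) ∧ orderOf y = 3 ∧ θ y = halfSum (θ i) (θ (V j)) a b c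
  let Bad : ZMod (2 * m) → Prop := fun j => ∃ x, orderOf x = 3 ∧ x * i = i * x ∧ x * V j = V j * x
  have hθz : θ z = -1 := theta_invol hθ hzo
  have hθi : θ i * θ i = -1 := by rw [← map_mul, hii, hθz]
  have hθV : ∀ j, θ (V j) * θ (V j) = -1 := fun j => by rw [← map_mul, hVV, hθz]
  have hθVi : ∀ j, θ (V j) * θ i = -(θ i * θ (V j)) := fun j => by
    rw [← map_mul, hVi, map_mul, hθz, mul_neg, mul_one, map_mul]
  have main : ∀ j, Good j ∨ Bad j := by
    intro j
    obtain ⟨g₀, hg₀⟩ := exists_conj_mem hperf S hAS hArel (hVV j) hzc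
      (by rw [hz]; exact hAa _)
    have hgo : orderOf (g₀ * V j * g₀⁻¹) = 4 := by rw [← MulAut.conj_apply, MulEquiv.orderOf_eq, hVo]
    obtain ⟨g, hg⟩ : ∃ g, g * V j * g⁻¹ = i := by
      rcases hA4 _ hg₀ hgo with e1 | e1
      · exact ⟨g₀, e1⟩
      · refine ⟨V 0 * g₀, ?_⟩
        rw [show V 0 * g₀ * V j * (V 0 * g₀)⁻¹ = V 0 * (g₀ * V j * g₀⁻¹) * (V 0)⁻¹ by group, e1, hiinv,
          ← mul_assoc, hVi, mul_assoc (i * V 0) z z, hzz, mul_one, mul_inv_cancel_right]
    set x := g * i * g⁻¹ with hx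
    clear_value x
    have hxo : orderOf x = 2 ^ 2 := by
      rw [hx, ← MulAut.conj_apply, MulEquiv.orderOf_eq, hio]; norm_num
    have hxx : x * x = z := by
      rw [hx, show g * i * g⁻¹ * (g * i * g⁻¹) = g * (i * i) * g⁻¹ by group, hii, hzc, mul_inv_cancel_right]
    have h1 : i * x = x * i * z := by
      have e1 := congrArg (fun t => g * t * g⁻¹) (hVi j)
      rw [show g * (V j * i) * g⁻¹ = g * V j * g⁻¹ * x by rw [hx]; group,
        show g * (i * V j * z) * g⁻¹ = x * (g * V j * g⁻¹) * (g * z * g⁻¹) by rw [hx]; group, hg,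
        hzc, mul_inv_cancel_right] at e1
      exact e1
    have hxi : x * i * x⁻¹ = i⁻¹ := by
      rw [mul_inv_eq_iff_eq_mul, hiinv, mul_assoc i z x, ← hzc, ← mul_assoc, h1, mul_assoc, hzz, mul_one]
    set N := Subgroup.normalizer ((Subgroup.zpowers i) : Set G) with hN
    have hmemN : ∀ s, (s * i * s⁻¹ = i ∨ s * i * s⁻¹ = i⁻¹) → s ∈ N := by
      intro s hs
      rw [hN, Subgroup.mem_normalizer_iff_map_conj_eq, MonoidHom.map_zpowers]
      show Subgroup.zpowers (s * i * s⁻¹) = _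
      rcases hs with e1 | e1 <;> rw [e1]
      rw [Subgroup.zpowers_inv]
    have hSN : (S : Subgroup G) ≤ N := by
      intro s hs
      obtain ⟨q, rfl⟩ := (hfS s).1 hs
      apply hmemN
      rcases q with l | l
      · left
        apply mul_inv_eq_iff_eq_mul.2
        rw [hi, ← map_mul, ← map_mul, QuaternionGroup.a_mul_a, QuaternionGroup.a_mul_a, add_comm]
      · right
        apply mul_inv_eq_iff_eq_mul.2
        show V l * i = i⁻¹ * V l
        rw [hVi, hiinv, mul_assoc i z, ← hzc, ← mul_assoc]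
    obtain ⟨c, hc, hcx⟩ := exists_conj_into_sylow S N hSN (hmemN x (Or.inr hxi)) hxo
    have hci : c * i * c⁻¹ = i ∨ c * i * c⁻¹ = i * z := by
      obtain ⟨l, hl⟩ := mem_powers_iff_mem_zpowers.2
        ((Subgroup.mem_normalizer_iff.1 hc i).1 (Subgroup.mem_zpowers i))
      have hl' : c * i * c⁻¹ = i ^ l := hl.symm
      rcases hA4 (c * i * c⁻¹) (by rw [hl']; exact pow_mem (by rw [hi]; exact hAa _) l)
        (by rw [← MulAut.conj_apply, MulEquiv.orderOf_eq, hio]) with e1 | e1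
      · exact Or.inl e1
      · exact Or.inr (e1.trans hiinv)
    set hc' := c * g with hhc'
    have hhv : hc' * V j * hc'⁻¹ = i ∨ hc' * V j * hc'⁻¹ = i * z := by
      rw [show hc' * V j * hc'⁻¹ = c * (g * V j * g⁻¹) * c⁻¹ by rw [hhc']; group, hg]
      exact hci
    have hhi : hc' * i * hc'⁻¹ = c * x * c⁻¹ := by rw [hhc', hx]; group
    obtain ⟨q, hq⟩ := (hfS _).1 hcx
    rw [← hhi] at hq
    obtain ⟨j', hj'⟩ : ∃ j', hc' * i * hc'⁻¹ = V j' := by
      rcases q with l | l
      · exfalso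
        have hcomm : Commute (hc' * i * hc'⁻¹) i := by
          show _ = _
          rw [← hq, hi, ← map_mul, ← map_mul, QuaternionGroup.a_mul_a, QuaternionGroup.a_mul_a, add_comm]
        have hcomm2 : Commute (hc' * i * hc'⁻¹) (hc' * V j * hc'⁻¹) := by
          rcases hhv with e1 | e1 <;> rw [e1]
          · exact hcomm
          · exact hcomm.mul_right (hzc _)
        apply hVA j
        have := hcomm2.eq
        calc V j * i = hc'⁻¹ * (hc' * V j * hc'⁻¹ * (hc' * i * hc'⁻¹)) * hc' := by group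
          _ = hc'⁻¹ * (hc' * i * hc'⁻¹ * (hc' * V j * hc'⁻¹)) * hc' := by rw [this]
          _ = i * V j := by group
      · exact ⟨l, hq.symm⟩
    have hinvv : hc'⁻¹ * i * hc' = V j ∨ hc'⁻¹ * i * hc' = V j * z := by
      rcases hhv with e1 | e1
      · left; rw [← e1]; group
      · right
        rw [show i = hc' * V j * hc'⁻¹ * z by rw [e1, mul_assoc, hzz, mul_one],
          show hc'⁻¹ * (hc' * V j * hc'⁻¹ * z) * hc' = V j * (hc'⁻¹ * (z * hc')) by group, ← hzc,
          inv_mul_cancel_left]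
    have hrw : r * V j' * r⁻¹ = i * V j' := by
      show f _ * f _ * (f _)⁻¹ = f _ * f _
      rw [← map_inv, ← map_mul, ← map_mul, ← map_mul]
      congr 1
      rw [mul_inv_eq_iff_eq_mul, QuaternionGroup.a_mul_xa, QuaternionGroup.a_mul_xa, QuaternionGroup.xa_mul_a,
        QuaternionGroup.xa.injEq]
      push_cast; ring
    set σ := hc'⁻¹ * r * hc' with hσ
    have hσv : σ * V j * σ⁻¹ = V j := by
      have hrc : r * (hc' * V j * hc'⁻¹) * r⁻¹ = hc' * V j * hc'⁻¹ := by
        apply mul_inv_eq_iff_eq_mul.2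
        rcases hhv with e1 | e1 <;> rw [e1]
        · exact hri.eq
        · exact (hri.mul_right (hzc r)).eq
      rw [show σ * V j * σ⁻¹ = hc'⁻¹ * (r * (hc' * V j * hc'⁻¹) * r⁻¹) * hc' by rw [hσ]; group, hrc]; group
    have hσi : σ * i * σ⁻¹ = V j * i ∨ σ * i * σ⁻¹ = V j * i * z := by
      have e1 : σ * i * σ⁻¹ = hc'⁻¹ * i * hc' * i := by
        rw [show σ * i * σ⁻¹ = hc'⁻¹ * (r * (hc' * i * hc'⁻¹) * r⁻¹) * hc' by rw [hσ]; group, hj', hrw, ← hj']
        group
      rw [e1]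
      rcases hinvv with e2 | e2 <;> rw [e2]
      · exact Or.inl rfl
      · exact Or.inr (by rw [mul_assoc, ← hzc, ← mul_assoc])
    have hrvr : r * V j * r⁻¹ = i * V j := by
      show f _ * f _ * (f _)⁻¹ = f _ * f _
      rw [← map_inv, ← map_mul, ← map_mul, ← map_mul]
      congr 1
      rw [mul_inv_eq_iff_eq_mul, QuaternionGroup.a_mul_xa, QuaternionGroup.a_mul_xa, QuaternionGroup.xa_mul_a,
        QuaternionGroup.xa.injEq]
      push_cast; ring
    have hy2 : r * σ * V j * (r * σ)⁻¹ = i * V j := by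
      rw [show r * σ * V j * (r * σ)⁻¹ = r * (σ * V j * σ⁻¹) * r⁻¹ by group, hσv, hrvr]
    have hivi : i * V j * i = V j := by
      rw [mul_assoc, hVi, ← mul_assoc, ← mul_assoc, hii, ← hzc, mul_assoc, hzz, mul_one]
    have hy1 : r * σ * i * (r * σ)⁻¹ = V j ∨ r * σ * i * (r * σ)⁻¹ = V j * z := by
      have hrir : r * i * r⁻¹ = i := mul_inv_eq_iff_eq_mul.2 hri.eq
      rw [show r * σ * i * (r * σ)⁻¹ = r * (σ * i * σ⁻¹) * r⁻¹ by group]
      have hcj : r * (V j * i) * r⁻¹ = V j := by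
        rw [show r * (V j * i) * r⁻¹ = r * V j * r⁻¹ * (r * i * r⁻¹) by group, hrvr, hrir, hivi]
      rcases hσi with e1 | e1 <;> rw [e1]
      · exact Or.inl hcj
      · right
        rw [show r * (V j * i * z) * r⁻¹ = r * (V j * i) * r⁻¹ * (r * z * r⁻¹) by group, hcj, hzc,
          mul_inv_cancel_right]
    rcases three_cycle hzc hzz hz1 hii (hVV j) (hVi j) hy1 (Or.inl hy2) with
      ⟨y, u, hyo, hu, hyi, hyu⟩ | hbad
    swap
    · exact Or.inr hbad
    left
    obtain ⟨d, hd, hud⟩ : ∃ d : ℤ, (d = 1 ∨ d = -1) ∧ θ u = d • θ (V j) := by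
      rcases hu with rfl | rfl
      · exact ⟨1, Or.inl rfl, (one_smul _ _).symm⟩
      · exact ⟨-1, Or.inr rfl, by rw [map_mul, hθz, mul_neg, mul_one, neg_smul, one_smul]⟩
    have hy1' : θ y * θ i = θ u * θ y := by rw [← map_mul, ← map_mul, mul_inv_eq_iff_eq_mul.1 hyi]
    obtain ⟨ε, hε, hy2'⟩ : ∃ ε : ℤ, (ε = 1 ∨ ε = -1) ∧ θ y * θ u = ε • (θ i * θ u * θ y) := by
      rcases hyu with e1 | e1
      · exact ⟨1, Or.inl rfl, by rw [one_smul, ← map_mul, ← map_mul, ← map_mul, mul_inv_eq_iff_eq_mul.1 e1]⟩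
      · refine ⟨-1, Or.inr rfl, ?_⟩
        rw [neg_smul, one_smul, ← map_mul, mul_inv_eq_iff_eq_mul.1 e1, map_mul, map_mul, map_mul, hθz]
        simp
    have hU : θ u * θ u = -1 := by
      rw [hud, smul_mul_smul_comm, hθV]; rcases hd with rfl | rfl <;> simp
    have hUi : θ u * θ i = -(θ i * θ u) := by
      rw [hud, smul_mul_assoc, hθVi, mul_smul_comm, smul_neg]
    have hY := eq_halfSum hθi hU hUi (sq_add_self hθ hyo) hε hy1' hy2'
    rw [hud, halfSum_smul] at hY
    refine ⟨y, _, _, _, ?_, ?_, ?_, hyo, hY⟩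
    · rcases hε with rfl | rfl <;> simp
    · rcases hε with rfl | rfl <;> rcases hd with rfl | rfl <;> simp
    · rcases hd with rfl | rfl <;> simp
  -- a pair of good elements is impossible
  have hθr : θ r * θ r = θ i := by rw [← map_mul, hrr]
  have hθVr : ∀ j, θ (V j) * θ r = -(θ r * θ r * θ r * θ (V j)) := fun j => by
    rw [← map_mul, hVr, map_mul, map_mul, map_mul, map_mul, hθz, mul_neg, mul_one]
  have both : ∀ j, Good j → Good (j - k) → False := by
    rintro j ⟨y, a₁, b₁, c₁, ha₁, hb₁, hc₁, hyo, hY⟩ ⟨y', a₂, b₂, c₂, ha₂, hb₂, hc₂, hyo', hY'⟩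
    rw [← hrV, map_mul] at hY'
    have fin : ∀ (w : G) (a b c : ℤ), (a = 1 ∨ a = -1) → (b = 1 ∨ b = -1) → (c = 1 ∨ c = -1) → a₁ * a = 1 →
        orderOf w = 3 → θ w = halfSum (θ i) (θ r * θ (V j)) a b c → False := by
      intro w a b c ha hb hc haa hwo hW
      refine key_both hθr hθi (hθV j) (hθVr j) ha₁ hb₁ hc₁ ha hb hc haa hY hW (sq_add_self hθ hyo)
        (sq_add_self hθ hwo) (orderOf_pos (y * w)) ?_
      rw [← map_mul, ← map_pow, pow_orderOf_eq_one, map_one]
    have hcases : a₁ * a₂ = 1 ∨ a₁ * (-a₂) = 1 := by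
      rcases ha₁ with rfl | rfl <;> rcases ha₂ with rfl | rfl <;> norm_num
    rcases hcases with e1 | e1
    · exact fin y' a₂ b₂ c₂ ha₂ hb₂ hc₂ e1 hyo' hY'
    · refine fin y'⁻¹ (-a₂) (-b₂) (-c₂) (by omega) (by omega) (by omega) e1 (by rw [orderOf_inv, hyo']) ?_
      rw [← neg_one_sub_halfSum, ← hY']
      have h3 : y'⁻¹ = y' * y' := inv_eq_of_mul_eq_one_right (by
        rw [← pow_two, ← pow_succ']; simpa [hyo'] using pow_orderOf_eq_one y')
      rw [h3, map_mul]
      linear_combination (norm := abel) sq_add_self hθ hyo'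
  -- a centralised element of order three
  obtain ⟨U, -, hUc, -, hU, -⟩ := odd_part hh hperf hIH (Subgroup.centralizer ({i} : Set G))
    (fun T hT hTp => isCyclic_of_central_four hh hio hTp
      (fun t ht => Subgroup.mem_centralizer_singleton_iff.1 (hT ht)))
  have uniq : ∀ x x' : G, orderOf x = 3 → orderOf x' = 3 → x * i = i * x → x' * i = i * x' →
      x' = x ∨ x' = x * x := by
    intro x x' hxo hxo' hxi hxi'
    have hxU : x ∈ U := (hU x).2 ⟨Subgroup.mem_centralizer_singleton_iff.2 hxi, by rw [hxo]; decide⟩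
    have hxU' : x' ∈ U := (hU x').2 ⟨Subgroup.mem_centralizer_singleton_iff.2 hxi', by rw [hxo']; decide⟩
    haveI := hUc.isMulCommutative
    obtain ⟨l, hl⟩ := mem_powers_iff_mem_zpowers.2 (mem_zpowers_of_commute hh Nat.prime_three hxo' hxo
      (congrArg Subtype.val (mul_comm' (⟨x', hxU'⟩ : U) ⟨x, hxU⟩)))
    have hl' := pow_mod_orderOf x l
    rw [hxo] at hl'
    change x ^ l = x' at hl
    rw [← hl, ← hl']
    have : l % 3 < 3 := Nat.mod_lt _ (by norm_num)
    have hne : x ^ (l % 3) ≠ 1 := fun e1 => by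
      rw [hl'] at e1
      rw [← hl, e1, orderOf_one] at hxo'
      omega
    generalize l % 3 = q at this hne ⊢
    interval_cases q
    · exact absurd (pow_zero x) hne
    · exact Or.inl (pow_one x)
    · exact Or.inr (pow_two x)
  by_cases hbad : ∃ j, Bad j
  swap
  · push Not at hbad
    exact both 0 ((main 0).resolve_right (hbad 0)) ((main _).resolve_right (hbad _))
  obtain ⟨j₀, x, hxo, hxi, hxv⟩ := hbad
  have hxx : ∀ {s : G}, Commute s i → s * x * s⁻¹ = x ∨ s * x * s⁻¹ = x * x := by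
    intro s hs
    refine uniq x _ hxo (by rw [← MulAut.conj_apply, MulEquiv.orderOf_eq, hxo]) hxi ?_
    calc s * x * s⁻¹ * i = s * x * (s⁻¹ * i) := by group
      _ = s * (x * i) * s⁻¹ := by rw [hs.inv_left.eq]; group
      _ = s * (i * x) * s⁻¹ := by rw [hxi]
      _ = s * i * x * s⁻¹ := by group
      _ = i * (s * x * s⁻¹) := by rw [hs.eq]; group
  have hbadx : ∀ j, Bad j → Commute x (V j) := by
    rintro j ⟨x', hxo', hxi', hxv'⟩
    rcases uniq x' x hxo' hxo hxi' hxi with rfl | rfl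
    · exact hxv'
    · exact (show Commute x' (V j) from hxv').mul_left hxv'
  have hxne : x * x ≠ x := fun e1 => by
    rw [mul_eq_left] at e1
    rw [e1, orderOf_one] at hxo; omega
  have hcancel : ∀ {s : G}, Commute x (s * V j₀) → Commute x s := fun {s} h1 => by
    have := h1.mul_right (show Commute x (V j₀) from hxv).inv_right
    rwa [mul_inv_cancel_right] at this
  rcases hxx hri with hrx | hrx
  swap
  · -- `r` inverts `x`
    have hgood := (main (j₀ - k)).resolve_right fun hb => by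
      have h1 := hbadx _ hb
      rw [← hrV] at h1
      exact hxne (hrx.symm.trans (conj_eq_of_comm (hcancel h1).symm.eq))
    obtain ⟨y, a₁, b₁, c₁, ha₁, hb₁, hc₁, hyo, hY⟩ := hgood
    rw [← hrV, map_mul] at hY
    refine key_mixed (x := θ x) hθr hθi (hθV j₀) (hθVr j₀) (sq_add_self hθ hxo)
      (by rw [← map_mul, hxi, map_mul]) (by rw [← map_mul, hxv, map_mul])
      (by rw [← map_mul, mul_inv_eq_iff_eq_mul.1 hrx, map_mul, map_mul]) ha₁ hY (sq_add_self hθ hyo)
      (orderOf_pos (x * y)) ?_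
    rw [← map_mul, ← map_pow, pow_orderOf_eq_one, map_one]
  have hxr : Commute x r := (show Commute r x from mul_inv_eq_iff_eq_mul.1 hrx).symm
  rcases hxx hai with hax | hax
  · -- the whole Sylow subgroup centralises `x`
    have hxa : Commute x a := (show Commute a x from mul_inv_eq_iff_eq_mul.1 hax).symm
    refine not_sylow_centralizes hh hperf hIH S (by norm_num : 3 ≠ 2) hxo fun s hs => ?_
    obtain ⟨q, rfl⟩ := (hfS s).1 hs
    have hl : ∀ l : ZMod (2 * m), Commute x (f (QuaternionGroup.a l)) := fun l => by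
      obtain ⟨l', hl'⟩ := Subgroup.mem_zpowers_iff.1 (hAa l)
      rw [← hl']; exact hxa.zpow_right l'
    rcases q with l | l
    · exact (hl l).symm.eq
    · have e1 : f (QuaternionGroup.a (j₀ - l)) * V j₀ = f (QuaternionGroup.xa l) := by
        show f _ * f _ = f _
        rw [← map_mul, QuaternionGroup.a_mul_xa, sub_sub_cancel]
      rw [← e1]
      exact ((hl _).mul_right hxv).symm.eq
  -- `a` inverts `x`
  have hna : ¬ Commute x a := fun h1 => hxne (hax.symm.trans (conj_eq_of_comm h1.symm.eq))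
  refine both (j₀ - 1) ((main _).resolve_right fun hb => ?_) ((main _).resolve_right fun hb => ?_)
  · have h1 := hbadx _ hb
    rw [← haV] at h1
    exact hna (hcancel h1)
  · have h1 := hbadx _ hb
    rw [← hrV, ← haV] at h1
    have h2 := hxr.inv_right.mul_right h1
    rw [inv_mul_cancel_left] at h2
    exact hna (hcancel h2)

end CfsgLib.Perm.Fpf
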