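import Cfsg.Agent.Perm.ZassenhausOdd
import Mathlib.GroupTheory.SpecificGroups.ZGroup

/-!
Local structure of a perfect group with a fixed-point-free representation.
-/

set_option autoImplicit false
set_option linter.style.haveILetI false

namespace CfsgLib.Perm.Fpf

open Subgroup

variable {G : Type*} [Group G] [Finite G]

/-- A `p`-element normalising a Sylow `p`-subgroup lies in it. -/
theorem mem_sylow_of_normalizes {p k : ℕ} (P : Sylow p G) {g : G} (hg : orderOf g = p ^ k)
    (hn : g ∈ Subgroup.normalizer ((P : Subgroup G) : Set G)) : g ∈ (P : Subgroup G) := by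
  have hR : IsPGroup p (Subgroup.zpowers g) := IsPGroup.of_card (n := k) (by rw [Nat.card_zpowers, hg])
  have h1 : g ∈ Subgroup.zpowers g ⊓ Subgroup.normalizer ((P : Subgroup G) : Set G) :=
    ⟨Subgroup.mem_zpowers g, hn⟩
  exact (le_of_eq (hR.inf_normalizer_sylow P) h1).2

/-- A Sylow two-subgroup of a subgroup containing it absorbs two-elements up to conjugation. -/
theorem exists_conj_into_sylow (S : Sylow 2 G) (N : Subgroup G) (hS : (S : Subgroup G) ≤ N) {g : G}
    (hg : g ∈ N) {k : ℕ} (hk : orderOf g = 2 ^ k) : ∃ c ∈ N, c * g * c⁻¹ ∈ (S : Subgroup G) := by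
  haveI := Fact.mk Nat.prime_two
  obtain ⟨R, hR⟩ := (show IsPGroup 2 (Subgroup.zpowers (⟨g, hg⟩ : N)) from
    IsPGroup.of_card (n := k) (by rw [Nat.card_zpowers, Subgroup.orderOf_mk, hk])).exists_le_sylow
  obtain ⟨c, hc⟩ := MulAction.exists_smul_eq N R (S.subtype hS)
  refine ⟨c, c.2, ?_⟩
  have h1 : c * ⟨g, hg⟩ * c⁻¹ ∈ ((c • R : Sylow 2 N) : Subgroup N) :=
    Subgroup.smul_mem_pointwise_smul _ (MulAut.conj c) _ (hR (Subgroup.mem_zpowers _))
  rw [hc] at h1
  exact h1

/-- An odd element normalising a subgroup of prime power order of another odd prime centralises it. -/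
theorem centralizes_pgroup (h : HasFpf G) (hperf : commutator G = ⊤) (hIH : SmallPerfect G)
    {p q k : ℕ} [hp : Fact p.Prime] [hq : Fact q.Prime] (hp2 : p ≠ 2) (hq2 : q ≠ 2) (hpq : p ≠ q)
    {R : Subgroup G} (hR : IsPGroup p R) {y : G} (hy : orderOf y = q ^ k)
    (hn : y ∈ Subgroup.normalizer (R : Set G)) : ∀ x ∈ R, y * x = x * y := by
  classical
  obtain ⟨P, hRP⟩ := hR.exists_le_sylow
  set C := Subgroup.centralizer (R : Set G) with hC
  haveI := (isCyclic_odd h hp2 P.2).isMulCommutative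
  have hPC : (P : Subgroup G) ≤ C := fun a ha => Subgroup.mem_centralizer_iff.2 fun r hr =>
    (Subgroup.mem_centralizer_iff.1 (Subgroup.le_centralizer (P : Subgroup G) ha) r (hRP hr))
  have hyR : ∀ r ∈ R, y * r * y⁻¹ ∈ R := fun r hr => (Subgroup.mem_normalizer_iff.1 hn r).1 hr
  have hyR' : ∀ r ∈ R, y⁻¹ * r * y ∈ R := fun r hr => by
    simpa using (Subgroup.mem_normalizer_iff.1 (inv_mem hn) r).1 hr
  have hP'C : ∀ a ∈ (P : Subgroup G), y * a * y⁻¹ ∈ C := fun a ha =>
    Subgroup.mem_centralizer_iff.2 fun r hr => by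
      have := Subgroup.mem_centralizer_iff.1 (hPC ha) _ (hyR' r hr)
      calc r * (y * a * y⁻¹) = y * (y⁻¹ * r * y * a) * y⁻¹ := by group
        _ = y * (a * (y⁻¹ * r * y)) * y⁻¹ := by rw [this]
        _ = y * a * y⁻¹ * r := by group
  have hP'le : ((MulAut.conj y • P : Sylow p G) : Subgroup G) ≤ C := by
    intro a ha
    obtain ⟨b, hb, rfl⟩ := (Subgroup.mem_smul_pointwise_iff_exists a (MulAut.conj y) (P : Subgroup G)).1 ha
    exact hP'C b hb
  obtain ⟨c, hc⟩ := MulAction.exists_smul_eq C ((MulAut.conj y • P : Sylow p G).subtype hP'le) (P.subtype hPC)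
  set g := (c : G) * y with hg
  have hgn : g ∈ Subgroup.normalizer ((P : Subgroup G) : Set G) := by
    refine Subgroup.mem_normalizer_iff_map_conj_eq.2 (Subgroup.eq_of_le_of_card_ge ?_ ?_)
    · rintro _ ⟨a, ha, rfl⟩
      have h1 : (⟨y * a * y⁻¹, hP'C a ha⟩ : C) ∈ (((MulAut.conj y • P : Sylow p G).subtype hP'le) : Subgroup C) :=
        Subgroup.smul_mem_pointwise_smul a (MulAut.conj y) (P : Subgroup G) ha
      have h2 := Subgroup.smul_mem_pointwise_smul _ (MulAut.conj c) _ h1
      have h3 : (MulAut.conj c • (⟨y * a * y⁻¹, hP'C a ha⟩ : C)) ∈ ((P.subtype hPC) : Subgroup C) := hc ▸ h2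
      have h4 : (c : G) * (y * a * y⁻¹) * (c : G)⁻¹ ∈ (P : Subgroup G) := h3
      show g * a * g⁻¹ ∈ (P : Subgroup G)
      convert h4 using 1
      rw [hg]; group
    · rw [Subgroup.card_map_of_injective (MulAut.conj g).injective]
  have hact : ∀ i : ℕ, ∀ r ∈ R, g ^ i * r * (g ^ i)⁻¹ = y ^ i * r * (y ^ i)⁻¹ ∧ y ^ i * r * (y ^ i)⁻¹ ∈ R := by
    intro i
    induction i with
    | zero => intro r hr; simpa using hr
    | succ i ih =>
      intro r hr
      obtain ⟨e, hm⟩ := ih r hr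
      have hm' := hyR _ hm
      have hcm := Subgroup.mem_centralizer_iff.1 c.2 _ hm'
      have e2 : y ^ (i + 1) * r * (y ^ (i + 1))⁻¹ = y * (y ^ i * r * (y ^ i)⁻¹) * y⁻¹ := by rw [pow_succ']; group
      refine ⟨?_, e2 ▸ hm'⟩
      calc g ^ (i + 1) * r * (g ^ (i + 1))⁻¹ = g * (g ^ i * r * (g ^ i)⁻¹) * g⁻¹ := by rw [pow_succ']; group
        _ = (c : G) * (y * (y ^ i * r * (y ^ i)⁻¹) * y⁻¹) * (c : G)⁻¹ := by rw [e, hg]; group
        _ = y * (y ^ i * r * (y ^ i)⁻¹) * y⁻¹ := by rw [← hcm, mul_inv_cancel_right]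
        _ = _ := e2.symm
  obtain ⟨a, b, hqb, hab⟩ := Nat.exists_eq_pow_mul_and_not_dvd (orderOf_pos g).ne' q hq.out.ne_one
  have hb0 : b ≠ 0 := fun e => hqb (e ▸ dvd_zero q)
  have hgb : orderOf (g ^ b) = q ^ a := by
    rw [orderOf_pow, hab, Nat.gcd_eq_right (dvd_mul_left b _), Nat.mul_div_cancel _ (Nat.pos_of_ne_zero hb0)]
  intro r hr
  have h1 := centralizes_sylow h hperf hIH hp2 hq2 hpq P hgb (pow_mem hgn b) r (hRP hr)
  have h2 : Commute (y ^ b) r := by
    refine mul_inv_eq_iff_eq_mul.1 ?_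
    rw [← ((hact b r hr).1), conj_eq_of_comm h1]
  obtain ⟨m, hm⟩ := exists_pow_eq_self_of_coprime (x := y) (n := b) (by
    rw [hy]; exact ((Nat.Prime.coprime_iff_not_dvd hq.out).2 hqb).symm.pow_right k)
  have := h2.pow_left m
  rw [hm] at this
  exact this

/-- Subgroups of odd order are cyclic. -/
theorem isCyclic_of_odd_card (h : HasFpf G) (hperf : commutator G = ⊤) (hIH : SmallPerfect G)
    (U : Subgroup G) (ho : Odd (Nat.card U)) : IsCyclic U := by
  classical
  haveI : IsZGroup U := isZGroup_of_odd (h.of_injective U.subtype U.subtype_injective) ho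
  suffices hc : commutator U ≤ Subgroup.center U by
    haveI : Group.IsNilpotent U := Subgroup.isNilpotent_of_ker_le_center (Abelianization.of (G := U))
      (by rw [Abelianization.ker_of]; exact hc)
    infer_instance
  haveI := (IsZGroup.isCyclic_commutator (G := U)).isMulCommutative
  have htop : (Subgroup.center U).subgroupOf (commutator U) = ⊤ := by
    refine eq_top_of_primary _ fun p hp R => ?_
    haveI := Fact.mk hp
    haveI hRn : (R : Subgroup (commutator U)).Normal := ⟨fun n hn g => by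
      rwa [mul_comm' g n, mul_inv_cancel_right]⟩
    haveI := R.characteristic_of_normal hRn
    set R₁ := (R : Subgroup (commutator U)).map (commutator U).subtype with hR₁
    haveI hR₁n : R₁.Normal := ConjAct.normal_of_characteristic_of_normal
    have hR₁p : IsPGroup p R₁ := R.2.map _
    intro w hw
    rw [Subgroup.mem_subgroupOf, Subgroup.mem_center_iff]
    have hw₁ : (w : U) ∈ R₁ := ⟨w, hw, rfl⟩
    by_cases hw1 : (w : U) = 1
    · intro u; rw [hw1, mul_one, one_mul]
    have hp2 : p ≠ 2 := by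
      rintro rfl
      obtain ⟨j, hj⟩ := IsPGroup.iff_orderOf.1 hR₁p ⟨_, hw₁⟩
      rw [Subgroup.orderOf_mk] at hj
      rcases Nat.eq_zero_or_pos j with rfl | hj0
      · exact hw1 (orderOf_eq_one_iff.1 hj)
      · have : 2 ∣ Nat.card U := (hj ▸ dvd_pow_self 2 hj0.ne').trans (orderOf_dvd_natCard _)
        exact Nat.not_even_iff_odd.2 ho (even_iff_two_dvd.2 this)
    intro u
    have htop₂ : Subgroup.centralizer ({(w : U)} : Set U) = ⊤ := by
      refine eq_top_of_primary _ fun q hq Q => ?_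
      haveI := Fact.mk hq
      intro y hy
      rw [Subgroup.mem_centralizer_singleton_iff]
      by_cases hy1 : y = 1
      · rw [hy1, one_mul, mul_one]
      by_cases hqp : q = p
      · subst hqp
        have hle : R₁ ≤ (Q : Subgroup U) := by
          have := Q.is_maximal' (Q.2.to_sup_of_normal_right hR₁p) le_sup_left
          exact this ▸ le_sup_right
        haveI := (isCyclic_odd (h.of_injective U.subtype U.subtype_injective) hp2 Q.2).isMulCommutative
        exact (Subgroup.mem_centralizer_iff.1 (Subgroup.le_centralizer (Q : Subgroup U) hy) _ (hle hw₁)).symm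
      obtain ⟨j, hj⟩ := IsPGroup.iff_orderOf.1 Q.2 ⟨y, hy⟩
      rw [Subgroup.orderOf_mk] at hj
      have hq2 : q ≠ 2 := by
        rintro rfl
        rcases Nat.eq_zero_or_pos j with rfl | hj0
        · exact hy1 (orderOf_eq_one_iff.1 hj)
        · have : 2 ∣ Nat.card U := (hj ▸ dvd_pow_self 2 hj0.ne').trans (orderOf_dvd_natCard _)
          exact Nat.not_even_iff_odd.2 ho (even_iff_two_dvd.2 this)
      have hn : (y : G) ∈ Subgroup.normalizer ((R₁.map U.subtype) : Set G) := by
        have : (⊤ : Subgroup U).map U.subtype ≤ Subgroup.normalizer ((R₁.map U.subtype) : Set G) := by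
          rw [← Subgroup.normalizer_eq_top (H := R₁)]
          exact Subgroup.le_normalizer_map U.subtype
        exact this ⟨y, trivial, rfl⟩
      exact Subtype.ext (centralizes_pgroup h hperf hIH hp2 hq2 (fun e => hqp e.symm) (hR₁p.map U.subtype)
        (by rw [Subgroup.orderOf_coe, hj]) hn (w : U) ⟨_, hw₁, rfl⟩)
    have : u ∈ Subgroup.centralizer ({(w : U)} : Set U) := htop₂ ▸ Subgroup.mem_top u
    exact Subgroup.mem_centralizer_singleton_iff.1 this
  exact fun z hz => Subgroup.mem_subgroupOf.1 (show (⟨z, hz⟩ : commutator U) ∈ _ from htop ▸ Subgroup.mem_top _)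

/-- Some two-element of the normaliser moves every element of an odd Sylow subgroup. -/
theorem exists_two_mover (h : HasFpf G) (hperf : commutator G = ⊤) (hIH : SmallPerfect G)
    {p : ℕ} [hp : Fact p.Prime] (hp2 : p ≠ 2) (hd : p ∣ Nat.card G) (P : Sylow p G) :
    ∃ g ∈ Subgroup.normalizer ((P : Subgroup G) : Set G), (∃ k, orderOf g = 2 ^ k) ∧
      ∀ x ∈ (P : Subgroup G), x ≠ 1 → g * x ≠ x * g := by
  classical
  have hPc := isCyclic_odd h hp2 P.2
  suffices ∃ g ∈ Subgroup.normalizer ((P : Subgroup G) : Set G), (∃ k, orderOf g = 2 ^ k) ∧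
      ∃ x ∈ (P : Subgroup G), g * x ≠ x * g by
    obtain ⟨g, hg, ⟨k, hk⟩, x₀, hx₀, hne⟩ := this
    refine ⟨g, hg, ⟨k, hk⟩, fun x hx hx1 hc => hne ?_⟩
    exact centralizes_cyclic P.2 hPc hg (e := 2 ^ k) (fun hd2 => hp2
      ((Nat.prime_dvd_prime_iff_eq hp.out Nat.prime_two).1 (hp.out.dvd_of_dvd_pow hd2)))
      (fun w _ => by rw [← hk, pow_orderOf_eq_one, one_mul, mul_one]) hx hx1 hc x₀ hx₀
  obtain ⟨g₀, hg₀, hmove⟩ := exists_moving hperf hd P
  generalize hN : orderOf g₀ = N
  induction N using Nat.strong_induction_on generalizing g₀ with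
  | _ N ih =>
    obtain ⟨x, hx, hne⟩ := hmove
    have hg1 : g₀ ≠ 1 := fun e => hne (by rw [e, one_mul, mul_one])
    have hN0 : N ≠ 0 := hN ▸ (orderOf_pos g₀).ne'
    obtain ⟨q, hq, hqd⟩ := Nat.exists_prime_and_dvd (n := N) (fun e => hg1 (orderOf_eq_one_iff.1 (hN.trans e)))
    obtain ⟨a, b, hqb, hab⟩ := Nat.exists_eq_pow_mul_and_not_dvd hN0 q hq.ne_one
    by_cases hb1 : b = 1
    · haveI := Fact.mk hq
      rw [hb1, mul_one] at hab
      by_cases hq2 : q = 2
      · exact ⟨g₀, hg₀, ⟨a, by rw [hN, hab, hq2]⟩, x, hx, hne⟩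
      exfalso
      by_cases hqp : p = q
      · subst hqp
        haveI := hPc.isMulCommutative
        exact hne (Subgroup.mem_centralizer_iff.1 (Subgroup.le_centralizer (P : Subgroup G) hx) _
          (mem_sylow_of_normalizes P (hN.trans hab) hg₀))
      · exact hne (centralizes_sylow h hperf hIH hp2 hq2 hqp P (hN.trans hab) hg₀ x hx)
    have hb0 : b ≠ 0 := fun e => hqb (e ▸ dvd_zero q)
    have ha0 : a ≠ 0 := fun e => hqb (by rw [hab, e, pow_zero, one_mul] at hqd; exact hqd)
    have hqa : 2 ≤ q ^ a := hq.two_le.trans (Nat.le_self_pow ha0 q)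
    have ho1 : orderOf (g₀ ^ b) = q ^ a := by
      rw [orderOf_pow, hN, hab, Nat.gcd_eq_right (dvd_mul_left b _), Nat.mul_div_cancel _ (Nat.pos_of_ne_zero hb0)]
    have ho2 : orderOf (g₀ ^ (q ^ a)) = b := by
      rw [orderOf_pow, hN, hab, Nat.gcd_eq_right (dvd_mul_right _ b), Nat.mul_div_cancel_left _ (by omega)]
    by_cases h1 : g₀ ^ b * x = x * g₀ ^ b
    · by_cases h2 : g₀ ^ (q ^ a) * x = x * g₀ ^ (q ^ a)
      · exfalso
        refine hne ?_
        obtain ⟨m, n, hmn⟩ := Nat.isCoprime_iff_coprime.2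
          (show Nat.Coprime (q ^ a : ℕ) b from ((Nat.Prime.coprime_iff_not_dvd hq).2 hqb).pow_left a)
        have e : g₀ = (g₀ ^ (q ^ a)) ^ m * (g₀ ^ b) ^ n := by
          rw [← zpow_natCast, ← zpow_natCast, ← zpow_mul, ← zpow_mul, ← zpow_add,
            show ((q ^ a : ℕ) : ℤ) * m + (b : ℤ) * n = 1 by linear_combination hmn, zpow_one]
        rw [e]
        exact ((Commute.zpow_left h2 m).mul_left (Commute.zpow_left h1 n))
      · exact ih b (by rw [hab]; nlinarith [Nat.pos_of_ne_zero hb0]) _ (pow_mem hg₀ _) ⟨x, hx, h2⟩ ho2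
    · refine ih (q ^ a) (by
        rw [hab]
        have : 2 ≤ b := by omega
        nlinarith) _ (pow_mem hg₀ _) ⟨x, hx, h1⟩ ho1

/-- An element of order three or larger prime is not centralised by a Sylow two-subgroup. -/
theorem not_sylow_centralizes (h : HasFpf G) (hperf : commutator G = ⊤) (hIH : SmallPerfect G)
    (S : Sylow 2 G) {p : ℕ} [hp : Fact p.Prime] (hp2 : p ≠ 2) {x : G} (hx : orderOf x = p) :
    ¬ ∀ s ∈ (S : Subgroup G), s * x = x * s := by
  intro hS
  haveI := Fact.mk Nat.prime_two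
  obtain ⟨P, hP⟩ := (show IsPGroup p (Subgroup.zpowers x) from
    IsPGroup.of_card (n := 1) (by rw [Nat.card_zpowers, hx, pow_one])).exists_le_sylow
  have hxP := hP (Subgroup.mem_zpowers x)
  have hx1 : x ≠ 1 := fun e => by rw [e, orderOf_one] at hx; exact hp.out.ne_one hx.symm
  obtain ⟨g, hg, ⟨k, hk⟩, hmove⟩ := exists_two_mover h hperf hIH hp2 (hx ▸ orderOf_dvd_natCard x) P
  set N := Subgroup.normalizer ((Subgroup.zpowers x) : Set G) with hN
  have hconj : g * x * g⁻¹ ∈ Subgroup.zpowers x := by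
    have h1 : g * x * g⁻¹ ∈ (P : Subgroup G) := (Subgroup.mem_normalizer_iff.1 hg x).1 hxP
    have h2 := pGroup_unique h (P : Subgroup G) P.2 ⟨x, hxP⟩ ⟨_, h1⟩ (by rw [Subgroup.orderOf_mk, hx])
      (by rw [Subgroup.orderOf_mk, ← MulAut.conj_apply, MulEquiv.orderOf_eq, hx])
    obtain ⟨i, hi⟩ := Subgroup.mem_zpowers_iff.1 h2
    exact Subgroup.mem_zpowers_iff.2 ⟨i, by simpa using congrArg Subtype.val hi⟩
  have hgN : g ∈ N := by
    rw [hN, Subgroup.mem_normalizer_iff_map_conj_eq, MonoidHom.map_zpowers]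
    refine Subgroup.eq_of_le_of_card_ge (Subgroup.zpowers_le.2 hconj) (le_of_eq ?_)
    rw [Nat.card_zpowers, Nat.card_zpowers]
    exact (MulEquiv.orderOf_eq (MulAut.conj g) x).symm
  have hSN : (S : Subgroup G) ≤ N := fun s hs => by
    rw [hN, Subgroup.mem_normalizer_iff_map_conj_eq, MonoidHom.map_zpowers]
    show Subgroup.zpowers (s * x * s⁻¹) = _
    rw [conj_eq_of_comm (hS s hs)]
  obtain ⟨c, hc, hcg⟩ := exists_conj_into_sylow S N hSN hgN hk
  obtain ⟨i, hi⟩ := Subgroup.mem_zpowers_iff.1 ((Subgroup.mem_normalizer_iff.1 hc x).1 (Subgroup.mem_zpowers x))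
  refine hmove x hxP hx1 ?_
  have h1 : Commute (c * g * c⁻¹) (c * x * c⁻¹) := hi ▸ (Commute.zpow_right (hS _ hcg) i)
  have h2 := h1.eq
  calc g * x = c⁻¹ * (c * g * c⁻¹ * (c * x * c⁻¹)) * c := by group
    _ = c⁻¹ * (c * x * c⁻¹ * (c * g * c⁻¹)) * c := by rw [h2]
    _ = x * g := by group

/-- The Sylow two-subgroups are generalised quaternion. -/
theorem sylow_quaternion (h : HasFpf G) (hperf : commutator G = ⊤) [Nontrivial G] (S : Sylow 2 G) :
    ∃ n : ℕ, Nonempty ((S : Subgroup G) ≃* QuaternionGroup (2 ^ (n + 1))) := by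
  haveI := Fact.mk Nat.prime_two
  refine (cyclic_or_quaternion h S.2).resolve_left fun hc => ?_
  have hd := even_of_perfect h hperf
  have hmin : (Nat.card G).minFac = 2 := by rw [Nat.minFac_eq_two_iff]; exact hd
  exact not_hnpc hperf hd ⟨S, _, inferInstance, hc.isComplement' hmin⟩

/-- A two-group centralising an element of order four is cyclic. -/
theorem isCyclic_of_central_four (h : HasFpf G) {i : G} (hi : orderOf i = 4) {T : Subgroup G}
    (hT : IsPGroup 2 T) (hc : ∀ t ∈ T, t * i = i * t) : IsCyclic T := by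
  haveI := Fact.mk Nat.prime_two
  have hZ : IsPGroup 2 (Subgroup.zpowers i) := IsPGroup.of_card (n := 2) (by rw [Nat.card_zpowers, hi]; norm_num)
  have hTn : T ≤ Subgroup.normalizer ((Subgroup.zpowers i) : Set G) := fun t ht => by
    rw [Subgroup.mem_normalizer_iff_map_conj_eq, MonoidHom.map_zpowers]
    show Subgroup.zpowers (t * i * t⁻¹) = _
    rw [conj_eq_of_comm (hc t ht)]
  have hsup : IsPGroup 2 (T ⊔ Subgroup.zpowers i : Subgroup G) := hT.to_sup_of_normal_right' hZ hTn
  rcases cyclic_or_quaternion h hsup with hcyc | ⟨n, ⟨e⟩⟩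
  · haveI := hcyc
    exact isCyclic_of_injective (Subgroup.inclusion (le_sup_left : T ≤ T ⊔ Subgroup.zpowers i))
      (Subgroup.inclusion_injective _)
  exfalso
  set j : (T ⊔ Subgroup.zpowers i : Subgroup G) :=
    ⟨i, (le_sup_right : Subgroup.zpowers i ≤ _) (Subgroup.mem_zpowers i)⟩ with hj
  have hjc : ∀ s, s * j = j * s := by
    intro s
    have hle : T ⊔ Subgroup.zpowers i ≤ Subgroup.centralizer ({i} : Set G) :=
      sup_le (fun t ht => Subgroup.mem_centralizer_singleton_iff.2 (hc t ht))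
        (Subgroup.zpowers_le.2 (Subgroup.mem_centralizer_singleton_iff.2 rfl))
    exact Subtype.ext (Subgroup.mem_centralizer_singleton_iff.1 (hle s.2))
  have hjo : orderOf (e j) = 4 := by rw [MulEquiv.orderOf_eq, hj, Subgroup.orderOf_mk, hi]
  have hec : ∀ q, q * e j = e j * q := fun q => by
    have := congrArg e (hjc (e.symm q))
    simpa using this
  haveI : NeZero (2 ^ (n + 1)) := ⟨by positivity⟩
  have h2m : (2 : ZMod (2 * (2 ^ (n + 1)))) ≠ 0 := by
    intro e2
    have : ((2 : ℕ) : ZMod (2 * (2 ^ (n + 1)))) = 0 := by exact_mod_cast e2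
    have := Nat.le_of_dvd two_pos ((ZMod.natCast_eq_zero_iff _ _).1 this)
    have : 2 ≤ (2 ^ (n + 1)) := Nat.le_self_pow (by omega) 2
    omega
  rcases hq : e j with k | k
  · have h1 := hec (QuaternionGroup.xa 0)
    rw [hq, QuaternionGroup.xa_mul_a, QuaternionGroup.a_mul_xa, QuaternionGroup.xa.injEq] at h1
    have h2 : (e j) ^ 2 = 1 := by
      rw [hq, pow_two, QuaternionGroup.a_mul_a, QuaternionGroup.one_def]
      congr 1; linear_combination h1
    have := orderOf_dvd_of_pow_eq_one h2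
    rw [hjo] at this; norm_num at this
  · have h1 := hec (QuaternionGroup.a 1)
    rw [hq, QuaternionGroup.xa_mul_a, QuaternionGroup.a_mul_xa, QuaternionGroup.xa.injEq] at h1
    exact h2m (by linear_combination -h1)

/-- A subgroup with cyclic two-subgroups: its odd elements form a cyclic subgroup with a two-group
complement. -/
theorem odd_part (h : HasFpf G) (hperf : commutator G = ⊤) (hIH : SmallPerfect G) (C : Subgroup G)
    (hT : ∀ T : Subgroup G, T ≤ C → IsPGroup 2 T → IsCyclic T) :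
    ∃ U : Subgroup G, U ≤ C ∧ IsCyclic U ∧ Odd (Nat.card U) ∧ (∀ x, x ∈ U ↔ x ∈ C ∧ Odd (orderOf x)) ∧
      ∃ T : Subgroup G, T ≤ C ∧ IsPGroup 2 T ∧ IsCyclic T ∧ U ⊔ T = C ∧ Nat.card U * Nat.card T = Nat.card C := by
  classical
  haveI := Fact.mk Nat.prime_two
  by_cases hev : 2 ∣ Nat.card C
  swap
  · have ho : Odd (Nat.card C) := Nat.not_even_iff_odd.1 fun e => hev (even_iff_two_dvd.1 e)
    refine ⟨C, le_rfl, isCyclic_of_odd_card h hperf hIH C ho, ho, fun x => ⟨fun hx => ⟨hx, ?_⟩, fun hx => hx.1⟩,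
      ⊥, bot_le, IsPGroup.of_bot, inferInstance, sup_bot_eq C, by rw [Subgroup.card_bot, mul_one]⟩
    exact ho.of_dvd_nat (Subgroup.orderOf_dvd_natCard C hx)
  obtain ⟨T₀⟩ : Nonempty (Sylow 2 C) := inferInstance
  have hmin : (Nat.card C).minFac = 2 := by rw [Nat.minFac_eq_two_iff]; exact hev
  set T := (T₀ : Subgroup C).map C.subtype with hTdef
  have hTC : T ≤ C := Subgroup.map_subtype_le _
  have hTp : IsPGroup 2 T := T₀.2.map _
  have hTc : IsCyclic T := hT T hTC hTp
  haveI hT₀c : IsCyclic (T₀ : Subgroup C) :=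
    ((Subgroup.equivMapOfInjective _ C.subtype C.subtype_injective).isCyclic).2 hTc
  have hcomp := hT₀c.isComplement' hmin
  set K := (MonoidHom.transferSylow T₀ (hT₀c.normalizer_le_centralizer hmin)).ker with hK
  have hKo : Odd (Nat.card K) := by
    rw [← Nat.not_even_iff_odd, even_iff_two_dvd, ← hcomp.index_eq_card]
    exact T₀.not_dvd_index
  set U := K.map C.subtype with hU
  have hUc : Nat.card U = Nat.card K := Subgroup.card_map_of_injective C.subtype_injective
  refine ⟨U, Subgroup.map_subtype_le _, isCyclic_of_odd_card h hperf hIH U (hUc ▸ hKo), hUc ▸ hKo,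
    fun x => ⟨fun hx => ⟨Subgroup.map_subtype_le _ hx, ?_⟩, fun ⟨hxC, hxo⟩ => ?_⟩, T, hTC, hTp, hTc, ?_, ?_⟩
  · exact (hUc ▸ hKo : Odd (Nat.card U)).of_dvd_nat (Subgroup.orderOf_dvd_natCard U hx)
  · refine ⟨⟨x, hxC⟩, ?_, rfl⟩
    have hquot : orderOf (QuotientGroup.mk' K (⟨x, hxC⟩ : C)) ∣ Nat.card (T₀ : Subgroup C) := by
      rw [← hcomp.symm.index_eq_card, Subgroup.index_eq_card]
      exact orderOf_dvd_natCard _
    have hdx : orderOf (QuotientGroup.mk' K (⟨x, hxC⟩ : C)) ∣ orderOf x := by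
      have := orderOf_map_dvd (QuotientGroup.mk' K) (⟨x, hxC⟩ : C)
      rwa [Subgroup.orderOf_mk] at this
    obtain ⟨k, hk⟩ := IsPGroup.iff_card.1 T₀.2
    rw [hk] at hquot
    have h1 := Nat.dvd_gcd hquot hdx
    rw [Nat.Coprime.pow_left k (Nat.coprime_two_left.2 hxo), Nat.dvd_one, orderOf_eq_one_iff] at h1
    exact (QuotientGroup.eq_one_iff _).1 h1
  · rw [hU, hTdef, ← Subgroup.map_sup, hcomp.sup_eq_top, ← MonoidHom.range_eq_map, Subgroup.range_subtype]
  · rw [hUc, hTdef, Subgroup.card_map_of_injective C.subtype_injective, hcomp.card_mul]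

end CfsgLib.Perm.Fpf
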