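import Cfsg.Agent.Perm.ZassenhausAct

/-!
Odd elements centralise the Sylow subgroups of other odd primes which they normalise.
-/

set_option autoImplicit false
set_option linter.style.haveILetI false

namespace CfsgLib.Perm.Fpf

open Subgroup

variable {G : Type*} [Group G] [Finite G]

/-- Every proper nontrivial perfect subgroup has order 120. -/
def SmallPerfect (G : Type*) [Group G] : Prop :=
  ∀ L : Subgroup G, L ≠ ⊤ → L ≠ ⊥ → ⁅L, L⁆ = L → Nat.card L = 120

theorem perfect_subtype {L : Subgroup G} (h : ⁅L, L⁆ = L) : commutator L = ⊤ := by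
  apply Subgroup.map_injective L.subtype_injective
  rw [Subgroup.map_subtype_commutator, ← MonoidHom.range_eq_map, Subgroup.range_subtype, h]

theorem sylow_normal_of_nilpotent {F : Type*} [Group F] [Finite F] [hF : Group.IsNilpotent F] {r : ℕ}
    [hr : Fact r.Prime] (R : Sylow r F) : (R : Subgroup F).Normal :=
  ((Group.isNilpotent_of_finite_tfae (G := F)).out 0 3 rfl rfl).1 hF r hr R

theorem exists_perfect {C : Subgroup G} (hC : ¬ Group.IsSolvable C) :
    ∃ L : Subgroup G, L ≤ C ∧ L ≠ ⊥ ∧ ⁅L, L⁆ = L ∧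
      ∀ g ∈ Subgroup.normalizer (C : Set G), ∀ x ∈ L, g * x * g⁻¹ ∈ L := by
  classical
  let f : ℕ → Subgroup G := fun n => (derivedSeries C n).map C.subtype
  obtain ⟨_, ⟨n, rfl⟩, hmin⟩ := (Set.toFinite (Set.range f)).exists_minimal ⟨f 0, 0, rfl⟩
  have hsucc : ∀ k, f (k + 1) = ⁅f k, f k⁆ := fun k => by
    show (derivedSeries C (k + 1)).map C.subtype = _
    rw [derivedSeries_succ, Subgroup.map_commutator]
  have hfix : ⁅f n, f n⁆ = f n := by
    have hle : f (n + 1) ≤ f n := Subgroup.map_mono (derivedSeries_antitone C (Nat.le_succ n))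
    rw [← hsucc]
    exact le_antisymm hle (hmin ⟨n + 1, rfl⟩ hle)
  refine ⟨f n, Subgroup.map_subtype_le _, fun hb => hC ?_, hfix, ?_⟩
  · refine (Group.isSolvable_def C).2 ⟨n, ?_⟩
    exact (Subgroup.map_eq_bot_iff_of_injective _ C.subtype_injective).1 hb
  · intro g hg x hx
    have key : ∀ k, ∀ x ∈ f k, g * x * g⁻¹ ∈ f k := by
      intro k
      induction k with
      | zero =>
        intro x hx
        simp only [f, derivedSeries_zero, ← MonoidHom.range_eq_map, Subgroup.range_subtype] at hx ⊢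
        exact (Subgroup.mem_normalizer_iff.1 hg x).1 hx
      | succ k ih =>
        intro x hx
        rw [hsucc] at hx ⊢
        have hle : (⁅f k, f k⁆).map (MulAut.conj g).toMonoidHom ≤ ⁅f k, f k⁆ := by
          rw [Subgroup.map_commutator]
          have : (f k).map (MulAut.conj g).toMonoidHom ≤ f k := by
            rintro _ ⟨y, hy, rfl⟩
            exact ih y hy
          exact Subgroup.commutator_mono this this
        exact hle ⟨x, hx, rfl⟩
    exact key n x hx

/-- An element of a perfect subgroup, of order a Sylow prime, is not central in it. -/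
theorem not_central (h : HasFpf G) {L : Subgroup G} (hperf : ⁅L, L⁆ = L) {p : ℕ} [hp : Fact p.Prime]
    (hp2 : p ≠ 2) {x : G} (hx : x ∈ L) (hxo : orderOf x = p) : ¬ ∀ l ∈ L, l * x = x * l := by
  intro hc
  have hL : HasFpf L := h.of_injective L.subtype L.subtype_injective
  have hxo' : orderOf (⟨x, hx⟩ : L) = p := by rw [Subgroup.orderOf_mk, hxo]
  obtain ⟨Q, hQ⟩ := (show IsPGroup p (Subgroup.zpowers (⟨x, hx⟩ : L)) from
    IsPGroup.of_card (n := 1) (by rw [Nat.card_zpowers, hxo', pow_one])).exists_le_sylow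
  obtain ⟨g, hg, u, hu, hgu⟩ := exists_moving (perfect_subtype hperf) (hxo' ▸ orderOf_dvd_natCard _) Q
  refine hgu ?_
  set e := ((Subgroup.centralizer ((Q : Subgroup L) : Set L)).subgroupOf
    (Subgroup.normalizer ((Q : Subgroup L) : Set L))).index with he
  have hQc : (Q : Subgroup L) ≤ Subgroup.centralizer ((Q : Subgroup L) : Set L) := by
    have hcyc := isCyclic_odd hL hp2 Q.2
    haveI := hcyc.isMulCommutative
    exact Subgroup.le_centralizer _
  have hpe : ¬ p ∣ e := fun hd => Q.not_dvd_index (hd.trans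
    ((Subgroup.relIndex_dvd_of_le_left _ hQc).trans
      (Subgroup.relIndex_dvd_index_of_le Subgroup.le_normalizer)))
  refine centralizes_cyclic Q.2 (isCyclic_odd hL hp2 Q.2) hg (e := e) hpe (fun y hy => ?_)
    (hQ (Subgroup.mem_zpowers _)) (fun e1 => ?_) (Subtype.ext (hc _ (g : L).2)) u hu
  · have := Subgroup.pow_index_mem ((Subgroup.centralizer ((Q : Subgroup L) : Set L)).subgroupOf
      (Subgroup.normalizer ((Q : Subgroup L) : Set L))) ⟨g, hg⟩
    rw [Subgroup.mem_subgroupOf] at this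
    exact (Subgroup.mem_centralizer_iff.1 this y hy).symm
  · rw [e1, orderOf_one] at hxo'
    exact hp.out.ne_one hxo'.symm

/-- An element of prime order at least seven power order normalising a perfect group of order 120
centralises it. -/
theorem centralizes_of_small (L : Subgroup G) (hperf : ⁅L, L⁆ = L) (hc : Nat.card L = 120) {q k : ℕ}
    (hq : q.Prime) (hq7 : 7 ≤ q) {y : G} (hy : orderOf y = q ^ k)
    (hn : y ∈ Subgroup.normalizer (L : Set G)) : ∀ l ∈ L, y * l = l * y := by
  classical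
  haveI : Fact (Nat.Prime 5) := ⟨by norm_num⟩
  haveI := Fact.mk hq
  letI := Fintype.ofFinite (Sylow 5 L)
  set φ : MulAut L := Subgroup.normalizerMonoidHom L ⟨y, hn⟩ with hφdef
  have hφ : ∀ l : L, ((φ l : L) : G) = y * l * y⁻¹ := fun l => rfl
  have hφq : φ ^ (q ^ k) = 1 := by
    rw [hφdef, ← map_pow, show (⟨y, hn⟩ : Subgroup.normalizer (L : Set G)) ^ (q ^ k) = 1 from
      Subtype.ext (by rw [SubgroupClass.coe_pow, ← hy]; exact pow_orderOf_eq_one y), map_one]
  have hn5 : Nat.card (Sylow 5 L) ≤ 6 := by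
    obtain ⟨P⟩ : Nonempty (Sylow 5 L) := inferInstance
    have h5 : Nat.card (P : Subgroup L) = 5 := by
      rw [Sylow.card_eq_multiplicity, hc]
      have : (120 : ℕ).factorization 5 = 1 := by
        rw [show (120 : ℕ) = 5 * 24 by norm_num, Nat.factorization_mul (by norm_num) (by norm_num)]
        simp [Nat.Prime.factorization_self (by norm_num : Nat.Prime 5),
          Nat.factorization_eq_zero_of_not_dvd (by norm_num : ¬ 5 ∣ 24)]
      rw [this, pow_one]
    have hd : Nat.card (Sylow 5 L) ∣ 24 := by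
      have := Sylow.card_dvd_index P
      have hi : (P : Subgroup L).index = 24 := by
        have := (P : Subgroup L).card_mul_index
        rw [h5, hc] at this
        omega
      rwa [hi] at this
    have hmod := card_sylow_modEq_one 5 L
    rw [Nat.ModEq] at hmod
    have hle := Nat.le_of_dvd (by norm_num) hd
    generalize Nat.card (Sylow 5 L) = n at hd hmod hle ⊢
    by_contra hlt
    interval_cases n <;> omega
  -- every element of order five is fixed
  have hfix : ∀ x : L, orderOf x = 5 → φ x = x := by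
    intro x hx
    obtain ⟨P, hP⟩ := (show IsPGroup 5 (Subgroup.zpowers x) from
      IsPGroup.of_card (n := 1) (by rw [Nat.card_zpowers, hx, pow_one])).exists_le_sylow
    have hZ : ∀ z ∈ (Subgroup.zpowers x), ∀ (R : Sylow 5 L), (Subgroup.zpowers x) ≤ R → z ∈ (R : Subgroup L) :=
      fun z hz R hR => hR hz
    have hP5 : (P : Subgroup L) = Subgroup.zpowers x := by
      refine (Subgroup.eq_of_le_of_card_ge hP ?_).symm
      rw [Nat.card_zpowers, hx, Sylow.card_eq_multiplicity, hc]
      have : (120 : ℕ).factorization 5 = 1 := by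
        rw [show (120 : ℕ) = 5 * 24 by norm_num, Nat.factorization_mul (by norm_num) (by norm_num)]
        simp [Nat.Prime.factorization_self (by norm_num : Nat.Prime 5),
          Nat.factorization_eq_zero_of_not_dvd (by norm_num : ¬ 5 ∣ 24)]
      rw [this, pow_one]
    let f : Sylow 5 L → Sylow 5 L := fun R => R.comapOfInjective φ.symm.toMonoidHom φ.symm.injective
      (fun z _ => ⟨φ z, φ.symm_apply_apply z⟩)
    have hfmem : ∀ (R : Sylow 5 L) (z : L), z ∈ (f R : Subgroup L) ↔ φ.symm z ∈ (R : Subgroup L) :=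
      fun R z => Iff.rfl
    have hit : ∀ (i : ℕ) (R : Sylow 5 L) (z : L),
        z ∈ (f^[i] R : Subgroup L) ↔ ((φ ^ i : MulAut L).symm z) ∈ (R : Subgroup L) := by
      intro i
      induction i with
      | zero => intro R z; rfl
      | succ i ih =>
        intro R z
        rw [Function.iterate_succ_apply', hfmem, ih, pow_succ' φ]
        rfl
    have hper : f^[q ^ k] P = P := Sylow.ext (SetLike.ext fun z => by rw [hit, hφq]; rfl)
    have hfP : f P = P := by
      obtain ⟨i, -, hi⟩ := (Nat.dvd_prime_pow hq).1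
        (Function.IsPeriodicPt.minimalPeriod_dvd (hper : Function.IsPeriodicPt f (q ^ k) P))
      rcases Nat.eq_zero_or_pos i with rfl | hi0
      · exact Function.minimalPeriod_eq_one_iff_isFixedPt.1 hi
      · exfalso
        have hinj : Set.InjOn (fun j => f^[j] P) (Set.Iio (Function.minimalPeriod f P)) :=
          Function.iterate_injOn_Iio_minimalPeriod
        have := Finset.card_le_card_of_injOn (s := Finset.range (Function.minimalPeriod f P))
          (t := (Finset.univ : Finset (Sylow 5 L))) (fun j => f^[j] P) (fun j _ => Finset.mem_univ _)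
          (fun a ha b hb e => hinj (Finset.mem_range.1 ha) (Finset.mem_range.1 hb) e)
        rw [Finset.card_range, Finset.card_univ, ← Nat.card_eq_fintype_card, hi] at this
        have := Nat.le_self_pow hi0.ne' q
        omega
    obtain ⟨c, hcx⟩ : ∃ c : ℕ, φ x = x ^ c := by
      have : φ x ∈ (f P : Subgroup L) := by
        rw [hfmem, MulEquiv.symm_apply_apply]; exact hP (Subgroup.mem_zpowers x)
      rw [hfP, hP5] at this
      obtain ⟨c, hc⟩ := mem_powers_iff_mem_zpowers.2 this
      exact ⟨c, hc.symm⟩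
    have hci : ∀ i : ℕ, (φ ^ i : MulAut L) x = x ^ (c ^ i) := fun i => by
      induction i with
      | zero => simp
      | succ i ih => rw [pow_succ', MulAut.mul_apply, ih, map_pow, hcx, ← pow_mul, pow_succ']
    have h1 := hci (q ^ k)
    rw [hφq, MulAut.one_apply] at h1
    conv_lhs at h1 => rw [← pow_one x]
    rw [pow_eq_pow_iff_modEq, hx, ← ZMod.natCast_eq_natCast_iff] at h1
    push_cast at h1
    have hc0 : (c : ZMod 5) ≠ 0 := fun e => by
      rw [e, zero_pow (pow_pos hq.pos k).ne'] at h1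
      exact one_ne_zero h1
    have h4 : (c : ZMod 5) ^ 4 = 1 := ZMod.pow_card_sub_one_eq_one hc0
    have hg : Nat.gcd (q ^ k) 4 = 1 := by
      refine Nat.Coprime.pow_left k ((Nat.Prime.coprime_iff_not_dvd hq).2 fun hd => ?_)
      have := Nat.le_of_dvd (by norm_num) hd
      omega
    have hc1 : (c : ZMod 5) = 1 := by
      rw [← pow_one (c : ZMod 5), ← hg]
      exact pow_gcd_eq_one.2 ⟨h1.symm, h4⟩
    rw [hcx]
    conv_rhs => rw [← pow_one x]
    rw [pow_eq_pow_iff_modEq, hx, ← ZMod.natCast_eq_natCast_iff]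
    simpa using hc1
  -- they generate
  let M : Subgroup L := Subgroup.closure {x | orderOf x = 5}
  haveI : M.Normal := ⟨fun n hn g => by
    have hle : M.map (MulAut.conj g).toMonoidHom ≤ M := by
      rw [MonoidHom.map_closure]
      refine Subgroup.closure_mono ?_
      rintro _ ⟨x, hx, rfl⟩
      show orderOf (MulAut.conj g x) = 5
      rw [MulEquiv.orderOf_eq]; exact hx
    exact hle ⟨n, hn, rfl⟩⟩
  obtain ⟨x5, hx5⟩ := exists_prime_orderOf_dvd_card' (G := L) 5 (by rw [hc]; norm_num)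
  have hd5 : 5 ∣ Nat.card M := by
    have hm : x5 ∈ M := Subgroup.subset_closure hx5
    have := orderOf_dvd_natCard (⟨x5, hm⟩ : M)
    rwa [Subgroup.orderOf_mk, hx5] at this
  haveI : Group.IsSolvable (L ⧸ M) := by
    have hne : Nat.card (L ⧸ M) ≠ 0 := Nat.card_pos.ne'
    have h24 : Nat.card (L ⧸ M) ∣ 24 := by
      obtain ⟨c, hc5⟩ := hd5
      have := M.index_mul_card
      rw [hc, hc5, Subgroup.index_eq_card] at this
      exact ⟨c, by nlinarith⟩
    obtain ⟨a, b, e⟩ := CfsgLib.Solv.card_eq_prod_two_of_primeFactors hne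
      (fun r hr hd => by
        have h' : r ∣ 2 ^ 3 * 3 := by norm_num; exact hd.trans h24
        rcases hr.dvd_mul.1 h' with e | e
        · exact Or.inl ((Nat.prime_dvd_prime_iff_eq hr Nat.prime_two).1 (hr.dvd_of_dvd_pow e))
        · exact Or.inr ((Nat.prime_dvd_prime_iff_eq hr Nat.prime_three).1 e)) Nat.prime_two Nat.prime_three
    exact CfsgLib.Char.solvable_of_card_two_primes 2 3 a b Nat.prime_two Nat.prime_three e
  have hMtop : M = ⊤ := eq_top_of_normal_solvable_quotient (perfect_subtype hperf) M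
  intro l hl
  have hall : φ ⟨l, hl⟩ = ⟨l, hl⟩ := by
    have hm : (⟨l, hl⟩ : L) ∈ M := hMtop ▸ Subgroup.mem_top _
    exact Subgroup.closure_le (K :=
      { carrier := {z | φ z = z}
        one_mem' := map_one φ
        mul_mem' := fun {a b} (ha : φ a = a) (hb : φ b = b) => by
          show φ (a * b) = a * b; rw [map_mul, ha, hb]
        inv_mem' := fun {a} (ha : φ a = a) => by show φ a⁻¹ = a⁻¹; rw [map_inv, ha] }) |>.2 hfix hm
  have := congrArg Subtype.val hall
  rw [hφ] at this
  exact mul_inv_eq_iff_eq_mul.1 this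

/-- In a soluble subgroup, a commutator `p`-element lies in the Fitting subgroup. -/
theorem mem_fitting (h : HasFpf G) {D : Subgroup G} (hD : Group.IsSolvable D) {p : ℕ} [hp : Fact p.Prime]
    (hp7 : 7 ≤ p) {w u v : G} (hw : w ∈ D) (hu : u ∈ D) (hv : v ∈ D) (hwp : ∃ j, orderOf w = p ^ j)
    (hcomm : w = u * v * u⁻¹ * v⁻¹) : (⟨w, hw⟩ : D) ∈ Cfsg.fittingSubgroup D := by
  classical
  haveI := hD
  refine CfsgLib.Solv.centralizer_fittingSubgroup_le ?_
  haveI := CfsgLib.Solv.fittingSubgroup_normal D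
  haveI hnil := CfsgLib.Solv.fittingSubgroup_isNilpotent (G := D)
  set F := Cfsg.fittingSubgroup D
  rw [Subgroup.mem_centralizer_iff]
  intro f hf
  have hDf : HasFpf D := h.of_injective D.subtype D.subtype_injective
  have hFf : HasFpf F := hDf.of_injective F.subtype F.subtype_injective
  let K : Subgroup F := (Subgroup.centralizer ({(⟨w, hw⟩ : D)} : Set D)).subgroupOf F
  suffices hK : K = ⊤ by
    have : (⟨f, hf⟩ : F) ∈ K := hK ▸ Subgroup.mem_top _
    exact Subgroup.mem_centralizer_singleton_iff.1 (Subgroup.mem_subgroupOf.1 this)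
  refine eq_top_of_primary K fun r hr R => ?_
  haveI := Fact.mk hr
  haveI hRn : (R : Subgroup F).Normal := sylow_normal_of_nilpotent R
  haveI : (R : Subgroup F).Characteristic := R.characteristic_of_normal hRn
  set R' := (R : Subgroup F).map F.subtype with hR'
  haveI : R'.Normal := ConjAct.normal_of_characteristic_of_normal
  have hR'p : IsPGroup r R' := R.2.map _
  have hN : ∀ g : D, g ∈ Subgroup.normalizer (R' : Set D) := fun g => by
    rw [Subgroup.normalizer_eq_top]; trivial
  have hwc : (⟨w, hw⟩ : D) = ⟨u, hu⟩ * ⟨v, hv⟩ * (⟨u, hu⟩ : D)⁻¹ * (⟨v, hv⟩ : D)⁻¹ := Subtype.ext hcomm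
  have hkey : ∀ z ∈ R', (⟨w, hw⟩ : D) * z = z * ⟨w, hw⟩ := by
    by_cases hcyc : IsCyclic R'
    · rw [hwc]
      exact commutator_centralizes hcyc (hN _) (hN _)
    · have hr2 : r = 2 := by
        by_contra hr2
        exact hcyc (isCyclic_odd hDf hr2 hR'p)
      subst hr2
      obtain ⟨n, ⟨e⟩⟩ := (cyclic_or_quaternion hDf hR'p).resolve_left hcyc
      obtain ⟨j, hj⟩ := hwp
      set ψ : MulAut R' := (MulAut.conjNormal : D →* MulAut R') ⟨w, hw⟩ with hψ
      let φ : MulAut (QuaternionGroup (2 ^ (n + 1))) := e.symm.trans (ψ.trans e)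
      have hφp : φ ^ (p ^ j) = 1 := by
        have h2 : ∀ i : ℕ, ∀ x, (φ ^ i : MulAut _) x = e ((ψ ^ i : MulAut R') (e.symm x)) := fun i => by
          induction i with
          | zero => intro x; simp
          | succ i ih =>
            intro x
            rw [pow_succ' φ, MulAut.mul_apply, ih, pow_succ' ψ, MulAut.mul_apply]
            simp [φ]
        refine MulEquiv.ext fun x => ?_
        rw [h2, hψ, ← map_pow, show (⟨w, hw⟩ : D) ^ (p ^ j) = 1 from Subtype.ext (by
          rw [SubgroupClass.coe_pow, ← hj]; exact pow_orderOf_eq_one w), map_one]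
        simp
      intro z hz
      have h3 := quaternion_aut_trivial rfl φ hp.out hp7 hφp (e ⟨z, hz⟩)
      simp only [φ, MulEquiv.trans_apply, MulEquiv.symm_apply_apply, EmbeddingLike.apply_eq_iff_eq] at h3
      have h4 := congrArg Subtype.val h3
      rw [hψ, MulAut.conjNormal_apply] at h4
      exact mul_inv_eq_iff_eq_mul.1 h4
  intro z hz
  rw [Subgroup.mem_subgroupOf, Subgroup.mem_centralizer_singleton_iff]
  exact (hkey _ ⟨z, hz, rfl⟩).symm

/-- **Odd elements act trivially.** -/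
theorem centralizes_sylow (h : HasFpf G) (hperf : commutator G = ⊤) (hIH : SmallPerfect G)
    {p q k : ℕ} [hp : Fact p.Prime] [hq : Fact q.Prime] (hp2 : p ≠ 2) (hq2 : q ≠ 2) (hpq : p ≠ q)
    (P : Sylow p G) {y : G} (hy : orderOf y = q ^ k)
    (hn : y ∈ Subgroup.normalizer ((P : Subgroup G) : Set G)) :
    ∀ x ∈ (P : Subgroup G), y * x = x * y := by
  classical
  by_contra hcon
  push Not at hcon
  obtain ⟨x, hx, hyx⟩ := hcon
  have hPc : IsCyclic (P : Subgroup G) := isCyclic_odd h hp2 P.2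
  have hk0 : k ≠ 0 := fun e => hyx (by
    rw [e, pow_zero] at hy
    rw [orderOf_eq_one_iff.1 hy, one_mul, mul_one])
  have hpqk : ¬ p ∣ q ^ k := fun hd => hpq ((Nat.prime_dvd_prime_iff_eq hp.out hq.out).1 (hp.out.dvd_of_dvd_pow hd))
  have hfpfP : ∀ z ∈ (P : Subgroup G), y * z = z * y → z = 1 := fun z hz hc => by
    by_contra hz1
    exact hyx (centralizes_cyclic P.2 hPc hn (e := q ^ k) hpqk (fun w _ => by
      rw [← hy, pow_orderOf_eq_one, one_mul, mul_one]) hz hz1 hc x hx)
  have hPne : (P : Subgroup G) ≠ ⊥ := fun e => hyx (by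
    rw [e, Subgroup.mem_bot] at hx; rw [hx, mul_one, one_mul])
  have hpd : p ∣ Nat.card G := by
    obtain ⟨i, hi⟩ := IsPGroup.iff_card.1 P.2
    refine (hi ▸ dvd_pow_self p (fun e => hPne (Subgroup.card_eq_one.1 (by rw [hi, e, pow_zero])))).trans
      (Subgroup.card_subgroup_dvd_card _)
  obtain ⟨⟨x₁, hx₁⟩, hx₁o⟩ : ∃ z : (P : Subgroup G), orderOf z = p := by
    obtain ⟨i, hi⟩ := IsPGroup.iff_card.1 P.2
    exact exists_prime_orderOf_dvd_card' p (hi ▸ dvd_pow_self p fun e => hPne (Subgroup.card_eq_one.1 (by rw [hi, e, pow_zero])))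
  rw [Subgroup.orderOf_mk] at hx₁o
  have hx₁1 : x₁ ≠ 1 := fun e => by rw [e, orderOf_one] at hx₁o; exact hp.out.ne_one hx₁o.symm
  set y₁ := y ^ (q ^ (k - 1)) with hy₁
  have hy₁o : orderOf y₁ = q := by
    rw [hy₁, orderOf_pow, hy, Nat.gcd_eq_right (pow_dvd_pow q (Nat.sub_le k 1)),
      Nat.pow_div (Nat.sub_le k 1) hq.out.pos, show k - (k - 1) = 1 by omega, pow_one]
  have hy₁P : ∀ z ∈ (P : Subgroup G), y₁ * z = z * y₁ := by
    have hn₁ : y₁ ∈ Subgroup.normalizer ((P : Subgroup G) : Set G) := pow_mem hn _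
    refine centralizes_cyclic P.2 hPc hn₁ (e := q) (fun hd => hpq ((Nat.prime_dvd_prime_iff_eq hp.out hq.out).1 hd))
      (fun w _ => by rw [← hy₁o, pow_orderOf_eq_one, one_mul, mul_one]) hx₁ hx₁1 ?_
    have hz : Subgroup.zpowers x₁ = ((⊤ : Subgroup (P : Subgroup G)).map (P : Subgroup G).subtype) ⊓ Subgroup.zpowers x₁ := by
      rw [← MonoidHom.range_eq_map, Subgroup.range_subtype, inf_eq_right.2 (Subgroup.zpowers_le.2 hx₁)]
    have hmem : y₁ * x₁ * y₁⁻¹ ∈ Subgroup.zpowers x₁ := by
      have h1 : y₁ * x₁ * y₁⁻¹ ∈ (P : Subgroup G) := (Subgroup.mem_normalizer_iff.1 hn₁ x₁).1 hx₁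
      have h2 := pGroup_unique h (P : Subgroup G) P.2 ⟨x₁, hx₁⟩ ⟨_, h1⟩ (by rw [Subgroup.orderOf_mk, hx₁o])
        (by rw [Subgroup.orderOf_mk, ← MulAut.conj_apply, MulEquiv.orderOf_eq, hx₁o])
      obtain ⟨i, hi⟩ := Subgroup.mem_zpowers_iff.1 h2
      exact Subgroup.mem_zpowers_iff.2 ⟨i, by simpa using congrArg Subtype.val hi⟩
    exact mul_inv_eq_iff_eq_mul.1 (commute_of_normalizes h hp.out hq.out hx₁o hy₁o hmem)
  -- the prime `p` is at least seven
  have hp7 : 7 ≤ p := by
    obtain ⟨⟨r, hr⟩, hgen⟩ := hPc.exists_generator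
    obtain ⟨c, hc⟩ := mem_powers_iff_mem_zpowers.2 (hgen ⟨_, (Subgroup.mem_normalizer_iff.1 hn r).1 hr⟩)
    have hc' : y * r * y⁻¹ = r ^ c := by simpa using (congrArg Subtype.val hc).symm
    have hr1 : r ≠ 1 := fun e => hx₁1 (by
      subst e
      obtain ⟨i, hi⟩ := Subgroup.mem_zpowers_iff.1 (hgen ⟨x₁, hx₁⟩)
      simpa using (congrArg Subtype.val hi).symm)
    have hiter : ∀ i : ℕ, y ^ i * r * (y ^ i)⁻¹ = r ^ (c ^ i) := fun i => by
      induction i with
      | zero => simp
      | succ i ih =>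
        calc y ^ (i + 1) * r * (y ^ (i + 1))⁻¹ = y * (y ^ i * r * (y ^ i)⁻¹) * y⁻¹ := by rw [pow_succ']; group
          _ = (y * r * y⁻¹) ^ (c ^ i) := by rw [ih, conj_pow]
          _ = _ := by rw [hc', ← pow_mul, pow_succ']
    obtain ⟨m, hm⟩ := IsPGroup.iff_orderOf.1 P.2 ⟨r, hr⟩
    rw [Subgroup.orderOf_mk] at hm
    have hm0 : m ≠ 0 := fun e => hr1 (orderOf_eq_one_iff.1 (by rw [hm, e, pow_zero]))
    have h1 : (c : ZMod p) ^ (q ^ k) = 1 := by
      have := hiter (q ^ k)
      rw [← hy, pow_orderOf_eq_one, one_mul, inv_one, mul_one, hy] at this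
      conv_lhs at this => rw [← pow_one r]
      rw [pow_eq_pow_iff_modEq, hm] at this
      have := this.of_dvd (dvd_pow_self p hm0)
      rw [← ZMod.natCast_eq_natCast_iff] at this
      simpa using this.symm
    have hc1 : (c : ZMod p) ≠ 1 := fun e => hr1 (hfpfP r hr ?_)
    swap
    · -- an automorphism congruent to one modulo `p` and of order prime to `p`
      have hx₁' : y * x₁ = x₁ * y := by
        obtain ⟨i, hi⟩ := mem_powers_iff_mem_zpowers.2 (hgen ⟨x₁, hx₁⟩)
        have hi' : x₁ = r ^ i := by simpa using (congrArg Subtype.val hi).symm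
        apply mul_inv_eq_iff_eq_mul.1
        rw [hi', ← conj_pow, hc', ← pow_mul, pow_eq_pow_iff_modEq, hm]
        have h2 : r ^ (i * p) = 1 := by rw [pow_mul, ← hi', ← hx₁o, pow_orderOf_eq_one]
        have h3 : p ^ m ∣ i * p := by rw [← hm]; exact orderOf_dvd_of_pow_eq_one h2
        obtain ⟨d, hd⟩ := (ZMod.intCast_zmod_eq_zero_iff_dvd ((c : ℤ) - 1) p).1 (by push_cast; rw [e, sub_self])
        refine (Nat.modEq_iff_dvd.2 ?_).symm
        obtain ⟨f, hf⟩ := (Int.natCast_dvd_natCast.2 h3)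
        refine ⟨f * d, ?_⟩
        push_cast at hf ⊢
        linear_combination (i : ℤ) * hd + d * hf
      exact centralizes_cyclic P.2 hPc hn (e := q ^ k) hpqk (fun w _ => by
        rw [← hy, pow_orderOf_eq_one, one_mul, mul_one]) hx₁ hx₁1 hx₁' r hr
    have hc0 : (c : ZMod p) ≠ 0 := fun e => by
      rw [e, zero_pow (pow_pos hq.out.pos k).ne'] at h1; exact zero_ne_one h1
    have hqd : q ∣ p - 1 := by
      by_contra hnd
      apply hc1
      rw [← pow_one (c : ZMod p), ← (Nat.Coprime.pow_left k ((Nat.Prime.coprime_iff_not_dvd hq.out).2 hnd) : Nat.gcd (q ^ k) (p - 1) = 1)]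
      exact pow_gcd_eq_one.2 ⟨h1, ZMod.pow_card_sub_one_eq_one hc0⟩
    have hp3 := hp.out.two_le
    have hq3 := hq.out.two_le
    by_contra hlt
    interval_cases p
    · exact hp2 rfl
    · have := Nat.le_of_dvd (by norm_num) hqd; omega
    · exact absurd hp.out (by norm_num)
    · exact hq2 ((Nat.prime_dvd_prime_iff_eq hq.out Nat.prime_two).1 (hq.out.dvd_of_dvd_pow (n := 2) hqd))
    · exact absurd hp.out (by norm_num)
  -- the Sylow `q`-subgroup
  obtain ⟨Q, hQ⟩ := (show IsPGroup q (Subgroup.zpowers y) from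
    IsPGroup.of_card (n := k) (by rw [Nat.card_zpowers, hy])).exists_le_sylow
  have hQc : IsCyclic (Q : Subgroup G) := isCyclic_odd h hq2 Q.2
  have hyQ : y ∈ (Q : Subgroup G) := hQ (Subgroup.mem_zpowers y)
  have hy₁Q : y₁ ∈ (Q : Subgroup G) := pow_mem hyQ _
  have hy₁1 : y₁ ≠ 1 := fun e => by rw [e, orderOf_one] at hy₁o; exact hq.out.ne_one hy₁o.symm
  haveI := hQc.isMulCommutative
  have hQcomm : ∀ a ∈ (Q : Subgroup G), ∀ b ∈ (Q : Subgroup G), a * b = b * a := fun a ha b hb =>
    (Subgroup.mem_centralizer_iff.1 (Subgroup.le_centralizer (Q : Subgroup G) hb) a ha)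
  set C := Subgroup.centralizer ({y₁} : Set G) with hC
  have hPC : (P : Subgroup G) ≤ C := fun z hz => Subgroup.mem_centralizer_singleton_iff.2 (hy₁P z hz).symm
  have hQC : (Q : Subgroup G) ≤ C := fun z hz => Subgroup.mem_centralizer_singleton_iff.2 (hQcomm z hz y₁ hy₁Q)
  -- an element acting fixed point freely on `Q`
  obtain ⟨g, hg, u₀, hu₀, hgu⟩ := exists_moving hperf (hy₁o ▸ orderOf_dvd_natCard y₁) Q
  set e := ((Subgroup.centralizer ((Q : Subgroup G) : Set G)).subgroupOf
    (Subgroup.normalizer ((Q : Subgroup G) : Set G))).index with he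
  have hqe : ¬ q ∣ e := fun hd => Q.not_dvd_index (hd.trans
    ((Subgroup.relIndex_dvd_of_le_left _ (Subgroup.le_centralizer (Q : Subgroup G))).trans
      (Subgroup.relIndex_dvd_index_of_le Subgroup.le_normalizer)))
  have hge : ∀ z ∈ (Q : Subgroup G), g ^ e * z = z * g ^ e := fun z hz => by
    have := Subgroup.pow_index_mem ((Subgroup.centralizer ((Q : Subgroup G) : Set G)).subgroupOf
      (Subgroup.normalizer ((Q : Subgroup G) : Set G))) ⟨g, hg⟩
    rw [Subgroup.mem_subgroupOf] at this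
    exact (Subgroup.mem_centralizer_iff.1 this z hz).symm
  have hfpfQ : ∀ z ∈ (Q : Subgroup G), g * z = z * g → z = 1 := fun z hz hc => by
    by_contra hz1
    exact hgu (centralizes_cyclic Q.2 hQc hg hqe hge hz hz1 hc u₀ hu₀)
  -- `C` is a proper subgroup
  have hCtop : C ≠ ⊤ := fun e1 => hy₁1 (hfpfQ y₁ hy₁Q (by
    have : g ∈ C := e1 ▸ Subgroup.mem_top g
    exact Subgroup.mem_centralizer_singleton_iff.1 this))
  have hgy : g * y₁ * g⁻¹ ∈ Subgroup.zpowers y₁ := by
    have h1 : g * y₁ * g⁻¹ ∈ (Q : Subgroup G) := (Subgroup.mem_normalizer_iff.1 hg y₁).1 hy₁Q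
    have h2 := pGroup_unique h (Q : Subgroup G) Q.2 ⟨y₁, hy₁Q⟩ ⟨_, h1⟩ (by rw [Subgroup.orderOf_mk, hy₁o])
      (by rw [Subgroup.orderOf_mk, ← MulAut.conj_apply, MulEquiv.orderOf_eq, hy₁o])
    obtain ⟨i, hi⟩ := Subgroup.mem_zpowers_iff.1 h2
    exact Subgroup.mem_zpowers_iff.2 ⟨i, by simpa using congrArg Subtype.val hi⟩
  have hgC : g ∈ Subgroup.normalizer (C : Set G) := by
    obtain ⟨i, hi⟩ := Subgroup.mem_zpowers_iff.1 hgy
    refine Subgroup.mem_normalizer_iff_map_conj_eq.2 (Subgroup.eq_of_le_of_card_ge ?_ ?_)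
    · rintro _ ⟨z, hz, rfl⟩
      have hz' : Commute z y₁ := Subgroup.mem_centralizer_singleton_iff.1 hz
      obtain ⟨a, ha⟩ : y₁ ∈ Subgroup.zpowers (g * y₁ * g⁻¹) := by
        have : Subgroup.zpowers (g * y₁ * g⁻¹) = Subgroup.zpowers y₁ :=
          Subgroup.eq_of_le_of_card_ge (Subgroup.zpowers_le.2 hgy) (le_of_eq (by
            rw [Nat.card_zpowers, Nat.card_zpowers, ← MulAut.conj_apply, MulEquiv.orderOf_eq]))
        rw [this]; exact Subgroup.mem_zpowers y₁
      refine Subgroup.mem_centralizer_singleton_iff.2 ?_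
      show g * z * g⁻¹ * y₁ = y₁ * (g * z * g⁻¹)
      rw [← ha]
      have h1 : Commute (g * z * g⁻¹) (g * y₁ * g⁻¹) := by
        show g * z * g⁻¹ * (g * y₁ * g⁻¹) = g * y₁ * g⁻¹ * (g * z * g⁻¹)
        calc _ = g * (z * y₁) * g⁻¹ := by group
          _ = g * (y₁ * z) * g⁻¹ := by rw [hz'.eq]
          _ = _ := by group
      exact h1.zpow_right a
    · rw [Subgroup.card_map_of_injective (MulAut.conj g).injective]
  -- the soluble subgroup
  obtain ⟨D, hDs, hPD, hyD, hCD⟩ : ∃ D : Subgroup G, Group.IsSolvable D ∧ (P : Subgroup G) ≤ D ∧ y ∈ D ∧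
      Subgroup.normalizer (C : Set G) ≤ Subgroup.normalizer (D : Set G) := by
    by_cases hCs : Group.IsSolvable C
    · exact ⟨C, hCs, hPC, hQC hyQ, le_rfl⟩
    obtain ⟨L, hLC, hLb, hLp, hLn⟩ := exists_perfect hCs
    have hLcard := hIH L (fun e1 => hCtop (top_le_iff.1 (e1 ▸ hLC))) hLb hLp
    have hLnorm : ∀ c ∈ Subgroup.normalizer (C : Set G), c ∈ Subgroup.normalizer (L : Set G) := fun c hc =>
      Subgroup.mem_normalizer_iff.2 fun z => ⟨fun hz => hLn c hc z hz, fun hz => by
        have := hLn c⁻¹ (inv_mem hc) _ hz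
        simpa [mul_assoc] using this⟩
    have hcentral : ∀ {r : ℕ} [Fact r.Prime], r ≠ 2 → r ∣ 120 → r ≠ q := by
      intro r _ hr2 hr rq
      subst rq
      obtain ⟨⟨z, hz⟩, hzo⟩ := exists_prime_orderOf_dvd_card' (G := L) r (by rw [hLcard]; exact hr)
      rw [Subgroup.orderOf_mk] at hzo
      have hzy : Commute z y₁ := Subgroup.mem_centralizer_singleton_iff.1 (hLC hz)
      obtain ⟨i, hi⟩ := Subgroup.mem_zpowers_iff.1 (mem_zpowers_of_commute h (Fact.out) hzo hy₁o hzy)
      refine not_central h hLp hr2 hz hzo fun l hl => ?_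
      rw [← hi]
      exact (Commute.zpow_right (Subgroup.mem_centralizer_singleton_iff.1 (hLC hl)) i).eq
    haveI : Fact (Nat.Prime 5) := ⟨by norm_num⟩
    haveI := Fact.mk Nat.prime_three
    have hq3 := hcentral (r := 3) (by norm_num) (by norm_num)
    have hq5 := hcentral (r := 5) (by norm_num) (by norm_num)
    have hq7 : 7 ≤ q := by
      have := hq.out.five_le_of_ne_two_of_ne_three hq2 (fun e1 => hq3 e1.symm)
      rcases Nat.lt_or_ge q 7 with hlt | hge
      · exfalso
        have : q ≠ 6 := fun e1 => absurd (e1 ▸ hq.out : Nat.Prime 6) (by norm_num)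
        exact hq5 (by omega)
      · exact hge
    refine ⟨C ⊓ Subgroup.centralizer (L : Set G), ?_, ?_, ?_, ?_⟩
    · by_contra hDs
      obtain ⟨L', hL'D, hL'b, hL'p, -⟩ := exists_perfect hDs
      have hL'c := hIH L' (fun e1 => hCtop (top_le_iff.1 (e1 ▸ hL'D.trans inf_le_left))) hL'b hL'p
      obtain ⟨⟨z, hz⟩, hzo⟩ := exists_prime_orderOf_dvd_card' (G := L) 3 (by rw [hLcard]; norm_num)
      obtain ⟨⟨z', hz'⟩, hzo'⟩ := exists_prime_orderOf_dvd_card' (G := L') 3 (by rw [hL'c]; norm_num)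
      rw [Subgroup.orderOf_mk] at hzo hzo'
      have hcent := fun w (hw : w ∈ L') => Subgroup.mem_centralizer_iff.1 (hL'D hw).2
      obtain ⟨i, hi⟩ := Subgroup.mem_zpowers_iff.1
        (mem_zpowers_of_commute h Nat.prime_three hzo hzo' (hcent z' hz' z hz))
      refine not_central h hLp (by norm_num) hz hzo fun l hl => ?_
      rw [← hi]
      exact (Commute.zpow_right (hcent z' hz' l hl) i).eq
    · intro z hz
      refine ⟨hPC hz, Subgroup.mem_centralizer_iff.2 fun l hl => ?_⟩
      obtain ⟨j, hj⟩ := IsPGroup.iff_orderOf.1 P.2 ⟨z, hz⟩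
      rw [Subgroup.orderOf_mk] at hj
      exact (centralizes_of_small L hLp hLcard hp.out hp7 hj
        (hLnorm z (Subgroup.le_normalizer (hPC hz))) l hl).symm
    · refine ⟨hQC hyQ, Subgroup.mem_centralizer_iff.2 fun l hl => ?_⟩
      exact (centralizes_of_small L hLp hLcard hq.out hq7 hy
        (hLnorm y (Subgroup.le_normalizer (hQC hyQ))) l hl).symm
    · intro g hgC
      rw [Subgroup.mem_normalizer_iff]
      intro z
      simp only [Subgroup.mem_inf, Subgroup.mem_centralizer_iff]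
      have hgL := hLnorm g hgC
      refine and_congr (Subgroup.mem_normalizer_iff.1 hgC z) ⟨fun hh l hl => ?_, fun hh l hl => ?_⟩
      · have hl' : g⁻¹ * l * g ∈ L := by simpa using (Subgroup.mem_normalizer_iff.1 (inv_mem hgL) l).1 hl
        calc l * (g * z * g⁻¹) = g * (g⁻¹ * l * g * z) * g⁻¹ := by group
          _ = g * (z * (g⁻¹ * l * g)) * g⁻¹ := by rw [hh _ hl']
          _ = g * z * g⁻¹ * l := by group
      · have hl' : g * l * g⁻¹ ∈ L := (Subgroup.mem_normalizer_iff.1 hgL l).1 hl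
        calc l * z = g⁻¹ * (g * l * g⁻¹ * (g * z * g⁻¹)) * g := by group
          _ = g⁻¹ * (g * z * g⁻¹ * (g * l * g⁻¹)) * g := by rw [hh _ hl']
          _ = z * l := by group
  -- `P` is the normal Sylow subgroup of the Fitting subgroup of `D`
  haveI := hDs
  have hnormP : ∀ g ∈ Subgroup.normalizer (C : Set G), g ∈ Subgroup.normalizer ((P : Subgroup G) : Set G) := by
    intro g hgC
    have hgD := hCD hgC
    haveI hnil := CfsgLib.Solv.fittingSubgroup_isNilpotent (G := D)
    set F := (Cfsg.fittingSubgroup D).map D.subtype with hF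
    have hPF : (P : Subgroup G) ≤ F := by
      intro w hw
      have hsurj : Function.Surjective
          (fun z : (P : Subgroup G) => (⟨y * z * y⁻¹ * (z : G)⁻¹,
            mul_mem ((Subgroup.mem_normalizer_iff.1 hn _).1 z.2) (inv_mem z.2)⟩ : (P : Subgroup G))) := by
        refine Finite.surjective_of_injective fun a b e => Subtype.ext ?_
        have e1 := congrArg Subtype.val e
        simp only at e1
        haveI := hPc.isMulCommutative
        have hab : Commute (a : G) (b : G) :=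
          (Subgroup.mem_centralizer_iff.1 (Subgroup.le_centralizer (P : Subgroup G) b.2) a a.2)
        have e2 : y * ((b : G)⁻¹ * a) * y⁻¹ = (b : G)⁻¹ * a := by
          calc y * ((b : G)⁻¹ * a) * y⁻¹ = (y * b * y⁻¹ * (b : G)⁻¹ * b)⁻¹ * (y * a * y⁻¹ * (a : G)⁻¹) * a := by group
            _ = (b : G)⁻¹ * a := by rw [e1]; group
        have := hfpfP _ (mul_mem (inv_mem b.2) a.2) (mul_inv_eq_iff_eq_mul.1 e2)
        exact (inv_mul_eq_one.1 this).symm
      obtain ⟨z, hz⟩ := hsurj ⟨w, hw⟩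
      obtain ⟨j, hj⟩ := IsPGroup.iff_orderOf.1 P.2 ⟨w, hw⟩
      rw [Subgroup.orderOf_mk] at hj
      exact ⟨_, mem_fitting h hDs hp7 (hPD hw) hyD (hPD z.2) ⟨j, hj⟩ (congrArg Subtype.val hz).symm, rfl⟩
    haveI : Group.IsNilpotent F :=
      Group.nilpotent_of_mulEquiv (Subgroup.equivMapOfInjective _ D.subtype D.subtype_injective)
    have hgF : g ∈ Subgroup.normalizer (F : Set G) := by
      have hφ : ∀ d : D, g * (d : G) * g⁻¹ ∈ D := fun d => (Subgroup.mem_normalizer_iff.1 hgD d).1 d.2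
      set φ : MulAut D := Subgroup.normalizerMonoidHom D ⟨g, hgD⟩
      haveI : (Cfsg.fittingSubgroup D).Characteristic := CfsgLib.Solv.fittingSubgroup_characteristic
      have hfix := (Subgroup.characteristic_iff_map_eq.1 inferInstance φ : (Cfsg.fittingSubgroup D).map φ.toMonoidHom = _)
      refine Subgroup.mem_normalizer_iff_map_conj_eq.2 ?_
      rw [hF, Subgroup.map_map]
      conv_rhs => rw [← hfix, Subgroup.map_map]
      rfl
    let P' : Sylow p F := P.subtype hPF
    haveI hP'n : (P' : Subgroup F).Normal := sylow_normal_of_nilpotent P'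
    refine Subgroup.mem_normalizer_iff_map_conj_eq.2 (Subgroup.eq_of_le_of_card_ge ?_ ?_)
    · intro z hz
      have hzF : z ∈ F := by
        obtain ⟨z', hz', rfl⟩ := hz
        exact (Subgroup.mem_normalizer_iff.1 hgF z').1 (hPF hz')
      have hp' : IsPGroup p (((P : Subgroup G).map (MulAut.conj g).toMonoidHom).subgroupOf F) :=
        (P.2.map _).comap_subtype
      obtain ⟨R, hR⟩ := hp'.exists_le_sylow
      haveI := Sylow.unique_of_normal P' hP'n
      rw [Subsingleton.elim R P'] at hR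
      exact hR (show (⟨z, hzF⟩ : F) ∈ _ from hz)
    · rw [Subgroup.card_map_of_injective (MulAut.conj g).injective]
  -- conclusion
  apply hyx
  have hsurjQ : Function.Surjective
      (fun z : (Q : Subgroup G) => (⟨g * z * g⁻¹ * (z : G)⁻¹,
        mul_mem ((Subgroup.mem_normalizer_iff.1 hg _).1 z.2) (inv_mem z.2)⟩ : (Q : Subgroup G))) := by
    refine Finite.surjective_of_injective fun a b e => Subtype.ext ?_
    have e1 := congrArg Subtype.val e
    simp only at e1
    have e2 : g * ((b : G)⁻¹ * a) * g⁻¹ = (b : G)⁻¹ * a := by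
      calc g * ((b : G)⁻¹ * a) * g⁻¹ = (g * b * g⁻¹ * (b : G)⁻¹ * b)⁻¹ * (g * a * g⁻¹ * (a : G)⁻¹) * a := by group
        _ = (b : G)⁻¹ * a := by rw [e1]; group
    have := hfpfQ _ (mul_mem (inv_mem b.2) a.2) (mul_inv_eq_iff_eq_mul.1 e2)
    exact (inv_mul_eq_one.1 this).symm
  obtain ⟨z, hz⟩ := hsurjQ ⟨y, hyQ⟩
  have hzP := hnormP _ (Subgroup.le_normalizer (hQC z.2))
  have hgP := hnormP g hgC
  have h1 := commutator_centralizes hPc hgP hzP x hx
  rw [show g * (z : G) * g⁻¹ * (z : G)⁻¹ = y from congrArg Subtype.val hz] at h1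
  exact h1

end CfsgLib.Perm.Fpf
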