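import Cfsg.Agent.Perm.Zassenhaus
import Cfsg.Agent.Base.Small.OrderSixty
import Cfsg.Agent.Lie.SLn
import Cfsg.Agent.Solv.TransferTools
import Cfsg.Agent.Char.Burnside

/-!
A perfect group of order 120 with one involution is `SL(2,5)`.
-/

set_option autoImplicit false
set_option linter.style.haveILetI false

namespace CfsgLib.Perm.Fpf

open Subgroup

/-- One involution. -/
def UniqueInvol (G : Type*) [Group G] : Prop := ∀ s t : G, orderOf s = 2 → orderOf t = 2 → s = t

theorem perfect_of_surjective {G H : Type*} [Group G] [Group H] (f : G →* H) (hf : Function.Surjective f)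
    (hperf : commutator G = ⊤) : commutator H = ⊤ := by
  have := Subgroup.map_commutator (⊤ : Subgroup G) ⊤ f
  rw [← _root_.commutator_def, hperf, Subgroup.map_top_of_surjective _ hf, ← commutator_def] at this
  exact this.symm

theorem not_perfect_of_solvable {G : Type*} [Group G] [Nontrivial G] [hs : Group.IsSolvable G] :
    commutator G ≠ ⊤ := hs.commutator_lt_top_of_nontrivial.ne

theorem solvable_of_dvd_120 {G : Type*} [Group G] [Finite G] (hd : Nat.card G ∣ 120) (h60 : Nat.card G ≠ 60)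
    (h120 : Nat.card G ≠ 120) : Group.IsSolvable G := by
  generalize hn : Nat.card G = n at hd h60 h120
  have h2 : ∀ (p q a b : ℕ), p.Prime → q.Prime → n = p ^ a * q ^ b → Group.IsSolvable G :=
    fun p q a b hp hq e => CfsgLib.Char.solvable_of_card_two_primes p q a b hp hq (hn.trans e)
  have h30 : n = 30 → Group.IsSolvable G := fun e => by
    haveI : IsZGroup G := IsZGroup.of_squarefree (by
      rw [hn, e, Nat.squarefree_iff_nodup_primeFactorsList (by norm_num)]
      simp)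
    infer_instance
  have : n = 1 ∨ n = 2 ∨ n = 3 ∨ n = 4 ∨ n = 5 ∨ n = 6 ∨ n = 8 ∨ n = 10 ∨ n = 12 ∨ n = 15 ∨ n = 20 ∨ n = 24 ∨
      n = 30 ∨ n = 40 := by
    have hle := Nat.le_of_dvd (by norm_num) hd
    have hmem := Nat.mem_divisors.2 ⟨hd, by norm_num⟩
    rw [show Nat.divisors 120 = {1, 2, 3, 4, 5, 6, 8, 10, 12, 15, 20, 24, 30, 40, 60, 120} by decide] at hmem
    simp only [Finset.mem_insert, Finset.mem_singleton] at hmem
    omega
  rcases this with e | e | e | e | e | e | e | e | e | e | e | e | e | e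
  · exact h2 2 3 0 0 Nat.prime_two Nat.prime_three e
  · exact h2 2 3 1 0 Nat.prime_two Nat.prime_three e
  · exact h2 2 3 0 1 Nat.prime_two Nat.prime_three e
  · exact h2 2 3 2 0 Nat.prime_two Nat.prime_three e
  · exact h2 2 5 0 1 Nat.prime_two (by norm_num) e
  · exact h2 2 3 1 1 Nat.prime_two Nat.prime_three e
  · exact h2 2 3 3 0 Nat.prime_two Nat.prime_three e
  · exact h2 2 5 1 1 Nat.prime_two (by norm_num) e
  · exact h2 2 3 2 1 Nat.prime_two Nat.prime_three e
  · exact h2 3 5 1 1 Nat.prime_three (by norm_num) e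
  · exact h2 2 5 2 1 Nat.prime_two (by norm_num) e
  · exact h2 2 3 3 1 Nat.prime_two Nat.prime_three e
  · exact h30 e
  · exact h2 2 5 3 1 Nat.prime_two (by norm_num) e

theorem isSimple_of_perfect_sixty {G : Type*} [Group G] [Finite G] (hc : Nat.card G = 60)
    (hperf : commutator G = ⊤) : IsSimpleGroup G := by
  haveI : Nontrivial G := Finite.one_lt_card_iff_nontrivial.1 (by omega)
  refine ⟨fun N hN => or_iff_not_imp_left.2 fun hbot => ?_⟩
  haveI := hN
  by_contra htop
  haveI : Nontrivial (G ⧸ N) := QuotientGroup.nontrivial_iff.2 htop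
  have hlt : 1 < Nat.card N := N.one_lt_card_iff_ne_bot.2 hbot
  have hmul := N.card_mul_index
  rw [hc, Subgroup.index_eq_card] at hmul
  haveI : Group.IsSolvable (G ⧸ N) := solvable_of_dvd_120 ⟨2 * Nat.card N, by nlinarith⟩
    (fun e => by rw [e] at hmul; omega) (fun e => by rw [e] at hmul; omega)
  exact not_perfect_of_solvable (perfect_of_surjective _ (QuotientGroup.mk'_surjective N) hperf)

theorem commutator_two_group {S : Type*} [Group S] [Finite S] (hS : Nat.card S = 16) {W : Subgroup S}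
    (hW : W ≤ Subgroup.center S) (hWc : Nat.card W = 4) (hW2 : ∀ w ∈ W, w * w = 1) :
    Nat.card (commutator S) ≤ 2 := by
  classical
  haveI := Fact.mk Nat.prime_two
  haveI hWn : W.Normal := ⟨fun n hn g => by rwa [Subgroup.mem_center_iff.1 (hW hn) g, mul_inv_cancel_right]⟩
  have hQ : Nat.card (S ⧸ W) = 2 ^ 2 := by
    have := W.card_mul_index
    rw [hWc, hS, Subgroup.index_eq_card] at this
    norm_num; omega
  have hcW : ∀ x y : S, x * y * x⁻¹ * y⁻¹ ∈ W := fun x y => by
    rw [← QuotientGroup.eq_one_iff, QuotientGroup.mk_mul, QuotientGroup.mk_mul, QuotientGroup.mk_mul,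
      QuotientGroup.mk_inv, QuotientGroup.mk_inv]
    haveI := IsPGroup.isMulCommutative_of_card_eq_prime_sq hQ
    rw [mul_comm' (x : S ⧸ W) (y : S ⧸ W), mul_inv_cancel_right, mul_inv_cancel]
  obtain ⟨a, ha⟩ : ∃ a, a ∉ W := by
    by_contra hcon
    push Not at hcon
    rw [(Subgroup.eq_top_iff' W).2 hcon, Subgroup.card_top, hS] at hWc
    omega
  set H₁ := W ⊔ Subgroup.zpowers a with hH₁
  have hdiv : ∀ H : Subgroup S, Nat.card H = 1 ∨ Nat.card H = 2 ∨ Nat.card H = 4 ∨ Nat.card H = 8 ∨ Nat.card H = 16 := by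
    intro H
    have := H.card_subgroup_dvd_card
    rw [hS] at this
    have hmem := Nat.mem_divisors.2 ⟨this, by norm_num⟩
    rw [show Nat.divisors 16 = {1, 2, 4, 8, 16} by decide] at hmem
    simpa using hmem
  have hgrow : ∀ (H : Subgroup S) (x : S), x ∉ H → Nat.card H < Nat.card (H ⊔ Subgroup.zpowers x : Subgroup S) := by
    intro H x hx
    refine lt_of_le_of_ne (Subgroup.card_le_of_le le_sup_left) fun e => hx ?_
    rw [Subgroup.eq_of_le_of_card_ge (le_sup_left : H ≤ H ⊔ Subgroup.zpowers x) e.ge]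
    exact le_sup_right (a := H) (Subgroup.mem_zpowers x)
  have h1 := hgrow W a ha
  rw [hWc, ← hH₁] at h1
  obtain ⟨b, hb⟩ : ∃ b, H₁ ⊔ Subgroup.zpowers b = ⊤ := by
    by_cases h : H₁ = ⊤
    · exact ⟨1, by simp [h]⟩
    obtain ⟨b, hb⟩ : ∃ b, b ∉ H₁ := by
      by_contra hcon
      push Not at hcon
      exact h ((Subgroup.eq_top_iff' _).2 hcon)
    refine ⟨b, Subgroup.eq_top_of_card_eq _ ?_⟩
    have h2 := hgrow H₁ b hb
    rcases hdiv (H₁ ⊔ Subgroup.zpowers b) with e | e | e | e | e <;> rcases hdiv H₁ with f | f | f | f | f <;>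
      omega
  set c := a * b * a⁻¹ * b⁻¹ with hc
  have hcz : c ∈ Subgroup.center S := hW (hcW a b)
  haveI : (Subgroup.zpowers c).Normal := ⟨fun n hn g => by
    rwa [Subgroup.mem_center_iff.1 ((Subgroup.zpowers_le.2 hcz) hn) g, mul_inv_cancel_right]⟩
  have hle : commutator S ≤ Subgroup.zpowers c := by
    set π := QuotientGroup.mk' (Subgroup.zpowers c)
    have hab : π a * π b = π b * π a := by
      have : π c = 1 := (QuotientGroup.eq_one_iff _).2 (Subgroup.mem_zpowers c)
      replace this : π (a * b * a⁻¹ * b⁻¹) = 1 := this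
      rw [map_mul, map_mul, map_mul, map_inv, map_inv, mul_inv_eq_one, mul_inv_eq_iff_eq_mul] at this
      exact this
    have hgen : Subgroup.closure (π '' ((W : Set S) ∪ {a, b})) = ⊤ := by
      rw [← MonoidHom.map_closure, show Subgroup.closure ((W : Set S) ∪ {a, b}) = ⊤ from ?_,
        Subgroup.map_top_of_surjective _ (QuotientGroup.mk'_surjective _)]
      rw [eq_top_iff, ← hb, hH₁]
      refine sup_le (sup_le (fun w hw => Subgroup.subset_closure (Or.inl hw)) ?_) ?_ <;>
        refine Subgroup.zpowers_le.2 (Subgroup.subset_closure (Or.inr ?_)) <;> simp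
    have hcomm := Subgroup.isMulCommutative_closure (k := π '' ((W : Set S) ∪ {a, b})) (by
      rintro _ ⟨x, hx, rfl⟩ _ ⟨y, hy, rfl⟩
      rcases hx with hx | hx
      · rw [← map_mul, ← map_mul, Subgroup.mem_center_iff.1 (hW hx) y]
      rcases hy with hy | hy
      · rw [← map_mul, ← map_mul, Subgroup.mem_center_iff.1 (hW hy) x]
      simp only [Set.mem_insert_iff, Set.mem_singleton_iff] at hx hy
      rcases hx with rfl | rfl <;> rcases hy with rfl | rfl
      · rfl
      · exact hab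
      · exact hab.symm
      · rfl)
    rw [hgen] at hcomm
    rw [← QuotientGroup.ker_mk' (Subgroup.zpowers c), _root_.commutator_def, Subgroup.commutator_le]
    intro x _ y _
    rw [MonoidHom.mem_ker, map_commutatorElement, commutatorElement_eq_one_iff_mul_comm]
    exact congrArg Subtype.val (hcomm.is_comm.comm ⟨π x, Subgroup.mem_top _⟩ ⟨π y, Subgroup.mem_top _⟩)
  refine (Subgroup.card_le_of_le hle).trans ?_
  rw [Nat.card_zpowers]
  exact orderOf_le_of_pow_eq_one two_pos (by rw [pow_two]; exact hW2 _ (hcW a b))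

theorem central_of_unique {G : Type*} [Group G] (hu : UniqueInvol G) {z : G} (hz : orderOf z = 2) (g : G) :
    g * z = z * g := by
  have := hu (MulAut.conj g z) z (by rw [MulEquiv.orderOf_eq, hz]) hz
  rw [MulAut.conj_apply] at this
  exact mul_inv_eq_iff_eq_mul.1 this

theorem exists_quotient_alt5 {G : Type*} [Group G] [Finite G] (hc : Nat.card G = 120)
    (hperf : commutator G = ⊤) (hu : UniqueInvol G) :
    ∃ (z : G) (π : G →* alternatingGroup (Fin 5)), orderOf z = 2 ∧ Function.Surjective π ∧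
      π.ker = Subgroup.zpowers z := by
  haveI := Fact.mk Nat.prime_two
  obtain ⟨z, hz⟩ := exists_prime_orderOf_dvd_card' (G := G) 2 (by rw [hc]; norm_num)
  haveI hn : (Subgroup.zpowers z).Normal := ⟨fun n hn g => by
    obtain ⟨i, rfl⟩ := Subgroup.mem_zpowers_iff.1 hn
    rw [(Commute.zpow_right (central_of_unique hu hz g) i).eq, mul_inv_cancel_right]
    exact hn⟩
  have h60 : Nat.card (G ⧸ Subgroup.zpowers z) = 60 := by
    have := (Subgroup.zpowers z).card_mul_index
    rw [Nat.card_zpowers, hz, hc, Subgroup.index_eq_card] at this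
    omega
  haveI := isSimple_of_perfect_sixty h60 (perfect_of_surjective _ (QuotientGroup.mk'_surjective _) hperf)
  obtain ⟨e⟩ := CfsgLib.OrderSixty.iso_alt5 h60
  refine ⟨z, e.toMonoidHom.comp (QuotientGroup.mk' _), hz,
    e.surjective.comp (QuotientGroup.mk'_surjective _), ?_⟩
  ext x; simp [MonoidHom.mem_ker]

theorem sq_of_mem {H : Type*} [Group H] {z a : H} (hz : orderOf z = 2) (ha : a ∈ Subgroup.zpowers z) :
    a * a = 1 := by
  obtain ⟨i, rfl⟩ := Subgroup.mem_zpowers_iff.1 ha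
  have h2 : z ^ (2 : ℤ) = 1 := by
    rw [show (2 : ℤ) = ((2 : ℕ) : ℤ) from rfl, zpow_natCast, ← hz, pow_orderOf_eq_one]
  rw [← zpow_add, show i + i = 2 * i by ring, zpow_mul, h2, one_zpow]

set_option synthInstance.maxSize 100000 in
set_option synthInstance.maxHeartbeats 200000 in
theorem sl25_sq_one : ∀ v : ZMod 5 × ZMod 5 × ZMod 5 × ZMod 5, v.1 * v.2.2.2 - v.2.1 * v.2.2.1 = 1 →
    v.1 * v.1 + v.2.1 * v.2.2.1 = 1 → v.1 * v.2.1 + v.2.1 * v.2.2.2 = 0 →
    v.2.2.1 * v.1 + v.2.2.2 * v.2.2.1 = 0 → v.2.2.1 * v.2.1 + v.2.2.2 * v.2.2.2 = 1 →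
    v = (1, 0, 0, 1) ∨ v = (-1, 0, 0, -1) := by decide +kernel

/-- The fibre product of two covers of `A5` has no perfect part of order 240. -/
theorem iso_of_perfect_120 {G₁ G₂ : Type*} [Group G₁] [Finite G₁] [Group G₂] [Finite G₂]
    (hc₁ : Nat.card G₁ = 120) (hp₁ : commutator G₁ = ⊤) (hu₁ : UniqueInvol G₁)
    (hc₂ : Nat.card G₂ = 120) (hp₂ : commutator G₂ = ⊤) (hu₂ : UniqueInvol G₂) : Nonempty (G₁ ≃* G₂) := by
  classical
  haveI := Fact.mk Nat.prime_two
  obtain ⟨z₁, π₁, hz₁, hs₁, hk₁⟩ := exists_quotient_alt5 hc₁ hp₁ hu₁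
  obtain ⟨z₂, π₂, hz₂, hs₂, hk₂⟩ := exists_quotient_alt5 hc₂ hp₂ hu₂
  let P : Subgroup (G₁ × G₂) :=
    { carrier := {x | π₁ x.1 = π₂ x.2}
      one_mem' := by simp
      mul_mem' := fun {a b} (ha : π₁ a.1 = π₂ a.2) (hb : π₁ b.1 = π₂ b.2) => by
        show π₁ (a * b).1 = π₂ (a * b).2
        rw [Prod.fst_mul, Prod.snd_mul, map_mul, map_mul, ha, hb]
      inv_mem' := fun {a} (ha : π₁ a.1 = π₂ a.2) => by
        show π₁ a⁻¹.1 = π₂ a⁻¹.2
        rw [Prod.fst_inv, Prod.snd_inv, map_inv, map_inv, ha] }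
  set p₁ : P →* G₁ := (MonoidHom.fst G₁ G₂).comp P.subtype with hp1
  set p₂ : P →* G₂ := (MonoidHom.snd G₁ G₂).comp P.subtype with hp2
  have hps₁ : Function.Surjective p₁ := fun a => by
    obtain ⟨b, hb⟩ := hs₂ (π₁ a); exact ⟨⟨(a, b), hb.symm⟩, rfl⟩
  have hps₂ : Function.Surjective p₂ := fun b => by
    obtain ⟨a, ha⟩ := hs₁ (π₂ b); exact ⟨⟨(a, b), ha⟩, rfl⟩
  have hker : Nat.card p₁.ker = 2 := by
    rw [← hz₂, ← Nat.card_zpowers, ← hk₂]
    refine Nat.card_congr ⟨fun x => ⟨x.1.1.2, ?_⟩, fun b => ⟨⟨(1, b), ?_⟩, rfl⟩, fun x => ?_, fun b => rfl⟩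
    · have h1 : x.1.1.1 = 1 := x.2
      have h2 : π₁ x.1.1.1 = π₂ x.1.1.2 := x.1.2
      rw [h1, map_one] at h2
      exact h2.symm
    · show π₁ 1 = π₂ b
      rw [map_one, MonoidHom.mem_ker.1 b.2]
    · apply Subtype.ext; apply Subtype.ext
      have h1 : x.1.1.1 = 1 := x.2
      exact Prod.ext h1.symm rfl
  have hP : Nat.card P = 240 := by
    have := p₁.ker.card_mul_index
    rw [Subgroup.index_ker, hker, MonoidHom.range_eq_top.2 hps₁, Subgroup.card_top, hc₁] at this
    omega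
  set K := commutator P with hK
  have hKs₁ : K.map p₁ = ⊤ := by
    rw [hK, _root_.commutator_def, Subgroup.map_commutator, Subgroup.map_top_of_surjective _ hps₁, ← _root_.commutator_def, hp₁]
  have hKs₂ : K.map p₂ = ⊤ := by
    rw [hK, _root_.commutator_def, Subgroup.map_commutator, Subgroup.map_top_of_surjective _ hps₂, ← _root_.commutator_def, hp₂]
  have hs1 : Function.Surjective (p₁.comp K.subtype) := by
    rw [← MonoidHom.range_eq_top, MonoidHom.range_comp, Subgroup.range_subtype, hKs₁]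
  have hs2 : Function.Surjective (p₂.comp K.subtype) := by
    rw [← MonoidHom.range_eq_top, MonoidHom.range_comp, Subgroup.range_subtype, hKs₂]
  by_cases hKc : Nat.card K = 120
  · exact ⟨(MulEquiv.ofBijective _ ((Nat.bijective_iff_surjective_and_card _).2 ⟨hs1, by rw [hKc, hc₁]⟩)).symm.trans
      (MulEquiv.ofBijective _ ((Nat.bijective_iff_surjective_and_card _).2 ⟨hs2, by rw [hKc, hc₂]⟩))⟩
  exfalso
  have hKtop : K = ⊤ := by
    refine Subgroup.eq_top_of_card_eq _ ?_
    have h1 := Nat.card_le_card_of_surjective _ hs1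
    have h2 := K.card_subgroup_dvd_card
    rw [hP] at h2 ⊢
    obtain ⟨c, hc⟩ := h2
    rw [hc₁] at h1
    rcases c with _ | _ | _ | c <;> first | omega | nlinarith
  obtain ⟨S⟩ : Nonempty (Sylow 2 P) := inferInstance
  have hS : Nat.card (S : Subgroup P) = 16 := by
    rw [Sylow.card_eq_multiplicity, hP]
    have : (240 : ℕ).factorization 2 = 4 := by
      rw [show (240 : ℕ) = 2 ^ 4 * 15 by norm_num, Nat.factorization_mul (pow_ne_zero 4 two_ne_zero) (by norm_num),
        Finsupp.add_apply, Nat.Prime.factorization_pow Nat.prime_two, Finsupp.single_eq_same,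
        Nat.factorization_eq_zero_of_not_dvd (by norm_num : ¬ 2 ∣ 15)]
    rw [this]; norm_num
  set W : Subgroup P := ((Subgroup.zpowers z₁).prod (Subgroup.zpowers z₂)).subgroupOf P with hWdef
  have hW2 : ∀ w ∈ W, w * w = 1 := by
    intro w hw
    obtain ⟨ha, hb⟩ := Subgroup.mem_prod.1 (Subgroup.mem_subgroupOf.1 hw)
    exact Subtype.ext (Prod.ext (sq_of_mem hz₁ ha) (sq_of_mem hz₂ hb))
  have hWz : W ≤ Subgroup.center P := by
    intro w hw
    obtain ⟨ha, hb⟩ := Subgroup.mem_prod.1 (Subgroup.mem_subgroupOf.1 hw)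
    obtain ⟨i, hi⟩ := Subgroup.mem_zpowers_iff.1 ha
    obtain ⟨j, hj⟩ := Subgroup.mem_zpowers_iff.1 hb
    refine Subgroup.mem_center_iff.2 fun g => Subtype.ext (Prod.ext ?_ ?_)
    · show g.1.1 * w.1.1 = w.1.1 * g.1.1
      rw [← hi]; exact (Commute.zpow_right (central_of_unique hu₁ hz₁ _) i).eq
    · show g.1.2 * w.1.2 = w.1.2 * g.1.2
      rw [← hj]; exact (Commute.zpow_right (central_of_unique hu₂ hz₂ _) j).eq
  have hWc : Nat.card W = 4 := by
    rw [hWdef, Nat.card_congr (Subgroup.subgroupOfEquivOfLe ?_).toEquiv, Nat.card_congr (Subgroup.prodEquiv _ _).toEquiv,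
      Nat.card_prod, Nat.card_zpowers, Nat.card_zpowers, hz₁, hz₂]
    rintro ⟨a, b⟩ hab
    obtain ⟨ha, hb⟩ := Subgroup.mem_prod.1 hab
    show π₁ a = π₂ b
    rw [MonoidHom.mem_ker.1 (hk₁.symm ▸ ha : a ∈ π₁.ker), MonoidHom.mem_ker.1 (hk₂.symm ▸ hb : b ∈ π₂.ker)]
  haveI hWn : W.Normal := ⟨fun n hn g => by rwa [Subgroup.mem_center_iff.1 (hWz hn) g, mul_inv_cancel_right]⟩
  have hWS : W ≤ (S : Subgroup P) := by
    have hWp : IsPGroup 2 W := IsPGroup.of_card (n := 2) (by rw [hWc]; norm_num)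
    have := S.is_maximal' (S.2.to_sup_of_normal_right hWp) le_sup_left
    exact this ▸ le_sup_right
  have h1 : W.subgroupOf (S : Subgroup P) ≤ commutator (S : Subgroup P) := by
    rintro ⟨w, hwS⟩ hw
    rw [← Abelianization.ker_of, MonoidHom.mem_ker]
    exact CfsgLib.Solv.hom_eq_one_of_central (S : Subgroup P) (Abelianization.of) hwS (hWz hw)
      (show w ∈ K from hKtop ▸ Subgroup.mem_top w) (Or.inl (CfsgLib.Solv.abelian_sylow_coprime S))
  have hWS4 : Nat.card (W.subgroupOf (S : Subgroup P)) = 4 := by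
    rw [Nat.card_congr (Subgroup.subgroupOfEquivOfLe hWS).toEquiv, hWc]
  have h2 := commutator_two_group hS (W := W.subgroupOf (S : Subgroup P))
    (fun w hw => Subgroup.mem_center_iff.2 fun g => Subtype.ext (Subgroup.mem_center_iff.1 (hWz hw) g))
    hWS4 (fun w hw => Subtype.ext (hW2 _ hw))
  have := Subgroup.card_le_of_le h1
  omega

instance : Fact (Nat.Prime 5) := ⟨by norm_num⟩

theorem sl25_unique : UniqueInvol (Matrix.SpecialLinearGroup (Fin 2) (ZMod 5)) := by
  intro s t hs ht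
  have key : ∀ {g : Matrix.SpecialLinearGroup (Fin 2) (ZMod 5)}, orderOf g = 2 → g = -1 := fun {g} hg => by
    have h1 : g ≠ 1 := fun e => by rw [e, orderOf_one] at hg; omega
    have h2 : g.1 * g.1 = 1 := congrArg Subtype.val (show g * g = 1 by
      have := pow_orderOf_eq_one g
      rwa [hg, pow_two] at this)
    have h3 := g.2
    have h4 : ¬ (g.1 0 0 = 1 ∧ g.1 0 1 = 0 ∧ g.1 1 0 = 0 ∧ g.1 1 1 = 1) := fun ⟨e1, e2, e3, e4⟩ => h1 (Subtype.ext (by
      ext i j; fin_cases i <;> fin_cases j <;> simp [e1, e2, e3, e4]))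
    have e := fun i j => congrFun (congrFun h2 i) j
    simp only [Matrix.mul_apply, Fin.sum_univ_two] at e
    rw [Matrix.det_fin_two] at h3
    obtain hv | hv := sl25_sq_one (g.1 0 0, g.1 0 1, g.1 1 0, g.1 1 1) h3 (by simpa using e 0 0) (by simpa using e 0 1)
      (by simpa using e 1 0) (by simpa using e 1 1) <;> simp only [Prod.mk.injEq] at hv
    · exact absurd hv h4
    obtain ⟨e1, e2, e3, e4⟩ := hv
    refine Subtype.ext ?_
    ext i j; fin_cases i <;> fin_cases j <;> simp [e1, e2, e3, e4]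
  rw [key hs, key ht]

theorem sl25_perfect : commutator (Matrix.SpecialLinearGroup (Fin 2) (ZMod 5)) = ⊤ :=
  CfsgLib.Lie.SLn.commutator_eq_top (Or.inr ⟨2, by decide, by decide⟩)

theorem sl25_card : Nat.card (Matrix.SpecialLinearGroup (Fin 2) (ZMod 5)) = 120 := by
  let e : Matrix.SpecialLinearGroup (Fin 2) (ZMod 5) ≃
      {v : ZMod 5 × ZMod 5 × ZMod 5 × ZMod 5 // v.1 * v.2.2.2 - v.2.1 * v.2.2.1 = 1} :=
    { toFun := fun g => ⟨(g.1 0 0, g.1 0 1, g.1 1 0, g.1 1 1), by rw [← Matrix.det_fin_two]; exact g.2⟩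
      invFun := fun v => ⟨!![v.1.1, v.1.2.1; v.1.2.2.1, v.1.2.2.2], by rw [Matrix.det_fin_two_of]; exact v.2⟩
      left_inv := fun g => Subtype.ext (Matrix.eta_fin_two g.1).symm
      right_inv := fun v => Subtype.ext (by simp) }
  rw [Nat.card_congr e, Nat.card_eq_fintype_card, Fintype.card_subtype]
  decide +kernel

/-- **A perfect group of order 120 with one involution is `SL(2,5)`.** -/
theorem iso_SL25 {G : Type*} [Group G] [Finite G] (hc : Nat.card G = 120) (hperf : commutator G = ⊤)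
    (hu : UniqueInvol G) : Nonempty (G ≃* Matrix.SpecialLinearGroup (Fin 2) (ZMod 5)) :=
  iso_of_perfect_120 hc hperf hu sl25_card sl25_perfect sl25_unique

/-- **Zassenhaus.** -/
theorem iso_SL25_of_fpf {G : Type*} [Group G] [Finite G] [Nontrivial G] (h : HasFpf G)
    (hperf : commutator G = ⊤) : Nonempty (G ≃* Matrix.SpecialLinearGroup (Fin 2) (ZMod 5)) :=
  iso_SL25 (card_eq_120 h hperf) hperf fun _ _ hs ht => invol_unique h hs ht

end CfsgLib.Perm.Fpf
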